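import Cfsg.Agent.H70.TwoInvol
import Mathlib.GroupTheory.Index
import Mathlib.GroupTheory.IndexNormal
import Mathlib.GroupTheory.Sylow
import Mathlib.GroupTheory.Subgroup.Simple
import Mathlib.GroupTheory.Commutator.Basic
import Mathlib.Algebra.Ring.Parity
import Mathlib.Tactic.Group

/-! A simple group with an involution centralising at most three involutions has one class of involutions. -/

set_option autoImplicit false

namespace H70

variable {G : Type*} [Group G]

theorem ne_one_of_two {x : G} (hx : orderOf x = 2) : x ≠ 1 := by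
  intro h; rw [h, orderOf_one] at hx; omega

theorem orderOf_conj' (g x : G) : orderOf (g * x * g⁻¹) = orderOf x :=
  MulEquiv.orderOf_eq (MulAut.conj g) x

theorem two_mul_of_commute {x y : G} (hx : orderOf x = 2) (hy : orderOf y = 2) (h : Commute x y)
    (hne : x ≠ y) : orderOf (x * y) = 2 := by
  refine orderOf_eq_prime (by rw [h.mul_pow, pow_two, pow_two, mul_self_of_two hx, mul_self_of_two hy, one_mul]) ?_
  intro he
  exact hne ((mul_eq_one_iff_eq_inv.mp he).trans (inv_eq_self_of_two hy))

theorem prod_pow_mul_left {x y : G} (hx : orderOf x = 2) (hy : orderOf y = 2) (i : ℕ) :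
    ((x * y) ^ i)⁻¹ * x = x * (x * y) ^ i := by
  rw [← semiconj_prod_pow hx hy i, mul_assoc, inv_mul_cancel, mul_one]

/-- For two involutions with `xy` of even order `2k`, the involution `w = (xy)^k` and the parity of `k`. -/
theorem exists_middle [Finite G] {x v : G} (hx : orderOf x = 2) (hv : orderOf v = 2) (h : ¬ IsConj x v) :
    ∃ w : G, orderOf w = 2 ∧ Commute w x ∧ Commute w v ∧
      ((∃ g : G, g * x * g⁻¹ = x * w) ∨ ∃ g : G, Commute g w ∧ g * v * g⁻¹ = x * w) := by
  have hev : ¬ Odd (orderOf (x * v)) := fun ho => h (isConj_of_odd_prod hx hv ho)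
  obtain ⟨k, hk⟩ := Nat.not_odd_iff_even.mp hev
  have hpos := orderOf_pos (x * v)
  set w := (x * v) ^ k with hw
  have hordw : orderOf w = 2 := by
    rw [hw, orderOf_pow_of_dvd (by omega) ⟨2, by omega⟩, hk, ← two_mul, Nat.mul_div_cancel _ (by omega)]
  have hwx : Commute w x := by
    have h1 := prod_pow_mul_left hx hv k
    rw [← hw, inv_eq_self_of_two hordw] at h1
    exact h1
  have hwv : Commute w v := by
    have h2 : Commute w (x * (x * v)) := hwx.mul_right ((Commute.refl _).pow_left k)
    rwa [← mul_assoc, mul_self_of_two hx, one_mul] at h2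
  refine ⟨w, hordw, hwx, hwv, ?_⟩
  rcases Nat.even_or_odd' k with ⟨i, rfl | rfl⟩
  · left
    refine ⟨((x * v) ^ i)⁻¹, ?_⟩
    rw [inv_inv, prod_pow_mul_left hx hv, mul_assoc, ← pow_add, ← two_mul]
  · right
    refine ⟨((x * v) ^ i)⁻¹, ((Commute.refl (x * v)).pow_pow i _).inv_left, ?_⟩
    have hv' : v = x * (x * v) := by rw [← mul_assoc, mul_self_of_two hx, one_mul]
    nth_rewrite 2 [hv']
    rw [inv_inv, ← mul_assoc, prod_pow_mul_left hx hv, mul_assoc, mul_assoc, ← pow_succ', ← pow_add,
      show i + (i + 1) = 2 * i + 1 by ring]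

/-- In a simple group, the conjugates of a nontrivial element generate; if they all commute with `a`, `a` is central. -/
theorem mem_center_of_conj_commute [IsSimpleGroup G] {a y : G} (hy : y ≠ 1)
    (h : ∀ g : G, Commute (g * y * g⁻¹) a) : a ∈ Subgroup.center G := by
  have hN : Subgroup.normalClosure ({y} : Set G) = ⊤ := by
    refine Subgroup.normalClosure_normal.eq_bot_or_eq_top.resolve_left fun h0 => hy ?_
    have : y ∈ Subgroup.normalClosure ({y} : Set G) := Subgroup.subset_normalClosure rfl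
    rwa [h0, Subgroup.mem_bot] at this
  have hle : Subgroup.normalClosure ({y} : Set G) ≤ Subgroup.centralizer ({a} : Set G) := by
    apply (Subgroup.closure_le _).mpr
    intro b hb
    simp only [Group.mem_conjugatesOfSet_iff, Set.mem_singleton_iff, exists_eq_left] at hb
    obtain ⟨g, rfl⟩ := isConj_iff.mp hb
    exact Subgroup.mem_centralizer_singleton_iff.mpr (h g).eq
  rw [Subgroup.mem_center_iff]
  intro b
  exact Subgroup.mem_centralizer_singleton_iff.mp (hle (hN ▸ Subgroup.mem_top b))

theorem center_eq_bot_of_simple [IsSimpleGroup G] (hna : ¬ IsMulCommutative G) : Subgroup.center G = ⊥ := by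
  refine (inferInstance : (Subgroup.center G).Normal).eq_bot_or_eq_top.resolve_right fun h => hna ?_
  exact ⟨⟨fun a b => (Subgroup.mem_center_iff.mp (h ▸ Subgroup.mem_top b) a)⟩⟩

theorem index_ne_two_of_simple [Finite G] [IsSimpleGroup G] (hna : ¬ IsMulCommutative G) (H : Subgroup G) :
    H.index ≠ 2 := by
  intro h
  rcases (Subgroup.normal_of_index_eq_two h).eq_bot_or_eq_top with rfl | rfl
  · rw [Subgroup.index_bot] at h
    have : IsCyclic G := isCyclic_of_prime_card (p := 2) (hp := ⟨Nat.prime_two⟩) h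
    exact hna inferInstance
  · simp at h

/-- Main theorem: one class of involutions. -/
theorem isConj_of_three [Finite G] [IsSimpleGroup G] (hna : ¬ IsMulCommutative G) {x : G} (hx : orderOf x = 2)
    (h3 : ∀ a b : G, orderOf a = 2 → Commute a x → a ≠ x → orderOf b = 2 → Commute b x → b ≠ x →
      b = a ∨ b = x * a) :
    ∀ u : G, orderOf u = 2 → IsConj x u := by
  -- all involutions commuting with `x` are in `{x, y, x*y}`
  by_contra hu
  push Not at hu
  obtain ⟨u, hu, hxu⟩ := hu
  have hcen := center_eq_bot_of_simple hna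
  have hnot1 : ∀ a : G, orderOf a = 2 → a ∉ Subgroup.center G := fun a ha h => by
    rw [hcen, Subgroup.mem_bot] at h; exact ne_one_of_two ha h
  -- find `y` commuting with `x`, not conjugate to `x`
  obtain ⟨y, hy, hyx, hxy⟩ : ∃ y : G, orderOf y = 2 ∧ Commute y x ∧ ¬ IsConj x y := by
    obtain ⟨w, hw, hwx, hwu, -⟩ := exists_middle hx hu hxu
    by_cases hwc : IsConj x w
    · obtain ⟨g, hg⟩ := isConj_iff.mp hwc
      refine ⟨g⁻¹ * u * g, ?_, ?_, ?_⟩
      · simpa using (orderOf_conj' g⁻¹ u).trans hu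
      · have := hwu.symm.map (MulAut.conj g⁻¹).toMonoidHom
        simpa [← hg, mul_assoc] using this
      · intro hc
        exact hxu (hc.trans (isConj_iff.mpr ⟨g, by group⟩))
    · exact ⟨w, hw, hwx, hwc⟩
  have hyne : y ≠ x := fun h => hxy (h ▸ IsConj.refl _)
  set z := x * y with hz_def
  have hz : orderOf z = 2 := two_mul_of_commute hx hy hyx.symm (Ne.symm hyne)
  have hzx : Commute z x := (Commute.refl x).mul_left hyx
  have hzy : Commute z y := hyx.symm.mul_left (Commute.refl y)
  have hzne : z ≠ x := fun h => ne_one_of_two hy (mul_eq_left.mp h)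
  have hzy' : z ≠ y := fun h => ne_one_of_two hx (mul_eq_right.mp h)
  have hV : ∀ a : G, orderOf a = 2 → Commute a x → a = x ∨ a = y ∨ a = z := by
    intro a ha hax
    by_cases h : a = x
    · exact Or.inl h
    · exact Or.inr (h3 y a hy hyx hyne ha hax h)
  by_cases hzc : IsConj x z
  · -- all conjugates of `y` commute with `y`
    apply hnot1 y hy
    refine mem_center_of_conj_commute (ne_one_of_two hy) fun g => ?_
    set v := g * y * g⁻¹ with hv_def
    have hv : orderOf v = 2 := (orderOf_conj' g y).trans hy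
    have hxv : ¬ IsConj x v := fun h => hxy (h.trans (isConj_iff.mpr ⟨g, rfl⟩).symm)
    obtain ⟨w, hw, hwx, hwv, -⟩ := exists_middle hx hv hxv
    rcases hV w hw hwx with rfl | rfl | rfl
    · rcases hV v hv hwv.symm with h | h | h
      · exact absurd (h ▸ IsConj.refl _) hxv
      · rw [h]
      · exact absurd (h ▸ hzc) hxv
    · exact hwv.symm
    · obtain ⟨c, hc⟩ := isConj_iff.mp hzc
      have hvx : Commute (c⁻¹ * v * c) x := by
        have := hwv.symm.map (MulAut.conj c⁻¹).toMonoidHom
        simpa [← hc, mul_assoc] using this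
      have hyx' : Commute (c⁻¹ * y * c) x := by
        have := hzy.symm.map (MulAut.conj c⁻¹).toMonoidHom
        simpa [← hc, mul_assoc] using this
      -- the conjugates under `c⁻¹` of `x, y, z` are the three involutions centralising `x`
      have e1 : orderOf (c⁻¹ * x * c) = 2 := by simpa using (orderOf_conj' c⁻¹ x).trans hx
      have e2 : orderOf (c⁻¹ * y * c) = 2 := by simpa using (orderOf_conj' c⁻¹ y).trans hy
      have e3 : orderOf (c⁻¹ * v * c) = 2 := by simpa using (orderOf_conj' c⁻¹ v).trans hv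
      have hx' : c⁻¹ * z * c = x := by rw [← hc]; group
      have hne2 : c⁻¹ * y * c ≠ x := fun h => hxy (isConj_iff.mpr ⟨c, by rw [← h]; group⟩)
      have hne3 : c⁻¹ * v * c ≠ x := fun h => hxv (isConj_iff.mpr ⟨c, by rw [← h]; group⟩)
      rcases h3 _ _ e2 hyx' hne2 e3 hvx hne3 with h | h
      · have h' : v = y := mul_left_cancel (a := c⁻¹) (mul_right_cancel (b := c) h)
        rw [h']
      · exfalso
        apply hxv
        have : v = z * y := by
          rw [← hx'] at h
          have e : c⁻¹ * z * c * (c⁻¹ * y * c) = c⁻¹ * (z * y) * c := by group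
          rw [e] at h
          exact mul_left_cancel (a := c⁻¹) (mul_right_cancel (b := c) h)
        rw [this, hz_def, mul_assoc, mul_self_of_two hy, mul_one]
  -- now `x` is the only conjugate of `x` commuting with `x`
  have hiso : ∀ a : G, IsConj x a → Commute a x → a = x := by
    intro a ha hax
    obtain ⟨g, rfl⟩ := isConj_iff.mp ha
    rcases hV _ ((orderOf_conj' g x).trans hx) hax with h | h | h
    · exact h
    · exact absurd (h ▸ ha) hxy
    · exact absurd (h ▸ ha) hzc
  have hmid : ∀ v : G, orderOf v = 2 → ¬ IsConj x v →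
      ∃ w g : G, (w = y ∨ w = z) ∧ Commute w v ∧ Commute g w ∧ g * v * g⁻¹ = x * w := by
    intro v hv hxv
    obtain ⟨w, hw, hwx, hwv, ⟨g, hg⟩ | ⟨g, hgw, hg⟩⟩ := exists_middle hx hv hxv
    · exfalso
      have := hiso (x * w) (isConj_iff.mpr ⟨g, hg⟩) ((Commute.refl x).mul_left hwx)
      exact ne_one_of_two hw (mul_eq_left.mp this)
    · rcases hV w hw hwx with rfl | h | h
      · exfalso
        rw [mul_self_of_two hx] at hg
        exact ne_one_of_two hv (conj_eq_one_iff.mp hg)
      · exact ⟨w, g, Or.inl h, hwv, hgw, hg⟩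
      · exact ⟨w, g, Or.inr h, hwv, hgw, hg⟩
  have hxz : x * z = y := by rw [hz_def, ← mul_assoc, mul_self_of_two hx, one_mul]
  by_cases hyz : IsConj y z
  swap
  · -- every conjugate of `y` commutes with `z`
    apply hnot1 z hz
    refine mem_center_of_conj_commute (ne_one_of_two hy) fun c => ?_
    obtain ⟨w, g, hw, hwv, -, hg⟩ := hmid (c * y * c⁻¹) ((orderOf_conj' c y).trans hy)
      (fun h => hxy (h.trans (isConj_iff.mpr ⟨c, rfl⟩).symm))
    rcases hw with rfl | rfl
    · exact absurd (isConj_iff.mpr ⟨g * c, by rw [hz_def, ← hg]; group⟩) hyz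
    · exact hwv.symm
  -- the commuting graph on the class of `y` is complete bipartite
  have hnx : ∀ v, IsConj y v → ¬ IsConj x v := fun v hv h => hxy (h.trans hv.symm)
  have hord : ∀ v, IsConj y v → orderOf v = 2 := fun v hv => by
    obtain ⟨g, rfl⟩ := isConj_iff.mp hv; exact (orderOf_conj' g y).trans hy
  have hprod : ∀ v, IsConj y v → Commute v y → v ≠ y → IsConj x (y * v) := by
    intro v hv hvy hvne
    obtain ⟨w, g, hw, hwv, hgw, hg⟩ := hmid v (hord v hv) (hnx v hv)
    rcases hw with rfl | rfl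
    · refine isConj_iff.mpr ⟨g⁻¹, ?_⟩
      have h1 : v = g⁻¹ * (x * w) * g := by rw [← hg]; group
      have h2 : w = g⁻¹ * w * g := by rw [mul_assoc, ← hgw.eq]; group
      calc g⁻¹ * x * g⁻¹⁻¹ = g⁻¹ * (x * (w * w)) * g := by rw [mul_self_of_two hy]; group
        _ = g⁻¹ * (w * (x * w)) * g := by rw [← mul_assoc w x w, hyx.eq, mul_assoc x w w]
        _ = (g⁻¹ * w * g) * (g⁻¹ * (x * w) * g) := by group
        _ = w * v := by rw [← h2, ← h1]
    · have hvx : Commute v x := by
        have h4 : x = z * y := by rw [hz_def, mul_assoc, mul_self_of_two hy, mul_one]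
        rw [h4]; exact hwv.symm.mul_right hvy
      rcases hV v (hord v hv) hvx with h | h | h
      · exact absurd (h ▸ IsConj.refl _) (hnx v hv)
      · exact absurd h hvne
      · rw [h, ← hzy.eq, hz_def, mul_assoc, mul_self_of_two hy, mul_one]
  have htri : ∀ v v', IsConj y v → IsConj y v' → Commute v y → Commute v' y → v ≠ y → v' ≠ y →
      Commute v v' → v = v' := by
    intro v v' hv hv' hvy hv'y hvne hv'ne hc
    obtain ⟨g, hg⟩ := isConj_iff.mp (hprod v hv hvy hvne)
    have hcom : ∀ a, Commute a y → Commute a v → Commute (g⁻¹ * a * g) x := by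
      intro a h1 h2
      have := (h1.mul_right h2).map (MulAut.conj g⁻¹).toMonoidHom
      simpa [← hg, mul_assoc] using this
    have e1 : orderOf (g⁻¹ * y * g) = 2 := by simpa using (orderOf_conj' g⁻¹ y).trans hy
    have e2 : orderOf (g⁻¹ * v' * g) = 2 := by simpa using (orderOf_conj' g⁻¹ v').trans (hord v' hv')
    have n1 : g⁻¹ * y * g ≠ x := fun h => hxy (isConj_iff.mpr ⟨g, by rw [← h]; group⟩)
    have n2 : g⁻¹ * v' * g ≠ x := fun h => hnx v' hv' (isConj_iff.mpr ⟨g, by rw [← h]; group⟩)
    rcases h3 _ _ e1 (hcom y (Commute.refl y) hvy.symm) n1 e2 (hcom v' hv'y hc.symm) n2 with h | h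
    · exact absurd (mul_left_cancel (mul_right_cancel h)) hv'ne
    · have : v' = g * x * g⁻¹ * y := by
        calc v' = g * (g⁻¹ * v' * g) * g⁻¹ := by group
          _ = g * (x * (g⁻¹ * y * g)) * g⁻¹ := by rw [h]
          _ = _ := by group
      rw [this, hg, ← hvy.eq, mul_assoc, mul_self_of_two hy, mul_one]
  -- transport these facts to every vertex
  let nb : G → Set G := fun a => {v | IsConj y v ∧ Commute v a ∧ v ≠ a}
  have hnb : ∀ (g a : G), nb (g * a * g⁻¹) = (fun v => g * v * g⁻¹) '' nb a := by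
    intro g a
    ext v
    constructor
    · rintro ⟨h1, h2, h3'⟩
      refine ⟨g⁻¹ * v * g, ⟨h1.trans (isConj_iff.mpr ⟨g⁻¹, by group⟩), ?_, ?_⟩, by group⟩
      · have := h2.map (MulAut.conj g⁻¹).toMonoidHom
        simpa [mul_assoc] using this
      · intro h; exact h3' (by rw [← h]; group)
    · rintro ⟨v, ⟨h1, h2, h3'⟩, rfl⟩
      refine ⟨h1.trans (isConj_iff.mpr ⟨g, rfl⟩), ?_, ?_⟩
      · exact h2.map (MulAut.conj g).toMonoidHom
      · simpa using h3'
  have hT : ∀ a v v', IsConj y a → v ∈ nb a → v' ∈ nb a → Commute v v' → v = v' := by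
    intro a v v' ha hv hv' hc
    obtain ⟨g, rfl⟩ := isConj_iff.mp ha
    rw [hnb] at hv hv'
    obtain ⟨b, ⟨b1, b2, b3⟩, rfl⟩ := hv
    obtain ⟨b', ⟨b1', b2', b3'⟩, rfl⟩ := hv'
    have hbb : Commute b b' := by
      have := hc.map (MulAut.conj g⁻¹).toMonoidHom
      simpa [mul_assoc] using this
    exact congrArg (fun t => g * t * g⁻¹) (htri b b' b1 b1' b2 b2' b3 b3' hbb)
  set P := nb y with hP
  set Q := nb z with hQ
  have hzP : z ∈ P := ⟨hyz, hzy, hzy'⟩
  have hyQ : y ∈ Q := ⟨IsConj.refl _, hzy.symm, hzy'.symm⟩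
  have hPQ : ∀ v, IsConj y v → v ∈ P ∨ v ∈ Q := by
    intro v hv
    obtain ⟨w, g, hw, hwv, -, -⟩ := hmid v (hord v hv) (hnx v hv)
    rcases hw with rfl | rfl
    · by_cases h : v = w
      · exact Or.inr (h ▸ hyQ)
      · exact Or.inl ⟨hv, hwv.symm, h⟩
    · by_cases h : v = z
      · exact Or.inl (h ▸ hzP)
      · exact Or.inr ⟨hv, hwv.symm, h⟩
  have hdisj : ∀ v, v ∈ P → v ∉ Q := by
    rintro v hvP ⟨hv, hvz, hvne⟩
    exact hvne (hT y v z (IsConj.refl _) hvP hzP hvz)
  have hadjP : ∀ v ∈ P, ∀ v' ∈ Q, Commute v v' := by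
    intro v hv v' hv'
    obtain ⟨c, hc⟩ := isConj_iff.mp (hprod v hv.1 hv.2.1 hv.2.2)
    obtain ⟨w, g, hw, hwv, -, -⟩ := hmid (c⁻¹ * v' * c)
      (by simpa using (orderOf_conj' c⁻¹ v').trans (hord v' hv'.1))
      (fun h => hnx v' hv'.1 (h.trans (isConj_iff.mpr ⟨c, by group⟩)))
    have hw' : Commute (c * w * c⁻¹) v' := by
      have := hwv.map (MulAut.conj c).toMonoidHom
      simpa [mul_assoc] using this
    have hy' : c⁻¹ * y * c = y ∨ c⁻¹ * y * c = z := by
      have h1 : Commute (c⁻¹ * y * c) x := by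
        have := ((Commute.refl y).mul_right hv.2.1.symm).map (MulAut.conj c⁻¹).toMonoidHom
        simpa [← hc, mul_assoc] using this
      rcases hV _ (by simpa using (orderOf_conj' c⁻¹ y).trans hy) h1 with h | h | h
      · exact absurd (isConj_iff.mpr ⟨c, by rw [← h]; group⟩) hxy
      · exact Or.inl h
      · exact Or.inr h
    have hvv : v = y * (c * x * c⁻¹) := by rw [hc, ← mul_assoc, mul_self_of_two hy, one_mul]
    have key : c * w * c⁻¹ = y ∨ c * w * c⁻¹ = v := by
      rcases hy' with hy' | hy' <;> rcases hw with hw | hw <;> rw [hw]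
      · left; nth_rewrite 1 [← hy']; group
      · right
        have hy2 : c * y * c⁻¹ = y := by nth_rewrite 1 [← hy']; group
        rw [hvv]
        calc c * z * c⁻¹ = c * (y * x) * c⁻¹ := by rw [hyx.eq]
          _ = (c * y * c⁻¹) * (c * x * c⁻¹) := by group
          _ = _ := by rw [hy2]
      · right
        have hy2 : c * z * c⁻¹ = y := by rw [← hy']; group
        rw [hvv]
        calc c * y * c⁻¹ = c * (z * x) * c⁻¹ := by
              rw [hz_def, mul_assoc x y x, hyx.eq, ← mul_assoc x x y, mul_self_of_two hx, one_mul]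
          _ = (c * z * c⁻¹) * (c * x * c⁻¹) := by group
          _ = _ := by rw [hy2]
      · left; rw [← hy']; group
    rcases key with h | h <;> rw [h] at hw'
    · by_cases hvy : v' = y
      · rw [hvy]; exact hv.2.1
      · exact absurd hv' (hdisj v' ⟨hv'.1, hw'.symm, hvy⟩)
    · exact hw'
  have hnbP : ∀ v ∈ P, nb v = Q := by
    intro v hv
    ext a
    constructor
    · rintro ⟨ha, hav, hane⟩
      rcases hPQ a ha with h | h
      · exact absurd (hT y a v (IsConj.refl _) h hv hav) hane
      · exact h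
    · intro ha
      exact ⟨ha.1, (hadjP v hv a ha).symm, fun e => hdisj v hv (e ▸ ha)⟩
  have hnbQ : ∀ v ∈ Q, nb v = P := by
    intro v hv
    ext a
    constructor
    · rintro ⟨ha, hav, hane⟩
      rcases hPQ a ha with h | h
      · exact h
      · exact absurd (hT z a v hyz h hv hav) hane
    · intro ha
      exact ⟨ha.1, hadjP a ha v hv, fun e => hdisj a ha (e ▸ hv)⟩
  have hstep : ∀ g, g * y * g⁻¹ ∈ Q →
      g * z * g⁻¹ ∈ P ∧ (∀ v ∈ P, g * v * g⁻¹ ∈ P) ∧ (∀ v ∈ Q, g * v * g⁻¹ ∈ Q) := by
    intro g hg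
    have e1 : ∀ v ∈ P, g * v * g⁻¹ ∈ P := by
      intro v hv
      rw [← hnbQ _ hg, hnb]
      exact ⟨v, hv, rfl⟩
    refine ⟨e1 z hzP, e1, fun v hv => ?_⟩
    rw [← hnbP _ (e1 z hzP), hnb]
    exact ⟨v, hv, rfl⟩
  let H : Subgroup G :=
    { carrier := {g | g * y * g⁻¹ ∈ Q}
      mul_mem' := fun {a b} ha hb => by
        have := (hstep a ha).2.2 _ hb
        simpa [mul_assoc] using this
      one_mem' := by simpa using hyQ
      inv_mem' := fun {a} ha => by
        show a⁻¹ * y * a⁻¹⁻¹ ∈ Q
        rcases hPQ (a⁻¹ * y * a⁻¹⁻¹) (isConj_iff.mpr ⟨a⁻¹, rfl⟩) with h | h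
        · exfalso
          have := (hstep a ha).2.1 _ h
          exact hdisj y (by simpa [mul_assoc] using this) hyQ
        · exact h }
  obtain ⟨c, hc⟩ := isConj_iff.mp hyz
  have hmem : ∀ b : G, b ∈ H ↔ b * y * b⁻¹ ∈ Q := fun b => Iff.rfl
  have hiff : ∀ b : G, b * c ∈ H ↔ b ∉ H := by
    intro b
    rw [hmem, hmem, show b * c * y * (b * c)⁻¹ = b * (c * y * c⁻¹) * b⁻¹ by group, hc]
    constructor
    · intro h1 h2
      exact hdisj _ (hstep b h2).1 h1
    · intro h2
      have hbP := (hPQ _ (isConj_iff.mpr ⟨b, rfl⟩)).resolve_right h2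
      rw [← hnbP _ hbP, hnb]
      exact ⟨z, hzP, rfl⟩
  refine index_ne_two_of_simple hna H (Subgroup.index_eq_two_iff.mpr ⟨c, fun b => ?_⟩)
  have := hiff b
  by_cases hb : b ∈ H
  · exact Or.inr ⟨hb, fun h => this.mp h hb⟩
  · exact Or.inl ⟨this.mpr hb, hb⟩

end H70
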