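import Cfsg.Agent.H70.Conj
import Cfsg.Agent.H70.ThreeInvol
import Mathlib.GroupTheory.Index
import Mathlib.GroupTheory.Sylow
import Mathlib.GroupTheory.GroupAction.Quotient
import Mathlib.GroupTheory.SpecificGroups.Alternating
import Mathlib.Algebra.BigOperators.Group.Finset.Basic
import Mathlib.Tactic.Group

/-! Groups with a self-centralizing four-subgroup whose involutions are all conjugate: order 12 or 60. -/

set_option autoImplicit false

namespace H70.SCK

variable {G : Type*} [Group G]

/-- The configuration: `V` of order four, equal to the centralizer of each of its involutions,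
containing a conjugate of every involution, with normalizer of order twelve. -/
structure Config (V : Subgroup G) : Prop where
  card_four : Nat.card V = 4
  sq : ∀ v ∈ V, v ^ 2 = 1
  cent : ∀ v ∈ V, v ≠ 1 → Subgroup.centralizer ({v} : Set G) = V
  conj_to : ∀ t : G, orderOf t = 2 → ∀ x ∈ V, x ≠ 1 → IsConj x t
  card_norm : Nat.card ↥(Subgroup.normalizer (V : Set G)) = 12

variable {V : Subgroup G} [Finite G] (hV : Config V)
include hV

local notation "H" => Subgroup.normalizer (V : Set G)

theorem invol_of_mem {v : G} (hv : v ∈ V) (h1 : v ≠ 1) : orderOf v = 2 :=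
  orderOf_eq_prime (hV.sq v hv) h1

theorem isPGroup : IsPGroup 2 V := IsPGroup.of_card (n := 2) (by rw [hV.card_four]; rfl)

theorem mem_of_invol {v : G} (hv : orderOf v = 2) (hvH : v ∈ H) : v ∈ V := by
  have : Fact (Nat.Prime 2) := ⟨Nat.prime_two⟩
  have hle : V ≤ H := Subgroup.le_normalizer
  -- `V` is the Sylow 2-subgroup of its normalizer
  set V' := V.subgroupOf H
  have hcard : Nat.card V' = 4 := by
    rw [Nat.card_congr (Subgroup.subgroupOfEquivOfLe hle).toEquiv, hV.card_four]
  have hidx : V'.index = 3 := by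
    have := V'.card_mul_index
    rw [hcard, hV.card_norm] at this
    omega
  let S : Sylow 2 H := (IsPGroup.of_card (n := 2) (p := 2) (by rw [hcard]; rfl) : IsPGroup 2 V').toSylow (by omega)
  have hn : V'.Normal := inferInstance
  have : ∀ T : Sylow 2 H, T = S := fun T => by
    have := Sylow.unique_of_normal S (by simpa [S] using hn)
    exact Subsingleton.elim _ _
  obtain ⟨T, hT⟩ := (IsPGroup.of_card (n := 1) (p := 2) (by rw [Nat.card_zpowers, Subgroup.orderOf_mk, hv, pow_one]) :
    IsPGroup 2 (Subgroup.zpowers (⟨v, hvH⟩ : H))).exists_le_sylow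
  have := hT (Subgroup.mem_zpowers (⟨v, hvH⟩ : H))
  rw [‹∀ T : Sylow 2 H, T = S› T] at this
  simpa [S, V', Subgroup.mem_subgroupOf] using this

theorem mem_iff_commute {t v : G} (hv : v ∈ V) (h1 : v ≠ 1) : t ∈ V ↔ Commute t v := by
  rw [← hV.cent v hv h1, Subgroup.mem_centralizer_singleton_iff]; rfl

/-- outside involutions -/
abbrev Out (V : Subgroup G) := {t : G // orderOf t = 2 ∧ t ∉ Subgroup.normalizer (V : Set G)}

/-- the intersection of `H` with its conjugate by `t` -/
abbrev inter (V : Subgroup G) (t : G) : Subgroup G :=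
  Subgroup.normalizer (V : Set G) ⊓ cj t (Subgroup.normalizer (V : Set G))

theorem mem_inter {t r : G} (ht : orderOf t = 2) : r ∈ inter V t ↔ r ∈ H ∧ t * r * t ∈ H := by
  rw [inter, Subgroup.mem_inf, mem_cj, inv_eq_self_of_two ht]

theorem inter_no_invol {t v : G} (ht : orderOf t = 2) (htH : t ∉ H) (hv : orderOf v = 2) :
    v ∉ inter V t := by
  intro h
  obtain ⟨h1, h2⟩ := (mem_inter hV ht).mp h
  apply htH
  have hv' := mem_of_invol hV hv h1
  have hw : orderOf (t * v * t) = 2 := by
    have := orderOf_conj' t v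
    rwa [inv_eq_self_of_two ht, hv] at this
  have hw' := mem_of_invol hV hw h2
  rw [← cj_eq_self_iff]
  apply eq_of_cj_le
  rintro _ ⟨a, ha, rfl⟩
  rw [mem_iff_commute hV hw' (ne_one_of_two hw)]
  have := ((mem_iff_commute hV hv' (ne_one_of_two hv)).mp ha).map (MulAut.conj t).toMonoidHom
  simpa [inv_eq_self_of_two ht] using this

theorem card_inter {t : G} (ht : orderOf t = 2) (htH : t ∉ H) :
    Nat.card (inter V t) = 1 ∨ Nat.card (inter V t) = 3 := by
  have h1 : Nat.card (inter V t) ∣ 12 := hV.card_norm ▸ Subgroup.card_dvd_of_le inf_le_left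
  have h2 : ¬ 2 ∣ Nat.card (inter V t) := by
    intro h2
    have : Fact (Nat.Prime 2) := ⟨Nat.prime_two⟩
    obtain ⟨v, hv⟩ := exists_prime_orderOf_dvd_card' (G := inter V t) 2 h2
    exact inter_no_invol hV ht htH ((Subgroup.orderOf_coe v).trans hv) v.2
  have h3 : Nat.card (inter V t) ≤ 12 := Nat.le_of_dvd (by norm_num) h1
  interval_cases (Nat.card (inter V t)) <;> omega

theorem card_invol {x : G} (hx : x ∈ V) (hx1 : x ≠ 1) :
    Nat.card {t : G // orderOf t = 2} = V.index := by
  have hxo := invol_of_mem hV hx hx1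
  let f : G ⧸ V → {t : G // orderOf t = 2} := Quotient.lift
    (fun g => ⟨g * x * g⁻¹, (orderOf_conj' g x).trans hxo⟩) (fun a b hab => by
      rw [← hV.cent x hx hx1] at hab
      have h := Subgroup.mem_centralizer_singleton_iff.mp (QuotientGroup.leftRel_apply.mp hab)
      apply Subtype.ext
      have : b = a * (a⁻¹ * b) := by group
      show a * x * a⁻¹ = b * x * b⁻¹
      rw [this]
      have h' : (a⁻¹ * b) * x * (a⁻¹ * b)⁻¹ = x := by rw [h]; group
      calc a * x * a⁻¹ = a * ((a⁻¹ * b) * x * (a⁻¹ * b)⁻¹) * a⁻¹ := by rw [h']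
        _ = _ := by group)
  refine (Nat.card_eq_of_bijective f ⟨?_, ?_⟩).symm
  · intro a b hab
    obtain ⟨a, rfl⟩ := QuotientGroup.mk_surjective a
    obtain ⟨b, rfl⟩ := QuotientGroup.mk_surjective b
    rw [QuotientGroup.eq, ← hV.cent x hx hx1, Subgroup.mem_centralizer_singleton_iff]
    have h : a * x * a⁻¹ = b * x * b⁻¹ := congrArg Subtype.val hab
    calc a⁻¹ * b * x = a⁻¹ * (b * x * b⁻¹) * b := by group
      _ = a⁻¹ * (a * x * a⁻¹) * b := by rw [h]
      _ = _ := by group
  · rintro ⟨t, ht⟩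
    obtain ⟨g, hg⟩ := isConj_iff.mp (hV.conj_to t ht x hx hx1)
    exact ⟨QuotientGroup.mk g, Subtype.ext hg⟩

theorem card_out {x : G} (hx : x ∈ V) (hx1 : x ≠ 1) :
    Nat.card (Out V) + 3 = 3 * Subgroup.index H := by
  have hidx : Subgroup.index H * 3 = V.index := by
    have h1 := Subgroup.relIndex_mul_index (Subgroup.le_normalizer : V ≤ H)
    have h2 : V.relIndex H * Nat.card V = Nat.card H := by
      rw [← Subgroup.relIndex_bot_left, ← Subgroup.relIndex_bot_left, mul_comm]
      exact Subgroup.relIndex_mul_relIndex _ _ _ bot_le Subgroup.le_normalizer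
    rw [hV.card_four, hV.card_norm] at h2
    rw [show V.relIndex H = 3 by omega] at h1
    omega
  rw [mul_comm 3, hidx, ← card_invol hV hx hx1]
  have hin : Nat.card {t : {t : G // orderOf t = 2} // t.1 ∈ H} = 3 := by
    classical
    have e : {t : {t : G // orderOf t = 2} // t.1 ∈ H} ≃ {v : V // v ≠ 1} :=
      { toFun := fun t => ⟨⟨t.1.1, mem_of_invol hV t.1.2 t.2⟩, fun h => ne_one_of_two t.1.2 (congrArg Subtype.val h)⟩
        invFun := fun v => ⟨⟨v.1.1, invol_of_mem hV v.1.2 (fun h => v.2 (Subtype.ext h))⟩, Subgroup.le_normalizer v.1.2⟩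
        left_inv := fun t => rfl
        right_inv := fun v => rfl }
    have := Fintype.ofFinite V
    rw [Nat.card_congr e, Nat.card_eq_fintype_card, Fintype.card_subtype_compl, Fintype.card_subtype_eq,
      ← Nat.card_eq_fintype_card, hV.card_four]
  classical
  rw [← Nat.card_congr (Equiv.sumCompl (fun t : {t : G // orderOf t = 2} => t.1 ∈ H)), Nat.card_sum, hin,
    add_comm 3]
  congr 1
  exact Nat.card_congr
    { toFun := fun t => ⟨⟨t.1, t.2.1⟩, t.2.2⟩
      invFun := fun t => ⟨t.1.1, t.1.2, t.2⟩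
      left_inv := fun t => rfl
      right_inv := fun t => rfl }

theorem inter_inverted {x : G} (hx : x ∈ V) (hx1 : x ≠ 1) {t : G} (ht : orderOf t = 2) (htH : t ∉ H) :
    Nat.card (inter V t) = 3 ∧ ∀ r ∈ inter V t, t * r * t = r⁻¹ := by
  classical
  have := Fintype.ofFinite (Out V)
  have := Fintype.ofFinite (G ⧸ H)
  let f : Out V → G ⧸ H := fun t => (t.1 : G ⧸ H)
  let cs : Finset (G ⧸ H) := Finset.univ.erase ((1 : G) : G ⧸ H)
  let fib : G ⧸ H → Finset (Out V) := fun q => Finset.univ.filter (fun s => f s = q)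
  have hmaps : ∀ s ∈ (Finset.univ : Finset (Out V)), f s ∈ cs := by
    intro s _
    refine Finset.mem_erase.mpr ⟨fun h => s.2.2 ?_, Finset.mem_univ _⟩
    have := QuotientGroup.eq.mp h.symm
    simpa using this
  have hrel : ∀ s s' : Out V, f s = f s' → s.1 * s'.1 ∈ inter V s.1 ∧
      s.1 * (s.1 * s'.1) * s.1 = (s.1 * s'.1)⁻¹ := by
    intro s s' h
    have h' := QuotientGroup.eq.mp h
    rw [inv_eq_self_of_two s.2.1] at h'
    have hi : s.1 * (s.1 * s'.1) * s.1 = (s.1 * s'.1)⁻¹ := by
      rw [mul_inv_rev, inv_eq_self_of_two s.2.1, inv_eq_self_of_two s'.2.1, ← mul_assoc s.1 s.1, mul_self_of_two s.2.1, one_mul]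
    exact ⟨(mem_inter hV s.2.1).mpr ⟨h', by rw [hi]; exact inv_mem h'⟩, hi⟩
  have hle : ∀ q ∈ cs, (fib q).card ≤ 3 := by
    intro q _
    rcases (fib q).eq_empty_or_nonempty with h | ⟨s, hs⟩
    · simp [h]
    have hsq : f s = q := (Finset.mem_filter.mp hs).2
    have := Fintype.ofFinite (inter V s.1)
    have hc : Nat.card (inter V s.1) ≤ 3 := by rcases card_inter hV s.2.1 s.2.2 with h | h <;> omega
    refine le_trans ?_ hc
    rw [← Nat.card_eq_finsetCard]
    refine Nat.card_le_card_of_injective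
      (fun s' => ⟨s.1 * s'.1.1, (hrel s s'.1 (hsq.trans (Finset.mem_filter.mp s'.2).2.symm)).1⟩) ?_
    intro a b hab
    exact Subtype.ext (Subtype.ext (mul_left_cancel (congrArg Subtype.val hab)))
  have htot : ∑ q ∈ cs, (fib q).card = Nat.card (Out V) := by
    rw [Nat.card_eq_fintype_card, ← Finset.card_univ, Finset.card_eq_sum_card_fiberwise hmaps]
  have hcs : cs.card = Subgroup.index H - 1 := by
    rw [Finset.card_erase_of_mem (Finset.mem_univ _), Finset.card_univ, ← Nat.card_eq_fintype_card]; rfl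
  have hconst : ∑ q ∈ cs, (3 : ℕ) = Nat.card (Out V) := by
    have := card_out hV hx hx1
    rw [Finset.sum_const, smul_eq_mul, hcs]
    omega
  let s : Out V := ⟨t, ht, htH⟩
  have heq := (Finset.sum_eq_sum_iff_of_le hle).mp (htot.trans hconst.symm) (f s) (hmaps s (Finset.mem_univ _))
  obtain ⟨s', hs', hne⟩ : ∃ s' ∈ fib (f s), s' ≠ s :=
    Finset.exists_mem_ne (by omega) s
  obtain ⟨hr, hinv⟩ := hrel s s' (Finset.mem_filter.mp hs').2.symm
  set r := s.1 * s'.1 with hr_def
  have hr1 : r ≠ 1 := by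
    intro h
    apply hne
    apply Subtype.ext
    rw [mul_eq_one_iff_eq_inv, inv_eq_self_of_two s'.2.1] at h
    exact h.symm
  have h3 : Nat.card (inter V t) = 3 := (card_inter hV ht htH).resolve_left fun h1 => hr1 (by
    have : inter V t = ⊥ := Subgroup.card_eq_one.mp h1
    rw [this] at hr; exact hr)
  refine ⟨h3, fun a ha => ?_⟩
  have : Fact (Nat.Prime 3) := ⟨Nat.prime_three⟩
  have hgen := zpowers_eq_top_of_prime_card (g := (⟨r, hr⟩ : inter V t)) h3 (fun h => hr1 (congrArg Subtype.val h))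
  obtain ⟨i, hi⟩ : (⟨a, ha⟩ : inter V t) ∈ Subgroup.zpowers (⟨r, hr⟩ : inter V t) := hgen ▸ Subgroup.mem_top _
  have hi' : r ^ i = a := congrArg Subtype.val hi
  have hinv' : t * r * t⁻¹ = r⁻¹ := by rw [inv_eq_self_of_two ht]; exact hinv
  rw [← hi', ← inv_zpow, ← hinv', conj_zpow, inv_eq_self_of_two ht]

theorem card_eq : Nat.card G = 12 ∨ Nat.card G = 60 := by
  classical
  obtain ⟨⟨x, hx⟩, hx1⟩ : ∃ v : V, v ≠ 1 := by
    have : Nontrivial V := Finite.one_lt_card_iff_nontrivial.mp (by rw [hV.card_four]; omega)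
    exact exists_ne 1
  have hx1' : x ≠ 1 := fun h => hx1 (Subtype.ext h)
  have hG := Subgroup.card_mul_index H
  rw [hV.card_norm] at hG
  rcases isEmpty_or_nonempty (Out V) with hempty | ⟨⟨t, ht, htH⟩⟩
  · left
    have := card_out hV hx hx1'
    rw [Nat.card_of_isEmpty] at this
    omega
  right
  obtain ⟨hP3, hPinv⟩ := inter_inverted hV hx hx1' ht htH
  set P := inter V t with hP
  have hPH : P ≤ H := inf_le_left
  have : Fact (Nat.Prime 3) := ⟨Nat.prime_three⟩
  have hfact2 : Fact (Nat.Prime 2) := ⟨Nat.prime_two⟩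
  obtain ⟨⟨r, hrP⟩, hr3⟩ := exists_prime_orderOf_dvd_card' (G := P) 3 (by rw [hP3])
  rw [Subgroup.orderOf_mk] at hr3
  have hPz : P = Subgroup.zpowers r := (Subgroup.eq_of_le_of_card_ge (Subgroup.zpowers_le.mpr hrP)
    (by rw [Nat.card_zpowers, hr3, hP3])).symm
  have hr1 : r ≠ 1 := fun h => by rw [h, orderOf_one] at hr3; omega
  -- the centralizer of `r` has odd order
  set C := Subgroup.centralizer ({r} : Set G) with hC
  have hCodd : ¬ 2 ∣ Nat.card C := by
    intro h2
    obtain ⟨⟨v, hv⟩, hv2⟩ := exists_prime_orderOf_dvd_card' (G := C) 2 h2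
    rw [Subgroup.orderOf_mk] at hv2
    obtain ⟨g, hg⟩ := isConj_iff.mp (hV.conj_to v hv2 x hx hx1')
    have hcom : Commute r v := (Subgroup.mem_centralizer_singleton_iff.mp hv).symm
    have h' : Commute (g⁻¹ * r * g) x := by
      have := hcom.map (MulAut.conj g⁻¹).toMonoidHom
      simpa [← hg, mul_assoc] using this
    have hsq := hV.sq _ ((mem_iff_commute hV hx hx1').mpr h')
    have ho : orderOf (g⁻¹ * r * g) = 3 := by simpa using (orderOf_conj' g⁻¹ r).trans hr3
    have := orderOf_dvd_of_pow_eq_one hsq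
    rw [ho] at this
    omega
  -- inverting involutions of `r` are exactly those outside `H` with intersection `P`
  have hinv_iff : ∀ s : G, (orderOf s = 2 ∧ s ∉ H ∧ inter V s = P) ↔ (orderOf s = 2 ∧ s * r * s = r⁻¹) := by
    intro s
    constructor
    · rintro ⟨hs, hsH, hsP⟩
      exact ⟨hs, (inter_inverted hV hx hx1' hs hsH).2 r (hsP ▸ hrP)⟩
    · rintro ⟨hs, hsr⟩
      have hsH : s ∉ H := by
        intro h
        have hsV := mem_of_invol hV hs h
        have h1 : r * s * r⁻¹ ∈ V := (Subgroup.mem_normalizer_iff.mp (hPH hrP) s).mp hsV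
        have h2 : s * (r * s * r⁻¹) = (r ^ 2)⁻¹ := by
          rw [← mul_assoc, ← mul_assoc, hsr, pow_two, mul_inv_rev]
        have h3 := hV.sq _ (mul_mem hsV h1)
        rw [h2, inv_pow, inv_eq_one, ← pow_mul] at h3
        have := orderOf_dvd_of_pow_eq_one h3
        rw [hr3] at this
        omega
      refine ⟨hs, hsH, (Subgroup.eq_of_le_of_card_ge ?_ ?_).symm⟩
      · rw [hPz, Subgroup.zpowers_le, mem_inter hV hs]
        exact ⟨hPH hrP, hsr ▸ inv_mem (hPH hrP)⟩
      · rw [hP3, (inter_inverted hV hx hx1' hs hsH).1]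
  let TP := {s : Out V // inter V s.1 = P}
  have htr : t * r * t = r⁻¹ := hPinv r hrP
  have hti := inv_eq_self_of_two ht
  -- `t` inverts all of `C`
  have htC : ∀ c ∈ C, t * c * t ∈ C := by
    intro c hc
    have hcom : Commute c r⁻¹ :=
      (show Commute c r from Subgroup.mem_centralizer_singleton_iff.mp hc).inv_right
    have := hcom.map (MulAut.conj t).toMonoidHom
    have e : t * r⁻¹ * t = r := by
      rw [← htr]; simp only [← mul_assoc, mul_self_of_two ht, one_mul]
      rw [mul_assoc, mul_self_of_two ht, mul_one]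
    rw [hC, Subgroup.mem_centralizer_singleton_iff]
    simpa [hti, e] using this.eq
  have hinvC : ∀ c ∈ C, t * c * t = c⁻¹ := by
    intro c hc
    let φ : C → C := fun a => ⟨(a : G)⁻¹ * (t * a * t), mul_mem (inv_mem a.2) (htC a a.2)⟩
    have hinj : Function.Injective φ := by
      rintro ⟨a, ha⟩ ⟨b, hb⟩ h
      have h' : a⁻¹ * (t * a * t) = b⁻¹ * (t * b * t) := congrArg Subtype.val h
      have hd : t * (b * a⁻¹) * t = b * a⁻¹ := by
        calc t * (b * a⁻¹) * t = (t * b * t) * (t * a * t)⁻¹ := by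
              rw [mul_inv_rev, mul_inv_rev, hti]
              simp only [mul_assoc]
              rw [← mul_assoc t t, mul_self_of_two ht, one_mul]
          _ = b * (b⁻¹ * (t * b * t)) * (t * a * t)⁻¹ := by group
          _ = b * (a⁻¹ * (t * a * t)) * (t * a * t)⁻¹ := by rw [h']
          _ = _ := by group
      have hd1 : b * a⁻¹ = 1 := by
        have hcom : Commute (b * a⁻¹) t := by
          have h2 := congrArg (fun u => u * t) hd
          simp only [mul_assoc, mul_self_of_two ht, mul_one] at h2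
          show b * a⁻¹ * t = t * (b * a⁻¹)
          rw [mul_assoc]; exact h2.symm
        obtain ⟨g, hg⟩ := isConj_iff.mp (hV.conj_to t ht x hx hx1')
        have h3 : Commute (g⁻¹ * (b * a⁻¹) * g) x := by
          have := hcom.map (MulAut.conj g⁻¹).toMonoidHom
          simpa [← hg, mul_assoc] using this
        have h4 := hV.sq _ ((mem_iff_commute hV hx hx1').mpr h3)
        have h5 : (b * a⁻¹) ^ 2 = 1 := by
          have e : g⁻¹ * (b * a⁻¹) * g⁻¹⁻¹ = g⁻¹ * (b * a⁻¹) * g := by rw [inv_inv]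
          rw [← e, conj_pow] at h4
          exact conj_eq_one_iff.mp h4
        by_contra hne
        have hm : b * a⁻¹ ∈ C := mul_mem hb (inv_mem ha)
        apply hCodd
        rw [← orderOf_eq_prime h5 hne, ← Subgroup.orderOf_mk _ hm]
        exact orderOf_dvd_natCard _
      exact Subtype.ext (mul_inv_eq_one.mp hd1).symm
    obtain ⟨⟨a, ha⟩, hφ⟩ := Finite.surjective_of_injective hinj ⟨c, hc⟩
    have hca : c = a⁻¹ * (t * a * t) := (congrArg Subtype.val hφ).symm
    rw [hca, mul_inv_rev, mul_inv_rev, mul_inv_rev, hti, inv_inv]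
    simp only [mul_assoc, mul_self_of_two ht, mul_one]
  let e : C ≃ TP :=
    { toFun := fun c => by
        have h2 : t * c.1 ≠ 1 := fun h => by
          have : t = c.1⁻¹ := mul_eq_one_iff_eq_inv.mp h
          have htmem : t ∈ C := this ▸ inv_mem c.2
          exact hCodd (ht ▸ (Subgroup.orderOf_mk t htmem).symm ▸ orderOf_dvd_natCard _)
        have h3 : orderOf (t * c.1) = 2 := orderOf_eq_prime (by
          rw [pow_two, ← mul_assoc, hinvC c c.2, inv_mul_cancel]) h2
        have h4 : t * c.1 * r * (t * c.1) = r⁻¹ := by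
          have hcr : c.1 * r = r * c.1 := Subgroup.mem_centralizer_singleton_iff.mp c.2
          have hct : c.1 * t * c.1 = t := by
            rw [← inv_eq_self_of_two h3] at h3
            have := inv_eq_self_of_two (orderOf_eq_prime (p := 2) (by rw [pow_two, ← mul_assoc, hinvC c c.2, inv_mul_cancel]) h2)
            rw [mul_inv_rev, hti] at this
            calc c.1 * t * c.1 = c.1 * (c.1⁻¹ * t) := by rw [this, mul_assoc]
              _ = t := by group
          calc t * c.1 * r * (t * c.1) = t * (r * c.1) * (t * c.1) := by rw [mul_assoc t c.1 r, hcr]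
            _ = t * r * (c.1 * t * c.1) := by simp only [mul_assoc]
            _ = _ := by rw [hct, htr]
        exact ⟨⟨t * c.1, ((hinv_iff _).mpr ⟨h3, h4⟩).1, ((hinv_iff _).mpr ⟨h3, h4⟩).2.1⟩, ((hinv_iff _).mpr ⟨h3, h4⟩).2.2⟩
      invFun := fun s => ⟨t * s.1.1, by
        have h := ((hinv_iff s.1.1).mp ⟨s.1.2.1, s.1.2.2, s.2⟩).2
        rw [hC, Subgroup.mem_centralizer_singleton_iff]
        have h5 : s.1.1 * r = r⁻¹ * s.1.1 := by
          rw [← h]; rw [mul_assoc _ _ s.1.1, mul_self_of_two s.1.2.1, mul_one]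
        have h6 : t * r⁻¹ = r * t := by
          rw [← htr]; simp only [← mul_assoc, mul_self_of_two ht, one_mul]
        rw [mul_assoc, h5, ← mul_assoc, h6, mul_assoc]⟩
      left_inv := fun c => Subtype.ext (by show t * (t * c.1) = c.1; rw [← mul_assoc, mul_self_of_two ht, one_mul])
      right_inv := fun s => Subtype.ext (Subtype.ext (by
        show t * (t * s.1.1) = s.1.1; rw [← mul_assoc, mul_self_of_two ht, one_mul])) }
  have hTP : Nat.card TP = Nat.card C := (Nat.card_congr e).symm
  -- the subgroups of order three of `H` are conjugate and self-normalizing in `H`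
  have hcover : ∀ s : Out V, Nat.card {h : ↥H // cj h.1 P = inter V s.1} = 3 := by
    intro s
    set P' := inter V s.1 with hP'
    have hc' : Nat.card P' = 3 := (inter_inverted hV hx hx1' s.2.1 s.2.2).1
    let S₃ : Sylow 3 ↥H := (IsPGroup.of_card (n := 1) (p := 3) (by
      rw [Nat.card_congr (Subgroup.subgroupOfEquivOfLe hPH).toEquiv, hP3, pow_one]) : IsPGroup 3 (P.subgroupOf H)).toSylow (by
        have := (P.subgroupOf H).card_mul_index
        rw [Nat.card_congr (Subgroup.subgroupOfEquivOfLe hPH).toEquiv, hP3, hV.card_norm] at this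
        omega)
    obtain ⟨Q, hQ⟩ := (IsPGroup.of_card (n := 1) (p := 3) (by
      rw [Nat.card_congr (Subgroup.subgroupOfEquivOfLe (inf_le_left : P' ≤ H)).toEquiv, hc', pow_one]) : IsPGroup 3 (P'.subgroupOf H)).exists_le_sylow
    obtain ⟨h₀, hh₀⟩ := MulAction.exists_smul_eq ↥H S₃ Q
    have hcard₀ : Nat.card (cj h₀.1 P) = 3 := (card_cj _ _).trans hP3
    have hle : P' ≤ cj h₀.1 P := by
      intro a ha
      have := hQ (show (⟨a, inf_le_left (a := H) ha⟩ : ↥H) ∈ P'.subgroupOf H from ha)
      rw [← hh₀] at this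
      change _ ∈ (h₀ • S₃ : Sylow 3 ↥H).toSubgroup at this
      rw [Sylow.coe_subgroup_smul] at this
      obtain ⟨b, hb, hb'⟩ := this
      exact ⟨b.1, hb, congrArg Subtype.val hb'⟩
    have h0 : cj h₀.1 P = P' := (Subgroup.eq_of_le_of_card_ge hle (by rw [hcard₀, hc'])).symm
    -- normalizer of `P` in `H` is `P`
    have hNP : ∀ h : G, h ∈ H → cj h P = P → h ∈ P := by
      intro h hh hhP
      let N := H ⊓ Subgroup.normalizer (P : Set G)
      have hN12 : Nat.card N ∣ 12 := hV.card_norm ▸ Subgroup.card_dvd_of_le inf_le_left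
      have hPN : P ≤ N := le_inf hPH Subgroup.le_normalizer
      have hN3 : 3 ∣ Nat.card N := hP3 ▸ Subgroup.card_dvd_of_le hPN
      have hNodd : ¬ 2 ∣ Nat.card N := by
        intro h2
        obtain ⟨⟨v, hv⟩, hv2⟩ := exists_prime_orderOf_dvd_card' (G := N) 2 h2
        rw [Subgroup.orderOf_mk] at hv2
        have hvV := mem_of_invol hV hv2 hv.1
        have h1 : v * r * v⁻¹ ∈ P := (Subgroup.mem_normalizer_iff.mp hv.2 r).mp hrP
        have h2' : r * v * r⁻¹ ∈ V := (Subgroup.mem_normalizer_iff.mp (hPH hrP) v).mp hvV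
        have h3 : v * (r * v * r⁻¹) ∈ P := by
          have e : v * (r * v * r⁻¹) = (v * r * v⁻¹) * r⁻¹ := by rw [inv_eq_self_of_two hv2]; group
          rw [e]; exact mul_mem h1 (inv_mem hrP)
        have h4 := hV.sq _ (mul_mem hvV h2')
        have h5 : v * (r * v * r⁻¹) = 1 := by
          by_contra hne
          have h6 : orderOf (⟨_, h3⟩ : P) ∣ Nat.card P := orderOf_dvd_natCard _
          rw [Subgroup.orderOf_mk, orderOf_eq_prime h4 hne, hP3] at h6
          omega
        have h7 : r * v * r⁻¹ = v := (eq_inv_of_mul_eq_one_right h5).trans (inv_eq_self_of_two hv2)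
        have hrV : r ∈ V := by
          rw [mem_iff_commute hV hvV (ne_one_of_two hv2)]
          exact mul_inv_eq_iff_eq_mul.mp h7
        have := orderOf_dvd_of_pow_eq_one (hV.sq r hrV)
        rw [hr3] at this
        omega
      have hN : Nat.card N = 3 := by
        have := Nat.le_of_dvd (by norm_num) hN12
        interval_cases (Nat.card N) <;> omega
      have : P = N := Subgroup.eq_of_le_of_card_ge hPN (by rw [hN, hP3])
      exact this ▸ ⟨hh, cj_eq_self_iff.mp hhP⟩
    have hset : ∀ h : ↥H, cj h.1 P = P' ↔ h₀.1⁻¹ * h.1 ∈ P := by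
      intro h
      constructor
      · intro hh
        refine hNP _ (mul_mem (inv_mem h₀.2) h.2) ?_
        rw [← cj_cj, hh, ← h0, cj_cj, inv_mul_cancel, cj_one]
      · intro hh
        calc cj h.1 P = cj (h₀.1 * (h₀.1⁻¹ * h.1)) P := by rw [mul_inv_cancel_left]
          _ = P' := by rw [← cj_cj, cj_of_mem hh, h0]
    rw [← hP3]
    exact Nat.card_congr
      { toFun := fun h => ⟨h₀.1⁻¹ * h.1.1, (hset h.1).mp h.2⟩
        invFun := fun a => ⟨⟨h₀.1 * a.1, mul_mem h₀.2 (hPH a.2)⟩, (hset _).mpr (by simpa using a.2)⟩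
        left_inv := fun h => Subtype.ext (Subtype.ext (by simp))
        right_inv := fun a => Subtype.ext (by simp) }
  -- double counting
  have hinterconj : ∀ h ∈ H, ∀ s : G, inter V (h * s * h⁻¹) = cj h (inter V s) := by
    intro h hh s
    have hH : cj h H = H := cj_of_mem hh
    have hH' : cj h⁻¹ H = H := cj_of_mem (inv_mem hh)
    unfold inter
    conv_rhs => rw [cj, Subgroup.map_inf _ _ _ (MulAut.conj h).injective]
    show H ⊓ cj (h * s * h⁻¹) H = cj h H ⊓ cj h (cj s H)
    rw [hH, ← cj_cj (h * s), hH', cj_cj]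
  let Pairs := {p : ↥H × Out V // cj p.1.1 P = inter V p.2.1}
  have e1 : Pairs ≃ ↥H × TP :=
    { toFun := fun p => (p.1.1, ⟨⟨p.1.1.1⁻¹ * p.1.2.1 * p.1.1.1,
          by simpa using (orderOf_conj' p.1.1.1⁻¹ p.1.2.1).trans p.1.2.2.1,
          fun hm => p.1.2.2.2 (by simpa [mul_assoc] using mul_mem (mul_mem p.1.1.2 hm) (inv_mem p.1.1.2))⟩, by
          have := hinterconj _ (inv_mem p.1.1.2) p.1.2.1
          rw [inv_inv] at this
          rw [this, ← p.2, cj_cj, inv_mul_cancel, cj_one]⟩)
      invFun := fun q => ⟨(q.1, ⟨q.1.1 * q.2.1.1 * q.1.1⁻¹, (orderOf_conj' _ _).trans q.2.1.2.1,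
          fun hm => q.2.1.2.2 (by simpa [mul_assoc] using mul_mem (mul_mem (inv_mem q.1.2) hm) q.1.2)⟩), by
          rw [hinterconj _ q.1.2, q.2.2]⟩
      left_inv := fun p => Subtype.ext (Prod.ext rfl (Subtype.ext (by simp [mul_assoc])))
      right_inv := fun q => Prod.ext rfl (Subtype.ext (Subtype.ext (by simp [mul_assoc]))) }
  have e2 : Pairs ≃ Σ s : Out V, {h : ↥H // cj h.1 P = inter V s.1} :=
    { toFun := fun p => ⟨p.1.2, p.1.1, p.2⟩
      invFun := fun q => ⟨(q.2.1, q.1), q.2.2⟩
      left_inv := fun p => rfl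
      right_inv := fun q => rfl }
  have := Fintype.ofFinite (Out V)
  have hcount : 12 * Nat.card C = Nat.card (Out V) * 3 := by
    rw [← hTP, ← hV.card_norm, ← Nat.card_prod, ← Nat.card_congr e1, Nat.card_congr e2, Nat.card_sigma,
      Finset.sum_congr rfl (fun s _ => hcover s), Finset.sum_const, smul_eq_mul, Finset.card_univ,
      Nat.card_eq_fintype_card]
  have hout := card_out hV hx hx1'
  have hdvd : Nat.card C ∣ Nat.card G := C.card_subgroup_dvd_card
  have hC3 : 3 ∣ Nat.card C := by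
    have hrC : r ∈ C := Subgroup.mem_centralizer_singleton_iff.mpr rfl
    rw [← hr3, ← Subgroup.orderOf_mk r hrC]; exact orderOf_dvd_natCard _
  have hm : Nat.card C ∣ 12 := by
    have h16 : Nat.card G = 12 + Nat.card C * 16 := by omega
    rw [h16] at hdvd
    exact (Nat.dvd_add_left (Dvd.intro 16 rfl)).mp hdvd
  have hle12 := Nat.le_of_dvd (by norm_num) hm
  clear e
  generalize Nat.card C = m at hcount hC3 hm hle12 hCodd
  interval_cases m <;> omega

end H70.SCK
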