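import Mathlib.Tactic.Linarith
import Mathlib.Tactic.LinearCombination
import Mathlib.Tactic.IntervalCases
import Mathlib.Tactic.Ring
import Mathlib.Algebra.Ring.Int.Parity

/-!
The degree equations for a group with an involution centralizer having a normal Klein
Sylow 2-subgroup.
-/

set_option autoImplicit false

namespace H70

theorem klein_degree_pos_sign {n a : ℤ} (ha : 1 ≤ a) (ha4 : (4 : ℤ) ∣ a - 1)
    (h : n * (a + 1) ^ 2 = 4 * a * (2 * a + 1)) : a = 1 ∧ n = 3 := by
  have h1 : (a + 1) ∣ (4 : ℤ) := ⟨n * (a + 1) - 8 * (a + 1) + 12, by linear_combination -h⟩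
  have h2 := Int.le_of_dvd (by norm_num) h1
  have ha1 : a = 1 := by
    have : a ≤ 3 := by omega
    interval_cases a <;> omega
  subst ha1
  exact ⟨rfl, by omega⟩

theorem klein_degree_neg_sign {n x y : ℤ} (hn : Odd n) (hx : 3 ≤ x) (hx4 : (4 : ℤ) ∣ x + 1)
    (hy4 : (4 : ℤ) ∣ y + 1) (hxy : x ≤ y)
    (h : n * ((x - 1) * (y - 1) * (x + y)) = 8 * x * y * (x + y - 1)) : n = 15 ∧ x = 3 := by
  rcases le_or_gt x 6 with h6 | h6
  · have hx3 : x = 3 := by omega
    subst hx3
    have hp2 : 2 * ((n - 12) * ((y - 1) * (y + 3))) = 2 * 36 := by linear_combination h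
    have hp : (n - 12) * ((y - 1) * (y + 3)) = 36 := mul_left_cancel₀ two_ne_zero hp2
    have hdvd : (y - 1) * (y + 3) ≤ 36 := Int.le_of_dvd (by norm_num) ⟨n - 12, by linear_combination -hp⟩
    have hy : y ≤ 5 := by nlinarith
    have hy3 : y = 3 := by omega
    subst hy3
    exact ⟨by omega, rfl⟩
  · exfalso
    have hD : 0 < (x - 1) * (y - 1) * (x + y) := by
      apply mul_pos <;> [apply mul_pos; skip] <;> omega
    have h7 : (7 : ℤ) ≤ x := by omega
    have hn8 : 8 < n := by
      by_contra hle
      push Not at hle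
      have := mul_le_mul_of_nonneg_right hle hD.le
      nlinarith [mul_le_mul h7 (h7.trans hxy) (by norm_num) (by omega)]
    have hxx : 6 * x ≤ 7 * (x - 1) := by omega
    have hyy : 6 * y ≤ 7 * (y - 1) := by omega
    have hq : 36 * (x * y) ≤ 49 * ((x - 1) * (y - 1)) := by nlinarith
    have hn11 : n < 11 := by
      by_contra hge
      push Not at hge
      have h1 := mul_le_mul_of_nonneg_right hge hD.le
      have h2 : 36 * (x * y) * (x + y) ≤ 49 * ((x - 1) * (y - 1)) * (x + y) :=
        mul_le_mul_of_nonneg_right hq (by omega)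
      have hpos : 0 < x * y := by nlinarith
      nlinarith [mul_pos hpos (show (0 : ℤ) < x + y by omega)]
    obtain ⟨r, hr⟩ := hn
    have hn9 : n = 9 := by omega
    subst hn9
    have hx18 : x < 19 := by
      by_contra hge
      push Not at hge
      have h2 : 324 * (x * y) ≤ 361 * ((x - 1) * (y - 1)) := by nlinarith
      have hpos : 0 < x * y := by nlinarith
      nlinarith [mul_le_mul_of_nonneg_right h2 (show (0 : ℤ) ≤ x + y by omega)]
    have hcases : x = 7 ∨ x = 11 ∨ x = 15 := by omega
    rcases hcases with rfl | rfl | rfl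
    · nlinarith
    · rcases le_or_gt y 17 with hy | hy <;> nlinarith
    · rcases le_or_gt y 12 with hy | hy <;> nlinarith

end H70
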