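import Mathlib.GroupTheory.Sylow
import Mathlib.GroupTheory.SpecificGroups.KleinFour
import Mathlib.Data.Nat.Factorization.Basic
import Mathlib.Tactic.Group

/-!
A normal Sylow four-subgroup of the centralizer of one of its involutions is central there.
-/

set_option autoImplicit false
set_option linter.style.haveILetI false

namespace H70

variable {G : Type*} [Group G] [Finite G]

/-- If `V` is a normal four-group Sylow subgroup of `C(x)`, `x ∈ V`, then `C(x)` centralizes `V`. -/
theorem klein_centralizer_commute {x : G} (hx : orderOf x = 2) (V : Subgroup G)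
    (hK : IsKleinFour ↥V) (hxV : x ∈ V) (hle : V ≤ Subgroup.centralizer ({x} : Set G))
    (VS : Sylow 2 ↥(Subgroup.centralizer ({x} : Set G)))
    (hVS : (VS : Subgroup ↥(Subgroup.centralizer ({x} : Set G))) =
      V.subgroupOf (Subgroup.centralizer ({x} : Set G)))
    (hn : (V.subgroupOf (Subgroup.centralizer ({x} : Set G))).Normal) :
    ∀ c ∈ Subgroup.centralizer ({x} : Set G), ∀ v ∈ V, c * v = v * c := by
  classical
  haveI : Fact (Nat.Prime 2) := ⟨Nat.prime_two⟩
  haveI := hK
  have huniq : ∀ Q : Sylow 2 ↥(Subgroup.centralizer ({x} : Set G)),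
      (Q : Subgroup ↥(Subgroup.centralizer ({x} : Set G))) =
        V.subgroupOf (Subgroup.centralizer ({x} : Set G)) := fun Q => by
    haveI := Sylow.unique_of_normal VS (by rw [hVS]; exact hn)
    rw [Subsingleton.elim Q VS, hVS]
  intro c hc v hv
  set Cx := Subgroup.centralizer ({x} : Set G) with hCx
  have hconj : ∀ c ∈ Cx, ∀ v ∈ V, c * v * c⁻¹ ∈ V := fun c hc v hv =>
    hn.conj_mem (⟨v, hle hv⟩ : ↥Cx) hv ⟨c, hc⟩
  have hxx : x * x = 1 := by rw [← pow_two, ← hx, pow_orderOf_eq_one]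
  have hx1 : x ≠ 1 := fun e => by rw [e, orderOf_one] at hx; omega
  by_contra hne
  have hne' : c * v * c⁻¹ ≠ v := fun e => hne (mul_inv_eq_iff_eq_mul.mp e)
  have hfix : ∀ d ∈ Cx, d * x * d⁻¹ = x := fun d hd => by
    rw [Subgroup.mem_centralizer_singleton_iff.mp hd, mul_inv_cancel_right]
  have hv1 : v ≠ 1 := fun e => hne' (by rw [e, mul_one, mul_inv_cancel])
  have hvx : v ≠ x := fun e => hne' (by rw [e, hfix c hc])
  have hcv : c * v * c⁻¹ = x * v := by
    have h1 := IsKleinFour.eq_mul_of_ne_all (x := (⟨x, hxV⟩ : ↥V)) (y := ⟨v, hv⟩)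
      (z := ⟨c * v * c⁻¹, hconj c hc v hv⟩) (fun e => hx1 (congrArg Subtype.val e))
      (fun e => hv1 (congrArg Subtype.val e)) (fun e => hvx (congrArg Subtype.val e).symm)
      (fun e => hv1 (conj_eq_one_iff.mp (congrArg Subtype.val e)))
      (fun e => by
        have e' : c * v * c⁻¹ = c * x * c⁻¹ := by rw [hfix c hc]; exact congrArg Subtype.val e
        exact hvx (mul_left_cancel (mul_right_cancel e')))
      (fun e => hne' (congrArg Subtype.val e))
    exact congrArg Subtype.val h1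
  obtain ⟨e, m, hm, hord⟩ := Nat.exists_eq_two_pow_mul_odd (orderOf_pos c).ne'
  have hpow : ∀ i : ℕ, c ^ i * v * (c ^ i)⁻¹ = x ^ i * v := by
    intro i
    induction i with
    | zero => simp
    | succ i ih =>
      calc c ^ (i + 1) * v * (c ^ (i + 1))⁻¹ = c * (c ^ i * v * (c ^ i)⁻¹) * c⁻¹ := by
            rw [pow_succ']; group
        _ = (c * x * c⁻¹) ^ i * (c * v * c⁻¹) := by rw [ih, conj_pow]; group
        _ = x ^ (i + 1) * v := by rw [hfix c hc, hcv, pow_succ, mul_assoc]
  obtain ⟨r, rfl⟩ := hm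
  have h1 := hpow (2 * r + 1)
  rw [pow_succ x, pow_mul, pow_two x, hxx, one_pow, one_mul] at h1
  have hmem : c ^ (2 * r + 1) ∈ V := by
    have hp : IsPGroup 2 ↥(Subgroup.zpowers ((⟨c, hc⟩ : ↥Cx) ^ (2 * r + 1))) := by
      refine IsPGroup.of_card (n := e) ?_
      rw [Nat.card_zpowers, orderOf_pow' _ (by omega : 2 * r + 1 ≠ 0), Subgroup.orderOf_mk, hord,
        Nat.gcd_mul_left_left, Nat.mul_div_cancel _ (by omega)]
    obtain ⟨Q, hQ⟩ := hp.exists_le_sylow
    rw [huniq Q] at hQ
    exact hQ (Subgroup.mem_zpowers _)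
  have h2 : c ^ (2 * r + 1) * v = v * c ^ (2 * r + 1) :=
    congrArg Subtype.val (mul_comm_of_exponent_two IsKleinFour.exponent_two
      (⟨_, hmem⟩ : ↥V) ⟨v, hv⟩)
  rw [h2, mul_inv_cancel_right] at h1
  exact hx1 (mul_eq_right.mp h1.symm)

end H70
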