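import Cfsg.Agent.H31.MaxClassCrit
import Cfsg.Agent.H6.MaxClass
import Cfsg.Agent.H6.Transfer
import Mathlib.GroupTheory.SpecificGroups.KleinFour

/-!
In a simple group a four-group which is Sylow in the centralizer of one of its involutions
is Sylow in the group.
-/

set_option autoImplicit false
set_option linter.style.haveILetI false

namespace H70

variable {G : Type*} [Group G] [Finite G]

/-- A 2-group with a self-centralizing four subgroup has a cyclic subgroup of index two. -/
theorem exists_cyclic_of_self_centralizing (P : Sylow 2 G) (V : Subgroup G)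
    (hVP : V ≤ (P : Subgroup G)) (hV : Nat.card V = 4) (hne : Nat.card (P : Subgroup G) ≠ 4)
    (hsc : ∀ c ∈ (P : Subgroup G), (∀ v ∈ V, c * v = v * c) → c ∈ V) :
    ∃ C : Subgroup ↥(P : Subgroup G), IsCyclic C ∧ C.index = 2 ∧ 4 ≤ Nat.card C := by
  haveI : Fact (Nat.Prime 2) := ⟨Nat.prime_two⟩
  obtain ⟨j, hj⟩ := IsPGroup.iff_card.mp P.2
  have hj3 : 3 ≤ j := by
    have hdvd : Nat.card V ∣ Nat.card (P : Subgroup G) := Subgroup.card_dvd_of_le hVP
    rw [hV, hj, show (4 : ℕ) = 2 ^ 2 by norm_num, Nat.pow_dvd_pow_iff_le_right one_lt_two] at hdvd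
    rw [hj] at hne
    by_contra h
    have : j = 2 := by omega
    subst this
    exact hne (by norm_num)
  obtain ⟨m, rfl⟩ : ∃ m, j = m + 2 := ⟨j - 2, by omega⟩
  have hcl := H31.nilpotencyClass_of_self_centralizing_sq (p := 2) m hj
    (V.subgroupOf (P : Subgroup G))
    (by rw [Nat.card_congr (Subgroup.subgroupOfEquivOfLe hVP).toEquiv, hV]; norm_num)
    (fun c hc => hsc c c.2 fun v hv => by
      have := Subgroup.mem_centralizer_iff.mp hc ⟨v, hVP hv⟩ hv
      exact (congrArg Subtype.val this).symm)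
  have hidx := H6.maximalClass_index_commutator (p := 2) (m + 2) _ hj (by omega)
    (by rw [hcl]; omega)
  obtain ⟨C, hC, hC2⟩ := H6.exists_cyclic_index_two (m + 2) _ hj hj3 (by rw [hidx]; norm_num)
  refine ⟨C, hC, hC2, ?_⟩
  have h := C.card_mul_index
  rw [hC2, hj, pow_succ] at h
  have h4 : 2 ^ 2 ≤ 2 ^ (m + 1) := Nat.pow_le_pow_right two_pos (by omega)
  omega

/-- In a simple group, a four subgroup which is Sylow in the centralizer of its involution `x`
is a Sylow subgroup of the group. -/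
theorem klein_sylow_card [IsSimpleGroup G] {x : G} (hx : orderOf x = 2) (V : Subgroup G)
    (hV : Nat.card V = 4) (hK : IsKleinFour ↥V) (hxV : x ∈ V)
    (hmax : ∀ R : Subgroup G, IsPGroup 2 ↥R → V ≤ R →
      R ≤ Subgroup.centralizer ({x} : Set G) → R = V)
    (P : Sylow 2 G) (hVP : V ≤ (P : Subgroup G)) : Nat.card (P : Subgroup G) = 4 := by
  classical
  haveI : Fact (Nat.Prime 2) := ⟨Nat.prime_two⟩
  by_contra hne
  set Cx := Subgroup.centralizer ({x} : Set G) with hCx
  have hVcomm : ∀ a ∈ V, ∀ b ∈ V, a * b = b * a := fun a ha b hb => by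
    haveI := hK
    exact congrArg Subtype.val (mul_comm_of_exponent_two IsKleinFour.exponent_two
      (⟨a, ha⟩ : ↥V) ⟨b, hb⟩)
  have hVC : V ≤ Cx := fun v hv => Subgroup.mem_centralizer_singleton_iff.mpr (hVcomm v hv x hxV)
  have hPC : (P : Subgroup G) ⊓ Cx = V :=
    hmax _ (P.2.to_le inf_le_left) (le_inf hVP hVC) inf_le_right
  have hsc : ∀ c ∈ (P : Subgroup G), (∀ v ∈ V, c * v = v * c) → c ∈ V := fun c hc h => by
    rw [← hPC]
    exact Subgroup.mem_inf.mpr ⟨hc, Subgroup.mem_centralizer_singleton_iff.mpr (h x hxV)⟩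
  obtain ⟨C, hC, hC2, hC4⟩ := exists_cyclic_of_self_centralizing P V hVP hV hne hsc
  haveI := hC
  set Q := C.map (P : Subgroup G).subtype with hQ
  have hQP : Q ≤ (P : Subgroup G) := Subgroup.map_subtype_le C
  have hQi : Q.relIndex (P : Subgroup G) = 2 := by
    rw [hQ, Subgroup.relIndex, Subgroup.subgroupOf,
      Subgroup.comap_map_eq_self_of_injective (Subgroup.subtype_injective _), hC2]
  rcases H6.thompson_transfer P Q hQP hQi x hx with ⟨M, hMn, hM2, -⟩ | ⟨g, hg⟩
  · rcases hMn.eq_bot_or_eq_top with h | h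
    · rw [h, Subgroup.index_bot] at hM2
      have h1 : Nat.card V ≤ Nat.card G := Subgroup.card_le_card_group V
      omega
    · rw [h, Subgroup.index_top] at hM2
      omega
  obtain ⟨y, hyC, hy⟩ := hg
  have hy2 : orderOf y = 2 := by
    rw [← orderOf_injective (P : Subgroup G).subtype (Subgroup.subtype_injective _), hy]
    have e : g * x * g⁻¹ = MulAut.conj g x := rfl
    rw [e, MulEquiv.orderOf_eq, hx]
  have hy22 : y ^ 2 = 1 := orderOf_dvd_iff_pow_eq_one.mp (dvd_of_eq hy2)
  haveI hCn : C.Normal := Subgroup.normal_of_index_eq_two hC2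
  have hcentral : ∀ p : ↥(P : Subgroup G), p * y * p⁻¹ = y := by
    intro p
    have h1 : p * y * p⁻¹ ∈ C := hCn.conj_mem y hyC p
    by_contra hne'
    letI := Fintype.ofFinite ↥C
    have hle := IsCyclic.card_pow_eq_one_le (α := ↥C) (n := 2) two_pos
    have hsub : ({1, ⟨y, hyC⟩, ⟨p * y * p⁻¹, h1⟩} : Finset ↥C) ⊆
        Finset.univ.filter fun a : ↥C => a ^ 2 = 1 := by
      intro a ha
      simp only [Finset.mem_insert, Finset.mem_singleton] at ha
      simp only [Finset.mem_filter, Finset.mem_univ, true_and]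
      rcases ha with rfl | rfl | rfl
      · exact one_pow 2
      · exact Subtype.ext (by rw [Subgroup.coe_pow, Subgroup.coe_one]; exact hy22)
      · refine Subtype.ext ?_
        show (p * y * p⁻¹) ^ 2 = 1
        rw [conj_pow, hy22, mul_one, mul_inv_cancel]
    have hy1 : y ≠ 1 := fun e => by rw [e, orderOf_one] at hy2; omega
    have h3 := (Finset.card_le_card hsub).trans hle
    rw [Finset.card_insert_of_notMem, Finset.card_pair] at h3
    · omega
    · exact fun e => hne' (congrArg Subtype.val e).symm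
    · simp only [Finset.mem_insert, Finset.mem_singleton]
      rintro (e | e)
      · exact hy1 (congrArg Subtype.val e).symm
      · exact hy1 (conj_eq_one_iff.mp (congrArg Subtype.val e).symm)
  -- hence a conjugate of a whole Sylow subgroup centralizes `x`
  set P' := (P : Subgroup G).map (MulAut.conj g⁻¹).toMonoidHom with hP'
  have hle : P' ≤ Cx := by
    rintro _ ⟨p, hp, rfl⟩
    rw [hCx, Subgroup.mem_centralizer_singleton_iff]
    show g⁻¹ * p * g⁻¹⁻¹ * x = x * (g⁻¹ * p * g⁻¹⁻¹)
    have h1 : p * (g * x * g⁻¹) * p⁻¹ = g * x * g⁻¹ := by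
      have h2 := congrArg Subtype.val (hcentral ⟨p, hp⟩)
      have hy' : (y : G) = g * x * g⁻¹ := hy
      rw [← hy']
      exact h2
    calc g⁻¹ * p * g⁻¹⁻¹ * x = g⁻¹ * (p * (g * x * g⁻¹) * p⁻¹) * p * g := by group
      _ = x * (g⁻¹ * p * g⁻¹⁻¹) := by rw [h1]; group
  have hp' : IsPGroup 2 ↥P' := P.2.map _
  have hV2 : IsPGroup 2 ↥V := IsPGroup.of_card (n := 2) (by rw [hV]; norm_num)
  obtain ⟨Q', hQ'⟩ := (IsPGroup.comap_subtype (K := Cx) hp').exists_le_sylow
  obtain ⟨Q0, hQ0⟩ := (IsPGroup.comap_subtype (K := Cx) hV2).exists_le_sylow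
  have hQ0V : (Q0 : Subgroup ↥Cx).map Cx.subtype = V :=
    hmax _ (Q0.2.map _) (fun v hv => ⟨⟨v, hVC hv⟩, hQ0 hv, rfl⟩) (Subgroup.map_subtype_le _)
  have h1 : Nat.card (P : Subgroup G) ≤ Nat.card (Q' : Subgroup ↥Cx) := by
    rw [← Subgroup.card_map_of_injective (f := (MulAut.conj g⁻¹).toMonoidHom)
        (MulAut.conj g⁻¹).injective,
      ← Nat.card_congr (Subgroup.subgroupOfEquivOfLe hle).toEquiv]
    exact Subgroup.card_le_of_le hQ'
  have h2 : Nat.card (Q' : Subgroup ↥Cx) = 4 := by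
    rw [← hV, ← hQ0V, Subgroup.card_map_of_injective Cx.subtype_injective]
    exact Nat.card_congr (Q'.equiv Q0).toEquiv
  have h3 : Nat.card V ≤ Nat.card (P : Subgroup G) := Subgroup.card_le_of_le hVP
  omega

end H70
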