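import Cfsg.Agent.H22.KleinPSL

/-!
Values of the principal 2-block on the section of an involution, Klein Sylow subgroup.
-/

set_option autoImplicit false
set_option linter.style.haveILetI false

open Cfsg
open scoped ComplexConjugate

namespace H70

/-- Principal block characters are constant on the section of an involution. -/
theorem klein_section_value {G : Type*} [Group G] [Fintype G] {M : Ideal AlgInt} [M.IsPrime]
    (hM : IsPModular 2 M) (P : Sylow 2 G) (hP : Nat.card P = 4)
    (hexp : ∀ a ∈ (P : Subgroup G), a * a = 1) {v : G} (hvP : v ∈ (P : Subgroup G))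
    (hv : orderOf v = 2) {u : G} (huv : u * v = v * u) (hu : ¬ 2 ∣ orderOf u)
    {χ : IrrCharacter G} (hχ : χ ∈ principalBlock M G) :
    (χ : G → ℂ) (v * u) = (χ : G → ℂ) v := by
  classical
  haveI : Fact (Nat.Prime 2) := ⟨Nat.prime_two⟩
  set C := Subgroup.centralizer ({v} : Set G) with hC
  haveI := Fintype.ofFinite ↥C
  have hv1 : v ≠ 1 := fun e => by rw [e, orderOf_one] at hv; omega
  have hcomp := H22.Klein.centralizer_complement P hP hexp hvP hv1
  let w : ↥C := ⟨u, Subgroup.mem_centralizer_singleton_iff.mpr huv⟩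
  have hw : ¬ 2 ∣ orderOf w := by
    rwa [show orderOf w = orderOf u from (Subgroup.orderOf_coe w).symm]
  have h1 : ¬ 2 ∣ orderOf (1 : ↥C) := by simp
  have key : ∀ a b : ↥C, ¬ 2 ∣ orderOf a → ¬ 2 ∣ orderOf b →
      ∑ ψ ∈ H22.blockFinset (principalBlock M G),
        (ψ : G → ℂ) (v * (a : G)) * conj ((ψ : G → ℂ) (v * (b : G))) =
      (2 : ℂ) ^ (Nat.card ↥C).factorization 2 := by
    intro a b ha hb
    rw [H22.Sub.principal_section_orth hM ⟨1, by rw [hv]; rfl⟩ a b ha hb]
    have h := H22.Sub.sum_principal_of_complement (M := M) hM hcomp ha hb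
    rw [h]
    norm_num
    rfl
  have hsum : ∑ ψ ∈ H22.blockFinset (principalBlock M G),
      Complex.normSq ((ψ : G → ℂ) (v * u) - (ψ : G → ℂ) v) = 0 := by
    apply Complex.ofReal_injective
    push_cast
    simp only [← Complex.mul_conj, map_sub, sub_mul, mul_sub, Finset.sum_sub_distrib]
    have e1 := key w w hw hw
    have e2 := key w 1 hw h1
    have e3 := key 1 w h1 hw
    have e4 := key 1 1 h1 h1
    simp only [Subgroup.coe_one, mul_one] at e2 e3 e4
    rw [e1, e2, e3, e4]
    ring
  exact sub_eq_zero.mp (Complex.normSq_eq_zero.mp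
    ((Finset.sum_eq_zero_iff_of_nonneg fun ψ _ => Complex.normSq_nonneg _).mp hsum χ
      (H22.mem_blockFinset.mpr hχ)))

end H70
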