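import Cfsg.Agent.H5.Fusion
import Cfsg.Agent.H5.Burnside
import Mathlib

/-!
Abelian Sylow 2-subgroups: fixed points of the normalizer avoid the derived subgroup.
-/

set_option autoImplicit false
set_option linter.style.haveILetI false

open scoped commutatorElement

namespace H70

variable {G : Type*} [Group G]

/-- Crossed homomorphisms into an abelian exponent-two subgroup, for an action of odd degree,
are principal: averaging over an odd group of automorphisms. -/
theorem eq_one_of_fixed_of_displacement {V : Type*} [CommGroup V] [Finite V] {A : Type*} [Group A]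
    [Finite A] (act : A →* MulAut V) (hodd : Odd (Nat.card A)) (h2 : ∀ v : V, ∃ k : ℕ, v ^ 2 ^ k = 1)
    {s : V} (hs : ∀ a, act a s = s)
    (hmem : s ∈ Subgroup.closure {d : V | ∃ (a : A) (v : V), d = act a v * v⁻¹}) : s = 1 := by
  classical
  haveI := Fintype.ofFinite A
  let μ : V →* V :=
    { toFun := fun v => ∏ a : A, act a v
      map_one' := by simp
      map_mul' := fun u v => by simp [Finset.prod_mul_distrib] }
  have hker : Subgroup.closure {d : V | ∃ (a : A) (v : V), d = act a v * v⁻¹} ≤ μ.ker := by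
    rw [Subgroup.closure_le]
    rintro _ ⟨a, v, rfl⟩
    rw [SetLike.mem_coe, MonoidHom.mem_ker, map_mul, map_inv, mul_inv_eq_one]
    show ∏ b : A, act b (act a v) = ∏ b : A, act b v
    exact Fintype.prod_equiv (Equiv.mulRight a) _ _ fun b => by simp [MulAut.mul_apply]
  have h1 : s ^ Nat.card A = 1 := by
    have := hker hmem
    rw [MonoidHom.mem_ker] at this
    have h3 : μ s = s ^ Nat.card A := by
      show ∏ a : A, act a s = _
      rw [Finset.prod_congr rfl (fun a _ => hs a), Finset.prod_const, Finset.card_univ,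
        Nat.card_eq_fintype_card]
    rwa [h3] at this
  obtain ⟨k, hk⟩ := h2 s
  have := pow_gcd_eq_one.mpr ⟨h1, hk⟩
  rwa [Nat.Coprime.gcd_eq_one (Nat.Coprime.pow_right k (Nat.coprime_two_right.mpr hodd)), pow_one]
    at this

variable [Finite G]

/-- In a group with abelian Sylow 2-subgroup `P`, an element of `P ∩ G'` centralized by `N(P)`
is trivial. -/
theorem eq_one_of_mem_commutator_of_fixed (P : Sylow 2 G) (hab : IsMulCommutative ↥(P : Subgroup G))
    {z : G} (hz : z ∈ (P : Subgroup G)) (hz' : z ∈ commutator G)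
    (hfix : ∀ n ∈ Subgroup.normalizer ((P : Subgroup G) : Set G), n * z * n⁻¹ = z) : z = 1 := by
  classical
  haveI : Fact (Nat.Prime 2) := ⟨Nat.prime_two⟩
  set N := Subgroup.normalizer ((P : Subgroup G) : Set G) with hN
  letI : CommGroup ↥(P : Subgroup G) :=
    { (inferInstance : Group ↥(P : Subgroup G)) with mul_comm := hab.is_comm.comm }
  let act : ↥N →* MulAut ↥(P : Subgroup G) := Subgroup.normalizerMonoidHom (P : Subgroup G)
  have hodd : Odd (Nat.card ↥act.range) := by
    rw [Nat.odd_iff, ← Nat.two_dvd_ne_zero, ← Subgroup.index_ker act]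
    intro h2
    have hle : ((P : Subgroup G).subgroupOf N) ≤ act.ker := by
      intro x hx
      rw [MonoidHom.mem_ker]
      refine MulEquiv.ext fun v => Subtype.ext ?_
      show (x : G) * v * (x : G)⁻¹ = v
      have := congrArg Subtype.val (hab.is_comm.comm ⟨(x : G), hx⟩ v)
      rw [show (x : G) * v = v * x from this, mul_inv_cancel_right]
    have h3 : (P : Subgroup G).relIndex N ∣ (P : Subgroup G).index :=
      ⟨N.index, (Subgroup.relIndex_mul_index (Subgroup.le_normalizer)).symm⟩
    exact P.not_dvd_index ((h2.trans (Subgroup.index_dvd_of_le hle)).trans h3)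
  have hmem : (⟨z, hz⟩ : ↥(P : Subgroup G)) ∈ Subgroup.closure
      {d : ↥(P : Subgroup G) | ∃ (a : ↥act.range) (v : ↥(P : Subgroup G)),
        d = (a : MulAut ↥(P : Subgroup G)) v * v⁻¹} := by
    have h1 : z ∈ Subgroup.focalSubgroup (P : Subgroup G) := by
      rw [← Subgroup.commutator_inf_eq_focalSubgroup P]
      exact ⟨hz', hz⟩
    have h2 : z ∈ ⁅(P : Subgroup G), N⁆ :=
      H5.focalSubgroup_le_of_control (H5.control_of_commutative P) h1
    have hle : ⁅(P : Subgroup G), N⁆ ≤ (Subgroup.closure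
      {d : ↥(P : Subgroup G) | ∃ (a : ↥act.range) (v : ↥(P : Subgroup G)),
        d = (a : MulAut ↥(P : Subgroup G)) v * v⁻¹}).map (P : Subgroup G).subtype := by
      rw [Subgroup.commutator_le]
      intro v hv n hn
      have hnv : n * v⁻¹ * n⁻¹ ∈ (P : Subgroup G) :=
        (Subgroup.mem_normalizer_iff.mp hn v⁻¹).mp (inv_mem hv)
      refine ⟨⟨v * (n * v⁻¹ * n⁻¹), mul_mem hv hnv⟩, Subgroup.subset_closure
        ⟨⟨act ⟨n, hn⟩, ⟨_, rfl⟩⟩, ⟨v⁻¹, inv_mem hv⟩, ?_⟩, ?_⟩
      · rw [mul_comm]
        exact Subtype.ext (by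
          show v * (n * v⁻¹ * n⁻¹) = v⁻¹⁻¹ * (n * v⁻¹ * n⁻¹)
          rw [inv_inv])
      · show v * (n * v⁻¹ * n⁻¹) = ⁅v, n⁆
        rw [commutatorElement_def]; group
    obtain ⟨d, hd, hdz⟩ := hle h2
    have : d = ⟨z, hz⟩ := Subtype.ext hdz
    rwa [this] at hd
  have := eq_one_of_fixed_of_displacement act.range.subtype hodd
    (fun v => P.2 v) (s := ⟨z, hz⟩) (by
      rintro ⟨_, ⟨n, rfl⟩⟩
      exact Subtype.ext (hfix n n.2)) hmem
  exact congrArg Subtype.val this

end H70
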