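import Cfsg.Agent.H65.OrderFormula
import Cfsg.Agent.H31.ExtraspecialTwo
import Cfsg.Agent.H68.ExtraComm
import Cfsg.Agent.H68.CharP

/-! The order of a simple group with the involution pattern of the Hall–Janko group. -/

set_option autoImplicit false

namespace H70.J2Ord

open Subgroup Finset
open scoped commutatorElement

universe u

abbrev A5 : Type := alternatingGroup (Fin 5)

theorem a5_orders : ∀ x : A5, x ^ 2 = 1 ∨ x ^ 15 = 1 := by decide +kernel

theorem a5_invol : (univ.filter fun b : A5 => b ^ 2 = 1 ∧ b ≠ 1).card = 15 := by decide +kernel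

theorem a5_odd : ∀ u : A5, u ^ 2 = 1 → u ≠ 1 →
    (univ.filter fun b : A5 => b ^ 2 = 1 ∧ (u * b) ^ 15 = 1).card = 13 := by decide +kernel

theorem a5_comm : ∀ u : A5, u ^ 2 = 1 → u ≠ 1 →
    (univ.filter fun b : A5 => (b ^ 2 = 1 ∧ b ≠ 1) ∧ b ≠ u ∧ u * b = b * u).card = 2 := by
  decide +kernel

variable {G : Type u} [Group G] [Finite G]

theorem invol_iff {x : G} : orderOf x = 2 ↔ x ^ 2 = 1 ∧ x ≠ 1 := by
  constructor
  · intro h
    refine ⟨?_, fun h1 => by rw [h1, orderOf_one] at h; norm_num at h⟩
    rw [← h]; exact pow_orderOf_eq_one x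
  · rintro ⟨h, h1⟩
    exact orderOf_eq_prime h h1

theorem card_sub {B : Subgroup G} (e : ↥B ≃* A5) (P : G → Prop) (P' : A5 → Prop)
    [DecidablePred P'] (h : ∀ b : ↥B, P (b : G) ↔ P' (e b)) :
    Nat.card {b : G // b ∈ B ∧ P b} = (univ.filter P').card := by
  rw [← Fintype.card_subtype, ← Nat.card_eq_fintype_card]
  exact Nat.card_congr ((Equiv.subtypeSubtypeEquivSubtypeInter (fun b => b ∈ B) P).symm.trans
    (e.toEquiv.subtypeEquiv (fun b => h b)))

theorem pow_iff {B : Subgroup G} (e : ↥B ≃* A5) (b : ↥B) (n : ℕ) :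
    (b : G) ^ n = 1 ↔ (e b) ^ n = 1 := by
  rw [← map_pow, MulEquiv.map_eq_one_iff]
  exact ⟨fun h => Subtype.ext (by simpa using h), fun h => by simpa using congrArg Subtype.val h⟩

theorem ne_one_iff {B : Subgroup G} (e : ↥B ≃* A5) (b : ↥B) : (b : G) ≠ 1 ↔ e b ≠ 1 := by
  have := pow_iff e b 1
  simp only [pow_one] at this
  exact not_congr this

theorem card_invol_B {B : Subgroup G} (e : ↥B ≃* A5) :
    Nat.card {b : G // b ∈ B ∧ orderOf b = 2} = 15 := by
  rw [card_sub e _ (fun b => b ^ 2 = 1 ∧ b ≠ 1) (fun b => by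
    rw [invol_iff, pow_iff e, ne_one_iff e]), a5_invol]

theorem card_odd_B {B : Subgroup G} (e : ↥B ≃* A5) {u : G} (hu : orderOf u = 2) (huB : u ∈ B) :
    Nat.card {b : G // b ∈ B ∧ (b ^ 2 = 1 ∧ (u * b) ^ 15 = 1)} = 13 := by
  obtain ⟨h2, h1⟩ := invol_iff.1 hu
  rw [card_sub e _ (fun b => b ^ 2 = 1 ∧ (e ⟨u, huB⟩ * b) ^ 15 = 1) (fun b => by
    rw [pow_iff e b 2, ← map_mul]
    exact and_congr_right fun _ => pow_iff e (⟨u, huB⟩ * b) 15)]
  exact a5_odd _ ((pow_iff e ⟨u, huB⟩ 2).1 h2) ((ne_one_iff e ⟨u, huB⟩).1 h1)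

theorem card_comm_B {B : Subgroup G} (e : ↥B ≃* A5) {u : G} (hu : orderOf u = 2) (huB : u ∈ B) :
    Nat.card {b : G // b ∈ B ∧ (orderOf b = 2 ∧ b ≠ u ∧ u * b = b * u)} = 2 := by
  obtain ⟨h2, h1⟩ := invol_iff.1 hu
  rw [card_sub e _ (fun b => (b ^ 2 = 1 ∧ b ≠ 1) ∧ b ≠ e ⟨u, huB⟩ ∧
      e ⟨u, huB⟩ * b = b * e ⟨u, huB⟩) (fun b => by
    rw [invol_iff, pow_iff e, ne_one_iff e, ← map_mul, ← map_mul, e.injective.eq_iff,
      e.injective.ne_iff]
    simp only [ne_eq, Subtype.ext_iff, Subgroup.coe_mul])]
  exact a5_comm _ ((pow_iff e ⟨u, huB⟩ 2).1 h2) ((ne_one_iff e ⟨u, huB⟩).1 h1)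

section Extraspecial

variable {E : Type u} [Group E] [Finite E]

theorem card_comm_le {z : E} (hcm : ∀ x y : E, x * y = y * x ∨ x * y = z * (y * x)) (u : E) :
    (centralizer ({u} : Set E)).index ≤ 2 := by
  have hmul := H65.card_conjugates_mul u
  have hidx := (centralizer ({u} : Set E)).card_mul_index
  have hle : Nat.card {y : E // IsConj u y} ≤ 2 := by
    calc Nat.card {y : E // IsConj u y} ≤ Nat.card ↥({u, z * u} : Set E) := by
          refine Nat.card_mono (Set.toFinite _) ?_
          rintro y hy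
          obtain ⟨g, rfl⟩ := isConj_iff.1 hy
          rcases hcm g u with h | h
          · left; rw [h, mul_inv_cancel_right]
          · right; rw [h, Set.mem_singleton_iff]; group
      _ ≤ 2 := by
          rw [Nat.card_coe_set_eq]
          exact (Set.ncard_insert_le _ _).trans (by rw [Set.ncard_singleton])
  have hpos : 0 < Nat.card (centralizer ({u} : Set E)) := Nat.card_pos
  rw [← hmul, mul_comm (Nat.card {y : E // IsConj u y})] at hidx
  rw [Nat.eq_of_mul_eq_mul_left hpos hidx]
  exact hle

/-- In an extraspecial group of order 32 with an elementary abelian subgroup of order 8 there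
are 20 solutions of `x ^ 2 = 1`. -/
theorem invCount_of_four (hE : Cfsg.IsExtraspecial 2 E) (h32 : Nat.card E = 32) {u w : E}
    (hu2 : u ^ 2 = 1) (hw2 : w ^ 2 = 1) (huw : u * w = w * u) (hu : u ∉ center E)
    (hw : w ∉ center E) (huwc : u * w ∉ center E) : H31.Extra2.invCount E = 20 := by
  classical
  haveI := Fintype.ofFinite E
  obtain ⟨z, hzc, hz1, hzz, hz⟩ := H31.Extra2.center_data hE
  have hzx : ∀ x : E, x * z = z * x := fun x => mem_center_iff.1 hzc x
  have hsq : ∀ x : E, x * x = 1 ∨ x * x = z := fun x => by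
    rw [← pow_two]; exact hz _ (H6.extraspecial_pow_mem_center hE x)
  have hcm : ∀ x y : E, x * y = y * x ∨ x * y = z * (y * x) := fun x y => by
    have e : x * y = ⁅x, y⁆ * (y * x) := by rw [commutatorElement_def]; group
    rcases hz _ (H6.extraspecial_commutator_mem_center hE x y) with h | h
    · left; rw [e, h, one_mul]
    · right; rw [e, h]
  let A := centralizer ({u} : Set E) ⊓ centralizer ({w} : Set E)
  have hmemA : ∀ x, x ∈ A ↔ u * x = x * u ∧ w * x = x * w := fun x => by
    simp [A, mem_centralizer_singleton_iff, eq_comm]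
  -- `A` has order `8`
  have hsep : ∃ x : E, u * x = x * u ∧ w * x ≠ x * w := by
    by_contra hcon
    push Not at hcon
    apply huwc
    rw [mem_center_iff]
    intro x
    by_cases h : u * x = x * u
    · rw [← mul_assoc, ← h, mul_assoc, ← hcon x h, mul_assoc]
    · obtain ⟨y, hy⟩ : ∃ y, w * y ≠ y * w := by
        by_contra h'
        push Not at h'
        exact hw (mem_center_iff.2 fun y => (h' y).symm)
      have hxw : x * w ≠ w * x := by
        intro hxw
        have huy : u * y ≠ y * u := fun e => hy (hcon y e)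
        have h1 : x * u = z * (u * x) := (hcm x u).resolve_left (fun e => h e.symm)
        have h3 : y * u = z * (u * y) := (hcm y u).resolve_left (fun e => huy e.symm)
        have huxy : u * (x * y) = (x * y) * u := by
          rw [mul_assoc, h3, ← mul_assoc x z, hzx, mul_assoc, ← mul_assoc x u, h1]
          simp only [← mul_assoc, hzz, one_mul]
        have h4 := hcon _ huxy
        apply hy
        rw [← mul_assoc, ← hxw, mul_assoc, mul_assoc] at h4
        exact mul_left_cancel h4
      have h1 : x * u = z * (u * x) := (hcm x u).resolve_left (fun e => h e.symm)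
      have h2 : x * w = z * (w * x) := (hcm x w).resolve_left hxw
      rw [← mul_assoc, h1, mul_assoc, mul_assoc, h2, ← mul_assoc u z, hzx u]
      simp only [← mul_assoc, hzz, one_mul]
  have hAdvd : Nat.card A ∣ 32 := h32 ▸ card_subgroup_dvd_card A
  have hAidx : A.index ≤ 4 := by
    calc A.index ≤ (centralizer ({u} : Set E)).index * (centralizer ({w} : Set E)).index :=
          index_inf_le
      _ ≤ 2 * 2 := Nat.mul_le_mul (card_comm_le hcm u) (card_comm_le hcm w)
  have hCu : Nat.card (centralizer ({u} : Set E)) < 32 := by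
    rw [← h32]
    refine lt_of_le_of_ne (Finite.card_subtype_le _) fun h => hu (mem_center_iff.2 fun x => ?_)
    have := (eq_top_of_card_eq _ h) ▸ mem_top x
    exact mem_centralizer_singleton_iff.1 this
  have hAlt : Nat.card A < Nat.card (centralizer ({u} : Set E)) := by
    refine lt_of_le_of_ne (card_le_of_le inf_le_left) fun h => ?_
    obtain ⟨x, hx1, hx2⟩ := hsep
    have hxA : x ∈ A := by
      rw [show A = centralizer ({u} : Set E) from eq_of_le_of_card_ge inf_le_left h.ge]
      exact mem_centralizer_singleton_iff.2 hx1.symm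
    exact hx2 ((hmemA x).1 hxA).2
  have hA8 : Nat.card A = 8 := by
    have h := A.card_mul_index
    rw [h32] at h
    have hCdvd : Nat.card (centralizer ({u} : Set E)) ∣ 32 := h32 ▸ card_subgroup_dvd_card _
    have hC16 : Nat.card (centralizer ({u} : Set E)) ≤ 16 := by
      by_contra h'
      push Not at h'
      obtain ⟨k, hk⟩ := hCdvd
      rcases Nat.lt_or_ge k 2 with hk2 | hk2
      · interval_cases k <;> omega
      · nlinarith
    have : 8 ≤ Nat.card A := by nlinarith
    have h16 : Nat.card A < 16 := by omega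
    interval_cases hN : Nat.card A <;> omega
  -- `A` is elementary abelian
  have hzA : z ∈ A := (hmemA z).2 ⟨hzx u, hzx w⟩
  have huA : u ∈ A := (hmemA u).2 ⟨rfl, huw.symm⟩
  have hwA : w ∈ A := (hmemA w).2 ⟨huw, rfl⟩
  have hgen : ∀ S : Subgroup E, S ≤ A → z ∈ S → u ∈ S → w ∈ S → S = A := by
    intro S hSA hzS huS hwS
    refine eq_of_le_of_card_ge hSA ?_
    have hcS : center E ≤ S := fun x hx => by
      rcases hz x hx with rfl | rfl
      · exact one_mem S
      · exact hzS
    let S1 := center E ⊔ zpowers u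
    have hS1 : S1 ≤ S := sup_le hcS (zpowers_le.2 huS)
    have hwS1 : w ∉ S1 := by
      intro hw'
      rw [mem_sup_of_normal_left] at hw'
      obtain ⟨c, hc, d, hd, hcd⟩ := hw'
      obtain ⟨n, rfl⟩ := mem_zpowers_iff.1 hd
      have hu2' : u ^ (2 : ℤ) = 1 := by exact_mod_cast hu2
      rcases Int.emod_two_eq_zero_or_one n with hn | hn
      · have hd1 : u ^ n = 1 := by
          rw [← Int.emod_add_mul_ediv n 2, hn, zero_add, zpow_mul, hu2', one_zpow]
        rw [hd1, mul_one] at hcd
        exact hw (hcd ▸ hc)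
      · have hd1 : u ^ n = u := by
          rw [← Int.emod_add_mul_ediv n 2, hn, zpow_add, zpow_mul, hu2', one_zpow, zpow_one,
            mul_one]
        rw [hd1] at hcd
        apply huwc
        rw [huw, ← hcd, mul_assoc, ← pow_two, hu2, mul_one]
        exact hc
    have d1 : 2 ∣ Nat.card S1 := hE.2 ▸ card_dvd_of_le (le_sup_left : center E ≤ S1)
    have l1 : 2 < Nat.card S1 := by
      have hle := card_le_of_le (le_sup_left : center E ≤ S1)
      rw [hE.2] at hle
      refine lt_of_le_of_ne hle fun h => hu ?_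
      rw [eq_of_le_of_card_ge (le_sup_left : center E ≤ S1) (by rw [hE.2, h])]
      exact mem_sup_right (mem_zpowers u)
    obtain ⟨k, hk⟩ := card_dvd_of_le hS1
    have l2 : Nat.card S1 < Nat.card S := by
      refine lt_of_le_of_ne (card_le_of_le hS1) fun h => hwS1 ?_
      rw [eq_of_le_of_card_ge hS1 h.ge]
      exact hwS
    have hk2 : 2 ≤ k := by
      rcases Nat.lt_or_ge k 2 with h | h
      · exfalso; interval_cases k <;> omega
      · exact h
    obtain ⟨j, hj⟩ := d1
    rw [hA8, hk]
    have : 2 ≤ j := by omega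
    nlinarith
  have hAcomm : ∀ a ∈ A, ∀ b ∈ A, a * b = b * a := by
    intro a ha b hb
    have hS := hgen (A ⊓ centralizer (A : Set E)) inf_le_left
      ⟨hzA, mem_centralizer_iff.2 fun x _ => hzx x⟩
      ⟨huA, mem_centralizer_iff.2 fun x hx => ((hmemA x).1 hx).1.symm⟩
      ⟨hwA, mem_centralizer_iff.2 fun x hx => ((hmemA x).1 hx).2.symm⟩
    rw [← hS] at ha
    exact (mem_centralizer_iff.1 ha.2 b hb).symm
  have hA2 : ∀ a ∈ A, a * a = 1 := by
    let S : Subgroup E :=
      { carrier := {a | a ∈ A ∧ a * a = 1}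
        one_mem' := ⟨one_mem A, one_mul 1⟩
        mul_mem' := fun {a b} ha hb => ⟨mul_mem ha.1 hb.1, by
          calc a * b * (a * b) = a * (b * a) * b := by group
            _ = a * (a * b) * b := by rw [hAcomm b hb.1 a ha.1]
            _ = (a * a) * (b * b) := by group
            _ = 1 := by rw [ha.2, hb.2, one_mul]⟩
        inv_mem' := fun {a} ha => ⟨inv_mem ha.1, by rw [← mul_inv_rev, ha.2, inv_one]⟩ }
    have hS := hgen S (fun a ha => ha.1) ⟨hzA, hzz⟩ ⟨huA, by rw [← pow_two]; exact hu2⟩
      ⟨hwA, by rw [← pow_two]; exact hw2⟩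
    intro a ha
    rw [← hS] at ha
    exact ha.2
  -- the signed count
  let σ : E → ℤ := fun x => if x * x = 1 then 1 else -1
  let c : E → E → ℤ := fun x a => if x * a = a * x then 1 else -1
  have hmul : ∀ x, ∀ a ∈ A, σ (x * a) = σ x * c x a := by
    intro x a ha
    rcases hcm x a with h | h
    · have : x * a * (x * a) = x * x := by
        calc x * a * (x * a) = x * (a * x) * a := by group
          _ = x * (x * a) * a := by rw [h]
          _ = x * x * (a * a) := by group
          _ = x * x := by rw [hA2 a ha, mul_one]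
      simp only [σ, c]
      rw [this, if_pos h, mul_one]
    · have hne : x * a ≠ a * x := fun e => hz1 (mul_eq_right.1 (h.symm.trans e))
      have h' : a * x = z * (x * a) := by
        rw [h, ← mul_assoc, hzz, one_mul]
      have : x * a * (x * a) = z * (x * x) := by
        calc x * a * (x * a) = x * (a * x) * a := by group
          _ = x * (z * (x * a)) * a := by rw [h']
          _ = (x * z) * x * (a * a) := by group
          _ = z * (x * x) := by rw [hA2 a ha, mul_one, hzx, mul_assoc]
      simp only [σ, c, this, if_neg hne]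
      rcases hsq x with e | e <;> rw [e]
      · simp [hz1]
      · rw [hzz]; simp [hz1]
  have hrow : ∀ x, ∑ a : A, c x a = if x ∈ A then 8 else 0 := by
    intro x
    split
    · next hx =>
      rw [Finset.sum_congr rfl (g := fun _ => (1 : ℤ)) (fun (a : A) _ => show c x a = 1 by
        simp only [c, if_pos (hAcomm x hx a a.2)]), sum_const, card_univ, ← Nat.card_eq_fintype_card,
        hA8]
      norm_num
    · next hx =>
      obtain ⟨a₀, ha₀, hne⟩ : ∃ a₀ ∈ A, x * a₀ ≠ a₀ * x := by
        by_contra hcon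
        push Not at hcon
        exact hx ((hmemA x).2 ⟨(hcon u ((hmemA u).2 ⟨rfl, huw.symm⟩)).symm,
          (hcon w ((hmemA w).2 ⟨huw, rfl⟩)).symm⟩)
      have hflip : ∀ a ∈ A, c x (a * a₀) = -c x a := by
        intro a ha
        have h0 : x * a₀ = z * (a₀ * x) := (hcm x a₀).resolve_left hne
        rcases hcm x a with h | h
        · have h' : x * (a * a₀) = z * (a * a₀ * x) := by
            calc x * (a * a₀) = a * (x * a₀) := by rw [← mul_assoc, h, mul_assoc]
              _ = z * (a * a₀ * x) := by rw [h0, ← mul_assoc a z, hzx a]; group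
          simp only [c, if_pos h]
          rw [if_neg (fun e => hz1 (mul_eq_right.1 (h'.symm.trans e)))]
        · have hne' : x * a ≠ a * x := fun e => hz1 (mul_eq_right.1 (h.symm.trans e))
          have h' : x * (a * a₀) = a * a₀ * x := by
            calc x * (a * a₀) = z * (a * x) * a₀ := by rw [← mul_assoc, h]
              _ = z * a * (x * a₀) := by group
              _ = z * (a * z) * (a₀ * x) := by rw [h0]; group
              _ = z * z * (a * (a₀ * x)) := by rw [hzx a]; group
              _ = a * a₀ * x := by rw [hzz, one_mul, mul_assoc]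
          simp only [c, if_neg hne', if_pos h', neg_neg]
      have key : ∑ a : A, c x ((a * ⟨a₀, ha₀⟩ : A) : E) = ∑ a : A, c x a :=
        Fintype.sum_equiv (Equiv.mulRight (⟨a₀, ha₀⟩ : A)) _ _ (fun a => rfl)
      rw [Finset.sum_congr rfl (fun (a : A) _ => show c x ((a * ⟨a₀, ha₀⟩ : A) : E) = -c x a from
        hflip a a.2), sum_neg_distrib] at key
      omega
  have hT : ∑ x : E, σ x = 8 := by
    have h1 : ∑ x : E, ∑ a : A, σ (x * a) = 8 * ∑ x : E, σ x := by
      rw [sum_comm, Finset.sum_congr rfl (fun (a : A) _ => Fintype.sum_equiv (Equiv.mulRight (a : E))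
        (fun x => σ (x * a)) σ (fun x => rfl)), sum_const, card_univ, ← Nat.card_eq_fintype_card,
        hA8, nsmul_eq_mul]
      norm_num
    have h2 : ∀ x : E, ∑ a : A, σ (x * a) = if x ∈ A then 8 else 0 := by
      intro x
      rw [Finset.sum_congr rfl (fun (a : A) _ => hmul x a a.2), ← mul_sum, hrow]
      split
      · next hx => simp [σ, hA2 x hx]
      · rw [mul_zero]
    rw [Finset.sum_congr rfl (fun x _ => h2 x), sum_ite, sum_const_zero, add_zero, sum_const,
      nsmul_eq_mul] at h1
    have hfA : (univ.filter fun x : E => x ∈ A).card = 8 := by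
      rw [← Fintype.card_subtype, ← Nat.card_eq_fintype_card]; exact hA8
    rw [hfA] at h1
    push_cast at h1
    omega
  have hcount : (H31.Extra2.invCount E : ℤ) * 2 - 32 = ∑ x : E, σ x := by
    have hN : H31.Extra2.invCount E = (univ.filter fun x : E => x * x = 1).card := by
      rw [H31.Extra2.invCount, ← Fintype.card_subtype, ← Nat.card_eq_fintype_card]
      simp only [pow_two]
    have h32' : Fintype.card E = 32 := by rw [← Nat.card_eq_fintype_card, h32]
    have hsplit := Finset.card_filter_add_card_filter_not (s := (univ : Finset E)) (fun x => x * x = 1)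
    rw [card_univ, h32'] at hsplit
    simp only [σ]
    rw [sum_ite, sum_const, sum_const, hN, nsmul_eq_mul, nsmul_eq_mul]
    push_cast
    omega
  omega

end Extraspecial

end H70.J2Ord
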