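import Cfsg.Agent.H70.JankoTwoOrder

/-! Thompson order formula for the Hall–Janko involution pattern. -/

set_option autoImplicit false

namespace H70.J2Ord

open Subgroup

universe u

variable {G : Type u} [Group G] [Finite G]

theorem mem_cent {x y : G} : y ∈ centralizer ({x} : Set G) ↔ y * x = x * y :=
  mem_centralizer_singleton_iff

theorem conj_commute {a b : G} (g : G) (h : a * b = b * a) :
    g * a * g⁻¹ * (g * b * g⁻¹) = g * b * g⁻¹ * (g * a * g⁻¹) := by
  rw [show g * a * g⁻¹ * (g * b * g⁻¹) = g * (a * b) * g⁻¹ by group, h]; group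

theorem isConj_conj (a g : G) : IsConj a (g * a * g⁻¹) := isConj_iff.2 ⟨g, rfl⟩

/-- Counting commuting pairs from two classes by the first entry. -/
theorem card_pairs (x y : G) :
    Nat.card {p : G × G // IsConj x p.1 ∧ IsConj y p.2 ∧ p.1 * p.2 = p.2 * p.1} =
      Nat.card {a : G // IsConj x a} * Nat.card {b : G // IsConj y b ∧ x * b = b * x} := by
  classical
  rw [← Nat.card_prod]
  have hg : ∀ a : {a : G // IsConj x a}, ∃ g : G, g * x * g⁻¹ = a.1 := fun a => isConj_iff.1 a.2
  choose g hg using hg
  refine Nat.card_congr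
    { toFun := fun p => (⟨p.1.1, p.2.1⟩, ⟨(g ⟨p.1.1, p.2.1⟩)⁻¹ * p.1.2 * (g ⟨p.1.1, p.2.1⟩),
        ?_, ?_⟩)
      invFun := fun q => ⟨(q.1.1, g q.1 * q.2.1 * (g q.1)⁻¹), q.1.2, ?_, ?_⟩
      left_inv := fun p => ?_
      right_inv := fun q => ?_ }
  · exact p.2.2.1.trans (isConj_iff.2 ⟨(g ⟨p.1.1, p.2.1⟩)⁻¹, by group⟩)
  · have := conj_commute (g ⟨p.1.1, p.2.1⟩)⁻¹ p.2.2.2
    have aux : ∀ γ a : G, γ * x * γ⁻¹ = a → γ⁻¹ * a * γ⁻¹⁻¹ = x := by
      rintro γ a rfl
      group
    have hx := aux _ _ (hg ⟨p.1.1, p.2.1⟩)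
    rw [hx, inv_inv] at this
    exact this
  · exact q.2.2.1.trans (isConj_conj _ _)
  · have := conj_commute (g q.1) q.2.2.2
    rw [hg q.1] at this
    exact this
  · refine Subtype.ext (Prod.ext rfl ?_)
    simp only
    group
  · refine Prod.ext rfl (Subtype.ext ?_)
    simp only
    group

theorem card_pairs_symm (x y : G) :
    Nat.card {p : G × G // IsConj x p.1 ∧ IsConj y p.2 ∧ p.1 * p.2 = p.2 * p.1} =
      Nat.card {p : G × G // IsConj y p.1 ∧ IsConj x p.2 ∧ p.1 * p.2 = p.2 * p.1} :=
  Nat.card_congr ((Equiv.prodComm G G).subtypeEquiv fun p =>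
    ⟨fun h => ⟨h.2.1, h.1, h.2.2.symm⟩, fun h => ⟨h.2.1, h.1, h.2.2.symm⟩⟩)

theorem order_eq (z t : G) (hz : orderOf z = 2) (ht : orderOf t = 2) (hzt : ¬ IsConj z t)
    (hcl : ∀ x : G, orderOf x = 2 → IsConj z x ∨ IsConj t x)
    (Q : Subgroup G) (hQH : Q ≤ centralizer ({z} : Set G)) (hzQ : z ∈ Q)
    (hQe : Cfsg.IsExtraspecial 2 ↥Q) (hQ : Nat.card ↥Q = 32)
    (hQn : ∀ h ∈ centralizer ({z} : Set G), ∀ q ∈ Q, h * q * h⁻¹ ∈ Q)
    (hCQ : ∀ h ∈ centralizer ({z} : Set G), (∀ q ∈ Q, h * q = q * h) → h ∈ Q)
    (hH : Nat.card ↥(centralizer ({z} : Set G)) = 1920)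
    (hQz : ∀ x ∈ Q, orderOf x = 2 → IsConj z x)
    (hCz : ∀ x ∈ centralizer ({z} : Set G), orderOf x = 2 → x ∉ Q → IsConj t x)
    (V B : Subgroup G) (hVB : Cfsg.IsInternalDirectProduct V B (centralizer ({t} : Set G)))
    (hV : Nat.card ↥V = 4) (hV2 : ∀ v ∈ V, v ^ 2 = 1) (htV : t ∈ V) (e : ↥B ≃* A5)
    (hBz : ∀ x ∈ B, orderOf x = 2 → IsConj z x)
    (hCt : ∀ x ∈ centralizer ({t} : Set G), orderOf x = 2 → x ∉ B → IsConj t x) :
    Nat.card G = 604800 := by
  classical
  haveI := Fintype.ofFinite G
  obtain ⟨hVC, hBC, hcomm, hdisj, hsup⟩ := hVB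
  have hzx : ∀ {x : G}, x ∈ centralizer ({z} : Set G) → x * z = z * x := fun h => mem_cent.1 h
  have hord : ∀ {x y : G}, IsConj x y → orderOf x = 2 → orderOf y = 2 := by
    intro x y hxy hx
    obtain ⟨g, rfl⟩ := isConj_iff.1 hxy
    exact (orderOf_injective (MulAut.conj g).toMonoidHom (MulAut.conj g).injective x).trans hx
  have hzB : ∀ x, (IsConj z x ∧ x ∈ centralizer ({t} : Set G)) ↔ (x ∈ B ∧ orderOf x = 2) := by
    intro x
    refine ⟨fun ⟨h1, h2⟩ => ⟨?_, hord h1 hz⟩, fun ⟨h1, h2⟩ => ⟨hBz x h1 h2, hBC h1⟩⟩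
    by_contra h
    exact hzt (h1.trans (hCt x h2 (hord h1 hz) h).symm)
  have hzQiff : ∀ x, (IsConj z x ∧ x ∈ centralizer ({z} : Set G)) ↔ (x ∈ Q ∧ orderOf x = 2) := by
    intro x
    refine ⟨fun ⟨h1, h2⟩ => ⟨?_, hord h1 hz⟩, fun ⟨h1, h2⟩ => ⟨hQz x h1 h2, hQH h1⟩⟩
    by_contra h
    exact hzt (h1.trans (hCz x h2 (hord h1 hz) h).symm)
  -- the order of `C(t)`
  have hcm : ∀ (a : ↥V) (b : ↥B), Commute (V.subtype a) (B.subtype b) :=
    fun a b => hcomm a a.2 b b.2
  have hCtcard : Nat.card ↥(centralizer ({t} : Set G)) = 240 := by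
    let f : ↥V × ↥B →* G := MonoidHom.noncommCoprod V.subtype B.subtype hcm
    have hf : f.range = centralizer ({t} : Set G) := by
      show (MonoidHom.noncommCoprod V.subtype B.subtype hcm).range = _
      rw [MonoidHom.noncommCoprod_range, range_subtype, range_subtype, hsup]
    have hinj : Function.Injective f := by
      rw [← MonoidHom.ker_eq_bot_iff, eq_bot_iff]
      rintro ⟨a, b⟩ h
      have h' : (a : G) * b = 1 := h
      have ha : (a : G) ∈ V ⊓ B := mem_inf.2 ⟨a.2, by rw [eq_inv_of_mul_eq_one_left h']; exact inv_mem b.2⟩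
      rw [hdisj, mem_bot] at ha
      rw [ha, one_mul] at h'
      exact Subgroup.mem_bot.2 (Prod.ext (Subtype.ext ha) (Subtype.ext h'))
    rw [← hf, ← Nat.card_congr (MonoidHom.ofInjective hinj).toEquiv, Nat.card_prod, hV,
      Nat.card_congr e.toEquiv, Nat.card_eq_fintype_card]
    rfl
  have hSz : Nat.card {x : G // IsConj z x ∧ t * x = x * t} = 15 := by
    rw [← card_invol_B e]
    exact Nat.card_congr (Equiv.subtypeEquivRight fun x => by
      rw [← hzB x, mem_cent, eq_comm (a := t * x)])
  -- commuting pairs give 120 involutions of `C(z)` outside `Q`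
  have hSt : Nat.card {x : G // IsConj t x ∧ z * x = x * z} = 120 := by
    have h1 := card_pairs_symm z t
    rw [card_pairs, card_pairs, hSz] at h1
    have e1 := H65.card_conjugates_mul z
    have e2 := H65.card_conjugates_mul t
    rw [hH] at e1
    rw [hCtcard] at e2
    have hpos : 0 < Nat.card {y : G // IsConj z y} :=
      haveI : Nonempty {y : G // IsConj z y} := ⟨⟨z, IsConj.refl z⟩⟩
      Nat.card_pos
    nlinarith
  -- the centre of `Q`
  obtain ⟨z', hz'c, hz'1, -, hz'⟩ := H31.Extra2.center_data hQe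
  have hz1 : z ≠ 1 := (invol_iff.1 hz).2
  have hzc : (⟨z, hzQ⟩ : ↥Q) ∈ center ↥Q :=
    mem_center_iff.2 fun q => Subtype.ext (hzx (hQH q.2))
  have hzc' : ∀ w ∈ center ↥Q, (w : G) = 1 ∨ (w : G) = z := by
    intro w hw
    have hzz' : (⟨z, hzQ⟩ : ↥Q) = z' :=
      (hz' _ hzc).resolve_left (fun h => hz1 (congrArg Subtype.val h))
    rcases hz' w hw with h | h
    · left; rw [h]; rfl
    · right; rw [h, ← hzz']
  -- ten non-central involutions in `Q`
  let M := {u : G // u ∈ Q ∧ orderOf u = 2 ∧ u ≠ z}
  have hinv : H31.Extra2.invCount ↥Q = Nat.card M + 2 := by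
    rw [H31.Extra2.invCount]
    have hsplit : (Finset.univ.filter fun x : G => x ∈ Q ∧ x ^ 2 = 1) =
        insert 1 (insert z (Finset.univ.filter fun u : G => u ∈ Q ∧ orderOf u = 2 ∧ u ≠ z)) := by
      ext x
      simp only [Finset.mem_filter, Finset.mem_univ, true_and, Finset.mem_insert, invol_iff]
      constructor
      · rintro ⟨h1, h2⟩
        by_cases hx1 : x = 1
        · exact Or.inl hx1
        · by_cases hxz : x = z
          · exact Or.inr (Or.inl hxz)
          · exact Or.inr (Or.inr ⟨h1, ⟨h2, hx1⟩, hxz⟩)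
      · rintro (rfl | rfl | ⟨h1, ⟨h2, -⟩, -⟩)
        · exact ⟨one_mem Q, one_pow 2⟩
        · exact ⟨hzQ, (invol_iff.1 hz).1⟩
        · exact ⟨h1, h2⟩
    calc Nat.card {x : ↥Q // x ^ 2 = 1} = Nat.card {x : G // x ∈ Q ∧ x ^ 2 = 1} :=
          Nat.card_congr (((Equiv.refl ↥Q).subtypeEquiv (fun x => by simp [Subtype.ext_iff])).trans
            (Equiv.subtypeSubtypeEquivSubtypeInter (fun x => x ∈ Q) (fun x => x ^ 2 = 1)))
      _ = Nat.card M + 2 := by
          rw [Nat.card_eq_fintype_card, Fintype.card_subtype, hsplit, Finset.card_insert_of_notMem,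
            Finset.card_insert_of_notMem, ← Fintype.card_subtype, ← Nat.card_eq_fintype_card]
          · simp
          · simp only [Finset.mem_insert, Finset.mem_filter, invol_iff, not_or]
            exact ⟨hz1.symm, fun h => h.2.2.1.2 rfl⟩
  have hM : Nat.card M = 10 := by
    rcases H31.Extra2.count_values 1 hQe (by rw [hQ]; norm_num) with h | h
    · exfalso
      rw [hinv] at h
      norm_num [-Nat.card_eq_fintype_card] at h
      haveI : Fact (Nat.Prime 5) := ⟨by norm_num⟩
      obtain ⟨⟨f, hf⟩, hfo⟩ := exists_prime_orderOf_dvd_card' (G := ↥(centralizer ({z} : Set G))) 5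
        (by rw [hH]; norm_num)
      rw [Subgroup.orderOf_mk] at hfo
      have hf5 : f ^ 5 = 1 := hfo ▸ pow_orderOf_eq_one f
      have hconjQ : ∀ x, f * x * f⁻¹ ∈ Q ↔ x ∈ Q := by
        intro x
        refine ⟨fun hx => ?_, hQn f hf x⟩
        have := hQn f⁻¹ (inv_mem hf) _ hx
        rwa [show f⁻¹ * (f * x * f⁻¹) * f⁻¹⁻¹ = x by group] at this
      have hfz : f * z * f⁻¹ = z := by rw [hzx hf, mul_inv_cancel_right]
      have hpow : ∀ (S : G → Prop) (σ : Equiv.Perm (Subtype S)),
          (∀ x, (σ x : G) = f * x * f⁻¹) → σ ^ 5 ^ 1 = 1 := by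
        intro S σ hσ
        ext x
        have : ∀ n, (((σ ^ n) x : Subtype S) : G) = f ^ n * x * (f ^ n)⁻¹ := by
          intro n
          induction n with
          | zero => simp
          | succ n ih => rw [pow_succ', Equiv.Perm.mul_apply, hσ, ih, pow_succ']; group
        rw [this, pow_one, hf5]; simp
      let σM : Equiv.Perm M := (MulAut.conj f).toEquiv.subtypeEquiv fun u => by
        simp only [MulEquiv.toEquiv_eq_coe, MulEquiv.coe_toEquiv, MulAut.conj_apply, hconjQ]
        have h1 : orderOf (f * u * f⁻¹) = orderOf u :=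
          orderOf_injective (MulAut.conj f).toMonoidHom (MulAut.conj f).injective u
        have h2 : f * u * f⁻¹ ≠ z ↔ u ≠ z := by
          conv_lhs => rw [← hfz]
          simp
        rw [h1, h2]
      obtain ⟨⟨b, hbQ, hb2, hbz⟩, hfix⟩ := Equiv.Perm.exists_fixed_point_of_prime (p := 5)
        (by rw [← Nat.card_eq_fintype_card, show Nat.card M = 18 by omega]; norm_num)
        (hpow _ σM fun x => rfl)
      have hfb : f * b = b * f := mul_inv_eq_iff_eq_mul.1 (congrArg Subtype.val hfix)
      let C := Q ⊓ centralizer ({f} : Set G)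
      have hCc : Nat.card C = 32 := by
        have hdvd : Nat.card C ∣ 32 := hQ ▸ card_dvd_of_le inf_le_left
        have h3 : 3 ≤ Nat.card C := by
          let g : Fin 3 → C := ![1, ⟨z, hzQ, mem_cent.2 (hzx hf).symm⟩, ⟨b, hbQ, mem_cent.2 hfb.symm⟩]
          have := Nat.card_le_card_of_injective g (by
            have b1 : b ≠ 1 := (invol_iff.1 hb2).2
            intro i j hij
            fin_cases i <;> fin_cases j <;>
              first
              | rfl
              | (have h' := congrArg Subtype.val hij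
                 simp [g] at h'
                 first
                 | exact absurd h' hz1
                 | exact absurd h'.symm hz1
                 | exact absurd h' hbz
                 | exact absurd h'.symm hbz
                 | exact absurd h' b1
                 | exact absurd h'.symm b1))
          simpa using this
        let S : G → Prop := fun x => x ∈ Q ∧ x ∉ centralizer ({f} : Set G)
        let σS : Equiv.Perm (Subtype S) := (MulAut.conj f).toEquiv.subtypeEquiv fun x => by
          simp only [S, MulEquiv.toEquiv_eq_coe, MulEquiv.coe_toEquiv, MulAut.conj_apply, hconjQ,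
            mem_cent]
          refine and_congr_right fun _ => not_congr ⟨fun h => ?_, fun h => ?_⟩
          · rw [show f * x * f⁻¹ = x by rw [← h, mul_inv_cancel_right]]
            exact h
          · rw [inv_mul_cancel_right] at h
            refine mul_left_cancel (a := f) ?_
            calc f * (x * f) = f * x * f := (mul_assoc _ _ _).symm
              _ = f * (f * x * f⁻¹) * f := congrArg (· * f) h
              _ = f * (f * x) := by group
        by_contra h32
        have hcard : Nat.card (Subtype S) + Nat.card C = 32 := by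
          rw [← hQ, show Nat.card C = Nat.card {x : G // x ∈ Q ∧ x ∈ centralizer ({f} : Set G)} from rfl,
            show Nat.card (Subtype S) = Nat.card {x : G // x ∈ Q ∧ x ∉ centralizer ({f} : Set G)} from rfl,
            Nat.card_eq_fintype_card, Nat.card_eq_fintype_card, Nat.card_eq_fintype_card,
            Fintype.card_subtype, Fintype.card_subtype, Fintype.card_subtype, add_comm,
            ← Finset.filter_filter, ← Finset.filter_filter,
            Finset.card_filter_add_card_filter_not]
        obtain ⟨⟨x, hxQ, hxf⟩, hx⟩ := Equiv.Perm.exists_fixed_point_of_prime (p := 5) (α := Subtype S)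
          (by
            rw [← Nat.card_eq_fintype_card]
            have := Nat.le_of_dvd (by norm_num) hdvd
            interval_cases hN : Nat.card C <;> omega)
          (hpow _ σS fun x => rfl)
        exact hxf (mem_cent.2 (mul_inv_eq_iff_eq_mul.1 (congrArg Subtype.val hx)).symm)
      have hall : ∀ q ∈ Q, f * q = q * f := by
        intro q hq
        have hCQ' : C = Q := eq_of_le_of_card_ge inf_le_left (by rw [hCc, hQ])
        exact (mem_cent.1 (hCQ' ▸ hq : q ∈ C).2).symm
      have hfQ := hCQ f hf hall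
      have := Subgroup.orderOf_dvd_natCard Q hfQ
      rw [hfo, hQ] at this
      norm_num at this
    · rw [hinv] at h
      norm_num [-Nat.card_eq_fintype_card] at h
      omega
  -- every involution of `C(z)` outside `Q` commutes with exactly two of them
  have hvN : ∀ v, IsConj t v → z * v = v * z →
      Nat.card {u : G // (u ∈ Q ∧ orderOf u = 2 ∧ u ≠ z) ∧ u * v = v * u} = 2 := by
    intro v hv hzv
    obtain ⟨g, rfl⟩ := isConj_iff.1 hv
    have hwB : g⁻¹ * z * g ∈ B ∧ orderOf (g⁻¹ * z * g) = 2 := (hzB _).1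
      ⟨isConj_iff.2 ⟨g⁻¹, by group⟩, mem_cent.2 (by
        have := conj_commute g⁻¹ hzv
        rwa [show g⁻¹ * (g * t * g⁻¹) * g⁻¹⁻¹ = t by group, inv_inv] at this)⟩
    refine Eq.trans ?_ (card_comm_B e hwB.2 hwB.1)
    refine Nat.card_congr ((MulAut.conj g⁻¹).toEquiv.subtypeEquiv fun u => ?_)
    simp only [MulEquiv.toEquiv_eq_coe, MulEquiv.coe_toEquiv, MulAut.conj_apply, inv_inv]
    constructor
    · rintro ⟨⟨hQu, hu2, huz⟩, huv⟩
      have hB := (hzB (g⁻¹ * u * g)).1 ⟨(hQz u hQu hu2).trans (isConj_iff.2 ⟨g⁻¹, by group⟩),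
        mem_cent.2 (by
          have := conj_commute g⁻¹ huv
          rwa [show g⁻¹ * (g * t * g⁻¹) * g⁻¹⁻¹ = t by group, inv_inv] at this)⟩
      refine ⟨hB.1, hB.2, fun h => huz (by simpa using h), ?_⟩
      have := conj_commute g⁻¹ (hzx (hQH hQu)).symm
      rwa [inv_inv] at this
    · rintro ⟨huB, hu2, huw, hcw⟩
      have hzu := (hzB (g⁻¹ * u * g)).2 ⟨huB, hu2⟩
      have huC : u ∈ centralizer ({z} : Set G) := mem_cent.2 (by
        have := conj_commute g hcw
        rwa [show g * (g⁻¹ * z * g) * g⁻¹ = z by group,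
          show g * (g⁻¹ * u * g) * g⁻¹ = u by group, eq_comm] at this)
      have hQ' := (hzQiff u).1 ⟨hzu.1.trans (isConj_iff.2 ⟨g, by group⟩), huC⟩
      refine ⟨⟨hQ'.1, hQ'.2, fun h => huw (by rw [h])⟩, ?_⟩
      have := conj_commute g (mem_cent.1 hzu.2)
      rwa [show g * (g⁻¹ * u * g) * g⁻¹ = u by group] at this
  -- the pairs over `z`
  have haz : Nat.card (H65.OrderPairs z t z) = 960 := by
    have key : ∀ v, IsConj t v → z * v = v * z → ∀ u, u ∈ Q → orderOf u = 2 → u ≠ z →
        u * v ≠ v * u → z ∈ zpowers (u * v) := by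
      intro v hv hzv u hu hu2 huz hne
      have hv2 := hord hv ht
      have hvv : v * v = 1 := by rw [← pow_two]; exact (invol_iff.1 hv2).1
      have huu : u * u = 1 := by rw [← pow_two]; exact (invol_iff.1 hu2).1
      have hvi : v⁻¹ = v := inv_eq_of_mul_eq_one_right hvv
      have hu' : v * u * v ∈ Q := by
        have := hQn v (mem_cent.2 hzv.symm) u hu
        rwa [hvi] at this
      have hu'2 : v * u * v * (v * u * v) = 1 := by
        rw [show v * u * v * (v * u * v) = v * u * (v * v) * u * v by group, hvv, mul_one,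
          mul_assoc (v * u) u, ← mul_assoc, mul_assoc v u u, huu, mul_one, hvv]
      have hne1 : u * (v * u * v) ≠ 1 := by
        intro h
        apply hne
        have h' : v * u * v = u := by
          rw [eq_inv_of_mul_eq_one_right h, inv_eq_of_mul_eq_one_right huu]
        conv_lhs => rw [← h']
        rw [mul_assoc (v * u), hvv, mul_one]
      have hsq : u * (v * u * v) = (u * v) ^ 2 := by rw [pow_two]; group
      by_cases hwz : u * (v * u * v) = z
      · exact mem_zpowers_iff.2 ⟨2, by rw [← hwz, hsq]; exact_mod_cast rfl⟩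
      by_cases hc : u * (v * u * v) = v * u * v * u
      · exfalso
        have h20 := invCount_of_four hQe hQ (u := ⟨u, hu⟩) (w := ⟨_, hu'⟩)
          (Subtype.ext (by simp [pow_two, huu])) (Subtype.ext (by simpa [pow_two] using hu'2))
          (Subtype.ext hc)
          (fun h => (hzc' _ h).elim (invol_iff.1 hu2).2 huz)
          (fun h => by
            rcases hzc' _ h with h' | h'
            · simp only at h'
              apply (invol_iff.1 hu2).2
              rw [show u = v * (v * u * v) * v by
                rw [show v * (v * u * v) * v = v * v * u * (v * v) by group, hvv, one_mul, mul_one],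
                h', mul_one, hvv]
            · simp only at h'
              apply huz
              rw [show u = v * (v * u * v) * v by
                rw [show v * (v * u * v) * v = v * v * u * (v * v) by group, hvv, one_mul, mul_one],
                h', ← hzv, mul_assoc, hvv, mul_one])
          (fun h => (hzc' _ h).elim hne1 hwz)
        rw [hinv, hM] at h20
        norm_num at h20
      · have hcm : u * (v * u * v) = z * (v * u * v * u) := by
          have h := H6.extraspecial_commutator_mem_center hQe (⟨u, hu⟩ : ↥Q) ⟨_, hu'⟩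
          rcases hzc' _ h with h' | h'
          · exfalso; apply hc
            simp only [commutatorElement_def, Subgroup.coe_mul, Subgroup.coe_inv] at h'
            exact mul_inv_eq_one.1 (by rw [mul_inv_rev, ← mul_assoc]; exact h')
          · simp only [commutatorElement_def, Subgroup.coe_mul, Subgroup.coe_inv] at h'
            rw [← h']; group
        refine mem_zpowers_iff.2 ⟨4, ?_⟩
        have e4 : (u * v) ^ (4 : ℤ) = u * (v * u * v) * (u * (v * u * v)) := by
          rw [show (4 : ℤ) = ((4 : ℕ) : ℤ) from rfl, zpow_natCast, show (4 : ℕ) = 2 * 2 from rfl,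
            pow_mul, ← hsq, pow_two]
        rw [e4]
        nth_rewrite 1 [hcm]
        rw [show z * (v * u * v * u) * (u * (v * u * v)) = z * (v * u * v * (u * u) * (v * u * v)) by
          group, huu, mul_one, hu'2, mul_one]
    have e : H65.OrderPairs z t z ≃ Σ v : {v : G // IsConj t v ∧ z * v = v * z},
        {u : G // (u ∈ Q ∧ orderOf u = 2 ∧ u ≠ z) ∧ ¬ u * v.1 = v.1 * u} := by
      refine (Equiv.subtypeEquivRight (q := fun p : G × G => (IsConj t p.2 ∧ z * p.2 = p.2 * z) ∧
        (p.1 ∈ Q ∧ orderOf p.1 = 2 ∧ p.1 ≠ z) ∧ ¬ p.1 * p.2 = p.2 * p.1) ?_).trans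
        { toFun := fun p => ⟨⟨p.1.2, p.2.1⟩, p.1.1, p.2.2⟩
          invFun := fun s => ⟨(s.2.1, s.1.1), s.1.2, s.2.2⟩
          left_inv := fun p => rfl
          right_inv := fun s => rfl }
      rintro ⟨u, v⟩
      constructor
      · rintro ⟨hu, hv, hpow⟩
        obtain ⟨n, hn⟩ := mem_zpowers_iff.1 hpow
        simp only at hu hv hn ⊢
        have hu2 := hord hu hz
        have hv2 := hord hv ht
        have hvi : v⁻¹ = v := inv_eq_of_mul_eq_one_right (by rw [← pow_two]; exact (invol_iff.1 hv2).1)
        have hui : u⁻¹ = u := inv_eq_of_mul_eq_one_right (by rw [← pow_two]; exact (invol_iff.1 hu2).1)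
        have hzi : z⁻¹ = z := inv_eq_of_mul_eq_one_right (by rw [← pow_two]; exact (invol_iff.1 hz).1)
        have hzu : u * z * u⁻¹ = z := by
          have hinv' : u * (u * v) * u⁻¹ = (u * v)⁻¹ := by
            rw [mul_inv_rev, ← mul_assoc, show u * u = 1 by rw [← pow_two]; exact (invol_iff.1 hu2).1,
              one_mul, hvi]
          rw [← hn, ← conj_zpow, hinv', inv_zpow, hn, hzi]
        have hCu : u ∈ centralizer ({z} : Set G) := mem_cent.2 (mul_inv_eq_iff_eq_mul.1 hzu)
        have hCuv : u * v ∈ centralizer ({z} : Set G) := mem_cent.2 (by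
          rw [← hn]; exact (Commute.zpow_right (Commute.refl _) n).eq)
        have hCv : v ∈ centralizer ({z} : Set G) := by
          have := mul_mem (inv_mem hCu) hCuv
          rwa [inv_mul_cancel_left] at this
        have hQu := (hzQiff u).1 ⟨hu, hCu⟩
        have hvQ : v ∉ Q := fun h => hzt ((hQz v h hv2).trans hv.symm)
        have hnot : ¬ u * v = v * u := by
          intro hc
          have h2 : (u * v) ^ (2 : ℤ) = 1 := by
            rw [zpow_two]
            calc u * v * (u * v) = u * v * (v * u) := by rw [← hc]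
              _ = u * (v * v) * u := by group
              _ = 1 := by rw [← pow_two, (invol_iff.1 hv2).1, mul_one, ← pow_two, (invol_iff.1 hu2).1]
          have hz' : z = 1 ∨ z = u * v := by
            rcases Int.emod_two_eq_zero_or_one n with hh | hh
            · left; rw [← hn, ← Int.emod_add_mul_ediv n 2, hh, zero_add, zpow_mul, h2, one_zpow]
            · right; rw [← hn, ← Int.emod_add_mul_ediv n 2, hh, zpow_add, zpow_mul, h2, one_zpow,
                zpow_one, mul_one]
          rcases hz' with h | h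
          · exact hz1 h
          · apply hvQ
            rw [show v = u⁻¹ * z by rw [h, inv_mul_cancel_left]]
            exact mul_mem (inv_mem hQu.1) hzQ
        exact ⟨⟨hv, (hzx hCv).symm⟩, ⟨hQu.1, hQu.2, fun h => hnot (by rw [h]; exact (hzx hCv).symm)⟩,
          hnot⟩
      · rintro ⟨⟨hv, hzv⟩, ⟨hu, hu2, huz⟩, hne⟩
        exact ⟨hQz _ hu hu2, hv, key _ hv hzv _ hu hu2 huz hne⟩
    rw [Nat.card_congr e, Nat.card_sigma, Finset.sum_congr rfl (g := fun _ => 8) (fun v _ => ?_),
      Finset.sum_const, Finset.card_univ, ← Nat.card_eq_fintype_card, hSt, smul_eq_mul]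
    have h1 := hvN v.1 v.2.1 v.2.2
    have h2 := hM
    rw [Nat.card_eq_fintype_card, Fintype.card_subtype] at h1 h2 ⊢
    rw [← Finset.filter_filter] at h1 ⊢
    have := Finset.card_filter_add_card_filter_not
      (s := Finset.univ.filter fun u : G => u ∈ Q ∧ orderOf u = 2 ∧ u ≠ z) (fun u => u * v.1 = v.1 * u)
    omega
  -- the pairs over `t`
  have hat : Nat.card (H65.OrderPairs z t t) = 195 := by
    have htt : t * t = 1 := by rw [← pow_two]; exact (invol_iff.1 ht).1
    have e' : H65.OrderPairs z t t ≃ Σ u : {u : G // u ∈ B ∧ orderOf u = 2},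
        {b : G // b ∈ B ∧ (b ^ 2 = 1 ∧ (u.1 * b) ^ 15 = 1)} := by
      refine (Equiv.subtypeEquiv ((Equiv.refl G).prodCongr (Equiv.mulLeft t))
        (q := fun p : G × G => (p.1 ∈ B ∧ orderOf p.1 = 2) ∧ p.2 ∈ B ∧
          (p.2 ^ 2 = 1 ∧ (p.1 * p.2) ^ 15 = 1)) ?_).trans
        { toFun := fun p => ⟨⟨p.1.1, p.2.1⟩, p.1.2, p.2.2⟩
          invFun := fun s => ⟨(s.1.1, s.2.1), s.1.2, s.2.2⟩
          left_inv := fun p => rfl
          right_inv := fun s => rfl }
      rintro ⟨u, v⟩
      simp only [Equiv.prodCongr_apply, Prod.map_apply, Equiv.refl_apply, Equiv.coe_mulLeft]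
      constructor
      · rintro ⟨hu, hv, hpow⟩
        obtain ⟨n, hn⟩ := mem_zpowers_iff.1 hpow
        have hu2 := hord hu hz
        have hv2 := hord hv ht
        have hvi : v⁻¹ = v := inv_eq_of_mul_eq_one_right (by rw [← pow_two]; exact (invol_iff.1 hv2).1)
        have hui : u⁻¹ = u := inv_eq_of_mul_eq_one_right (by rw [← pow_two]; exact (invol_iff.1 hu2).1)
        have hti : t⁻¹ = t := inv_eq_of_mul_eq_one_right htt
        have htu : u * t * u⁻¹ = t := by
          have hinv' : u * (u * v) * u⁻¹ = (u * v)⁻¹ := by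
            rw [mul_inv_rev, ← mul_assoc, show u * u = 1 by rw [← pow_two]; exact (invol_iff.1 hu2).1,
              one_mul, hvi]
          rw [← hn, ← conj_zpow, hinv', inv_zpow, hn, hti]
        have hCu : u ∈ centralizer ({t} : Set G) := mem_cent.2 (mul_inv_eq_iff_eq_mul.1 htu)
        have hCuv : u * v ∈ centralizer ({t} : Set G) := mem_cent.2 (by
          rw [← hn]; exact (Commute.zpow_right (Commute.refl _) n).eq)
        have hCv : v ∈ centralizer ({t} : Set G) := by
          have := mul_mem (inv_mem hCu) hCuv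
          rwa [inv_mul_cancel_left] at this
        have hBu := (hzB u).1 ⟨hu, hCu⟩
        rw [← hsup] at hCv
        obtain ⟨a, ha, b, hb, hab⟩ : ∃ a ∈ V, ∃ b ∈ B, a * b = v := by
          have hle : V ⊔ B ≤ (MonoidHom.noncommCoprod V.subtype B.subtype hcm).range := by
            rw [MonoidHom.noncommCoprod_range, range_subtype, range_subtype]
          obtain ⟨⟨a, b⟩, h⟩ := hle hCv
          exact ⟨a, a.2, b, b.2, h⟩
        have hub : Commute a (u * b) := hcomm a ha (u * b) (mul_mem hBu.1 hb)
        have hsplit : u * v = a * (u * b) := by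
          rw [← hab, ← mul_assoc, ← hcomm a ha u hBu.1, mul_assoc]
        have ha2 : a ^ (2 : ℤ) = 1 := by exact_mod_cast hV2 a ha
        rw [hsplit, hub.mul_zpow] at hn
        have hone : a ^ n = t ∧ (u * b) ^ n = 1 := by
          have hmem : (a ^ n)⁻¹ * t ∈ V ⊓ B := mem_inf.2 ⟨mul_mem (inv_mem (zpow_mem ha n)) htV, by
            rw [← hn, inv_mul_cancel_left]; exact zpow_mem (mul_mem hBu.1 hb) n⟩
          rw [hdisj, mem_bot, inv_mul_eq_one] at hmem
          exact ⟨hmem, by rwa [hmem, mul_eq_left] at hn⟩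
        rcases Int.emod_two_eq_zero_or_one n with hh | hh
        · exfalso
          apply (invol_iff.1 ht).2
          rw [← hone.1, ← Int.emod_add_mul_ediv n 2, hh, zero_add, zpow_mul, ha2, one_zpow]
        · have hat' : a = t := by
            rw [← hone.1, ← Int.emod_add_mul_ediv n 2, hh, zpow_add, zpow_mul, ha2, one_zpow,
              zpow_one, mul_one]
          rw [hat'] at hab
          have hbv : t * v = b := by rw [← hab, ← mul_assoc, htt, one_mul]
          rw [hbv]
          refine ⟨hBu, hb, ?_, ?_⟩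
          · have hv' : v ^ 2 = t ^ 2 * b ^ 2 := by
              rw [← hab]; exact (show Commute t b from hcomm t htV b hb).mul_pow 2
            rw [(invol_iff.1 hv2).1, pow_two t, htt, one_mul] at hv'
            exact hv'.symm
          · rcases a5_orders (e ⟨u * b, mul_mem hBu.1 hb⟩) with h | h
            · have h2' : (u * b) ^ 2 = 1 := (pow_iff e ⟨u * b, mul_mem hBu.1 hb⟩ 2).2 h
              have hu' : (u * b) ^ (2 : ℤ) = 1 := by exact_mod_cast h2'
              have h1 : u * b = 1 := by
                rw [← hone.2, ← Int.emod_add_mul_ediv n 2, hh, zpow_add, zpow_mul, hu', one_zpow,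
                  zpow_one, mul_one]
              rw [h1, one_pow]
            · exact (pow_iff e ⟨u * b, mul_mem hBu.1 hb⟩ 15).2 h
      · rintro ⟨⟨hu, hu2⟩, hb, hb2, hub⟩
        have hcomm' : Commute t (t * v) := hcomm t htV _ hb
        have hv : v = t * (t * v) := by rw [← mul_assoc, htt, one_mul]
        refine ⟨hBz u hu hu2, ?_, ?_⟩
        · have hCv : v ∈ centralizer ({t} : Set G) := by
            rw [hv]; exact mul_mem (hVC htV) (hBC hb)
          have hv2 : orderOf v = 2 := by
            refine invol_iff.2 ⟨by rw [hv, hcomm'.mul_pow, hb2, pow_two, htt, one_mul], fun h => ?_⟩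
            have : t ∈ V ⊓ B := ⟨htV, by simpa [h] using hb⟩
            rw [hdisj, mem_bot] at this
            exact (invol_iff.1 ht).2 this
          refine hCt v hCv hv2 fun hvB => ?_
          have : t ∈ V ⊓ B := ⟨htV, by simpa using mul_mem hb (inv_mem hvB)⟩
          rw [hdisj, mem_bot] at this
          exact (invol_iff.1 ht).2 this
        · refine mem_zpowers_iff.2 ⟨15, ?_⟩
          have huv : u * v = t * (u * (t * v)) := by
            conv_lhs => rw [hv]
            rw [← mul_assoc, ← hcomm t htV u hu, mul_assoc]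
          have hc : Commute t (u * (t * v)) := hcomm t htV _ (mul_mem hu hb)
          rw [show (15 : ℤ) = ((15 : ℕ) : ℤ) from rfl, zpow_natCast, huv, hc.mul_pow, hub, mul_one,
            show (15 : ℕ) = 2 * 7 + 1 from rfl, pow_succ, pow_mul, pow_two, htt, one_pow, one_mul]
    rw [Nat.card_congr e', Nat.card_sigma, Finset.sum_congr rfl (g := fun _ => 13)
      (fun u _ => card_odd_B e u.2.2 u.2.1), Finset.sum_const, Finset.card_univ,
      ← Nat.card_eq_fintype_card, card_invol_B e, smul_eq_mul]
  rw [H65.order_formula z t hz ht hzt hcl, haz, hat, hCtcard, hH]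

end H70.J2Ord
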