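import Cfsg.Agent.H65.SimpleTools

/-!
Small tools used for groups of order `5040`.
-/

set_option autoImplicit false
set_option linter.unusedSectionVars false

namespace H70

open Subgroup

variable {G : Type*} [Group G]

/-- A subgroup made of two cosets. -/
theorem exists_two_coset_subgroup (K : Subgroup G) (m : G) (hn : ∀ k ∈ K, m * k * m⁻¹ ∈ K)
    (hn' : ∀ k ∈ K, m⁻¹ * k * m ∈ K) (hm2 : m * m ∈ K) (hm : m ∉ K) :
    ∃ Q : Subgroup G, K ≤ Q ∧ m ∈ Q ∧ Nat.card Q = 2 * Nat.card K ∧
      ∀ g ∈ Q, g ∈ K ∨ ∃ k ∈ K, g = k * m := by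
  let Q : Subgroup G :=
    { carrier := {g | g ∈ K ∨ g * m⁻¹ ∈ K}
      one_mem' := Or.inl K.one_mem
      mul_mem' := by
        intro a b ha hb
        rcases ha with ha | ha <;> rcases hb with hb | hb
        · exact Or.inl (mul_mem ha hb)
        · refine Or.inr ?_
          rw [mul_assoc]
          exact mul_mem ha hb
        · refine Or.inr ?_
          rw [show a * b * m⁻¹ = a * m⁻¹ * (m * b * m⁻¹) by group]
          exact mul_mem ha (hn b hb)
        · refine Or.inl ?_
          rw [show a * b = a * m⁻¹ * (m * (b * m⁻¹) * m⁻¹) * (m * m) by group]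
          exact mul_mem (mul_mem ha (hn _ hb)) hm2
      inv_mem' := by
        intro a ha
        rcases ha with ha | ha
        · exact Or.inl (inv_mem ha)
        · refine Or.inr ?_
          rw [show a⁻¹ * m⁻¹ = m⁻¹ * (a * m⁻¹)⁻¹ * m * (m * m)⁻¹ by group]
          exact mul_mem (hn' _ (inv_mem ha)) (inv_mem hm2) }
  have hKQ : K ≤ Q := fun g hg => Or.inl hg
  have hmQ : m ∈ Q := Or.inr (by rw [mul_inv_cancel]; exact K.one_mem)
  have h2 : (K.subgroupOf Q).index = 2 := by
    rw [Subgroup.index_eq_two_iff]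
    refine ⟨⟨m, hmQ⟩, fun b => ?_⟩
    simp only [mem_subgroupOf, Subgroup.coe_mul]
    rcases b.2 with hb | hb
    · refine Or.inr ⟨hb, fun h => hm ?_⟩
      have h1 := mul_mem (inv_mem hb) h
      rwa [inv_mul_cancel_left] at h1
    · refine Or.inl ⟨?_, fun h => hm ?_⟩
      · rw [show (b : G) * m = (b : G) * m⁻¹ * (m * m) by group]
        exact mul_mem hb hm2
      · have h1 := mul_mem (inv_mem hb) h
        rwa [show ((b : G) * m⁻¹)⁻¹ * (b : G) = m by group] at h1
  refine ⟨Q, hKQ, hmQ, ?_, ?_⟩
  · have h1 := (K.subgroupOf Q).card_mul_index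
    rw [h2, Nat.card_congr (subgroupOfEquivOfLe hKQ).toEquiv] at h1
    omega
  · rintro g (hg | hg)
    · exact Or.inl hg
    · exact Or.inr ⟨_, hg, by group⟩

theorem card_lt_of_not_surjective {α β : Type*} [Finite β] (f : α → β) (hf : Function.Injective f)
    (hs : ¬ Function.Surjective f) : Nat.card α < Nat.card β := by
  classical
  haveI : Finite α := Finite.of_injective f hf
  have := Fintype.ofFinite α
  have := Fintype.ofFinite β
  rw [Nat.card_eq_fintype_card, Nat.card_eq_fintype_card]
  exact Fintype.card_lt_of_injective_not_surjective f hf hs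

variable [Finite G] {p : ℕ} [hp : Fact p.Prime]

/-- An element `g` with `g ^ p = 1` acts on the fixed cosets of an element commuting with it. -/
theorem fixedBy_modEq_both (H : Subgroup G) {g t : G} (hg : g ^ p = 1) (hgt : Commute g t) :
    Nat.card (MulAction.fixedBy (G ⧸ H) t) % p =
      Nat.card {c : G ⧸ H // t • c = c ∧ g • c = c} % p := by
  classical
  have := Fintype.ofFinite (G ⧸ H)
  let σ : Equiv.Perm (MulAction.fixedBy (G ⧸ H) t) :=
    (MulAction.toPermHom G (G ⧸ H) g).subtypePerm fun x => by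
      simp only [MulAction.mem_fixedBy, MulAction.toPermHom_apply, MulAction.toPerm_apply]
      rw [smul_smul, ← hgt.eq, mul_smul]
      exact (MulAction.injective g).eq_iff
  have hσ : σ ^ p ^ 1 = 1 := by
    apply Equiv.Perm.ext
    intro x
    apply Subtype.ext
    have hpow : ∀ n : ℕ, ((σ ^ n) x).1 = g ^ n • x.1 := by
      intro n
      induction n with
      | zero => simp
      | succ n ih =>
        rw [pow_succ', Equiv.Perm.mul_apply, pow_succ', mul_smul, ← ih]
        rfl
    rw [hpow, pow_one, hg, one_smul]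
    rfl
  have h1 : σ.supportᶜ.card % p = Fintype.card (MulAction.fixedBy (G ⧸ H) t) % p :=
    Equiv.Perm.card_compl_support_modEq (p := p) (n := 1) hσ
  rw [Nat.card_eq_fintype_card, ← h1]
  congr 1
  rw [Nat.card_eq_fintype_card, Fintype.card_subtype]
  refine Finset.card_bij (fun x _ => x.1) ?_ (fun a _ b _ h => Subtype.ext h) ?_
  · intro x hx
    simp only [Finset.mem_compl, Equiv.Perm.mem_support, not_not] at hx
    exact Finset.mem_filter.2 ⟨Finset.mem_univ _, x.2, congrArg Subtype.val hx⟩
  · intro c hc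
    obtain ⟨-, hct, hcg⟩ := Finset.mem_filter.1 hc
    refine ⟨⟨c, hct⟩, ?_, rfl⟩
    simp only [Finset.mem_compl, Equiv.Perm.mem_support, not_not]
    exact Subtype.ext hcg

/-- Cosets fixed by an element of order `p` are congruent to all cosets. -/
theorem fixedBy_modEq_index (H : Subgroup G) {g : G} (hg : g ^ p = 1) :
    H.index % p = Nat.card (MulAction.fixedBy (G ⧸ H) g) % p := by
  have h1 := fixedBy_modEq_both (p := p) H hg (Commute.one_right g)
  have e1 : Nat.card (MulAction.fixedBy (G ⧸ H) (1 : G)) = H.index :=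
    Nat.card_congr (Equiv.subtypeUnivEquiv fun z => by simp [MulAction.mem_fixedBy])
  have e2 : Nat.card {c : G ⧸ H // (1 : G) • c = c ∧ g • c = c} =
      Nat.card (MulAction.fixedBy (G ⧸ H) g) :=
    Nat.card_congr (Equiv.subtypeEquivRight fun c => by simp [MulAction.mem_fixedBy])
  rw [← e1, h1, e2]

/-- Conjugate elements fix equally many cosets. -/
theorem card_fixedBy_isConj (H : Subgroup G) {x y : G} (h : IsConj x y) :
    Nat.card (MulAction.fixedBy (G ⧸ H) x) = Nat.card (MulAction.fixedBy (G ⧸ H) y) := by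
  have e : ∀ q : G → Prop, Nat.card {g : G // IsConj x g ∧ q g} = Nat.card {g : G // IsConj y g ∧ q g} :=
    fun q => Nat.card_congr (Equiv.subtypeEquivRight fun g =>
      ⟨fun hg => ⟨h.symm.trans hg.1, hg.2⟩, fun hg => ⟨h.trans hg.1, hg.2⟩⟩)
  have e' : Nat.card {g : G // IsConj x g} = Nat.card {g : G // IsConj y g} :=
    Nat.card_congr (Equiv.subtypeEquivRight fun g => ⟨fun hg => h.symm.trans hg, fun hg => h.trans hg⟩)
  have h1 := H62.card_fixedBy_mul_card_class H x
  rw [e (fun g => g ∈ H), ← H62.card_fixedBy_mul_card_class H y, e'] at h1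
  haveI : Nonempty {g : G // IsConj y g} := ⟨⟨y, IsConj.refl y⟩⟩
  exact Nat.eq_of_mul_eq_mul_right Nat.card_pos h1

/-- Sylow's counting inside a subgroup containing the Sylow subgroup. -/
theorem sylow_count_in (P : Sylow p G) (H : Subgroup G) (hP : (P : Subgroup G) ≤ H) :
    ∃ k, Nat.card H = k * Nat.card (H ⊓ normalizer ((P : Subgroup G) : Set G) : Subgroup G) ∧
      k % p = 1 := by
  refine ⟨Nat.card (Sylow p H), ?_, H62.card_sylow_mod⟩
  have h1 := H62.card_normalizer_mul (P.subtype hP)
  have e : normalizer ((P.subtype hP : Subgroup H) : Set H) =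
      (H ⊓ normalizer ((P : Subgroup G) : Set G)).subgroupOf H := by
    rw [Sylow.coe_subtype]
    ext x
    simp only [mem_subgroupOf, mem_inf, x.2, true_and, mem_normalizer_iff, SetLike.mem_coe,
      Subgroup.coe_mul, Subgroup.coe_inv]
    refine ⟨fun h y => ?_, fun h y => h y⟩
    by_cases hy : y ∈ H
    · exact h ⟨y, hy⟩
    · have hyP : y ∉ (P : Subgroup G) := fun h' => hy (hP h')
      refine iff_of_false hyP fun h' => hy ?_
      have h2 := mul_mem (mul_mem (inv_mem x.2) (hP h')) x.2
      rwa [show (x : G)⁻¹ * ((x : G) * y * (x : G)⁻¹) * (x : G) = y by group] at h2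
  rw [e, Nat.card_congr (subgroupOfEquivOfLe inf_le_left).toEquiv] at h1
  rw [← h1, mul_comm]

/-- Subgroup form of Cauchy's theorem. -/
theorem exists_mem_orderOf (H : Subgroup G) (q : ℕ) (hq : q.Prime) (h : q ∣ Nat.card H) :
    ∃ g ∈ H, orderOf g = q := by
  haveI := Fact.mk hq
  obtain ⟨g, hg⟩ := exists_prime_orderOf_dvd_card' (G := H) q h
  exact ⟨g, g.2, by rw [orderOf_coe, hg]⟩

theorem ne_one_of_orderOf_prime {g : G} {q : ℕ} (hq : q.Prime) (h : orderOf g = q) : g ≠ 1 :=
  fun h1 => hq.ne_one (by rw [← h, h1, orderOf_one])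

/-- An element commuting with a generator of a subgroup of prime order centralises it. -/
theorem mem_centralizer_of_commute (P : Sylow p G) (hP : Nat.card (P : Subgroup G) = p) {x y : G}
    (hx : x ∈ P) (hx1 : x ≠ 1) (h : Commute x y) :
    y ∈ centralizer ((P : Subgroup G) : Set G) := by
  rw [mem_centralizer_iff]
  intro v hv
  rw [SetLike.mem_coe, ← (H65.sylow_eq_zpowers P hP hx hx1).1, mem_zpowers_iff] at hv
  obtain ⟨k, rfl⟩ := hv
  exact (h.zpow_left k).eq

theorem commute_of_mem_centralizer {S : Subgroup G} {x y : G} (hx : x ∈ S)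
    (hy : y ∈ centralizer (S : Set G)) : Commute x y :=
  mem_centralizer_iff.1 hy x hx

/-- Elements normalising `P` of order `p` with order prime to `p - 1` centralise it. -/
theorem mem_centralizer_of_coprime (P : Sylow p G) (hP : Nat.card (P : Subgroup G) = p) {y : G}
    (hy : y ∈ normalizer ((P : Subgroup G) : Set G)) (hcop : (orderOf y).Coprime (p - 1)) :
    y ∈ centralizer ((P : Subgroup G) : Set G) := by
  haveI : IsCyclic (P : Subgroup G) := isCyclic_of_prime_card hP
  set φ := (P : Subgroup G).normalizerMonoidHom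
  have h1 : orderOf (φ ⟨y, hy⟩) ∣ orderOf y := by
    have := orderOf_map_dvd φ ⟨y, hy⟩
    rwa [orderOf_mk] at this
  have h2 : orderOf (φ ⟨y, hy⟩) ∣ p - 1 := by
    have := orderOf_dvd_natCard (φ ⟨y, hy⟩)
    rwa [IsCyclic.card_mulAut, hP, Nat.totient_prime hp.out] at this
  have h3 : φ ⟨y, hy⟩ = 1 := orderOf_eq_one_iff.1 (Nat.eq_one_of_dvd_coprimes hcop h1 h2)
  have h4 : (⟨y, hy⟩ : normalizer ((P : Subgroup G) : Set G)) ∈ φ.ker := h3
  rw [normalizerMonoidHom_ker, mem_subgroupOf] at h4
  exact h4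

/-- An element of `N(P)` inducing a generator of `N(P)/C(P)`. -/
theorem exists_normalizer_generator (P : Sylow p G) (hP : Nat.card (P : Subgroup G) = p) {r : ℕ}
    (hr : r * Nat.card (centralizer ((P : Subgroup G) : Set G)) =
      Nat.card (normalizer ((P : Subgroup G) : Set G))) :
    ∃ g : G, g ∈ normalizer ((P : Subgroup G) : Set G) ∧ r ∣ orderOf g ∧
      ∀ k : ℕ, (g ^ k ∈ centralizer ((P : Subgroup G) : Set G) ↔ r ∣ k) := by
  haveI : IsCyclic (P : Subgroup G) := isCyclic_of_prime_card hP
  set N := normalizer ((P : Subgroup G) : Set G) with hN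
  set C := centralizer ((P : Subgroup G) : Set G) with hC
  set φ : N →* MulAut (P : Subgroup G) := (P : Subgroup G).normalizerMonoidHom with hφ
  have hle : C ≤ N := Subgroup.centralizer_le_normalizer _
  have hker : φ.ker = C.subgroupOf N := normalizerMonoidHom_ker _
  have hrange : Nat.card φ.range = r := by
    have h1 := φ.ker.card_mul_index
    rw [Subgroup.index_ker, hker, Nat.card_congr (subgroupOfEquivOfLe hle).toEquiv, ← hr,
      mul_comm r] at h1
    exact Nat.eq_of_mul_eq_mul_left Nat.card_pos h1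
  haveI : IsCyclic (MulAut (P : Subgroup G)) := by
    have e := IsCyclic.mulAutMulEquiv (P : Subgroup G)
    rw [hP] at e
    exact isCyclic_of_surjective e.symm.toMonoidHom e.symm.surjective
  obtain ⟨a, ha⟩ := IsCyclic.exists_ofOrder_eq_natCard (α := φ.range)
  obtain ⟨g, hga⟩ := a.2
  have hord : orderOf (φ g) = r := by
    rw [hga, ← hrange, ← ha, orderOf_coe]
  refine ⟨g, g.2, ?_, fun k => ?_⟩
  · rw [← hord, orderOf_coe]
    exact orderOf_map_dvd φ g
  · rw [← hord, orderOf_dvd_iff_pow_eq_one, ← map_pow, ← MonoidHom.mem_ker, hker, mem_subgroupOf,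
      Subgroup.coe_pow]

end H70
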