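import Cfsg.Agent.H70.QuaternionQuot
import Cfsg.Agent.H70.SolvableQuotTwo
import Cfsg.Agent.H65.BaerSuzuki
import Cfsg.Agent.H58.AutQ8
import Cfsg.Prelude.Def_CaseTheorems

/-! Solvable groups with `O(Q) = 1` and a core `O₂(Q)` of 2-rank one. -/

set_option autoImplicit false

namespace H70.Octa

open Subgroup
open scoped Pointwise

/-- Adjoining an element whose `n`-th power lies in a subgroup it normalises. -/
theorem card_sup_zpowers_le {G : Type*} [Group G] [Finite G] (A : Subgroup G) (g : G)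
    (hg : g ∈ normalizer (A : Set G)) {n : ℕ} (hn : 0 < n) (hgn : g ^ n ∈ A) :
    Nat.card ↥(A ⊔ zpowers g) ≤ n * Nat.card A := by
  have hle : zpowers g ≤ normalizer (A : Set G) := zpowers_le.2 hg
  have hset := coe_mul_of_right_le_normalizer_left A (zpowers g) hle
  let f : A × Fin n → ↥(A ⊔ zpowers g) := fun p =>
    ⟨p.1 * g ^ (p.2 : ℕ), mul_mem (mem_sup_left p.1.2) (mem_sup_right (pow_mem (mem_zpowers g) _))⟩
  have hf : Function.Surjective f := by
    rintro ⟨x, hx⟩
    have hx' : x ∈ (A : Set G) * (zpowers g : Set G) := by rw [← hset]; exact hx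
    obtain ⟨a, ha, w, hw, rfl⟩ := hx'
    obtain ⟨m, rfl⟩ := mem_zpowers_iff.1 hw
    have hn' : (0 : ℤ) < n := by exact_mod_cast hn
    have h0 := Int.emod_nonneg m hn'.ne'
    have h1 := Int.emod_lt_of_pos m hn'
    refine ⟨(⟨a * (g ^ n) ^ (m / n), mul_mem ha (zpow_mem hgn _)⟩,
      ⟨(m % n).toNat, by omega⟩), Subtype.ext ?_⟩
    show a * (g ^ n) ^ (m / n) * g ^ (m % (n : ℤ)).toNat = a * g ^ m
    rw [← zpow_natCast g n, ← zpow_mul, ← zpow_natCast g (m % (n : ℤ)).toNat,
      Int.toNat_of_nonneg h0, mul_assoc, ← zpow_add, Int.mul_ediv_add_emod]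
  calc Nat.card ↥(A ⊔ zpowers g) ≤ Nat.card (A × Fin n) := Nat.card_le_card_of_surjective f hf
    _ = n * Nat.card A := by rw [Nat.card_prod, Nat.card_fin, mul_comm]

/-- An element normalises the closure of a set whose conjugates lie in the closure. -/
theorem mem_normalizer_of_gens {G : Type*} [Group G] [Finite G] {A : Subgroup G} {g : G}
    (h : A.map (MulAut.conj g).toMonoidHom ≤ A) : g ∈ normalizer (A : Set G) := by
  have heq : A.map (MulAut.conj g).toMonoidHom = A :=
    eq_of_le_of_card_ge h (card_map_of_injective (MulAut.conj g).injective).ge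
  rw [mem_normalizer_iff]
  intro a
  refine ⟨fun ha => h ⟨a, ha, rfl⟩, fun ha => ?_⟩
  rw [← heq] at ha
  obtain ⟨b, hb, hbe⟩ := ha
  have : b = a := (MulAut.conj g).injective hbe
  exact this ▸ hb

/-- The defining relations of `GL(2,3)`. -/
structure Rel {G : Type*} [Group G] (x y c t : G) : Prop where
  x4 : x ^ 4 = 1
  y2 : y * y = x * x
  yx : y * x * y⁻¹ = x⁻¹
  c3 : c ^ 3 = 1
  cx : c * x * c⁻¹ = y
  cy : c * y * c⁻¹ = x * y
  t2 : t * t = 1
  tc : t * c * t⁻¹ = c⁻¹
  tx : t * x * t⁻¹ = x⁻¹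
  ty : t * y * t⁻¹ = (x * y)⁻¹

theorem card_closure_le {G : Type*} [Group G] [Finite G] {x y c t : G} (h : Rel x y c t) :
    Nat.card ↥(closure ({x, y, c, t} : Set G)) ≤ 48 := by
  have hx : Nat.card ↥(zpowers x) ≤ 4 := by
    rw [Nat.card_zpowers]
    exact Nat.le_of_dvd (by norm_num) (orderOf_dvd_of_pow_eq_one h.x4)
  have hyN : y ∈ normalizer (zpowers x : Set G) := by
    apply mem_normalizer_of_gens
    rw [MonoidHom.map_zpowers, zpowers_le]
    show y * x * y⁻¹ ∈ zpowers x
    rw [h.yx]; exact inv_mem (mem_zpowers x)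
  have h1 := card_sup_zpowers_le (zpowers x) y hyN (n := 2) (by norm_num)
    (by rw [pow_two, h.y2]; exact mul_mem (mem_zpowers x) (mem_zpowers x))
  have hxA : x ∈ zpowers x ⊔ zpowers y := mem_sup_left (mem_zpowers x)
  have hyA : y ∈ zpowers x ⊔ zpowers y := mem_sup_right (mem_zpowers y)
  have hcN : c ∈ normalizer ((zpowers x ⊔ zpowers y : Subgroup G) : Set G) := by
    apply mem_normalizer_of_gens
    rw [Subgroup.map_sup, MonoidHom.map_zpowers, MonoidHom.map_zpowers, sup_le_iff, zpowers_le,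
      zpowers_le]
    exact ⟨show c * x * c⁻¹ ∈ _ by rw [h.cx]; exact hyA,
      show c * y * c⁻¹ ∈ _ by rw [h.cy]; exact mul_mem hxA hyA⟩
  have h2 := card_sup_zpowers_le _ c hcN (n := 3) (by norm_num) (by rw [h.c3]; exact one_mem _)
  have hxB : x ∈ zpowers x ⊔ zpowers y ⊔ zpowers c := mem_sup_left hxA
  have hyB : y ∈ zpowers x ⊔ zpowers y ⊔ zpowers c := mem_sup_left hyA
  have hcB : c ∈ zpowers x ⊔ zpowers y ⊔ zpowers c := mem_sup_right (mem_zpowers c)
  have htN : t ∈ normalizer ((zpowers x ⊔ zpowers y ⊔ zpowers c : Subgroup G) : Set G) := by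
    apply mem_normalizer_of_gens
    rw [Subgroup.map_sup, Subgroup.map_sup, MonoidHom.map_zpowers, MonoidHom.map_zpowers,
      MonoidHom.map_zpowers, sup_le_iff, sup_le_iff, zpowers_le, zpowers_le, zpowers_le]
    exact ⟨⟨show t * x * t⁻¹ ∈ _ by rw [h.tx]; exact inv_mem hxB,
      show t * y * t⁻¹ ∈ _ by rw [h.ty]; exact inv_mem (mul_mem hxB hyB)⟩,
      show t * c * t⁻¹ ∈ _ by rw [h.tc]; exact inv_mem hcB⟩
  have h3 := card_sup_zpowers_le _ t htN (n := 2) (by norm_num)
    (by rw [pow_two, h.t2]; exact one_mem _)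
  have hle : closure ({x, y, c, t} : Set G) ≤ zpowers x ⊔ zpowers y ⊔ zpowers c ⊔ zpowers t := by
    rw [closure_le]
    rintro g (rfl | rfl | rfl | rfl)
    · exact mem_sup_left hxB
    · exact mem_sup_left hyB
    · exact mem_sup_left hcB
    · exact mem_sup_right (mem_zpowers _)
  calc Nat.card ↥(closure ({x, y, c, t} : Set G))
      ≤ Nat.card ↥(zpowers x ⊔ zpowers y ⊔ zpowers c ⊔ zpowers t) := card_le_of_le hle
    _ ≤ 48 := by omega

/-- Two groups of order 48 generated by such quadruples are isomorphic. -/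
theorem nonempty_equiv {G H : Type*} [Group G] [Finite G] [Group H] [Finite H] {x y c t : G}
    {x' y' c' t' : H} (hG : Rel x y c t) (hH : Rel x' y' c' t')
    (gG : closure ({x, y, c, t} : Set G) = ⊤) (gH : closure ({x', y', c', t'} : Set H) = ⊤)
    (cG : Nat.card G = 48) (cH : Nat.card H = 48) : Nonempty (G ≃* H) := by
  let R := closure ({(x, x'), (y, y'), (c, c'), (t, t')} : Set (G × H))
  have hR : Nat.card R ≤ 48 := card_closure_le
    { x4 := Prod.ext hG.x4 hH.x4, y2 := Prod.ext hG.y2 hH.y2, yx := Prod.ext hG.yx hH.yx,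
      c3 := Prod.ext hG.c3 hH.c3, cx := Prod.ext hG.cx hH.cx, cy := Prod.ext hG.cy hH.cy,
      t2 := Prod.ext hG.t2 hH.t2, tc := Prod.ext hG.tc hH.tc, tx := Prod.ext hG.tx hH.tx,
      ty := Prod.ext hG.ty hH.ty }
  have e1 : R.map (MonoidHom.fst G H) = ⊤ := by
    rw [MonoidHom.map_closure]
    simp only [Set.image_insert_eq, Set.image_singleton, MonoidHom.coe_fst]
    exact gG
  have e2 : R.map (MonoidHom.snd G H) = ⊤ := by
    rw [MonoidHom.map_closure]
    simp only [Set.image_insert_eq, Set.image_singleton, MonoidHom.coe_snd]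
    exact gH
  let f₁ := (MonoidHom.fst G H).comp R.subtype
  let f₂ := (MonoidHom.snd G H).comp R.subtype
  have s1 : Function.Surjective f₁ := fun g => by
    obtain ⟨p, hp, rfl⟩ := (e1 ▸ mem_top g : g ∈ R.map (MonoidHom.fst G H))
    exact ⟨⟨p, hp⟩, rfl⟩
  have s2 : Function.Surjective f₂ := fun g => by
    obtain ⟨p, hp, rfl⟩ := (e2 ▸ mem_top g : g ∈ R.map (MonoidHom.snd G H))
    exact ⟨⟨p, hp⟩, rfl⟩
  have c1 : Nat.card R = 48 := le_antisymm hR (cG ▸ Nat.card_le_card_of_surjective f₁ s1)
  have b1 := (Nat.bijective_iff_surjective_and_card f₁).2 ⟨s1, by rw [c1, cG]⟩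
  have b2 := (Nat.bijective_iff_surjective_and_card f₂).2 ⟨s2, by rw [c1, cH]⟩
  exact ⟨(MulEquiv.ofBijective f₁ b1).symm.trans (MulEquiv.ofBijective f₂ b2)⟩

abbrev M23 := Matrix (Fin 2) (Fin 2) (ZMod 3)

def gx : GL (Fin 2) (ZMod 3) := ⟨!![0, 2; 1, 0], !![0, 1; 2, 0], by decide, by decide⟩
def gy : GL (Fin 2) (ZMod 3) := ⟨!![1, 1; 1, 2], !![2, 2; 2, 1], by decide, by decide⟩
def gc : GL (Fin 2) (ZMod 3) := ⟨!![1, 1; 0, 1], !![1, 2; 0, 1], by decide, by decide⟩
def gt : GL (Fin 2) (ZMod 3) := ⟨!![1, 0; 0, 2], !![1, 0; 0, 2], by decide, by decide⟩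

theorem gl_rel : Rel gx gy gc gt := by
  constructor <;> decide +kernel

theorem gl_card : Nat.card (GL (Fin 2) (ZMod 3)) = 48 := by
  rw [Nat.card_eq_fintype_card]
  decide +kernel

theorem gl_gen : Subgroup.closure ({gx, gy, gc, gt} : Set (GL (Fin 2) (ZMod 3))) = ⊤ := by
  have key : ∀ M : GL (Fin 2) (ZMod 3), ∃ i : Fin 4, ∃ j : Fin 2, ∃ k : Fin 3, ∃ l : Fin 2,
      gx ^ (i : ℕ) * gy ^ (j : ℕ) * gc ^ (k : ℕ) * gt ^ (l : ℕ) = M := by decide +kernel
  rw [eq_top_iff]
  intro M _
  obtain ⟨i, j, k, l, rfl⟩ := key M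
  exact mul_mem (mul_mem (mul_mem (pow_mem (subset_closure (by simp)) _)
    (pow_mem (subset_closure (by simp)) _)) (pow_mem (subset_closure (by simp)) _))
    (pow_mem (subset_closure (by simp)) _)

section Model

abbrev Q8 := QuaternionGroup 2

/-- The map determined by the images `p`, `q` of `a 1`, `xa 0`. -/
def ext8 (p q : Q8) : Q8 → Q8
  | QuaternionGroup.a i => p ^ i.val
  | QuaternionGroup.xa i => q * p ^ i.val

theorem q8_facts : ∀ u : Q8, ((u ^ 2 = 1 ↔ (u = 1 ∨ u = QuaternionGroup.a 2))) := by decide +kernel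

theorem q8_center : ∀ u : Q8, (∀ v : Q8, u * v = v * u) ↔ (u = 1 ∨ u = QuaternionGroup.a 2) := by
  decide +kernel

theorem q8_gens : ∀ x y : Q8, orderOf x ≠ 0 → x ^ 2 ≠ 1 → y ^ 2 ≠ 1 → y ≠ x → y ≠ x⁻¹ →
    (x ^ 4 = 1 ∧ y * y = x * x ∧ y * x * y⁻¹ = x⁻¹) := by
  have h : ∀ x y : Q8, x ^ 2 ≠ 1 → y ^ 2 ≠ 1 → y ≠ x → y ≠ x⁻¹ →
      (x ^ 4 = 1 ∧ y * y = x * x ∧ y * x * y⁻¹ = x⁻¹) := by decide +kernel
  exact fun x y _ => h x y

set_option synthInstance.maxSize 4000 in
set_option synthInstance.maxHeartbeats 400000 in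
theorem ext8_search : ∀ p q r s : Q8, p ^ 2 ≠ 1 → q ^ 2 ≠ 1 → q ≠ p → q ≠ p⁻¹ →
    r ^ 2 ≠ 1 → s ^ 2 ≠ 1 → s ≠ r → s ≠ r⁻¹ →
    (∀ u, ext8 p q (ext8 p q (ext8 p q u)) = u) → (∃ u, ext8 p q u ≠ u) →
    (∀ u, ext8 r s (ext8 r s u) = u) →
    (∀ u, ext8 r s (ext8 p q (ext8 r s u)) = ext8 p q (ext8 p q u)) →
    ∃ x : Q8, x ^ 2 ≠ 1 ∧ ext8 r s x = x⁻¹ ∧ ext8 p q x ≠ x ∧ ext8 p q x ≠ x⁻¹ ∧
      ext8 p q (ext8 p q x) = x * ext8 p q x := by decide +kernel

theorem eq_ext8 (f : Q8 ≃* Q8) (u : Q8) :
    f u = ext8 (f (QuaternionGroup.a 1)) (f (QuaternionGroup.xa 0)) u := by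
  have ha : ∀ i : ZMod (2 * 2), QuaternionGroup.a i = (QuaternionGroup.a 1 : Q8) ^ i.val := by
    decide +kernel
  cases u with
  | a i => rw [ext8, ← map_pow, ← ha]
  | xa i =>
    rw [ext8, ← map_pow, ← ha, ← map_mul, QuaternionGroup.xa_mul_a, zero_add]

theorem gen_cond (f : Q8 ≃* Q8) :
    f (QuaternionGroup.a 1) ^ 2 ≠ 1 ∧ f (QuaternionGroup.xa 0) ^ 2 ≠ 1 ∧
      f (QuaternionGroup.xa 0) ≠ f (QuaternionGroup.a 1) ∧
      f (QuaternionGroup.xa 0) ≠ (f (QuaternionGroup.a 1))⁻¹ := by
  have h : (QuaternionGroup.a 1 : Q8) ^ 2 ≠ 1 ∧ (QuaternionGroup.xa 0 : Q8) ^ 2 ≠ 1 ∧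
      (QuaternionGroup.xa 0 : Q8) ≠ QuaternionGroup.a 1 ∧
      (QuaternionGroup.xa 0 : Q8) ≠ (QuaternionGroup.a 1)⁻¹ := by decide +kernel
  refine ⟨?_, ?_, ?_, ?_⟩
  · rw [← map_pow]; exact fun e => h.1 (f.map_eq_one_iff.1 e)
  · rw [← map_pow]; exact fun e => h.2.1 (f.map_eq_one_iff.1 e)
  · exact fun e => h.2.2.1 (f.injective e)
  · rw [← map_inv]; exact fun e => h.2.2.2 (f.injective e)

/-- Normalised generators for an order three automorphism inverted by an involution. -/
theorem exists_frame (C T : Q8 ≃* Q8) (hC : ∀ u, C (C (C u)) = u) (hC1 : ∃ u, C u ≠ u)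
    (hT : ∀ u, T (T u) = u) (hTC : ∀ u, T (C (T u)) = C (C u)) :
    ∃ x : Q8, x ^ 2 ≠ 1 ∧ T x = x⁻¹ ∧ C x ≠ x ∧ C x ≠ x⁻¹ ∧ C (C x) = x * C x := by
  obtain ⟨a1, a2, a3, a4⟩ := gen_cond C
  obtain ⟨b1, b2, b3, b4⟩ := gen_cond T
  have h := ext8_search _ _ _ _ a1 a2 a3 a4 b1 b2 b3 b4
  simp only [← eq_ext8] at h
  exact h hC hC1 hT hTC

end Model

variable {Q : Type*} [Group Q] [Finite Q]

theorem card_involution_unique {P : Type*} [Group P] [Finite P] (hP : IsPGroup 2 P)
    (hr : Cfsg.PRankLE 2 1 P) :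
    ∀ H K : Subgroup P, Nat.card H = 2 → Nat.card K = 2 → H = K := by
  haveI : Fact (Nat.Prime 2) := ⟨Nat.prime_two⟩
  rcases subsingleton_or_nontrivial P with h | h
  · intro H K hH _
    have := Nat.card_le_card_of_injective H.subtype H.subtype_injective
    rw [hH, Nat.card_of_subsingleton (1 : P)] at this
    omega
  obtain ⟨n, hn⟩ := IsPGroup.iff_card.1 hP
  haveI := hP.center_nontrivial
  obtain ⟨⟨z, hzc⟩, hz⟩ := exists_prime_orderOf_dvd_card' (G := ↥(center P)) 2 (by
    obtain ⟨m, hm⟩ := IsPGroup.iff_card.1 (hP.to_subgroup (center P))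
    have : 1 < Nat.card ↥(center P) := Finite.one_lt_card_iff_nontrivial.2 inferInstance
    rw [hm] at this ⊢
    rcases Nat.eq_zero_or_pos m with rfl | hm0
    · simp at this
    · exact dvd_pow_self 2 hm0.ne')
  rw [Subgroup.orderOf_mk] at hz
  have key : ∀ H : Subgroup P, Nat.card H = 2 → H = zpowers z := by
    intro H hH
    obtain ⟨⟨g, hgH⟩, hg⟩ := exists_prime_orderOf_dvd_card' (G := ↥H) 2 (by rw [hH])
    rw [Subgroup.orderOf_mk] at hg
    have hgz : g = z := by
      by_contra hne
      have hgc : g * z = z * g := mem_center_iff.1 hzc g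
      have hg2 : g * g = 1 := by rw [← pow_two, ← hg]; exact pow_orderOf_eq_one g
      have hz2 : z * z = 1 := by rw [← pow_two, ← hz]; exact pow_orderOf_eq_one z
      have hA : IsMulCommutative ↥(closure ({g, z} : Set P)) := isMulCommutative_closure (by
        intro a ha b hb
        rcases ha with rfl | rfl <;> rcases hb with rfl | rfl <;> simp [hgc])
      have hsq : ∀ a ∈ closure ({g, z} : Set P), a ^ 2 = 1 := by
        intro a ha
        have hcomm : ∀ a b : P, a ∈ closure ({g, z} : Set P) → b ∈ closure ({g, z} : Set P) →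
            Commute a b := fun a b ha hb =>
          congrArg Subtype.val (hA.is_comm.comm ⟨a, ha⟩ ⟨b, hb⟩)
        induction ha using closure_induction with
        | mem a ha => rcases ha with rfl | rfl <;> rw [pow_two] <;> assumption
        | one => exact one_pow 2
        | mul a b ha' hb' h1 h2 => rw [(hcomm a b ha' hb').mul_pow, h1, h2, one_mul]
        | inv a ha' h1 => rw [inv_pow, h1, inv_one]
      have h3 := hr _ hA hsq
      let f : Fin 3 → ↥(closure ({g, z} : Set P)) := ![1, ⟨g, subset_closure (by simp)⟩,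
        ⟨z, subset_closure (by simp)⟩]
      have g1 : g ≠ 1 := fun e => by rw [e, orderOf_one] at hg; norm_num at hg
      have z1 : z ≠ 1 := fun e => by rw [e, orderOf_one] at hz; norm_num at hz
      have hf : Function.Injective f := by
        intro i j hij
        fin_cases i <;> fin_cases j <;>
          first
          | rfl
          | (have e := congrArg Subtype.val hij
             simp [f] at e
             first
             | exact absurd e g1
             | exact absurd e.symm g1
             | exact absurd e z1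
             | exact absurd e.symm z1
             | exact absurd e hne
             | exact absurd e.symm hne)
      have := Nat.card_le_card_of_injective f hf
      rw [Nat.card_fin] at this
      omega
    exact (eq_of_le_of_card_ge (zpowers_le.2 (hgz ▸ hgH)) (by rw [hH, Nat.card_zpowers, hz])).symm
  intro H K hH hK
  rw [key H hH, key K hK]

/-- The main classification. -/
theorem classify [Group.IsSolvable Q] (hO : Cfsg.oddCore Q = ⊥)
    (hr : Cfsg.PRankLE 2 1 ↥(Cfsg.pCore 2 Q)) :
    (∃ P : Sylow 2 Q, (P : Subgroup Q).Normal) ∨ Nonempty (Q ≃* GL (Fin 2) (ZMod 3)) ∨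
    (Nat.card Q = 48 ∧ Nat.card ↥(center Q) = 2 ∧
      Nonempty (Q ⧸ center Q ≃* Equiv.Perm (Fin 4)) ∧
      ∀ P : Sylow 2 Q, Nonempty (↥(P : Subgroup Q) ≃* QuaternionGroup 4)) := by
  classical
  haveI : Fact (Nat.Prime 2) := ⟨Nat.prime_two⟩
  haveI : Fact (Nat.Prime 3) := ⟨by norm_num⟩
  set P0 := Cfsg.pCore 2 Q with hP0
  haveI hPn : P0.Normal := H1.pCore_normal' 2 Q
  have hp0 : IsPGroup 2 P0 := H1.isPGroup_pCore 2 Q
  have twoNormal : IsPGroup 2 Q → ∃ P : Sylow 2 Q, (P : Subgroup Q).Normal := fun h => by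
    obtain ⟨P⟩ : Nonempty (Sylow 2 Q) := inferInstance
    refine ⟨P, ?_⟩
    rw [← P.is_maximal' (Q := ⊤) (h.of_equiv topEquiv.symm) le_top]
    infer_instance
  have autTwo : IsPGroup 2 (MulAut ↥P0) → ∃ P : Sylow 2 Q, (P : Subgroup Q).Normal :=
    fun h => twoNormal (H70.isPGroup_of_mulAut_pCore hO h)
  rcases H2.cyclic_or_quaternion hp0 (card_involution_unique hp0 hr) with hc | ⟨k, ⟨e⟩⟩
  · exact Or.inl (autTwo (H70.isPGroup_two_mulAut_cyclic hp0))
  rcases (show k = 0 ∨ k = 1 ∨ 2 ≤ k by omega) with rfl | rfl | hk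
  · haveI : IsCyclic (QuaternionGroup (2 ^ 0)) := QuaternionGroup.quaternionGroup_one_isCyclic
    haveI : IsCyclic ↥P0 := isCyclic_of_surjective e.symm.toMonoidHom e.symm.surjective
    exact Or.inl (autTwo (H70.isPGroup_two_mulAut_cyclic hp0))
  swap
  · exact Or.inl (autTwo ((H86.isPGroup_two_mulAut_quaternion k hk).of_equiv (MulAut.congr e).symm))
  rw [pow_one] at e
  have hP8 : Nat.card P0 = 8 := by
    rw [Nat.card_congr e.toEquiv, Nat.card_eq_fintype_card]; rfl
  -- the central involution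
  let z : Q := ((e.symm (QuaternionGroup.a 2) : ↥P0) : Q)
  have hzP : z ∈ P0 := SetLike.coe_mem _
  have hsq : ∀ u : ↥P0, u ^ 2 = 1 ↔ ((u : Q) = 1 ∨ (u : Q) = z) := by
    intro u
    rw [← e.map_eq_one_iff, map_pow, q8_facts, e.map_eq_one_iff, ← e.eq_symm_apply, ← Subtype.coe_inj,
      ← Subtype.coe_inj, OneMemClass.coe_one]
  have hz1 : z ≠ 1 := by
    intro h
    have h' : (e.symm (QuaternionGroup.a 2) : ↥P0) = 1 := Subtype.ext h
    have := congrArg e h'
    rw [e.apply_symm_apply, map_one] at this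
    exact absurd this (by decide)
  have hz2 : z ^ 2 = 1 := congrArg Subtype.val ((hsq ⟨z, hzP⟩).2 (Or.inr rfl))
  have hzcen : ∀ g : Q, g * z = z * g := by
    intro g
    have hm : g * z * g⁻¹ ∈ P0 := hPn.conj_mem z hzP g
    have := (hsq ⟨_, hm⟩).1 (Subtype.ext (by
      show (g * z * g⁻¹) ^ 2 = 1
      rw [conj_pow, hz2, mul_one, mul_inv_cancel]))
    rcases this with h | h
    · exact absurd (conj_eq_one_iff.1 h) hz1
    · exact mul_inv_eq_iff_eq_mul.1 h
  have hCP : ∀ g : Q, (∀ p ∈ P0, g * p = p * g) → g = 1 ∨ g = z := by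
    intro g hg
    have hgP : g ∈ P0 := H10.centralizer_pCore_le H10.isPSolvable_of_isSolvable hO
      (mem_centralizer_iff.2 fun p hp => (hg p hp).symm)
    have : ∀ v, e ⟨g, hgP⟩ * v = v * e ⟨g, hgP⟩ := by
      intro v
      rw [← e.apply_symm_apply v, ← map_mul, ← map_mul]
      exact congrArg e (Subtype.ext (hg _ (e.symm v).2))
    rcases (q8_center _).1 this with h | h
    · left
      have := e.map_eq_one_iff.1 h
      exact congrArg Subtype.val this
    · right
      have := congrArg e.symm h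
      rw [e.symm_apply_apply] at this
      exact congrArg Subtype.val this
  -- the order divides 48
  have hdvd : Nat.card Q ∣ 48 := by
    have hker : (MulAut.conjNormal (H := P0)).ker ≤ zpowers z := by
      intro g hg
      rcases hCP g (fun p hp => by
        have := congrArg (fun a : MulAut ↥P0 => ((a ⟨p, hp⟩ : ↥P0) : Q)) (MonoidHom.mem_ker.1 hg)
        simp only [MulAut.conjNormal_apply, MulAut.one_apply] at this
        exact mul_inv_eq_iff_eq_mul.1 this) with rfl | rfl
      · exact one_mem _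
      · exact mem_zpowers _
    have h1 := (MulAut.conjNormal (H := P0)).ker.card_mul_index
    rw [index_ker] at h1
    have h2 : Nat.card (MulAut.conjNormal (H := P0)).range ∣ 24 := by
      refine (card_subgroup_dvd_card _).trans (dvd_of_eq ?_)
      rw [Nat.card_congr (MulAut.congr e).toEquiv, H58.card_mulAut_q8]
    have h3 : Nat.card (MulAut.conjNormal (H := P0)).ker ∣ 2 := by
      refine (card_dvd_of_le hker).trans (dvd_of_eq ?_)
      rw [Nat.card_zpowers, orderOf_eq_prime hz2 hz1]
    rw [← h1]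
    exact Nat.mul_dvd_mul h3 h2
  have h8 : 8 ∣ Nat.card Q := hP8 ▸ card_subgroup_dvd_card P0
  by_cases h48 : Nat.card Q = 48
  swap
  · refine Or.inl ?_
    obtain ⟨m, hm⟩ := h8
    have hm6 : m ∣ 6 := Nat.dvd_of_mul_dvd_mul_left (by norm_num : 0 < 8) (hm ▸ hdvd)
    have hm' : m = 1 ∨ m = 2 ∨ m = 3 := by
      have := Nat.le_of_dvd (by norm_num) hm6
      interval_cases m <;> simp_all
    rcases hm' with rfl | rfl | rfl
    · exact twoNormal (IsPGroup.of_card (n := 3) (by omega))
    · exact twoNormal (IsPGroup.of_card (n := 4) (by omega))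
    · obtain ⟨P⟩ : Nonempty (Sylow 2 Q) := inferInstance
      refine ⟨P, ?_⟩
      have hle : P0 ≤ (P : Subgroup Q) := H1.pCore_le_sylow P
      have hc : Nat.card (P : Subgroup Q) = 8 := by
        rw [P.card_eq_multiplicity, hm, show (8 * 3 : ℕ) = 2 ^ 3 * 3 by norm_num,
          Nat.factorization_mul (by norm_num) (by norm_num), Finsupp.add_apply,
          Nat.factorization_eq_zero_of_not_dvd (by norm_num : ¬ 2 ∣ 3),
          Nat.Prime.factorization_pow Nat.prime_two, Finsupp.single_eq_same]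
        norm_num
      rw [← eq_of_le_of_card_ge hle (by rw [hc, hP8])]
      exact hPn
  -- the 2-rank one core of order 8 in a group of order 48
  have hSyl : ∀ P : Sylow 2 Q, Nat.card (P : Subgroup Q) = 16 := fun P => by
    rw [P.card_eq_multiplicity, h48, show (48 : ℕ) = 2 ^ 4 * 3 by norm_num,
      Nat.factorization_mul (by norm_num) (by norm_num), Finsupp.add_apply,
      Nat.factorization_eq_zero_of_not_dvd (by norm_num : ¬ 2 ∣ 3),
      Nat.Prime.factorization_pow Nat.prime_two, Finsupp.single_eq_same]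
    norm_num
  have hfix : ∀ c : Q, orderOf c = 3 → ∀ u ∈ P0, c * u = u * c → u = 1 ∨ u = z := by
    intro c hc u hu hcu
    let σ : Equiv.Perm {v : Q // v ∈ P0 ∧ c * v ≠ v * c} :=
      (MulAut.conj c).toEquiv.subtypeEquiv fun v => by
        simp only [MulEquiv.toEquiv_eq_coe, MulEquiv.coe_toEquiv, MulAut.conj_apply]
        refine and_congr ⟨fun h => hPn.conj_mem v h c, fun h => ?_⟩ (not_congr ⟨fun h => ?_, fun h => ?_⟩)
        · have := hPn.conj_mem _ h c⁻¹
          rwa [show c⁻¹ * (c * v * c⁻¹) * c⁻¹⁻¹ = v by group] at this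
        · rw [h, mul_inv_cancel_right]; exact h
        · rw [inv_mul_cancel_right] at h
          refine mul_right_cancel (b := c⁻¹) ?_
          rw [mul_inv_cancel_right]
          exact mul_left_cancel (a := c) (by simpa [mul_assoc] using h)
    by_contra hcon
    push Not at hcon
    let C := P0 ⊓ centralizer ({c} : Set Q)
    have hCd : Nat.card C ∣ 8 := hP8 ▸ card_dvd_of_le inf_le_left
    have hC3 : 3 ≤ Nat.card C := by
      let f : Fin 3 → C := ![1, ⟨z, hzP, mem_centralizer_singleton_iff.2 (hzcen c).symm⟩,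
        ⟨u, hu, mem_centralizer_singleton_iff.2 hcu.symm⟩]
      have := Nat.card_le_card_of_injective f (by
        intro i j hij
        fin_cases i <;> fin_cases j <;>
          first
          | rfl
          | (have e := congrArg Subtype.val hij
             simp [f] at e
             first
             | exact absurd e hz1
             | exact absurd e.symm hz1
             | exact absurd e hcon.1
             | exact absurd e.symm hcon.1
             | exact absurd e hcon.2
             | exact absurd e.symm hcon.2))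
      simpa using this
    have hCne : Nat.card C ≠ 8 := fun h8' => by
      have hCeq : C = P0 := eq_of_le_of_card_ge inf_le_left (by rw [hP8, h8'])
      rcases hCP c (fun p hp => (mem_centralizer_singleton_iff.1 (hCeq ▸ hp : p ∈ C).2).symm) with
        rfl | rfl
      · rw [orderOf_one] at hc; norm_num at hc
      · rw [orderOf_eq_prime hz2 hz1] at hc; norm_num at hc
    have hC4 : Nat.card C = 4 := by
      have := Nat.le_of_dvd (by norm_num) hCd
      interval_cases h : Nat.card C <;> omega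
    haveI := Fintype.ofFinite Q
    have hS : Fintype.card {v : Q // v ∈ P0 ∧ c * v ≠ v * c} = 4 := by
      have h1 : (Finset.univ.filter fun v => v ∈ P0 ∧ c * v = v * c).card = 4 := by
        rw [← Fintype.card_subtype, ← Nat.card_eq_fintype_card, ← hC4]
        exact Nat.card_congr (Equiv.subtypeEquivRight fun v => by
          rw [mem_inf, mem_centralizer_singleton_iff, eq_comm])
      have h2 : (Finset.univ.filter fun v => v ∈ P0).card = 8 := by
        rw [← Fintype.card_subtype, ← Nat.card_eq_fintype_card]; exact hP8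
      have h3 := Finset.card_filter_add_card_filter_not
        (s := Finset.univ.filter fun v => v ∈ P0) (fun v => c * v = v * c)
      rw [Finset.filter_filter, Finset.filter_filter, h1, h2] at h3
      rw [Fintype.card_subtype]
      simp only [ne_eq]
      omega
    obtain ⟨⟨v, hv, hvc⟩, hvf⟩ := Equiv.Perm.exists_fixed_point_of_prime (p := 3) (n := 1)
      (α := {v : Q // v ∈ P0 ∧ c * v ≠ v * c}) (σ := σ) (by rw [hS]; norm_num) (by
        ext ⟨v, hv⟩
        rw [pow_one, pow_three]
        show c * (c * (c * v * c⁻¹) * c⁻¹) * c⁻¹ = v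
        have hc3 : c * c * c = 1 := by
          rw [← pow_three']; rw [← hc]; exact pow_orderOf_eq_one c
        calc c * (c * (c * v * c⁻¹) * c⁻¹) * c⁻¹ = (c * c * c) * v * (c * c * c)⁻¹ := by group
          _ = v := by rw [hc3]; group)
    exact hvc (mul_inv_eq_iff_eq_mul.1 (congrArg Subtype.val hvf))
  have hnormal : ∀ g : Q, orderOf g = 3 → ¬ (zpowers g).Normal := by
    intro g hg hn
    have hle : zpowers g ≤ Cfsg.oddCore Q :=
      le_sSup ⟨hn, by rw [Nat.card_zpowers, hg]; norm_num⟩
    rw [hO, zpowers_le, mem_bot] at hle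
    rw [hle, orderOf_one] at hg
    norm_num at hg
  obtain ⟨c₀, hc₀⟩ := exists_prime_orderOf_dvd_card' (G := Q) 3 (by rw [h48]; norm_num)
  -- the quotient by the centre
  have hcen : center Q = zpowers z := by
    refine le_antisymm (fun g hg => ?_) (zpowers_le.2 (mem_center_iff.2 hzcen))
    rcases hCP g (fun p _ => (mem_center_iff.1 hg p).symm) with rfl | rfl
    · exact one_mem _
    · exact mem_zpowers _
  have hcen2 : Nat.card ↥(center Q) = 2 := by
    rw [hcen, Nat.card_zpowers, orderOf_eq_prime hz2 hz1]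
  have hquot : Nonempty (Q ⧸ center Q ≃* Equiv.Perm (Fin 4)) := by
    set N := normalizer (zpowers c₀ : Set Q) with hN
    have hPN : ∀ u ∈ P0, u ∈ N → u = 1 ∨ u = z := by
      intro u hu huN
      refine hfix c₀ hc₀ u hu ?_
      have h1 : u * c₀ * u⁻¹ * c₀⁻¹ ∈ P0 ⊓ zpowers c₀ := mem_inf.2 ⟨by
          have := mul_mem hu (hPn.conj_mem _ (inv_mem hu) c₀)
          rwa [show u * (c₀ * u⁻¹ * c₀⁻¹) = u * c₀ * u⁻¹ * c₀⁻¹ by group] at this,
        mul_mem ((mem_normalizer_iff.1 huN c₀).1 (mem_zpowers c₀)) (inv_mem (mem_zpowers c₀))⟩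
      have hb : P0 ⊓ zpowers c₀ = ⊥ := inf_eq_bot_of_coprime (by
        rw [hP8, Nat.card_zpowers, hc₀]; norm_num)
      rw [hb, mem_bot, mul_inv_eq_one, mul_inv_eq_iff_eq_mul] at h1
      exact h1.symm
    have hsyl : ∀ K : Subgroup Q, Nat.card K = 3 → ∃ S : Sylow 3 Q, (S : Subgroup Q) = K :=
      fun K hK => ⟨Sylow.ofCard K (by
        rw [hK, h48, show (48 : ℕ) = 16 * 3 ^ 1 by norm_num,
          Nat.factorization_mul (by norm_num) (by norm_num), Finsupp.add_apply,
          Nat.factorization_eq_zero_of_not_dvd (by norm_num : ¬ 3 ∣ 16),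
          Nat.Prime.factorization_pow (by norm_num : Nat.Prime 3), Finsupp.single_eq_same]
        norm_num), rfl⟩
    obtain ⟨S₀, hS₀⟩ := hsyl (zpowers c₀) (by rw [Nat.card_zpowers, hc₀])
    have hzN : z ∈ N := by
      rw [hN, mem_normalizer_iff]
      intro a
      rw [← hzcen a, mul_inv_cancel_right]
    have hidx : N.index = Nat.card (Sylow 3 Q) := by
      rw [hN, ← hS₀]; exact (S₀.card_eq_index_normalizer).symm
    have h6 : 6 ∣ Nat.card N := by
      have h3 : 3 ∣ Nat.card N := by
        have := card_dvd_of_le (le_normalizer : zpowers c₀ ≤ N)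
        rwa [Nat.card_zpowers, hc₀] at this
      have h2 : 2 ∣ Nat.card N := by
        have := Subgroup.orderOf_dvd_natCard N hzN
        rwa [orderOf_eq_prime hz2 hz1] at this
      exact Nat.Coprime.mul_dvd_of_dvd_of_dvd (by norm_num : Nat.Coprime 2 3) h2 h3
    have hmul := N.card_mul_index
    rw [h48] at hmul
    have hmod := card_sylow_modEq_one 3 Q
    rw [← hidx, Nat.ModEq] at hmod
    have hne1 : N.index ≠ 1 := fun h1 => by
      rw [index_eq_one] at h1
      exact hnormal c₀ hc₀ (normalizer_eq_top_iff.1 h1)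
    have hi4 : N.index = 4 := by
      obtain ⟨a, ha⟩ := h6
      have : N.index ∣ 8 := ⟨a, by rw [ha] at hmul; linarith⟩
      have := Nat.le_of_dvd (by norm_num) this
      interval_cases h : N.index <;> omega
    let π := MulAction.toPermHom Q (Q ⧸ N)
    have hker : π.ker ≤ center Q := by
      intro g hg
      rw [← normalCore_eq_ker] at hg
      by_cases h3 : 3 ∣ Nat.card N.normalCore
      · exfalso
        obtain ⟨⟨d, hdK⟩, hd⟩ := exists_prime_orderOf_dvd_card' (G := ↥N.normalCore) 3 h3
        rw [Subgroup.orderOf_mk] at hd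
        have hall : ∀ S : Sylow 3 Q, (S : Subgroup Q) ≤ N := by
          intro S
          obtain ⟨Sd, hSd⟩ := hsyl (zpowers d) (by rw [Nat.card_zpowers, hd])
          obtain ⟨γ, hγ⟩ := MulAction.exists_smul_eq Q Sd S
          rw [← hγ]
          refine le_trans ?_ N.normalCore_le
          rw [Sylow.coe_subgroup_smul, hSd]
          rintro _ ⟨w, hw, rfl⟩
          exact N.normalCore_normal.conj_mem _ (zpowers_le.2 hdK hw) γ
        have hsub : ∀ S : Sylow 3 Q, S = S₀ := by
          intro S
          haveI : ((S₀ : Subgroup Q).subgroupOf N).Normal := by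
            rw [hS₀]; exact normal_subgroupOf_of_le_normalizer le_rfl
          have h2 : ((S.subtype (hall S)) : Subgroup N) = (S₀.subtype (hall S₀) : Subgroup N) := by
            haveI := Sylow.unique_of_normal (S₀.subtype (hall S₀)) (by
              rw [Sylow.coe_subtype]; infer_instance)
            rw [Subsingleton.elim (S.subtype (hall S)) (S₀.subtype (hall S₀))]
          rw [Sylow.coe_subtype, Sylow.coe_subtype] at h2
          apply Sylow.ext
          have := congrArg (map N.subtype) h2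
          rwa [map_subgroupOf_eq_of_le (hall S), map_subgroupOf_eq_of_le (hall S₀)] at this
        have : Nat.card (Sylow 3 Q) = 1 := by
          rw [Nat.card_eq_one_iff_unique]
          exact ⟨⟨fun a b => by rw [hsub a, hsub b]⟩, ⟨S₀⟩⟩
        omega
      · have hp : IsPGroup 2 ↥N.normalCore := by
          have hd : Nat.card N.normalCore ∣ 48 := h48 ▸ card_subgroup_dvd_card _
          have hd16 : Nat.card N.normalCore ∣ 2 ^ 4 := by
            have hcop := ((Nat.Prime.coprime_iff_not_dvd (by norm_num : Nat.Prime 3)).2 h3).symm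
            exact hcop.dvd_of_dvd_mul_right (show Nat.card N.normalCore ∣ 2 ^ 4 * 3 from hd)
          obtain ⟨m, -, hm⟩ := (Nat.dvd_prime_pow Nat.prime_two).1 hd16
          exact IsPGroup.of_card hm
        have hgP : g ∈ P0 := H1.le_pCore hp hg
        rcases hPN g hgP (N.normalCore_le hg) with rfl | rfl
        · exact one_mem _
        · exact mem_center_iff.2 hzcen
    have hker' : π.ker = center Q := by
      refine le_antisymm hker (fun g hg => ?_)
      rw [← normalCore_eq_ker]
      rw [hcen] at hg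
      have : zpowers z ≤ N.normalCore := by
        haveI : (zpowers z).Normal := hcen ▸ inferInstance
        exact normal_le_normalCore.2 (zpowers_le.2 hzN)
      exact this hg
    have hcardQ : Nat.card (Q ⧸ center Q) = 24 := by
      have := card_eq_card_quotient_mul_card_subgroup (center Q)
      rw [h48, hcen2] at this
      omega
    obtain ⟨eN⟩ : Nonempty (Q ⧸ N ≃ Fin 4) :=
      ⟨(Finite.equivFin (Q ⧸ N)).trans (finCongr (show Nat.card (Q ⧸ N) = 4 from hi4))⟩
    let φ : Q →* Equiv.Perm (Fin 4) := eN.permCongrHom.toMonoidHom.comp π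
    have hφ : φ.ker = center Q := by
      rw [← hker']
      ext g
      simp [φ, MonoidHom.mem_ker]
    have hsurj : Function.Surjective φ := by
      rw [← MonoidHom.range_eq_top]
      refine eq_top_of_card_eq _ ?_
      rw [← index_ker, hφ, index_eq_card, hcardQ, Nat.card_eq_fintype_card, Fintype.card_perm]
      rfl
    exact ⟨(QuotientGroup.quotientMulEquivOfEq hφ.symm).trans
      (QuotientGroup.quotientKerEquivOfSurjective φ hsurj)⟩
  by_cases ht : ∃ t : Q, orderOf t = 2 ∧ t ∉ P0
  · -- `GL(2,3)`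
    refine Or.inr (Or.inl ?_)
    obtain ⟨t, ht2, htP⟩ := ht
    obtain ⟨h, hh1, hhodd, hth⟩ := H65.exists_odd_inverted ht2 htP
    have hh3 : orderOf h = 3 := by
      have hd : orderOf h ∣ 2 ^ 4 * 3 := by
        have := orderOf_dvd_natCard h
        rwa [h48] at this
      have : orderOf h ∣ 3 :=
        ((Nat.coprime_two_right.2 hhodd).pow_right 4).dvd_of_dvd_mul_left hd
      rcases (Nat.dvd_prime (by norm_num : Nat.Prime 3)).1 this with h1 | h1
      · exact absurd (orderOf_eq_one_iff.1 h1) hh1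
      · exact h1
    have htt : t * t = 1 := by rw [← pow_two, ← ht2]; exact pow_orderOf_eq_one t
    have hti : t⁻¹ = t := inv_eq_of_mul_eq_one_right htt
    have hc3 : h * h * h = 1 := by rw [← pow_three', ← hh3]; exact pow_orderOf_eq_one h
    let C : Q8 ≃* Q8 := e.symm.trans ((MulAut.conjNormal h).trans e)
    let T : Q8 ≃* Q8 := e.symm.trans ((MulAut.conjNormal t).trans e)
    have hCo : ∀ u, ((e.symm (C u) : ↥P0) : Q) = h * (e.symm u : ↥P0) * h⁻¹ := fun u => by
      simp [C, MulAut.conjNormal_apply]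
    have hTo : ∀ u, ((e.symm (T u) : ↥P0) : Q) = t * (e.symm u : ↥P0) * t⁻¹ := fun u => by
      simp [T, MulAut.conjNormal_apply]
    have einj : ∀ a b : Q8, ((e.symm a : ↥P0) : Q) = (e.symm b : ↥P0) → a = b :=
      fun a b hab => e.symm.injective (Subtype.ext hab)
    obtain ⟨x', hx2, hTx, hCx, hCx', hCC⟩ := exists_frame C T
      (fun u => einj _ _ (by
        rw [hCo, hCo, hCo]
        calc h * (h * (h * _ * h⁻¹) * h⁻¹) * h⁻¹ = (h * h * h) * (e.symm u : ↥P0) * (h * h * h)⁻¹ := by
              group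
          _ = _ := by rw [hc3]; group))
      (by
        by_contra hcon
        push Not at hcon
        rcases hCP h (fun p hp => by
          have := hCo (e ⟨p, hp⟩)
          rw [hcon, e.symm_apply_apply] at this
          exact (eq_mul_inv_iff_mul_eq.1 this).symm) with rfl | rfl
        · exact hh1 rfl
        · rw [orderOf_eq_prime hz2 hz1] at hh3; norm_num at hh3)
      (fun u => einj _ _ (by
        rw [hTo, hTo, hti]
        calc t * (t * _ * t) * t = (t * t) * (e.symm u : ↥P0) * (t * t) := by group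
          _ = _ := by rw [htt]; group))
      (fun u => einj _ _ (by
        rw [hTo, hCo, hTo, hCo, hCo]
        calc t * (h * (t * _ * t⁻¹) * h⁻¹) * t⁻¹
            = (t * h * t) * (e.symm u : ↥P0) * (t⁻¹ * h⁻¹ * t⁻¹) := by group
          _ = h⁻¹ * (e.symm u : ↥P0) * h := by
              have e1 : t * h * t = h⁻¹ := by rw [← hth, hti]
              have e2 : t⁻¹ * h⁻¹ * t⁻¹ = h := by
                calc t⁻¹ * h⁻¹ * t⁻¹ = (t * h * t)⁻¹ := by group
                  _ = h := by rw [e1, inv_inv]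
              rw [e1, e2]
          _ = h * (h * _ * h⁻¹) * h⁻¹ := by
              rw [show h * (h * ((e.symm u : ↥P0) : Q) * h⁻¹) * h⁻¹
                  = h * h * (e.symm u : ↥P0) * (h * h)⁻¹ by group,
                ← inv_eq_of_mul_eq_one_left hc3, inv_inv]))
    set x : Q := ((e.symm x' : ↥P0) : Q) with hx
    set y : Q := h * x * h⁻¹ with hy
    have hye : ((e.symm (C x') : ↥P0) : Q) = y := hCo x'
    have hy2 : C x' ^ 2 ≠ 1 := by
      rw [← map_pow]; exact fun e' => hx2 (C.map_eq_one_iff.1 e')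
    obtain ⟨g1, g2, g3⟩ := q8_gens x' (C x') (orderOf_pos x').ne' hx2 hy2 hCx hCx'
    have hrel : Rel x y h t :=
      { x4 := by
          have := congrArg (fun u => ((e.symm u : ↥P0) : Q)) g1
          simpa using this
        y2 := by
          have := congrArg (fun u => ((e.symm u : ↥P0) : Q)) g2
          simpa [hye] using this
        yx := by
          have := congrArg (fun u => ((e.symm u : ↥P0) : Q)) g3
          simpa [hye] using this
        c3 := by rw [pow_three', hc3]
        cx := rfl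
        cy := by
          have := congrArg (fun u => ((e.symm u : ↥P0) : Q)) hCC
          rw [hCo] at this
          simpa [hye] using this
        t2 := htt
        tc := hth
        tx := by
          have := congrArg (fun u => ((e.symm u : ↥P0) : Q)) hTx
          rw [hTo] at this
          simpa using this
        ty := by
          have hTx' : t * x * t⁻¹ = x⁻¹ := by
            have := congrArg (fun u => ((e.symm u : ↥P0) : Q)) hTx
            rw [hTo] at this
            simpa using this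
          have hcy : h * y * h⁻¹ = x * y := by
            have := congrArg (fun u => ((e.symm u : ↥P0) : Q)) hCC
            rw [hCo] at this
            simpa [hye] using this
          calc t * y * t⁻¹ = (t * h * t⁻¹) * (t * x * t⁻¹) * (t * h * t⁻¹)⁻¹ := by rw [hy]; group
            _ = h⁻¹ * x⁻¹ * h := by rw [hth, hTx', inv_inv]
            _ = (h * h) * x⁻¹ * (h * h)⁻¹ := by
                rw [← inv_eq_of_mul_eq_one_left hc3, inv_inv]
            _ = (h * (h * x * h⁻¹) * h⁻¹)⁻¹ := by simp only [mul_inv_rev, inv_inv, mul_assoc]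
            _ = (x * y)⁻¹ := by rw [← hy, hcy] }
    refine nonempty_equiv hrel gl_rel ?_ gl_gen h48 gl_card
    set R := closure ({x, y, h, t} : Set Q) with hR
    have hxR : x ∈ R := subset_closure (by simp)
    have hyR : y ∈ R := subset_closure (by simp)
    have hhR : h ∈ R := subset_closure (by simp)
    have htR : t ∈ R := subset_closure (by simp)
    have hP0R : P0 ≤ R := by
      have hgen : ∀ u : Q8, ∃ i j : Fin 4, u = x' ^ (i : ℕ) * C x' ^ (j : ℕ) := by
        have key : ∀ a b : Q8, a ^ 2 ≠ 1 → b ^ 2 ≠ 1 → b ≠ a → b ≠ a⁻¹ →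
            ∀ u : Q8, ∃ i j : Fin 4, u = a ^ (i : ℕ) * b ^ (j : ℕ) := by decide +kernel
        exact key x' (C x') hx2 hy2 hCx hCx'
      intro p hp
      obtain ⟨i, j, hij⟩ := hgen (e ⟨p, hp⟩)
      have := congrArg (fun u => ((e.symm u : ↥P0) : Q)) hij
      simp only [e.symm_apply_apply, map_mul, map_pow, Subgroup.coe_mul, SubmonoidClass.coe_pow,
        hye] at this
      rw [this]
      exact mul_mem (pow_mem hxR _) (pow_mem hyR _)
    have h24 : 24 ∣ Nat.card R := by
      have a := card_dvd_of_le hP0R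
      rw [hP8] at a
      have b := Subgroup.orderOf_dvd_natCard R hhR
      rw [hh3] at b
      exact Nat.Coprime.mul_dvd_of_dvd_of_dvd (by norm_num : Nat.Coprime 8 3) a b
    have hd : Nat.card R ∣ 48 := h48 ▸ card_subgroup_dvd_card R
    refine eq_top_of_card_eq R ?_
    rw [h48]
    by_contra hne
    have h24' : Nat.card R = 24 := by
      obtain ⟨m, hm⟩ := h24
      have := Nat.le_of_dvd (by norm_num) hd
      rcases (show m = 0 ∨ m = 1 ∨ m = 2 by omega) with rfl | rfl | rfl
      · exact absurd hm (Nat.card_pos).ne'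
      · exact hm
      · exact absurd hm hne
    haveI : (P0.subgroupOf R).Normal := H1.subgroupOf_normal P0 R
    have hi : (P0.subgroupOf R).index = 3 := by
      have := (P0.subgroupOf R).card_mul_index
      rw [Nat.card_congr (subgroupOfEquivOfLe hP0R).toEquiv, hP8, h24'] at this
      omega
    have h3 : ((⟨t, htR⟩ : ↥R) : ↥R) ^ 3 ∈ P0.subgroupOf R := by
      rw [← hi]; exact Subgroup.pow_index_mem _ _
    apply htP
    have : t ^ 3 ∈ P0 := h3
    rwa [pow_three', htt, one_mul] at this
  · -- binary octahedral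
    push Not at ht
    refine Or.inr (Or.inr ⟨h48, hcen2, hquot, fun P => ?_⟩)
    have hle : P0 ≤ (P : Subgroup Q) := H1.pCore_le_sylow P
    have hu : ∃! x : ↥(P : Subgroup Q), orderOf x = 2 := by
      refine ⟨⟨z, hle hzP⟩, (Subgroup.orderOf_mk z (hle hzP)).trans (orderOf_eq_prime hz2 hz1), ?_⟩
      rintro ⟨w, hw⟩ hw2
      rw [Subgroup.orderOf_mk] at hw2
      apply Subtype.ext
      rcases (hsq ⟨w, ht w hw2⟩).1 (Subtype.ext (by
          show w ^ 2 = 1
          rw [← hw2]; exact pow_orderOf_eq_one w)) with h | h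
      · rw [show w = 1 from h, orderOf_one] at hw2; norm_num at hw2
      · exact h
    have hnc : ¬ IsMulCommutative ↥(P : Subgroup Q) := fun hc => by
      have h0 : ∀ a b : Q8, a * b = b * a := fun a b => by
        have := congrArg Subtype.val (hc.is_comm.comm ⟨_, hle (e.symm a).2⟩ ⟨_, hle (e.symm b).2⟩)
        exact e.symm.injective (by rw [map_mul, map_mul]; exact Subtype.ext this)
      exact absurd (h0 (QuaternionGroup.a 1) (QuaternionGroup.xa 0)) (by decide)
    obtain ⟨k, hk, ⟨eP⟩⟩ := H70.quaternion_of_unique_involution P.isPGroup' hnc hu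
    haveI : NeZero (2 ^ k) := ⟨by positivity⟩
    have hk2 : k = 2 := by
      have := Nat.card_congr eP.toEquiv
      rw [hSyl P, Nat.card_eq_fintype_card, QuaternionGroup.card] at this
      have : 2 ^ k = 2 ^ 2 := by omega
      exact Nat.pow_right_injective le_rfl this
    subst hk2
    exact ⟨eP⟩

end H70.Octa
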