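import Cfsg.Agent.H70.Order5040

/-!
# No simple group has order `5040`: the transfer argument
-/

set_option autoImplicit false
set_option linter.unusedSectionVars false
set_option linter.style.haveILetI false

namespace H70

open Subgroup

theorem conj_mem_of_index_two {G : Type*} [Group G] [Finite G] {H K : Subgroup G} (hHK : H ≤ K)
    (h : Nat.card K = 2 * Nat.card H) : ∀ s ∈ K, ∀ v ∈ H, s * v * s⁻¹ ∈ H := by
  intro s hs v hv
  have h1 := (H.subgroupOf K).card_mul_index
  rw [Nat.card_congr (subgroupOfEquivOfLe hHK).toEquiv, h, mul_comm 2] at h1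
  have hi : (H.subgroupOf K).index = 2 := Nat.eq_of_mul_eq_mul_left Nat.card_pos h1
  exact (normal_of_index_eq_two hi).conj_mem ⟨v, hHK hv⟩ hv ⟨s, hs⟩

/-- Involutions in a cyclic group of order four. -/
theorem eq_sq_of_mem_zpowers_four {G : Type*} [Group G] {e g : G} (he : orderOf e = 4)
    (hg : g ∈ zpowers e) (hgo : orderOf g = 2) : g = e * e := by
  obtain ⟨i, rfl⟩ := mem_zpowers_iff.1 hg
  have h1 : e ^ i = e ^ (i % 4) := by
    have := zpow_mod_orderOf e i
    rw [he] at this
    exact this.symm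
  have h2 : e ^ i * e ^ i = 1 := by rw [← sq, ← hgo, pow_orderOf_eq_one]
  have h3 := Int.emod_nonneg i (show (4 : ℤ) ≠ 0 by norm_num)
  have h4 := Int.emod_lt_of_pos i (show (0 : ℤ) < 4 by norm_num)
  rw [h1] at h2 hgo ⊢
  interval_cases hm : i % 4
  · rw [zpow_zero, orderOf_one] at hgo
    omega
  · rw [zpow_one] at hgo
    omega
  · exact zpow_two e
  · rw [← zpow_add, ← orderOf_dvd_iff_zpow_eq_one, he] at h2
    norm_num at h2

universe u

variable {G : Type u} [Group G] [Finite G] [IsSimpleGroup G] (hn : Nat.card G = 5040)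
include hn

/-- An involution central in the normalizer of a Sylow `5`-subgroup has that normalizer as its
centralizer. -/
theorem centralizer_eq_normalizer_five [Fact (Nat.Prime 5)] (P : Sylow 5 G) {z : G}
    (hz : orderOf z = 2)
    (hNz : normalizer ((P : Subgroup G) : Set G) ≤ centralizer ({z} : Set G)) :
    centralizer ({z} : Set G) = normalizer ((P : Subgroup G) : Set G) := by
  classical
  haveI : Fact (Nat.Prime 2) := ⟨Nat.prime_two⟩
  have hG := not_comm5040 hn
  have hP := card_five5040 hn P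
  have hN := card_normalizer_five hn P
  have hz1 : z ≠ 1 := ne_one_of_orderOf_prime Nat.prime_two hz
  set H := centralizer ({z} : Set G) with hH
  have hPH : (P : Subgroup G) ≤ H := le_normalizer.trans hNz
  obtain ⟨k, hk, hk5⟩ := sylow_count_in P H hPH
  rw [inf_eq_right.2 hNz, hN] at hk
  have hd : k * 40 ∣ 5040 := hk ▸ hn ▸ card_subgroup_dvd_card H
  have h7 : ¬ 7 ∣ k * 40 := by
    intro h7
    haveI : Fact (Nat.Prime 7) := ⟨by norm_num⟩
    obtain ⟨g, hg, hgo⟩ := exists_mem_orderOf H 7 (by norm_num) (hk ▸ h7)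
    refine (not_dvd_centralizer_seven hn hgo).1 ?_
    rw [← hz]
    exact Subgroup.orderOf_dvd_natCard _
      (mem_centralizer_singleton_iff.2 (mem_centralizer_singleton_iff.1 hg).symm)
  have hkd : k ∈ (126 : ℕ).divisors :=
    Nat.mem_divisors.2 ⟨Nat.dvd_of_mul_dvd_mul_right (k := 40) (by norm_num) (by norm_num; exact hd),
      by norm_num⟩
  have hall : ∀ d ∈ (126 : ℕ).divisors, d % 5 = 1 → ¬ 7 ∣ d * 40 → d = 1 ∨ d = 6 := by
    decide +kernel
  rcases hall k hkd hk5 h7 with rfl | rfl
  · exact (eq_of_le_of_card_ge hNz (by rw [hk, hN])).symm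
  exfalso
  have hidx : H.index = 21 := by
    have h1 := H.card_mul_index
    rw [hk, hn] at h1
    omega
  have hne : H ≠ ⊤ := fun h => by rw [h, index_top] at hidx; omega
  obtain ⟨x, hxP, hx1, hxo⟩ := H65.exists_sylow_generator P hP
  have hxz : Commute x z := mem_centralizer_singleton_iff.1 (hPH hxP)
  have hxpow : x ^ 5 = 1 := by rw [← hxo, pow_orderOf_eq_one]
  have h1 := fixedBy_modEq_index (p := 5) H (g := x) hxpow
  have h2 := fixedBy_modEq_both (p := 5) H (g := x) (t := z) hxpow hxz
  -- cosets fixed by `x` correspond to conjugates of `z` centralizing `P`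
  set C := centralizer ((P : Subgroup G) : Set G) with hC
  have hzC : z ∈ C := mem_centralizer_of_commute P hP hxP hx1 hxz
  obtain ⟨c, r, hc, hrc, hrd, hr1, hpc⟩ := H65.centralizer_sylow_card P hP hG
  rw [hN] at hrc
  rw [← hC] at hc
  have hc' : Nat.card C = 10 ∨ Nat.card C = 20 := by
    have hr4 : r ∈ (4 : ℕ).divisors := Nat.mem_divisors.2 ⟨hrd, by norm_num⟩
    rw [show (4 : ℕ).divisors = {1, 2, 4} by decide +kernel] at hr4
    simp only [Finset.mem_insert, Finset.mem_singleton] at hr4
    rw [hc]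
    rcases hr4 with rfl | rfl | rfl <;> omega
  -- involutions of `C` lie in a subgroup of order at most four
  obtain ⟨T⟩ := (inferInstance : Nonempty (Sylow 2 C))
  have hT : Nat.card (T : Subgroup C) ≤ 4 ∧ (T : Subgroup C).Normal := by
    constructor
    · rcases hc' with h | h
      · have := H62.card_sylow_coe (a := 1) (m := 5) (G := C) (by rw [h]; norm_num) (by decide) T
        omega
      · have := H62.card_sylow_coe (a := 2) (m := 5) (G := C) (by rw [h]; norm_num) (by decide) T
        omega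
    · apply Subgroup.normalizer_eq_top_iff.1
      apply (H62.card_sylow_eq_one_iff T).1
      have hd5 : Nat.card (Sylow 2 C) ∣ 5 := by
        rcases hc' with h | h
        · exact H62.card_sylow_dvd (p := 2) (a := 1) (m := 5) (by rw [h]; norm_num) (by decide)
        · exact H62.card_sylow_dvd (p := 2) (a := 2) (m := 5) (by rw [h]; norm_num) (by decide)
      -- `P` is central in `C`, hence normalizes `T`
      have h5 : ∀ y : C, (y : G) ∈ (P : Subgroup G) →
          y ∈ normalizer ((T : Subgroup C) : Set C) := by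
        intro y hy
        rw [mem_normalizer_iff]
        intro v
        have : y * v * y⁻¹ = v := Subtype.ext (by
          have h := mem_centralizer_iff.1 v.2 (y : G) hy
          show (y : G) * (v : G) * (y : G)⁻¹ = (v : G)
          rw [h, mul_inv_cancel_right])
        rw [this]
      have hxC : x ∈ C := mem_centralizer_of_commute P hP hxP hx1 (Commute.refl x)
      have hd5' : 5 ∣ Nat.card (normalizer ((T : Subgroup C) : Set C)) := by
        rw [← hxo, show orderOf x = orderOf (⟨x, hxC⟩ : C) from (orderOf_mk _ _).symm]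
        exact Subgroup.orderOf_dvd_natCard _ (h5 ⟨x, hxC⟩ hxP)
      rcases (Nat.dvd_prime (by norm_num)).1 hd5 with h | h
      · exact h
      · exfalso
        have h1 := H62.card_normalizer_mul T
        rw [h] at h1
        omega
  have hinT : ∀ g : C, orderOf (g : G) = 2 → g ∈ (T : Subgroup C) := by
    intro g hg
    obtain ⟨U, hU⟩ := (IsPGroup.of_card (p := 2) (n := 1)
      (by rw [Nat.card_zpowers, ← orderOf_coe, hg, pow_one]) : IsPGroup 2 (zpowers g)).exists_le_sylow
    haveI := Sylow.unique_of_normal T hT.2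
    rw [Subsingleton.elim T U]
    exact hU (mem_zpowers g)
  -- the number of cosets fixed by `x` is at most three
  have hfx : Nat.card (MulAction.fixedBy (G ⧸ H) x) ≤ 3 := by
    have hconj : ∀ a : MulAction.fixedBy (G ⧸ H) x,
        a.1.out * z * a.1.out⁻¹ ∈ C ∧ orderOf (a.1.out * z * a.1.out⁻¹) = 2 := by
      intro a
      have hg := (H62.coe_mem_fixedBy_iff H x a.1.out).1 (by rw [QuotientGroup.out_eq']; exact a.2)
      have hg := mem_centralizer_singleton_iff.1 hg
      refine ⟨mem_centralizer_of_commute P hP hxP hx1 ?_, ?_⟩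
      · show x * (a.1.out * z * a.1.out⁻¹) = a.1.out * z * a.1.out⁻¹ * x
        calc x * (a.1.out * z * a.1.out⁻¹)
            = a.1.out * (a.1.out⁻¹ * x * a.1.out * z) * a.1.out⁻¹ := by group
          _ = a.1.out * (z * (a.1.out⁻¹ * x * a.1.out)) * a.1.out⁻¹ := by rw [hg]
          _ = a.1.out * z * a.1.out⁻¹ * x := by group
      · rw [← hz]
        exact MulEquiv.orderOf_eq (MulAut.conj a.1.out) z
    let f : MulAction.fixedBy (G ⧸ H) x → {g : (T : Subgroup C) // g ≠ 1} := fun a =>
      ⟨⟨⟨_, (hconj a).1⟩, hinT _ (hconj a).2⟩, fun h => by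
        have h' : a.1.out * z * a.1.out⁻¹ = 1 :=
          congrArg (fun g : (T : Subgroup C) => ((g : C) : G)) h
        have h3 := (hconj a).2
        rw [h', orderOf_one] at h3
        omega⟩
    have hf : Function.Injective f := by
      intro a b hab
      have h : a.1.out * z * a.1.out⁻¹ = b.1.out * z * b.1.out⁻¹ :=
        congrArg (fun g : {g : (T : Subgroup C) // g ≠ 1} => (((g.1 : (T : Subgroup C)) : C) : G)) hab
      apply Subtype.ext
      rw [← QuotientGroup.out_eq' a.1, ← QuotientGroup.out_eq' b.1, QuotientGroup.eq]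
      refine mem_centralizer_singleton_iff.2 ?_
      calc a.1.out⁻¹ * b.1.out * z = a.1.out⁻¹ * (b.1.out * z * b.1.out⁻¹) * b.1.out := by group
        _ = a.1.out⁻¹ * (a.1.out * z * a.1.out⁻¹) * b.1.out := by rw [h]
        _ = z * (a.1.out⁻¹ * b.1.out) := by group
    refine (Nat.card_le_card_of_injective f hf).trans ?_
    have : Fintype (T : Subgroup C) := Fintype.ofFinite _
    rw [Nat.card_eq_fintype_card, Fintype.card_subtype_compl, Fintype.card_subtype_eq,
      ← Nat.card_eq_fintype_card]
    have := hT.1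
    omega
  have hone : ((1 : G) : G ⧸ H) ∈ MulAction.fixedBy (G ⧸ H) x :=
    (H62.coe_mem_fixedBy_iff H x 1).2 (by simpa using hPH hxP)
  have honez : ((1 : G) : G ⧸ H) ∈ MulAction.fixedBy (G ⧸ H) z :=
    (H62.coe_mem_fixedBy_iff H z 1).2 (by simpa [hH] using mem_centralizer_singleton_iff.2 rfl)
  rw [hidx] at h1
  have hx1' : Nat.card (MulAction.fixedBy (G ⧸ H) x) = 1 := by omega
  have hboth : Nat.card {c : G ⧸ H // z • c = c ∧ x • c = c} = 1 := by
    rw [Nat.card_eq_one_iff_exists]
    refine ⟨⟨_, honez, hone⟩, ?_⟩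
    intro a
    apply Subtype.ext
    haveI := (Nat.card_eq_one_iff_unique.1 hx1').1
    have h := Subsingleton.elim (⟨a.1, a.2.2⟩ : MulAction.fixedBy (G ⧸ H) x) ⟨_, hone⟩
    exact (congrArg Subtype.val h :)
  rw [hboth] at h2
  obtain ⟨hlt, hmod⟩ := H65.involution_fixedBy hG H hne hz
  rw [hidx] at hlt hmod
  have hf1 : Nat.card (MulAction.fixedBy (G ⧸ H) z) = 1 := by omega
  -- `z` is isolated
  obtain ⟨S₁⟩ := (inferInstance : Nonempty (Sylow 2 H))
  have hS₁ : Nat.card (S₁ : Subgroup H) = 16 := by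
    simpa using H62.card_sylow_coe (a := 4) (m := 15) (by rw [hk]; norm_num) (by decide) S₁
  obtain ⟨S, hS⟩ := (S₁.isPGroup'.map H.subtype).exists_le_sylow
  have hSH : (S : Subgroup G) ≤ H := by
    have he : (S₁ : Subgroup H).map H.subtype = (S : Subgroup G) := eq_of_le_of_card_ge hS (by
      rw [card_two5040 hn S, Subgroup.card_map_of_injective (subtype_injective H), hS₁])
    rw [← he]
    exact map_subtype_le _
  have hzS : z ∈ (S : Subgroup G) := by
    have hzp : IsPGroup 2 (zpowers z) :=
      IsPGroup.of_card (n := 1) (by rw [Nat.card_zpowers, hz, pow_one])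
    have hle : zpowers z ≤ normalizer ((S : Subgroup G) : Set G) := by
      rw [zpowers_le, mem_normalizer_iff]
      intro v
      constructor
      · intro hv
        rw [← mem_centralizer_singleton_iff.1 (hSH hv), mul_inv_cancel_right]
        exact hv
      · intro hv
        have h := mem_centralizer_singleton_iff.1 (hSH hv)
        have h' : v * z = z * v := by
          calc v * z = z⁻¹ * ((z * v * z⁻¹) * z) * z := by group
            _ = z⁻¹ * (z * (z * v * z⁻¹)) * z := by rw [h]
            _ = z * v := by group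
        rwa [← h', mul_inv_cancel_right] at hv
    have h : zpowers z ⊓ normalizer ((S : Subgroup G) : Set G) = zpowers z ⊓ (S : Subgroup G) :=
      hzp.inf_normalizer_sylow S
    rw [inf_eq_left.2 hle] at h
    exact (left_eq_inf.1 h) (mem_zpowers z)
  obtain ⟨N, hNn, hNodd, hcomm⟩ := Cfsg.Agent.S0215.result S z hz hzS (fun g hg => by
    have hfix : (g : G ⧸ H) ∈ MulAction.fixedBy (G ⧸ H) z := by
      rw [H62.coe_mem_fixedBy_iff, hH, mem_centralizer_singleton_iff]
      have h := mem_centralizer_singleton_iff.1 (hSH hg)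
      calc g⁻¹ * z * g * z = g⁻¹ * (z * (g * z * g⁻¹)) * g := by group
        _ = g⁻¹ * (g * z * g⁻¹ * z) * g := by rw [h]
        _ = z * (g⁻¹ * z * g) := by group
    haveI := (Nat.card_eq_one_iff_unique.1 hf1).1
    have h := congrArg Subtype.val
      (Subsingleton.elim (⟨_, honez⟩ : MulAction.fixedBy (G ⧸ H) z) ⟨_, hfix⟩)
    have hgH : g ∈ H := by simpa using QuotientGroup.eq.1 h
    rw [(mem_centralizer_singleton_iff.1 hgH), mul_inv_cancel_right])
  rcases hNn.eq_bot_or_eq_top with h | h
  · have hzc : z ∈ center G := by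
      rw [mem_center_iff]
      intro g
      have := hcomm g
      rw [h, mem_bot, mul_inv_eq_one, mul_inv_eq_iff_eq_mul] at this
      exact this.symm
    rw [H62.center_eq_bot_of_simple hG] at hzc
    exact hz1 hzc
  · rw [h, card_top, hn] at hNodd
    exact absurd hNodd (by decide)

/-- There is no simple group of order `5040`. -/
theorem false_of_card_5040 : False := by
  classical
  haveI : Fact (Nat.Prime 5) := ⟨by norm_num⟩
  haveI : Fact (Nat.Prime 2) := ⟨Nat.prime_two⟩
  have hG := not_comm5040 hn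
  obtain ⟨P⟩ := (inferInstance : Nonempty (Sylow 5 G))
  have hP := card_five5040 hn P
  have hN := card_normalizer_five hn P
  set N := normalizer ((P : Subgroup G) : Set G) with hNdef
  set C := centralizer ((P : Subgroup G) : Set G) with hCdef
  have hCN : C ≤ N := Subgroup.centralizer_le_normalizer _
  obtain ⟨c, r, hc, hrc, hrd, hr1, hpc⟩ := H65.centralizer_sylow_card P hP hG
  rw [← hNdef, hN] at hrc
  rw [← hCdef] at hc
  have hr4 : r = 2 ∨ r = 4 := by
    have h : r ∈ (4 : ℕ).divisors := Nat.mem_divisors.2 ⟨hrd, by norm_num⟩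
    rw [show (4 : ℕ).divisors = {1, 2, 4} by decide +kernel] at h
    simp only [Finset.mem_insert, Finset.mem_singleton] at h
    omega
  have hCcard : Nat.card C = 40 / r := by rw [hc]; rcases hr4 with rfl | rfl <;> omega
  -- Sylow `2`-subgroups
  obtain ⟨S₁⟩ := (inferInstance : Nonempty (Sylow 2 N))
  have hS₁ : Nat.card (S₁ : Subgroup N) = 8 := by
    simpa using H62.card_sylow_coe (a := 3) (m := 5) (by rw [hN]; norm_num) (by decide) S₁
  set S0 : Subgroup G := (S₁ : Subgroup N).map N.subtype with hS0def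
  have hS0 : Nat.card S0 = 8 := by
    rw [hS0def, Subgroup.card_map_of_injective (subtype_injective N), hS₁]
  have hS0N : S0 ≤ N := map_subtype_le _
  obtain ⟨S, hS0S⟩ := (show IsPGroup 2 S0 from S₁.isPGroup'.map N.subtype).exists_le_sylow
  have hS := card_two5040 hn S
  have hS0conj := conj_mem_of_index_two hS0S (by rw [hS, hS0])
  have hSN : ∀ g ∈ S, g ∈ N → g ∈ S0 := by
    intro g hgS hgN
    have hle : S0 ≤ (S : Subgroup G) ⊓ N := le_inf hS0S hS0N
    have hd1 := Subgroup.card_dvd_of_le (inf_le_left : (S : Subgroup G) ⊓ N ≤ S)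
    have hd2 := Subgroup.card_dvd_of_le (inf_le_right : (S : Subgroup G) ⊓ N ≤ N)
    rw [hS] at hd1
    rw [hN] at hd2
    have hd := Nat.dvd_gcd hd1 hd2
    norm_num at hd
    rw [eq_of_le_of_card_ge hle (by rw [hS0]; exact Nat.le_of_dvd (by norm_num) hd)]
    exact ⟨hgS, hgN⟩
  obtain ⟨s, hsS, hs0⟩ : ∃ s, s ∈ (S : Subgroup G) ∧ s ∉ S0 := by
    by_contra hcon
    push Not at hcon
    have := card_dvd_of_le (show (S : Subgroup G) ≤ S0 from hcon)
    rw [hS, hS0] at this
    norm_num at this
  have hsN : s ∉ N := fun h => hs0 (hSN s hsS h)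
  have hgen : N ≤ (P : Subgroup G) ⊔ S0 := by
    have hle : (P : Subgroup G) ⊔ S0 ≤ N := sup_le le_normalizer hS0N
    refine (eq_of_le_of_card_ge hle ?_).ge
    rw [hN]
    refine Nat.le_of_dvd Nat.card_pos (Nat.Coprime.mul_dvd_of_dvd_of_dvd (m := 5) (n := 8)
      (by norm_num) ?_ ?_)
    · exact (dvd_of_eq hP.symm).trans (card_dvd_of_le le_sup_left)
    · rw [← hS0]; exact card_dvd_of_le le_sup_right
  -- involutions central in `S0` and centralizing `P` have centralizer `N`
  have hcen : ∀ a : G, orderOf a = 2 → a ∈ C → (∀ v ∈ S0, Commute v a) →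
      centralizer ({a} : Set G) = N := by
    intro a ha haC hav
    refine centralizer_eq_normalizer_five hn P ha (hgen.trans (sup_le ?_ ?_))
    · exact fun v hv => mem_centralizer_singleton_iff.2 (mem_centralizer_iff.1 haC v hv)
    · exact fun v hv => mem_centralizer_singleton_iff.2 (hav v hv).eq
  -- such involutions are moved out of `C` by `s`
  have hmove : ∀ a : G, orderOf a = 2 → a ∈ C → (∀ v ∈ S0, Commute v a) →
      s * a * s⁻¹ ∉ C ∧ ∀ v ∈ S0, Commute v (s * a * s⁻¹) := by
    intro a ha haC hav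
    have hav' : ∀ v ∈ S0, Commute v (s * a * s⁻¹) := by
      intro v hv
      have h := (hav _ (hS0conj s⁻¹ (inv_mem hsS) v hv)).eq
      rw [inv_inv] at h
      calc v * (s * a * s⁻¹) = s * (s⁻¹ * v * s * a) * s⁻¹ := by group
        _ = s * (a * (s⁻¹ * v * s)) * s⁻¹ := by rw [h]
        _ = s * a * s⁻¹ * v := by group
    refine ⟨fun haC' => hsN ?_, hav'⟩
    have e1 := hcen a ha haC hav
    have e2 := hcen _ (by rw [← ha]; exact MulEquiv.orderOf_eq (MulAut.conj s) a) haC' hav'
    -- `s` normalizes `N`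
    have hsconj : ∀ g ∈ N, s * g * s⁻¹ ∈ N := by
      intro g hg
      rw [← e1, mem_centralizer_singleton_iff] at hg
      rw [← e2, mem_centralizer_singleton_iff]
      calc s * g * s⁻¹ * (s * a * s⁻¹) = s * (g * a) * s⁻¹ := by group
        _ = s * (a * g) * s⁻¹ := by rw [hg]
        _ = s * a * s⁻¹ * (s * g * s⁻¹) := by group
    apply Sylow.smul_eq_iff_mem_normalizer.1
    apply Sylow.ext
    have hle : ((s • P : Sylow 5 G) : Subgroup G) ≤ N := by
      rintro _ ⟨v, hv, rfl⟩
      exact hsconj v (le_normalizer hv)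
    have h5 : IsPGroup 5 ((s • P : Sylow 5 G) : Subgroup G) := (s • P).isPGroup'
    have h : ((s • P : Sylow 5 G) : Subgroup G) ⊓ normalizer ((P : Subgroup G) : Set G) =
        ((s • P : Sylow 5 G) : Subgroup G) ⊓ (P : Subgroup G) := h5.inf_normalizer_sylow P
    rw [← hNdef, inf_eq_left.2 hle] at h
    exact eq_of_le_of_card_ge (left_eq_inf.1 h)
      (by rw [hP, card_five5040 hn (s • P)])
  -- the intersection with the centralizer
  have hS0C : Nat.card (S0 ⊓ C : Subgroup G) * r ∣ 8 * r ∧ 8 ∣ Nat.card (S0 ⊓ C : Subgroup G) * r := by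
    refine ⟨mul_dvd_mul_right (hS0 ▸ card_dvd_of_le inf_le_left) r, ?_⟩
    have h : C.relIndex S0 ∣ C.relIndex N := by
      haveI : (C.subgroupOf N).Normal := by
        have := ((P : Subgroup G).normalizerMonoidHom).normal_ker
        rwa [normalizerMonoidHom_ker] at this
      rw [← relIndex_subgroupOf (H := C) hS0N]
      exact relIndex_dvd_index_of_normal (C.subgroupOf N) (S0.subgroupOf N)
    have e : C.relIndex N = r := by
      have h1 := (C.subgroupOf N).card_mul_index
      rw [Nat.card_congr (subgroupOfEquivOfLe hCN).toEquiv, hN, hc] at h1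
      show (C.subgroupOf N).index = r
      rcases hr4 with rfl | rfl <;> nlinarith
    rw [e] at h
    have h1 := (C.subgroupOf S0).card_mul_index
    rw [hS0] at h1
    have h2 : Nat.card (C.subgroupOf S0) = Nat.card (S0 ⊓ C : Subgroup G) := by
      rw [← Nat.card_congr (subgroupOfEquivOfLe (inf_le_left : S0 ⊓ C ≤ S0)).toEquiv,
        inf_subgroupOf_left]
    rw [h2] at h1
    calc 8 = Nat.card (S0 ⊓ C : Subgroup G) * (C.subgroupOf S0).index := h1.symm
      _ ∣ Nat.card (S0 ⊓ C : Subgroup G) * r := mul_dvd_mul_left _ h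
  -- the order of `S0 ∩ C`
  have hTd : Nat.card (S0 ⊓ C : Subgroup G) ∣ Nat.card C := card_dvd_of_le inf_le_right
  have hT8 : Nat.card (S0 ⊓ C : Subgroup G) ∣ 8 := hS0 ▸ card_dvd_of_le inf_le_left
  set T := (S0 ⊓ C : Subgroup G) with hTdef
  have hTcard : (r = 2 ∧ Nat.card T = 4) ∨ (r = 4 ∧ Nat.card T = 2) := by
    have hmem : Nat.card T ∈ (8 : ℕ).divisors := Nat.mem_divisors.2 ⟨hT8, by norm_num⟩
    rw [show (8 : ℕ).divisors = {1, 2, 4, 8} by decide +kernel] at hmem
    simp only [Finset.mem_insert, Finset.mem_singleton] at hmem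
    rw [hCcard] at hTd
    rcases hr4 with rfl | rfl <;> rcases hmem with h | h | h | h <;> rw [h] at hTd hS0C <;>
      first
        | exact Or.inl ⟨rfl, h⟩
        | exact Or.inr ⟨rfl, h⟩
        | (exfalso; revert hTd hS0C; norm_num)
  -- a central involution of `N` in `T`
  have hTconj : ∀ g ∈ S0, ∀ v ∈ T, g * v * g⁻¹ ∈ T := by
    intro g hg v hv
    refine Subgroup.mem_inf.2 ⟨mul_mem (mul_mem hg hv.1) (inv_mem hg), ?_⟩
    rw [hCdef, mem_centralizer_iff]
    intro w hw
    have hw' : g⁻¹ * w * g ∈ (P : Subgroup G) := by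
      have h2 := (mem_normalizer_iff.1 (inv_mem (hS0N hg)) w).1 hw
      rwa [inv_inv] at h2
    have h3 := mem_centralizer_iff.1 hv.2 _ hw'
    calc w * (g * v * g⁻¹) = g * ((g⁻¹ * w * g) * v) * g⁻¹ := by group
      _ = g * (v * (g⁻¹ * w * g)) * g⁻¹ := by rw [h3]
      _ = g * v * g⁻¹ * w := by group
  obtain ⟨z, hz, hzT, hzc⟩ : ∃ z, orderOf z = 2 ∧ z ∈ T ∧ ∀ v ∈ S0, Commute v z := by
    haveI hTn : (T.subgroupOf S0).Normal := ⟨fun v hv g => hTconj g g.2 v hv⟩
    have hp : IsPGroup 2 S0 := IsPGroup.of_card (n := 3) (by rw [hS0]; norm_num)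
    haveI : Nontrivial (T.subgroupOf S0) := by
      rw [← Finite.one_lt_card_iff_nontrivial, Nat.card_congr (subgroupOfEquivOfLe inf_le_left).toEquiv]
      rcases hTcard with ⟨-, h⟩ | ⟨-, h⟩ <;> rw [h] <;> norm_num
    have hne := H6.inf_center_ne_bot hp (N := T.subgroupOf S0) ((Subgroup.nontrivial_iff_ne_bot _).1 inferInstance)
    set K := T.subgroupOf S0 ⊓ center S0
    obtain ⟨k, hk⟩ := (hp.to_subgroup K).exists_card_eq
    have hk1 : 2 ∣ Nat.card K := by
      rw [hk]
      rcases k with _ | k
      · exfalso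
        exact hne (Subgroup.card_eq_one.1 (by simpa using hk))
      · exact dvd_pow_self 2 (by omega)
    obtain ⟨z, hzK, hzo⟩ := exists_mem_orderOf K 2 Nat.prime_two hk1
    refine ⟨z, by rw [orderOf_coe, hzo], hzK.1, fun v hv => ?_⟩
    exact congrArg Subtype.val (mem_center_iff.1 hzK.2 ⟨v, hv⟩)
  obtain ⟨hz'C, hz'c⟩ := hmove z hz hzT.2 hzc
  set z' := s * z * s⁻¹ with hz'def
  have hz'o : orderOf z' = 2 := by rw [← hz]; exact MulEquiv.orderOf_eq (MulAut.conj s) z
  have hz'S0 : z' ∈ S0 := hS0conj s hsS z hzT.1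
  have hzz : z * z = 1 := by rw [← sq, ← hz, pow_orderOf_eq_one]
  have hz'sq : z' * z' = 1 := by rw [← sq, ← hz'o, pow_orderOf_eq_one]
  rcases hTcard with ⟨-, hT⟩ | ⟨hr, hT⟩
  · -- `T` of order four is central in `S0`
    haveI : IsMulCommutative T :=
      IsPGroup.isMulCommutative_of_card_eq_prime_sq (p := 2) (by rw [hT]; norm_num)
    obtain ⟨Q, hTQ, hz'Q, hQc, hQmem⟩ := exists_two_coset_subgroup T z' (hTconj z' hz'S0)
      (fun k hk => by simpa using hTconj z'⁻¹ (inv_mem hz'S0) k hk)
      (by rw [hz'sq]; exact one_mem _) (fun h => hz'C h.2)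
    have hQS0 : Q ≤ S0 := by
      intro a ha
      rcases hQmem a ha with h | ⟨k, hk, rfl⟩
      · exact h.1
      · exact mul_mem hk.1 hz'S0
    have hQeq : Q = S0 := eq_of_le_of_card_ge hQS0 (by rw [hQc, hT, hS0])
    have hTcen : ∀ a ∈ T, ∀ v ∈ S0, Commute v a := by
      intro a ha v hv
      rw [← hQeq] at hv
      have hTT : ∀ b ∈ T, Commute b a := fun b hb =>
        congrArg Subtype.val (IsMulCommutative.is_comm.comm (⟨b, hb⟩ : T) ⟨a, ha⟩)
      rcases hQmem v hv with h | ⟨k, hk, rfl⟩
      · exact hTT v h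
      · exact (hTT k hk).mul_left (hz'c a ha.1).symm
    let T' : Subgroup G := T.map (MulAut.conj s).toMonoidHom
    have hT' : Nat.card T' = 4 := by
      rw [Subgroup.card_map_of_injective (MulEquiv.injective _), hT]
    have hT'S0 : T' ≤ S0 := by
      rintro _ ⟨v, hv, rfl⟩
      exact hS0conj s hsS v hv.1
    have hdisj : T ⊓ T' = ⊥ := by
      by_contra hne
      have hd4 : Nat.card (T ⊓ T' : Subgroup G) ∣ 4 := hT ▸ card_dvd_of_le inf_le_left
      have h2 : 2 ∣ Nat.card (T ⊓ T' : Subgroup G) := by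
        obtain ⟨k, -, hk⟩ := (Nat.dvd_prime_pow Nat.prime_two).1 (show _ ∣ 2 ^ 2 from hd4)
        rw [hk]
        rcases k with _ | k
        · exact absurd (Subgroup.card_eq_one.1 (by simpa using hk)) hne
        · exact dvd_pow_self 2 (by omega)
      obtain ⟨b, hb, hbo⟩ := exists_mem_orderOf _ 2 Nat.prime_two h2
      obtain ⟨a, haT, hab⟩ := hb.2
      have hao : orderOf a = 2 := by
        rw [← hbo, ← hab]
        exact (MulEquiv.orderOf_eq (MulAut.conj s) a).symm
      have hbT : s * a * s⁻¹ ∈ T := by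
        have : s * a * s⁻¹ = b := hab
        rw [this]; exact hb.1
      exact (hmove a hao haT.2 (hTcen a haT)).1 hbT.2
    -- two disjoint subgroups of order four in a group of order eight
    let f : T × T' → S0 := fun v => ⟨(v.1 : G) * v.2, mul_mem v.1.2.1 (hT'S0 v.2.2)⟩
    have hf : Function.Injective f := by
      rintro ⟨a, b⟩ ⟨a', b'⟩ h
      have h' : (a : G) * b = a' * b' := congrArg Subtype.val h
      have hmem : (a' : G)⁻¹ * a ∈ T ⊓ T' := by
        refine Subgroup.mem_inf.2 ⟨mul_mem (inv_mem a'.2) a.2, ?_⟩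
        rw [show (a' : G)⁻¹ * a = b' * (b : G)⁻¹ by
          calc (a' : G)⁻¹ * a = (a' : G)⁻¹ * (a * b) * (b : G)⁻¹ := by group
            _ = (a' : G)⁻¹ * (a' * b') * (b : G)⁻¹ := by rw [h']
            _ = b' * (b : G)⁻¹ := by group]
        exact mul_mem b'.2 (inv_mem b.2)
      rw [hdisj, mem_bot, inv_mul_eq_one] at hmem
      rw [← hmem] at h'
      exact Prod.ext (Subtype.ext hmem.symm) (Subtype.ext (mul_left_cancel h'))
    have := Nat.card_le_card_of_injective f hf
    rw [Nat.card_prod, hT, hT', hS0] at this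
    omega
  -- `T = {1, z}`
  subst hr
  have hTeq : ∀ a ∈ T, a = 1 ∨ a = z := by
    intro a ha
    have hz1 : z ≠ 1 := ne_one_of_orderOf_prime Nat.prime_two hz
    by_contra hcon
    push Not at hcon
    have : Fintype T := Fintype.ofFinite _
    have h3 : ({1, ⟨z, hzT⟩, ⟨a, ha⟩} : Finset T).card = 3 := by
      rw [Finset.card_insert_of_notMem, Finset.card_insert_of_notMem, Finset.card_singleton]
      · simpa using hcon.2.symm
      · simp only [Finset.mem_insert, Finset.mem_singleton, not_or]
        exact ⟨fun h => hz1 (congrArg Subtype.val h).symm, fun h => hcon.1 (congrArg Subtype.val h).symm⟩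
    have := Finset.card_le_univ ({1, ⟨z, hzT⟩, ⟨a, ha⟩} : Finset T)
    rw [← Nat.card_eq_fintype_card, hT, h3] at this
    omega
  -- an element of order four
  obtain ⟨g, hgN, -, hgC⟩ := exists_normalizer_generator P hP (r := 4) (by rw [← hCdef, ← hNdef, hN, hc]; omega)
  rw [← hCdef] at hgC
  obtain ⟨e, heS0, heC⟩ : ∃ e ∈ S0, e * e ∉ C := by
    have hmap : (P : Subgroup G) ⊔ S0 = N := le_antisymm (sup_le le_normalizer hS0N) hgen
    by_contra hcon
    push Not at hcon
    -- then all squares in `N` lie in `C`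
    let M : Subgroup G := C ⊔ S0
    have hM : N ≤ M := hgen.trans (sup_le (fun v hv => mem_sup_left (by
      obtain ⟨x, hxP, hx1, -⟩ := H65.exists_sylow_generator P hP
      have hv' : v ∈ zpowers x := by rw [(H65.sylow_eq_zpowers P hP hxP hx1).1]; exact hv
      obtain ⟨k, rfl⟩ := mem_zpowers_iff.1 hv'
      exact zpow_mem (mem_centralizer_of_commute P hP hxP hx1 (Commute.refl x)) k)) le_sup_right)
    have hCn : S0 ≤ normalizer (C : Set G) := by
      intro v hv
      have hvN := hS0N hv
      rw [mem_normalizer_iff]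
      intro w
      have hh : ∀ v ∈ N, ∀ w ∈ C, v * w * v⁻¹ ∈ C := by
        intro v hv w hw
        rw [hCdef, mem_centralizer_iff]
        intro y hy
        have hy' : v⁻¹ * y * v ∈ (P : Subgroup G) := by
          have h2 := (mem_normalizer_iff.1 (inv_mem hv) y).1 hy
          rwa [inv_inv] at h2
        have h3 := mem_centralizer_iff.1 hw _ hy'
        calc y * (v * w * v⁻¹) = v * ((v⁻¹ * y * v) * w) * v⁻¹ := by group
          _ = v * (w * (v⁻¹ * y * v)) * v⁻¹ := by rw [h3]
          _ = v * w * v⁻¹ * y := by group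
      refine ⟨hh v hvN w, fun h => ?_⟩
      have := hh v⁻¹ (inv_mem hvN) _ h
      rwa [show v⁻¹ * (v * w * v⁻¹) * v⁻¹⁻¹ = w by group] at this
    have hgM : g ∈ C ⊔ S0 := hM hgN
    rw [← SetLike.mem_coe, Subgroup.coe_mul_of_right_le_normalizer_left C S0 hCn] at hgM
    obtain ⟨a, ha, b, hb, rfl⟩ := Set.mem_mul.1 hgM
    have h2 : (a * b) ^ 2 ∈ C := by
      rw [sq, show a * b * (a * b) = a * (b * a * b⁻¹) * (b * b) by group]
      exact mul_mem (mul_mem ha ((mem_normalizer_iff.1 (hCn hb) a).1 ha)) (hcon b hb)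
    have := (hgC 2).1 h2
    omega
  set u := e * e with hu
  have heT : ∀ a ∈ S0, a ∈ C → a = 1 ∨ a = z := fun a ha haC => hTeq a ⟨ha, haC⟩
  have huS0 : u ∈ S0 := mul_mem heS0 heS0
  have he4 : orderOf e = 4 := by
    have hd : orderOf e ∣ 2 ^ 3 := by
      rw [show (2 : ℕ) ^ 3 = 8 by norm_num, ← hS0]
      exact Subgroup.orderOf_dvd_natCard _ heS0
    obtain ⟨k, hk3, hk⟩ := (Nat.dvd_prime_pow Nat.prime_two).1 hd
    interval_cases k
    · exfalso
      norm_num at hk
      rw [hu, hk, mul_one] at heC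
      exact heC (one_mem _)
    · exfalso
      norm_num at hk
      apply heC
      rw [hu, ← sq, ← hk, pow_orderOf_eq_one]
      exact one_mem _
    · simpa using hk
    · exfalso
      -- a cyclic group has one involution
      have hzp : zpowers e = S0 := eq_of_le_of_card_ge (zpowers_le.2 heS0) (by
        rw [Nat.card_zpowers, hk, hS0]; norm_num)
      have key : ∀ a ∈ S0, orderOf a = 2 → a = e ^ (4 : ℤ) := by
        intro a ha hao
        rw [← hzp] at ha
        obtain ⟨i, rfl⟩ := mem_zpowers_iff.1 ha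
        have h2 : e ^ i * e ^ i = 1 := by rw [← sq, ← hao, pow_orderOf_eq_one]
        rw [← zpow_add, ← orderOf_dvd_iff_zpow_eq_one, hk] at h2
        have h1 : e ^ i = e ^ (i % 8) := by
          have := zpow_mod_orderOf e i
          rw [hk] at this
          exact this.symm
        have h3 : i % 8 = 0 ∨ i % 8 = 4 := by omega
        rcases h3 with h3 | h3 <;> rw [h1, h3] at hao ⊢
        rw [zpow_zero, orderOf_one] at hao
        omega
      exact hz'C ((key z' hz'S0 hz'o).trans (key z hzT.1 hz).symm ▸ hzT.2)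
  have hu4 : u * u = 1 := by
    rw [hu, show e * e * (e * e) = e ^ 4 by simp [pow_succ, mul_assoc], ← he4, pow_orderOf_eq_one]
  have hu1 : u ≠ 1 := fun h => heC (h ▸ one_mem C)
  have huo : orderOf u = 2 := orderOf_eq_prime (by rw [sq, hu4]) hu1
  have hez : Commute e z := hzc e heS0
  -- the elements of `S0`
  have hzn : z ∉ zpowers e := by
    intro h
    have h1 := eq_sq_of_mem_zpowers_four he4 h hz
    exact heC (by rw [hu, ← h1]; exact hzT.2)
  obtain ⟨Q0, hE, -, hQ0c, hQ0mem⟩ := exists_two_coset_subgroup (zpowers e) z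
    (fun k hk => by
      obtain ⟨i, rfl⟩ := mem_zpowers_iff.1 hk
      rw [← (hez.zpow_left i).eq, mul_inv_cancel_right]
      exact zpow_mem (mem_zpowers e) i)
    (fun k hk => by
      obtain ⟨i, rfl⟩ := mem_zpowers_iff.1 hk
      rw [mul_assoc, (hez.zpow_left i).eq, inv_mul_cancel_left]
      exact zpow_mem (mem_zpowers e) i)
    (by rw [hzz]; exact one_mem _) hzn
  have hQ0 : Q0 = S0 := by
    refine eq_of_le_of_card_ge (fun a ha => ?_) (by rw [hQ0c, Nat.card_zpowers, he4, hS0])
    rcases hQ0mem a ha with h | ⟨k, hk, rfl⟩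
    · exact zpowers_le.2 heS0 h
    · exact mul_mem (zpowers_le.2 heS0 hk) hzT.1
  have hform : ∀ a ∈ S0, ∃ i : ℤ, a = e ^ i ∨ a = e ^ i * z := by
    intro a ha
    rw [← hQ0] at ha
    rcases hQ0mem a ha with h | ⟨k, hk, rfl⟩
    · obtain ⟨i, hi⟩ := mem_zpowers_iff.1 h
      exact ⟨i, Or.inl hi.symm⟩
    · obtain ⟨i, hi⟩ := mem_zpowers_iff.1 hk
      exact ⟨i, Or.inr (by rw [hi])⟩
  have hsq : ∀ a ∈ S0, a * a = 1 ∨ a * a = u := by
    intro a ha
    obtain ⟨i, hi⟩ := hform a ha
    have hh : a * a = e ^ i * e ^ i := by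
      rcases hi with rfl | rfl
      · rfl
      · calc e ^ i * z * (e ^ i * z) = e ^ i * (z * e ^ i) * z := by group
          _ = e ^ i * (e ^ i * z) * z := by rw [(hez.zpow_left i).eq]
          _ = e ^ i * e ^ i * (z * z) := by group
          _ = e ^ i * e ^ i := by rw [hzz, mul_one]
    rw [hh, ← zpow_add]
    have h1 : e ^ (i + i) = e ^ ((i + i) % 4) := by
      have := zpow_mod_orderOf e (i + i)
      rw [he4] at this
      exact this.symm
    rw [h1]
    rcases (show (i + i) % 4 = 0 ∨ (i + i) % 4 = 2 by omega) with h | h <;> rw [h]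
    · exact Or.inl (zpow_zero e)
    · exact Or.inr (zpow_two e)
  have hS0comm : ∀ a ∈ S0, ∀ b ∈ S0, Commute a b := by
    have he : ∀ b ∈ S0, Commute e b := by
      intro b hb
      obtain ⟨i, rfl | rfl⟩ := hform b hb
      · exact Commute.self_zpow e i
      · exact (Commute.self_zpow e i).mul_right hez
    intro a ha b hb
    obtain ⟨i, rfl | rfl⟩ := hform a ha
    · exact (he b hb).zpow_left i
    · exact ((he b hb).zpow_left i).mul_left (hzc b hb).symm
  -- `s` fixes `u`
  have hse : s * e * s⁻¹ ∈ S0 := hS0conj s hsS e heS0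
  have hsu : s * u * s⁻¹ = u := by
    rcases hsq _ hse with h | h
    · exfalso
      apply hu1
      have : s * u * s⁻¹ = 1 := by rw [hu, ← h]; group
      exact conj_eq_one_iff.1 this
    · exact Eq.trans (by rw [hu]; group) h
  have hz'uz : z' = u * z := by
    have hmem : ∀ a ∈ S0, orderOf a = 2 → a = u ∨ a = z ∨ a = u * z := by
      intro a ha hao
      obtain ⟨i, hi | hi⟩ := hform a ha
      · exact Or.inl (eq_sq_of_mem_zpowers_four he4 (hi ▸ zpow_mem (mem_zpowers e) i) hao)
      · by_cases h1 : e ^ i = 1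
        · exact Or.inr (Or.inl (by rw [hi, h1, one_mul]))
        · refine Or.inr (Or.inr ?_)
          have h2 : e ^ i * e ^ i = 1 := by
            have h3 : a * a = 1 := by rw [← sq, ← hao, pow_orderOf_eq_one]
            rw [hi] at h3
            rw [← h3]
            calc e ^ i * e ^ i = e ^ i * e ^ i * (z * z) := by rw [hzz, mul_one]
              _ = e ^ i * (e ^ i * z) * z := by group
              _ = e ^ i * (z * e ^ i) * z := by rw [(hez.zpow_left i).eq]
              _ = e ^ i * z * (e ^ i * z) := by group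
          have h4 : orderOf (e ^ i) = 2 := orderOf_eq_prime (by rw [sq, h2]) h1
          rw [hi, eq_sq_of_mem_zpowers_four he4 (zpow_mem (mem_zpowers e) i) h4]
    rcases hmem z' hz'S0 hz'o with h | h | h
    · exfalso
      rw [hz'def, ← hsu] at h
      exact heC ((mul_left_cancel (mul_right_cancel h)) ▸ hzT.2)
    · exact absurd (h ▸ hzT.2) hz'C
    · exact h
  -- an element of order four fixed by `s`
  obtain ⟨f, hfS0, hfo, hff, hfs, hzf⟩ : ∃ f ∈ S0, orderOf f = 4 ∧ f * f = u ∧
      s * f * s⁻¹ = f ∧ z ∉ zpowers f := by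
    have h2 : s * (s * e * s⁻¹) * s⁻¹ = e := by
      have hmem : s * s ∈ S0 := by
        have h1 := (S0.subgroupOf S).card_mul_index
        rw [Nat.card_congr (subgroupOfEquivOfLe hS0S).toEquiv, hS, hS0] at h1
        have hi : (S0.subgroupOf S).index = 2 := by omega
        exact Subgroup.mul_self_mem_of_index_two hi ⟨s, hsS⟩
      calc s * (s * e * s⁻¹) * s⁻¹ = s * s * e * (s * s)⁻¹ := by group
        _ = e * (s * s) * (s * s)⁻¹ := by rw [(hS0comm _ hmem e heS0).eq]
        _ = e := by group
    have key : s * e * s⁻¹ = e ∨ s * e * s⁻¹ = e⁻¹ := by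
      obtain ⟨i, hi⟩ := hform _ hse
      have hpow : s * e ^ i * s⁻¹ = (s * e * s⁻¹) ^ i := (conj_zpow).symm
      have hred : e ^ i = e ^ (i % 4) := by
        have := zpow_mod_orderOf e i
        rw [he4] at this
        exact this.symm
      have hodd : i % 4 = 1 ∨ i % 4 = 3 := by
        have hse4 : orderOf (s * e * s⁻¹) = 4 := by
          rw [← he4]; exact MulEquiv.orderOf_eq (MulAut.conj s) e
        rcases (show i % 4 = 0 ∨ i % 4 = 1 ∨ i % 4 = 2 ∨ i % 4 = 3 by omega) with h | h | h | h
        · exfalso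
          rw [hred, h, zpow_zero, one_mul] at hi
          rcases hi with hi | hi <;> rw [hi] at hse4
          · rw [orderOf_one] at hse4; omega
          · omega
        · exact Or.inl h
        · exfalso
          rw [hred, h, zpow_two, ← hu] at hi
          rcases hi with hi | hi <;> rw [hi] at hse4
          · omega
          · rw [← hz'uz, hz'o] at hse4; omega
        · exact Or.inr h
      rcases hi with hi | hi
      · rcases hodd with h | h <;> rw [hred, h] at hi
        · exact Or.inl (by rw [hi, zpow_one])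
        · refine Or.inr (by rw [hi]; apply eq_inv_of_mul_eq_one_left; rw [← zpow_add_one, show (3 : ℤ) + 1 = ((orderOf e : ℕ) : ℤ) by rw [he4]; norm_num, zpow_natCast, pow_orderOf_eq_one])
      · exfalso
        apply hu1
        have h3 : s * (e ^ i * z) * s⁻¹ = e := by rw [← hi]; exact h2
        have h4 : s * (e ^ i * z) * s⁻¹ = (s * e * s⁻¹) ^ i * (u * z) := by
          rw [← hz'uz, hz'def, ← hpow]; group
        rw [h4, hi, (hez.zpow_left i).mul_zpow] at h3
        rcases hodd with h | h
        · have hzi : z ^ i = z := by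
            rw [← Int.emod_add_mul_ediv i 4, h, zpow_add, zpow_mul, zpow_one,
              show z ^ (4 : ℤ) = 1 by rw [show (4 : ℤ) = 2 + 2 from rfl, zpow_add, zpow_two, hzz, one_mul],
              one_zpow, mul_one]
          rw [hzi, ← zpow_mul] at h3
          have hii : e ^ (i * i) = e := by
            have := zpow_mod_orderOf e (i * i)
            rw [he4] at this
            rw [← this, show ((i * i) % ((4 : ℕ) : ℤ)) = 1 by push_cast; rw [Int.mul_emod, h]; rfl, zpow_one]
          rw [hii] at h3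
          have h5 : z * (u * z) = 1 := mul_left_cancel (a := e) (by rw [← mul_assoc, h3, mul_one])
          rw [(hzc u huS0).eq, ← mul_assoc, hzz, one_mul] at h5
          exact h5
        · have hzi : z ^ i = z := by
            rw [← Int.emod_add_mul_ediv i 4, h, zpow_add, zpow_mul,
              show z ^ (4 : ℤ) = 1 by rw [show (4 : ℤ) = 2 + 2 from rfl, zpow_add, zpow_two, hzz, one_mul],
              one_zpow, mul_one, show (3 : ℤ) = 2 + 1 from rfl, zpow_add_one, zpow_two, hzz, one_mul]
          rw [hzi, ← zpow_mul] at h3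
          have hii : e ^ (i * i) = e := by
            have := zpow_mod_orderOf e (i * i)
            rw [he4] at this
            rw [← this, show ((i * i) % ((4 : ℕ) : ℤ)) = 1 by push_cast; rw [Int.mul_emod, h]; rfl, zpow_one]
          rw [hii] at h3
          have h5 : z * (u * z) = 1 := mul_left_cancel (a := e) (by rw [← mul_assoc, h3, mul_one])
          rw [(hzc u huS0).eq, ← mul_assoc, hzz, one_mul] at h5
          exact h5
    rcases key with h | h
    · exact ⟨e, heS0, he4, rfl, h, hzn⟩
    · have hff : e * z * (e * z) = u := by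
        calc e * z * (e * z) = e * (z * e) * z := by group
          _ = e * (e * z) * z := by rw [hez.eq]
          _ = e * e * (z * z) := by group
          _ = u := by rw [hzz, mul_one, hu]
      refine ⟨e * z, mul_mem heS0 hzT.1, ?_, hff, ?_, ?_⟩
      · rw [show (4 : ℕ) = 2 ^ (1 + 1) by norm_num]
        refine orderOf_eq_prime_pow ?_ ?_
        · rw [pow_one, sq, hff]; exact hu1
        · rw [show (2 : ℕ) ^ (1 + 1) = 2 * 2 by norm_num, pow_mul, sq (e * z), hff, sq, hu4]
      · calc s * (e * z) * s⁻¹ = (s * e * s⁻¹) * z' := by rw [hz'def]; group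
          _ = e⁻¹ * (e * e * z) := by rw [h, hz'uz, hu]
          _ = e * z := by group
      · intro hmem
        have h1 := eq_sq_of_mem_zpowers_four (by
          rw [show (4 : ℕ) = 2 ^ (1 + 1) by norm_num]
          refine orderOf_eq_prime_pow ?_ ?_
          · rw [pow_one, sq, hff]; exact hu1
          · rw [show (2 : ℕ) ^ (1 + 1) = 2 * 2 by norm_num, pow_mul, sq (e * z), hff, sq, hu4]) hmem hz
        rw [hff] at h1
        exact heC (h1 ▸ hzT.2)
  -- a subgroup of index two with `u` as its only involution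
  have hss : s * s ∈ zpowers f := by
    have hmem : s * s ∈ S0 := by
      have h1 := (S0.subgroupOf S).card_mul_index
      rw [Nat.card_congr (subgroupOfEquivOfLe hS0S).toEquiv, hS, hS0] at h1
      exact Subgroup.mul_self_mem_of_index_two (show (S0.subgroupOf S).index = 2 by omega) ⟨s, hsS⟩
    obtain ⟨Q1, -, -, hQ1c, hQ1mem⟩ := exists_two_coset_subgroup (zpowers f) z
      (fun k hk => by
        obtain ⟨i, rfl⟩ := mem_zpowers_iff.1 hk
        rw [← ((hzc f hfS0).zpow_left i).eq, mul_inv_cancel_right]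
        exact zpow_mem (mem_zpowers f) i)
      (fun k hk => by
        obtain ⟨i, rfl⟩ := mem_zpowers_iff.1 hk
        rw [mul_assoc, ((hzc f hfS0).zpow_left i).eq, inv_mul_cancel_left]
        exact zpow_mem (mem_zpowers f) i)
      (by rw [hzz]; exact one_mem _) hzf
    have hQ1 : Q1 = S0 := by
      refine eq_of_le_of_card_ge (fun a ha => ?_) (by rw [hQ1c, Nat.card_zpowers, hfo, hS0])
      rcases hQ1mem a ha with h | ⟨k, hk, rfl⟩
      · exact zpowers_le.2 hfS0 h
      · exact mul_mem (zpowers_le.2 hfS0 hk) hzT.1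
    rcases hQ1mem _ (hQ1 ▸ hmem) with h | ⟨k, hk, hkz⟩
    · exact h
    · exfalso
      have hfix : s * k * s⁻¹ = k := by
        obtain ⟨i, rfl⟩ := mem_zpowers_iff.1 hk
        rw [← conj_zpow, hfs]
      have h1 : k * z = k * (u * z) := by
        calc k * z = s * (k * z) * s⁻¹ := by rw [← hkz]; group
          _ = s * k * s⁻¹ * (s * z * s⁻¹) := by group
          _ = k * (u * z) := by rw [hfix, ← hz'def, hz'uz]
      have h2 := mul_left_cancel h1
      exact hu1 (mul_eq_right.1 h2.symm)
  have hfK : Commute f s := (mul_inv_eq_iff_eq_mul.1 hfs).symm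
  -- build the subgroup
  have main : ∀ (K : Subgroup G) (m : G), Nat.card K = 4 → K ≤ S → m ∈ S →
      (∀ k ∈ K, m * k * m⁻¹ ∈ K) → (∀ k ∈ K, m⁻¹ * k * m ∈ K) → m * m ∈ K → m ∉ K →
      (∀ k ∈ K, orderOf k = 2 → k = u) → (∀ k ∈ K, k * m * (k * m) ≠ 1) → False := by
    intro K m hK hKS hmS h1 h2 h3 h4 h5 h6
    obtain ⟨Q, -, -, hQc, hQmem⟩ := exists_two_coset_subgroup K m h1 h2 h3 h4
    have hQS : Q ≤ (S : Subgroup G) := by
      intro a ha
      rcases hQmem a ha with h | ⟨k, hk, rfl⟩
      · exact hKS h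
      · exact mul_mem (hKS hk) hmS
    have hQi : Q.relIndex (S : Subgroup G) = 2 := by
      have h7 := (Q.subgroupOf S).card_mul_index
      rw [Nat.card_congr (subgroupOfEquivOfLe hQS).toEquiv, hS, hQc, hK] at h7
      show (Q.subgroupOf S).index = 2
      omega
    rcases H6.thompson_transfer S Q hQS hQi z hz with ⟨M, hMn, hM2, -⟩ | ⟨b, hb⟩
    · rcases hMn.eq_bot_or_eq_top with h | h <;> rw [h] at hM2
      · rw [index_bot, hn] at hM2; omega
      · rw [index_top] at hM2; omega
    · have hbo : orderOf (b * z * b⁻¹) = 2 := by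
        rw [← hz]; exact MulEquiv.orderOf_eq (MulAut.conj b) z
      have hbu : b * z * b⁻¹ = u := by
        rcases hQmem _ hb with h | ⟨k, hk, hk'⟩
        · exact h5 _ h hbo
        · exfalso
          refine h6 k hk ?_
          rw [← hk', ← sq, ← hbo, pow_orderOf_eq_one]
      -- `u` is central in `S`
      have hSu : (S : Subgroup G) ≤ centralizer ({u} : Set G) := by
        obtain ⟨Q2, hQ2a, hsQ2, hQ2c, hQ2mem⟩ := exists_two_coset_subgroup S0 s (hS0conj s hsS)
          (fun k hk => by simpa using hS0conj s⁻¹ (inv_mem hsS) k hk)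
          (by
            have h1 := (S0.subgroupOf S).card_mul_index
            rw [Nat.card_congr (subgroupOfEquivOfLe hS0S).toEquiv, hS, hS0] at h1
            exact Subgroup.mul_self_mem_of_index_two (show (S0.subgroupOf S).index = 2 by omega) ⟨s, hsS⟩)
          hs0
        have hQ2 : Q2 = (S : Subgroup G) := by
          refine eq_of_le_of_card_ge (fun a ha => ?_) (by rw [hQ2c, hS0, hS])
          rcases hQ2mem a ha with h | ⟨k, hk, rfl⟩
          · exact hS0S h
          · exact mul_mem (hS0S hk) hsS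
        intro a ha
        rw [← hQ2] at ha
        rw [mem_centralizer_singleton_iff]
        have hsu' : s * u = u * s := mul_inv_eq_iff_eq_mul.1 hsu
        rcases hQ2mem a ha with h | ⟨k, hk, rfl⟩
        · exact (hS0comm a h u huS0).eq
        · exact ((hS0comm k hk u huS0).mul_left hsu').eq
      have h16 : 16 ∣ Nat.card (centralizer ({u} : Set G)) := hS ▸ card_dvd_of_le hSu
      have hCz := hcen z hz hzT.2 hzc
      have e : Nat.card (centralizer ({u} : Set G)) = Nat.card (centralizer ({z} : Set G)) := by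
        rw [← hbu]
        refine (Nat.card_congr ?_).symm
        exact
          { toFun := fun a => ⟨b * a.1 * b⁻¹, mem_centralizer_singleton_iff.2 (by
              calc b * a.1 * b⁻¹ * (b * z * b⁻¹) = b * (a.1 * z) * b⁻¹ := by group
                _ = b * (z * a.1) * b⁻¹ := by rw [mem_centralizer_singleton_iff.1 a.2]
                _ = b * z * b⁻¹ * (b * a.1 * b⁻¹) := by group)⟩
            invFun := fun a => ⟨b⁻¹ * a.1 * b, mem_centralizer_singleton_iff.2 (by
              calc b⁻¹ * a.1 * b * z = b⁻¹ * (a.1 * (b * z * b⁻¹)) * b := by group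
                _ = b⁻¹ * (b * z * b⁻¹ * a.1) * b := by rw [mem_centralizer_singleton_iff.1 a.2]
                _ = z * (b⁻¹ * a.1 * b) := by group)⟩
            left_inv := fun a => Subtype.ext (by group)
            right_inv := fun a => Subtype.ext (by group) }
      rw [e, hCz, hN] at h16
      norm_num at h16
  have hKinv : ∀ g : G, orderOf g = 4 → g * g = u → ∀ k ∈ zpowers g, orderOf k = 2 → k = u :=
    fun g hg hg2 k hk hko => (eq_sq_of_mem_zpowers_four hg hk hko).trans hg2
  obtain ⟨i, hi⟩ := mem_zpowers_iff.1 hss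
  rcases Int.even_or_odd i with ⟨j, hj⟩ | ⟨j, hj⟩
  · -- quaternion subgroup
    set a := s * f ^ (-j) with ha
    have haS : a ∈ (S : Subgroup G) := mul_mem hsS (zpow_mem (hS0S hfS0) _)
    have ha0 : a ∉ S0 := fun h => hs0 (by
      have := mul_mem h (inv_mem (zpow_mem hfS0 (-j)))
      rwa [ha, mul_inv_cancel_right] at this)
    have haa : a * a = 1 := by
      calc a * a = s * (f ^ (-j) * s) * f ^ (-j) := by rw [ha]; group
        _ = s * (s * f ^ (-j)) * f ^ (-j) := by rw [(hfK.zpow_left (-j)).eq]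
        _ = s * s * (f ^ (-j) * f ^ (-j)) := by group
        _ = 1 := by rw [← hi, hj, ← zpow_add, ← zpow_add]; norm_num
    have haf : Commute a f := by
      rw [ha]; exact (hfK.symm).mul_left ((Commute.refl f).zpow_left _)
    have hfz : Commute f z := hzc f hfS0
    have haz : a * z * a⁻¹ = u * z := by
      calc a * z * a⁻¹ = s * (f ^ (-j) * z) * (f ^ (-j))⁻¹ * s⁻¹ := by rw [ha]; group
        _ = s * (z * f ^ (-j)) * (f ^ (-j))⁻¹ * s⁻¹ := by rw [(hfz.zpow_left (-j)).eq]
        _ = s * z * s⁻¹ := by group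
        _ = u * z := hz'uz
    have hfzo : f * z * (f * z) = u := by
      calc f * z * (f * z) = f * (z * f) * z := by group
        _ = f * (f * z) * z := by rw [hfz.eq]
        _ = f * f * (z * z) := by group
        _ = u := by rw [hzz, mul_one, hff]
    have hfz4 : orderOf (f * z) = 4 := by
      rw [show (4 : ℕ) = 2 ^ (1 + 1) by norm_num]
      refine orderOf_eq_prime_pow ?_ ?_
      · rw [pow_one, sq, hfzo]; exact hu1
      · rw [show (2 : ℕ) ^ (1 + 1) = 2 * 2 by norm_num, pow_mul, sq (f * z), hfzo, sq, hu4]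
    have hconj : (z * a) * (f * z) * (z * a)⁻¹ = (f * z)⁻¹ := by
      rw [eq_inv_iff_mul_eq_one]
      calc z * a * (f * z) * (z * a)⁻¹ * (f * z)
          = z * (a * f) * z * a⁻¹ * z⁻¹ * (f * z) := by group
        _ = z * (f * a) * z * a⁻¹ * z⁻¹ * (f * z) := by rw [haf.eq]
        _ = z * f * (a * z * a⁻¹) * z⁻¹ * (f * z) := by group
        _ = z * f * u * (f * z) := by rw [haz]; group
        _ = (f * z) * u * (f * z) := by rw [hfz.eq]
        _ = (f * z) * (f * z) * (f * z) * (f * z) := by rw [← hfzo]; group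
        _ = 1 := by rw [mul_assoc (f * z * (f * z)), hfzo, hu4]
    have hm2 : z * a * (z * a) = u := by
      calc z * a * (z * a) = z * (a * z * a⁻¹) * (a * a) := by group
        _ = z * (u * z) := by rw [haz, haa, mul_one]
        _ = u * z * z := by rw [← mul_assoc, (hzc u huS0).symm.eq]
        _ = u := by rw [mul_assoc, hzz, mul_one]
    have hcj : ∀ k ∈ zpowers (f * z), z * a * k * (z * a)⁻¹ = k⁻¹ := by
      intro k hk
      obtain ⟨l, rfl⟩ := mem_zpowers_iff.1 hk
      rw [← conj_zpow, hconj, inv_zpow]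
    refine main (zpowers (f * z)) (z * a) (by rw [Nat.card_zpowers, hfz4])
      (zpowers_le.2 (mul_mem (hS0S hfS0) (hS0S hzT.1))) (mul_mem (hS0S hzT.1) haS)
      (fun k hk => by rw [hcj k hk]; exact inv_mem hk) (fun k hk => ?_) ?_ ?_
      (hKinv _ hfz4 hfzo) (fun k hk => ?_)
    · have h := hcj k⁻¹ (inv_mem hk)
      rw [inv_inv] at h
      have h' : (z * a)⁻¹ * (z * a * k⁻¹ * (z * a)⁻¹) * (z * a) = k⁻¹ := by group
      rw [h] at h'
      have : (z * a)⁻¹ * k * (z * a) = k⁻¹ := h'
      rw [this]; exact inv_mem hk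
    · rw [hm2, ← hfzo]; exact mul_mem (mem_zpowers _) (mem_zpowers _)
    · intro h
      exact ha0 (by
        have := mul_mem (inv_mem (show z ∈ S0 from hzT.1)) ((zpowers_le.2 (mul_mem hfS0 hzT.1)) h)
        rwa [inv_mul_cancel_left] at this)
    · rw [show k * (z * a) * (k * (z * a)) = k * ((z * a) * k * (z * a)⁻¹) * (z * a * (z * a)) by group,
        hcj k hk, mul_inv_cancel, one_mul, hm2]
      exact hu1
  · -- cyclic subgroup
    have hfsK : ∀ k ∈ zpowers f, Commute k s := fun k hk => by
      obtain ⟨l, rfl⟩ := mem_zpowers_iff.1 hk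
      exact hfK.zpow_left l
    refine main (zpowers f) s (by rw [Nat.card_zpowers, hfo]) (zpowers_le.2 (hS0S hfS0)) hsS
      (fun k hk => by rw [← (hfsK k hk).eq, mul_inv_cancel_right]; exact hk)
      (fun k hk => by rw [mul_assoc, (hfsK k hk).eq, inv_mul_cancel_left]; exact hk)
      hss (fun h => hs0 (zpowers_le.2 hfS0 h)) (hKinv _ hfo hff) (fun k hk => ?_)
    obtain ⟨l, rfl⟩ := mem_zpowers_iff.1 hk
    rw [show f ^ l * s * (f ^ l * s) = f ^ l * (s * f ^ l) * s by group,
      ← ((hfK.zpow_left l)).eq, show f ^ l * (f ^ l * s) * s = f ^ l * f ^ l * (s * s) by group,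
      ← hi, ← zpow_add, ← zpow_add, Ne, ← orderOf_dvd_iff_zpow_eq_one, hfo, hj]
    intro hd
    omega

end H70
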