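import Cfsg.Agent.H70.S6Recognition

/-! The classification part: `C(t)` or `S₆`. -/

set_option autoImplicit false
open Equiv

namespace H70.S6

variable {G : Type*} [Group G]

theorem alt6_noncomm : ∃ a b : ↥(alternatingGroup (Fin 6)), a * b ≠ b * a :=
  ⟨⟨swap 0 1 * swap 2 3, Perm.mem_alternatingGroup.mpr (by decide +kernel)⟩,
    ⟨swap 0 2 * swap 4 5, Perm.mem_alternatingGroup.mpr (by decide +kernel)⟩,
    fun h => absurd (congrArg Subtype.val h) (by decide +kernel)⟩

theorem isSolvable_M : Group.IsSolvable M := by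
  refine H33.isSolvable_of_two_primes Nat.prime_two Nat.prime_three fun r hr hd => ?_
  rw [Nat.card_eq_fintype_card, card_M] at hd
  rw [show (48 : ℕ) = 2 ^ 4 * 3 by norm_num] at hd
  rcases (Nat.Prime.dvd_mul hr).mp hd with h | h
  · exact Or.inl ((Nat.prime_dvd_prime_iff_eq hr Nat.prime_two).mp (hr.dvd_of_dvd_pow h))
  · exact Or.inr ((Nat.prime_dvd_prime_iff_eq hr Nat.prime_three).mp h)

/-- An automorphism of `A₆` fixing an element of order three preserves the 3-cycles. -/
theorem preserves_threeCycle (φ : MulAut ↥(alternatingGroup (Fin 6)))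
    {u : ↥(alternatingGroup (Fin 6))} (hu : orderOf u = 3) (hfix : φ u = u)
    (c : ↥(alternatingGroup (Fin 6))) (hc : Perm.IsThreeCycle (c : Perm (Fin 6))) :
    Perm.IsThreeCycle (φ c : Perm (Fin 6)) := by
  have htype : ∀ w : Perm (Fin 6), orderOf w = 3 →
      w.cycleType = {3} ∨ w.cycleType = Multiset.replicate 2 3 := by
    intro w hw
    obtain ⟨k, hk⟩ := Perm.cycleType_prime_order (σ := w) (hw ▸ Nat.prime_three)
    rw [hw] at hk
    have hs := Perm.sum_cycleType_le w
    rw [hk, Multiset.sum_replicate, Fintype.card_fin, smul_eq_mul] at hs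
    rcases k with _ | _ | k
    · exact Or.inl (by rw [hk]; rfl)
    · exact Or.inr hk
    · omega
  have hinner : ∀ x y : ↥(alternatingGroup (Fin 6)), (x : Perm (Fin 6)).cycleType = Multiset.replicate 2 3 →
      (y : Perm (Fin 6)).cycleType = Multiset.replicate 2 3 → IsConj x y := by
    intro x y hx hy
    obtain ⟨hτ, hτd, hd⟩ := six_facts
    set d : Perm (Fin 6) := swap 0 2 * swap 0 1 * (swap 3 5 * swap 3 4)
    set τ : Perm (Fin 6) := swap 0 3 * swap 1 4 * swap 2 5
    obtain ⟨a, ha⟩ := isConj_iff.mp (Perm.isConj_iff_cycleType_eq.mpr (hd.trans hx.symm))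
    obtain ⟨b, hb⟩ := isConj_iff.mp (Perm.isConj_iff_cycleType_eq.mpr (hd.trans hy.symm))
    have hτc : τ * d * τ⁻¹ = d := by rw [hτd, mul_inv_cancel_right]
    obtain ⟨σ, hσ, hσxy⟩ : ∃ σ : Perm (Fin 6), Perm.sign σ = 1 ∧
        σ * (x : Perm (Fin 6)) * σ⁻¹ = y := by
      rcases Int.units_eq_one_or (Perm.sign (b * a⁻¹)) with h | h
      · exact ⟨b * a⁻¹, h, by rw [← ha, ← hb]; group⟩
      · refine ⟨b * τ * a⁻¹, ?_, ?_⟩
        · rw [map_mul, map_mul, hτ]
          rw [map_mul] at h
          calc Perm.sign b * -1 * Perm.sign a⁻¹ = -(Perm.sign b * Perm.sign a⁻¹) := by simp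
            _ = 1 := by rw [h, neg_neg]
        · rw [← ha, ← hb]
          calc b * τ * a⁻¹ * (a * d * a⁻¹) * (b * τ * a⁻¹)⁻¹ = b * (τ * d * τ⁻¹) * b⁻¹ := by group
            _ = b * d * b⁻¹ := by rw [hτc]
    exact isConj_iff.mpr ⟨⟨σ, Perm.mem_alternatingGroup.mpr hσ⟩, Subtype.ext hσxy⟩
  have hconjtype : ∀ x y : ↥(alternatingGroup (Fin 6)), IsConj x y →
      (x : Perm (Fin 6)).cycleType = (y : Perm (Fin 6)).cycleType := by
    intro x y h
    obtain ⟨a, rfl⟩ := isConj_iff.mp h
    show _ = ((a : Perm (Fin 6)) * x * (a : Perm (Fin 6))⁻¹).cycleType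
    rw [Perm.cycleType_conj]
  have hc3 : orderOf (φ c : Perm (Fin 6)) = 3 := by
    rw [Subgroup.orderOf_coe, MulEquiv.orderOf_eq, ← Subgroup.orderOf_coe, hc.orderOf]
  rcases htype _ hc3 with h | h
  · exact h
  exfalso
  rcases htype (u : Perm (Fin 6)) (by rw [Subgroup.orderOf_coe, hu]) with hu3 | hu2
  · have hcu : IsConj c u := alternatingGroup.isThreeCycle_isConj (by simp) hc hu3
    have h1 := hconjtype _ _ (MonoidHom.map_isConj φ.toMonoidHom hcu)
    change (φ c : Perm (Fin 6)).cycleType = (φ u : Perm (Fin 6)).cycleType at h1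
    rw [hfix, h, hu3] at h1
    exact absurd (congrArg Multiset.card h1) (by simp)
  · have hcu : IsConj (φ c) u := hinner _ _ h hu2
    have h1 := hconjtype _ _ (MonoidHom.map_isConj φ.symm.toMonoidHom hcu)
    change (φ.symm (φ c) : Perm (Fin 6)).cycleType = (φ.symm u : Perm (Fin 6)).cycleType at h1
    rw [MulEquiv.symm_apply_apply, φ.symm_apply_eq.mpr hfix.symm, hu2, hc.cycleType] at h1
    exact absurd (congrArg Multiset.card h1) (by simp)

variable [Finite G] {ι : M →* G} (hc : Config ι)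
include hc

theorem classify :
    (Subgroup.centralizer ({ι T0} : Set G) = ⊤ ∧ Group.IsSolvable G) ∨
      (¬ Group.IsSolvable G ∧ Nonempty (G ≃* Perm (Fin 6))) := by
  classical
  set C := Subgroup.centralizer ({ι T0} : Set G) with hC
  by_cases hne : C = ⊤
  · refine Or.inl ⟨hne, ?_⟩
    have hsurj : Function.Surjective ι := by
      rw [← MonoidHom.range_eq_top, hc.range_eq]; exact hne
    haveI := isSolvable_M
    exact Group.isSolvable_of_surjective hsurj
  right
  have hbig := card_gt hc hne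
  obtain ⟨H, hHn, hH2, htH⟩ := exists_index_two hc
  haveI := hHn
  have hzH : ι Z0 ∈ H := by
    obtain ⟨m, n, -, -, hmn⟩ := exists_commutator_Z0
    rw [← hmn]
    simp only [map_mul, map_inv]
    have h1 := Subgroup.mul_mem_iff_of_index_two hH2 (a := ι m) (b := ι n)
    have h2 := Subgroup.mul_mem_iff_of_index_two hH2 (a := ι m * ι n) (b := (ι m)⁻¹)
    have h3 := Subgroup.mul_mem_iff_of_index_two hH2 (a := ι m * ι n * (ι m)⁻¹) (b := (ι n)⁻¹)
    rw [Subgroup.inv_mem_iff] at h2 h3
    tauto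
  set K := H.comap ι with hK
  have hKT : (T0 : M) ∉ K := htH
  have hmod : ∀ a b : M, (a * b ∈ K ↔ (a ∈ K ↔ b ∈ K)) := fun a b => by
    simp only [hK, Subgroup.mem_comap, map_mul]
    exact Subgroup.mul_mem_iff_of_index_two hH2
  have hK2 : K.index = 2 := by
    rw [Subgroup.index_eq_two_iff]
    refine ⟨T0, fun b => ?_⟩
    rw [xor_iff_iff_not]
    have := hmod b T0
    tauto
  -- `C_H(z)` is dihedral
  have hD : Nonempty (↥(Subgroup.centralizer ({(⟨ι Z0, hzH⟩ : ↥H)} : Set ↥H)) ≃* DihedralGroup 4) := by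
    have hmem : ∀ h : ↥H, h ∈ Subgroup.centralizer ({(⟨ι Z0, hzH⟩ : ↥H)} : Set ↥H) →
        ∃ m : M, m * Z0 = Z0 * m ∧ ι m = (h : G) := fun h hh => by
      have h1 : (h : G) ∈ Subgroup.centralizer ({ι Z0} : Set G) :=
        Subgroup.mem_centralizer_singleton_iff.mpr
          (congrArg Subtype.val (Subgroup.mem_centralizer_singleton_iff.mp hh))
      rw [hc.cent_z] at h1
      obtain ⟨m, hm, hme⟩ := h1
      exact ⟨m, Subgroup.mem_centralizer_singleton_iff.mp hm, hme⟩
    choose f hf1 hf2 using hmem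
    let φ : ↥(Subgroup.centralizer ({(⟨ι Z0, hzH⟩ : ↥H)} : Set ↥H)) →*
        ↥(Subgroup.centralizer ({Z0.2} : Set (Perm (Fin 4)))) :=
      { toFun := fun h => ⟨(f h h.2).2, Subgroup.mem_centralizer_singleton_iff.mpr
          (congrArg Prod.snd (hf1 h h.2))⟩
        map_one' := Subtype.ext (congrArg Prod.snd
          (show f _ _ = (1 : M) from hc.inj (by rw [hf2, map_one]; rfl)))
        map_mul' := fun a b => Subtype.ext (congrArg Prod.snd
          (show f _ (a * b).2 = f _ a.2 * f _ b.2 from hc.inj (by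
            rw [map_mul, hf2, hf2, hf2]; rfl))) }
    have hφ : Function.Bijective φ := by
      constructor
      · intro a b hab
        have h2 : (f _ a.2).2 = (f _ b.2).2 := congrArg Subtype.val hab
        have haK : f _ a.2 ∈ K := by rw [hK, Subgroup.mem_comap, hf2]; exact (a : ↥H).2
        have hbK : f _ b.2 ∈ K := by rw [hK, Subgroup.mem_comap, hf2]; exact (b : ↥H).2
        have hd : (f _ a.2)⁻¹ * f _ b.2 = 1 := by
          set d := (f _ a.2)⁻¹ * f _ b.2 with hd
          have hdK : d ∈ K := mul_mem (inv_mem haK) hbK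
          have hd2 : d.2 = 1 := by rw [hd, Prod.snd_mul, Prod.snd_inv, h2, inv_mul_cancel]
          have : d.1 = 1 ∨ d.1 = Multiplicative.ofAdd 1 := by
            generalize d.1 = w; revert w; decide
          rcases this with h | h
          · exact Prod.ext h hd2
          · exact absurd (show (T0 : M) ∈ K from (Prod.ext h hd2 : d = T0) ▸ hdK) hKT
        exact Subtype.ext (Subtype.ext (by rw [← hf2 _ a.2, ← hf2 _ b.2, inv_mul_eq_one.mp hd]))
      · rintro ⟨σ, hσ⟩
        have hσ' := Subgroup.mem_centralizer_singleton_iff.mp hσ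
        have hm : ∃ m : M, m.2 = σ ∧ m ∈ K := by
          by_cases h : ((1, σ) : M) ∈ K
          · exact ⟨_, rfl, h⟩
          · refine ⟨(1, σ) * T0, by simp, ?_⟩
            rw [hmod]; tauto
        obtain ⟨m, hm2, hmK⟩ := hm
        have hmZ : m * Z0 = Z0 * m := Prod.ext (mul_comm _ _)
          (by rw [Prod.snd_mul, Prod.snd_mul, hm2]; exact hσ')
        have hmemC : (⟨ι m, hmK⟩ : ↥H) ∈ Subgroup.centralizer ({(⟨ι Z0, hzH⟩ : ↥H)} : Set ↥H) :=
          Subgroup.mem_centralizer_singleton_iff.mpr (Subtype.ext (by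
            show ι m * ι Z0 = ι Z0 * ι m
            rw [← map_mul, hmZ, map_mul]))
        refine ⟨⟨_, hmemC⟩, Subtype.ext ?_⟩
        show (f _ hmemC).2 = σ
        rw [show f _ hmemC = m from hc.inj (hf2 _ hmemC), hm2]
    let E := MulEquiv.ofBijective φ hφ
    obtain ⟨hcard, c, x, hcC, hxC, hc4, hc2, hx2, hx1, hxc, hxc2, hxc3, hinv⟩ := dihedral_data
    set Z4 := Subgroup.centralizer ({Z0.2} : Set (Perm (Fin 4)))
    have hZ8 : Nat.card Z4 = 8 := by
      rw [← hcard, ← Nat.card_eq_fintype_card]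
      exact Nat.card_congr (Equiv.subtypeEquivRight fun m => Subgroup.mem_centralizer_singleton_iff)
    set c' : ↥Z4 := ⟨c, Subgroup.mem_centralizer_singleton_iff.mpr hcC⟩ with hc'
    have hco : orderOf c' = 4 := by
      haveI : Fact (Nat.Prime 2) := ⟨Nat.prime_two⟩
      rw [hc', Subgroup.orderOf_mk]
      exact orderOf_eq_prime_pow (p := 2) (n := 1) (by rw [pow_one]; exact hc2) (by norm_num; exact hc4)
    obtain ⟨e⟩ := H70.nonempty_mulEquiv_dihedral (c := c')
      (x := ⟨x, Subgroup.mem_centralizer_singleton_iff.mpr hxC⟩) (by rw [hco, hZ8])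
      (Subtype.ext hx2)
      (fun h => by
        obtain ⟨k, hk⟩ := (mem_powers_iff_mem_zpowers.mpr h : _ ∈ Submonoid.powers c')
        have hk' : c ^ k = x := by simpa [hc'] using congrArg Subtype.val hk
        rw [← Nat.mod_add_div k 4, pow_add, pow_mul, hc4, one_pow, mul_one] at hk'
        have := Nat.mod_lt k (show 4 > 0 by norm_num)
        interval_cases h4 : k % 4
        · exact hx1 (by rw [← hk', pow_zero])
        · exact hxc (by rw [← hk', pow_one])
        · exact hxc2 hk'.symm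
        · exact hxc3 hk'.symm)
      (Subtype.ext hinv)
    rw [hco] at e
    exact ⟨E.trans e⟩
  -- the order of `C_H(t)` and `G`
  have hGH : Nat.card G = Nat.card H * 2 := by rw [← hH2, H.card_mul_index]
  have hK24 : Nat.card K = 24 := by
    have := K.card_mul_index
    rw [hK2, Nat.card_eq_fintype_card (α := M), card_M] at this
    omega
  have hzord : orderOf (⟨ι Z0, hzH⟩ : ↥H) = 2 := by rw [Subgroup.orderOf_mk]; exact orderOf_z hc
  have hA6 : Nonempty (↥H ≃* ↥(alternatingGroup (Fin 6))) := by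
    rcases H78.D8.dihedral_eight_centralizer hzord hD with h | ⟨⟨e⟩⟩ | ⟨⟨e⟩⟩ | ⟨⟨e⟩⟩ | h
    · exfalso
      have hO : Cfsg.oddCore ↥H = ⊥ := by
        have h1 : (Cfsg.oddCore ↥H).map H.subtype ≤ Cfsg.oddCore G := by
          haveI : ((Cfsg.oddCore ↥H).map H.subtype).Normal := by
            haveI := H1.pPrimeCore_characteristic 2 ↥H
            exact H1.map_subtype_normal_of_characteristic H _
          refine H1.le_pPrimeCore ?_
          rw [Subgroup.card_map_of_injective H.subtype_injective]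
          exact H1.card_pPrimeCore_coprime 2 ↥H
        rw [oddCore_eq_bot hc, le_bot_iff, Subgroup.map_eq_bot_iff_of_injective _ H.subtype_injective] at h1
        exact h1
      rw [hO, sup_bot_eq] at h
      have h8 : Nat.card H = 8 := by
        obtain ⟨e⟩ := hD
        rw [← Nat.card_congr Subgroup.topEquiv.toEquiv, ← h, Nat.card_congr e.toEquiv,
          DihedralGroup.nat_card]
      omega
    · exfalso
      rw [Nat.card_congr e.toEquiv, Nat.card_perm, Nat.card_fin] at hGH
      simp [Nat.factorial] at hGH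
      omega
    · exfalso
      rw [Nat.card_congr e.toEquiv, Nat.card_perm, Nat.card_fin] at hGH
      simp [Nat.factorial] at hGH
      omega
    · exfalso
      rw [Nat.card_congr e.toEquiv, Nat.card_eq_fintype_card (α := Matrix.SpecialLinearGroup (Fin 3) (ZMod 2)),
        show Fintype.card (Matrix.SpecialLinearGroup (Fin 3) (ZMod 2)) = 168 from by decide +kernel] at hGH
      omega
    · exact h
  obtain ⟨e6⟩ := hA6
  haveI hsimple : IsSimpleGroup ↥(alternatingGroup (Fin 6)) :=
    alternatingGroup.isSimpleGroup (by simp)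
  have hA360 : Nat.card ↥(alternatingGroup (Fin 6)) = 360 := by
    rw [nat_card_alternatingGroup, Nat.card_fin]
    rfl
  have hG720 : Nat.card G = 720 := by rw [hGH, Nat.card_congr e6.toEquiv, hA360]
  refine ⟨fun hsol => ?_, ?_⟩
  · haveI := hsol
    haveI : Group.IsSolvable ↥(alternatingGroup (Fin 6)) :=
      Group.isSolvable_of_surjective (f := e6.toMonoidHom) e6.surjective
    obtain ⟨a, b, hab⟩ := alt6_noncomm
    exact hab (IsSimpleGroup.comm_iff_isSolvable.mpr inferInstance a b)
  let ρ : G →* MulAut ↥(alternatingGroup (Fin 6)) :=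
    (MulAut.congr e6).toMonoidHom.comp MulAut.conjNormal
  have hρ : ∀ (g : G) (h : ↥H), ρ g (e6 h) = e6 (MulAut.conjNormal g h) := fun g h => by
    simp [ρ, MulAut.congr]
  set R := (MulAut.conjNormal : Perm (Fin 6) →* MulAut ↥(alternatingGroup (Fin 6))).range.comap ρ with hR
  have hHR : H ≤ R := fun h hh => ⟨(e6 ⟨h, hh⟩ : Perm (Fin 6)), by
    refine MulEquiv.ext fun a => ?_
    obtain ⟨b, rfl⟩ := e6.surjective a
    rw [hρ]
    apply Subtype.ext
    rw [MulAut.conjNormal_apply,
      show MulAut.conjNormal h b = ⟨h, hh⟩ * b * (⟨h, hh⟩ : ↥H)⁻¹ from Subtype.ext (by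
        rw [MulAut.conjNormal_apply]; rfl)]
    simp⟩
  obtain ⟨u₀, hu₀⟩ := @exists_prime_orderOf_dvd_card' ↥K _ _ 3 ⟨Nat.prime_three⟩ (by rw [hK24]; norm_num)
  have huK : ι (u₀ : M) ∈ H := u₀.2
  have huG : orderOf (⟨ι (u₀ : M), huK⟩ : ↥H) = 3 := by
    rw [Subgroup.orderOf_mk, orderOf_injective ι hc.inj, Subgroup.orderOf_coe, hu₀]
  have htR : ι T0 ∈ R := by
    have hfix : ρ (ι T0) (e6 ⟨ι (u₀ : M), huK⟩) = e6 ⟨ι (u₀ : M), huK⟩ := by
      rw [hρ]
      congr 1
      apply Subtype.ext
      rw [MulAut.conjNormal_apply]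
      show ι T0 * ι (u₀ : M) * (ι T0)⁻¹ = ι (u₀ : M)
      rw [← map_mul, ← T0_central, map_mul, mul_inv_cancel_right]
    obtain ⟨σ, hσ⟩ := H32.AltAut.exists_conjNormal_of_preserves (by simp) (ρ (ι T0))
      (preserves_threeCycle _ ((MulEquiv.orderOf_eq e6 _).trans huG) hfix)
    exact ⟨σ, hσ⟩
  have hRtop : R = ⊤ := by
    refine eq_top_iff.mpr fun g _ => ?_
    by_cases hg : g ∈ H
    · exact hHR hg
    · have hgt : g * ι T0 ∈ H := (Subgroup.mul_mem_iff_of_index_two hH2).mpr (by tauto)
      have h1 := mul_mem (hHR hgt) (inv_mem htR)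
      rwa [mul_inv_cancel_right] at h1
  have hinj : Function.Injective ρ := by
    rw [← MonoidHom.ker_eq_bot_iff]
    by_contra hker
    set N := ρ.ker with hN
    have hNc : ∀ n ∈ N, ∀ h : ↥H, n * (h : G) * n⁻¹ = h := by
      intro n hn h
      have h1 := hρ n h
      rw [MonoidHom.mem_ker.mp hn, MulAut.one_apply] at h1
      have h2 := congrArg Subtype.val (e6.injective h1)
      rw [MulAut.conjNormal_apply] at h2
      exact h2.symm
    have hNH : N ⊓ H = ⊥ := by
      rw [eq_bot_iff]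
      intro n hn
      have hcen : e6 ⟨n, hn.2⟩ ∈ Subgroup.center ↥(alternatingGroup (Fin 6)) := by
        rw [Subgroup.mem_center_iff]
        intro a
        obtain ⟨b, rfl⟩ := e6.surjective a
        rw [← map_mul, ← map_mul]
        exact congrArg e6 (Subtype.ext ((mul_inv_eq_iff_eq_mul.mp (hNc n hn.1 b)).symm))
      rcases (inferInstance : (Subgroup.center ↥(alternatingGroup (Fin 6))).Normal).eq_bot_or_eq_top with hb | ht
      · rw [hb, Subgroup.mem_bot, e6.map_eq_one_iff] at hcen
        exact congrArg Subtype.val hcen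
      · exfalso
        obtain ⟨a, b, hab⟩ := alt6_noncomm
        exact hab (Subgroup.mem_center_iff.mp (ht ▸ Subgroup.mem_top b) a)
    obtain ⟨n, hn, hn1⟩ := N.bot_or_exists_ne_one.resolve_left hker
    have hnH : n ∉ H := fun h => hn1 (by
      have : n ∈ N ⊓ H := ⟨hn, h⟩
      rwa [hNH, Subgroup.mem_bot] at this)
    -- `n` is central
    have hcen : ∀ g : G, g * n = n * g := by
      intro g
      by_contra hne'
      have h1 : g * n * g⁻¹ * n⁻¹ ∈ N ⊓ H := by
        refine ⟨N.mul_mem ((MonoidHom.normal_ker ρ).conj_mem n hn g) (N.inv_mem hn), ?_⟩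
        have e1 := Subgroup.mul_mem_iff_of_index_two hH2 (a := g) (b := n)
        have e2 := Subgroup.mul_mem_iff_of_index_two hH2 (a := g * n) (b := g⁻¹)
        have e3 := Subgroup.mul_mem_iff_of_index_two hH2 (a := g * n * g⁻¹) (b := n⁻¹)
        rw [Subgroup.inv_mem_iff] at e2 e3
        tauto
      rw [hNH, Subgroup.mem_bot, mul_inv_eq_one, mul_inv_eq_iff_eq_mul] at h1
      exact hne' h1
    have hnC : n ∈ C := Subgroup.mem_centralizer_singleton_iff.mpr (hcen _).symm
    rw [hC, ← hc.range_eq] at hnC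
    obtain ⟨m, rfl⟩ := hnC
    rcases center_T0 m (fun k => hc.inj (by rw [map_mul, map_mul]; exact hcen _)) with rfl | rfl
    · exact hn1 (map_one ι)
    · exact hne (eq_top_iff.mpr fun g _ => Subgroup.mem_centralizer_singleton_iff.mpr (hcen g))
  have hκ : Function.Injective (MulAut.conjNormal : Perm (Fin 6) →* MulAut ↥(alternatingGroup (Fin 6))) :=
    H32.AltAut.conjNormal_injective (by simp)
  let κ := MonoidHom.ofInjective hκ
  let ρ' : G →* (MulAut.conjNormal : Perm (Fin 6) →* MulAut ↥(alternatingGroup (Fin 6))).range :=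
    ρ.codRestrict _ fun g => (hRtop ▸ Subgroup.mem_top g : g ∈ R)
  let ψ : G →* Perm (Fin 6) := κ.symm.toMonoidHom.comp ρ'
  have hψ : Function.Injective ψ := κ.symm.injective.comp fun a b h => hinj (congrArg Subtype.val h)
  exact ⟨MulEquiv.ofBijective ψ ((Nat.bijective_iff_injective_and_card ψ).mpr
    ⟨hψ, by rw [hG720, Nat.card_perm, Nat.card_fin]; rfl⟩)⟩

end H70.S6
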