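import Cfsg.Agent.S0143
import Cfsg.Agent.H1.Hall
import Mathlib

/-!
Groups with an abelian 2-complement.
-/

set_option autoImplicit false
set_option linter.style.haveILetI false

namespace H70

universe u

variable {G : Type*} [Group G] [Finite G]

/-- The index of `C ⊓ N` in a normal subgroup `N` divides the index of `C`. -/
theorem relIndex_dvd_index_of_normal' (C N : Subgroup G) [N.Normal] :
    C.relIndex N ∣ C.index := by
  have h1 : N.relIndex (N ⊔ C) = N.relIndex C := Subgroup.relIndex_sup_left C N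
  have hc : ∀ A B : Subgroup G, Nat.card ↥(A ⊓ B : Subgroup G) * A.relIndex B = Nat.card ↥B := by
    intro A B
    have := Subgroup.card_mul_index (A.subgroupOf B)
    rwa [← Subgroup.card_map_of_injective (Subgroup.subtype_injective B),
      Subgroup.subgroupOf_map_subtype] at this
  have h2 := hc N C
  have h3 := hc C N
  have h4 := hc N (N ⊔ C)
  rw [inf_eq_left.mpr (le_sup_left : N ≤ N ⊔ C), h1] at h4
  have h5 := hc C (N ⊔ C)
  rw [inf_eq_left.mpr (le_sup_right : C ≤ N ⊔ C), ← h4, ← h3] at h5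
  rw [inf_comm N C] at h2
  have h6 : Nat.card ↥C * C.relIndex (N ⊔ C) = Nat.card ↥C * C.relIndex N := by
    rw [h5]
    calc Nat.card ↥(C ⊓ N : Subgroup G) * C.relIndex N * N.relIndex C
        = Nat.card ↥(C ⊓ N : Subgroup G) * N.relIndex C * C.relIndex N := by ring
      _ = Nat.card ↥C * C.relIndex N := by rw [h2]
  rw [← Nat.eq_of_mul_eq_mul_left Nat.card_pos h6, ← Subgroup.relIndex_mul_index
    (le_sup_right : C ≤ N ⊔ C)]
  exact dvd_mul_right _ _

/-- A group with an abelian subgroup of odd order and 2-power index is solvable. -/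
theorem isSolvable_of_abelian_twoComplement {G : Type u} [Group G] [Finite G] (C : Subgroup G)
    (hC : IsMulCommutative ↥C) {k : ℕ} (hidx : C.index = 2 ^ k) : Group.IsSolvable G := by
  induction hn : Nat.card G using Nat.strong_induction_on generalizing G k with
  | _ n ih =>
  rcases subsingleton_or_nontrivial G with hsub | hnt
  · exact Group.isSolvable_of_comm fun a b => Subsingleton.elim _ _
  by_cases hsimple : IsSimpleGroup G
  · by_cases hbot : C = ⊥
    · rw [hbot, Subgroup.index_bot] at hidx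
      haveI : Fact (Nat.Prime 2) := ⟨Nat.prime_two⟩
      haveI : Group.IsNilpotent G := (IsPGroup.of_card hidx : IsPGroup 2 G).isNilpotent
      infer_instance
    obtain ⟨c, hc, hc1⟩ := (Subgroup.bot_or_exists_ne_one C).resolve_left hbot
    have hle : C ≤ Subgroup.centralizer ({c} : Set G) := fun x hx => by
      rw [Subgroup.mem_centralizer_singleton_iff]
      exact congrArg Subtype.val (hC.is_comm.comm ⟨x, hx⟩ ⟨c, hc⟩)
    obtain ⟨j, -, hj⟩ := (Nat.dvd_prime_pow Nat.prime_two).mp (hidx ▸ Subgroup.index_dvd_of_le hle)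
    have hp := Cfsg.Agent.S0143.result 2 j Nat.prime_two c hc1 hj
    haveI : Fact (Nat.card G).Prime := ⟨hp⟩
    haveI : IsCyclic G := isCyclic_of_prime_card (p := Nat.card G) rfl
    exact Group.isSolvable_of_comm fun a b => IsCyclic.commGroup.mul_comm a b
  obtain ⟨N, hN, hN1, hN2⟩ : ∃ N : Subgroup G, N.Normal ∧ N ≠ ⊥ ∧ N ≠ ⊤ := by
    by_contra h
    push Not at h
    exact hsimple
      { eq_bot_or_eq_top_of_normal := fun N hN => or_iff_not_imp_left.mpr (h N hN) }
  haveI := hN
  have hlt1 : Nat.card ↥N < n := by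
    rw [← hn]
    exact lt_of_le_of_ne (Nat.le_of_dvd Nat.card_pos (Subgroup.card_subgroup_dvd_card N))
      fun h => hN2 (Subgroup.eq_top_of_card_eq N h)
  have hlt2 : Nat.card (G ⧸ N) < n := by
    rw [← hn, Subgroup.card_eq_card_quotient_mul_card_subgroup N]
    have h1 : 1 < Nat.card N := (Subgroup.one_lt_card_iff_ne_bot N).mpr hN1
    have h2 : 0 < Nat.card (G ⧸ N) := Nat.card_pos
    nlinarith
  haveI : Group.IsSolvable ↥N := by
    obtain ⟨j, -, hj⟩ := (Nat.dvd_prime_pow Nat.prime_two).mp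
      (hidx ▸ relIndex_dvd_index_of_normal' C N)
    refine ih _ hlt1 (C.subgroupOf N) ⟨⟨fun a b => ?_⟩⟩ (k := j) hj rfl
    refine Subtype.ext (Subtype.ext ?_)
    have h1 : ((a : ↥N) : G) * ((b : ↥N) : G) = ((b : ↥N) : G) * ((a : ↥N) : G) :=
      congrArg Subtype.val (hC.is_comm.comm ⟨((a : ↥N) : G), a.2⟩ ⟨((b : ↥N) : G), b.2⟩)
    exact h1
  haveI : Group.IsSolvable (G ⧸ N) := by
    set f := QuotientGroup.mk' N
    obtain ⟨j, -, hj⟩ := (Nat.dvd_prime_pow Nat.prime_two).mp
      (hidx ▸ Subgroup.index_map_dvd C (QuotientGroup.mk'_surjective N))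
    refine ih _ hlt2 (C.map f) ⟨⟨?_⟩⟩ (k := j) hj rfl
    rintro ⟨_, a, ha, rfl⟩ ⟨_, b, hb, rfl⟩
    refine Subtype.ext ?_
    show f a * f b = f b * f a
    rw [← map_mul, ← map_mul, show a * b = b * a from
      congrArg Subtype.val (hC.is_comm.comm ⟨a, ha⟩ ⟨b, hb⟩)]
  exact Group.isSolvable_of_ker_le_range N.subtype (QuotientGroup.mk' N)
    (by rw [QuotientGroup.ker_mk', Subgroup.range_subtype])

/-- An odd-order subgroup of 2-power index complements every Sylow 2-subgroup. -/
theorem isComplement'_sylow_two (P : Sylow 2 G) (D : Subgroup G) (hD : Odd (Nat.card ↥D)) {k : ℕ}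
    (hidx : D.index = 2 ^ k) : Subgroup.IsComplement' (P : Subgroup G) D := by
  haveI : Fact (Nat.Prime 2) := ⟨Nat.prime_two⟩
  have hG := Subgroup.card_mul_index D
  rw [hidx] at hG
  have hPk : Nat.card ↥(P : Subgroup G) = 2 ^ k := by
    rw [Sylow.card_eq_multiplicity, ← hG, Nat.factorization_mul Nat.card_pos.ne'
      (pow_ne_zero _ two_ne_zero), Finsupp.add_apply, Nat.prime_two.factorization_pow,
      Finsupp.single_eq_same, Nat.factorization_eq_zero_of_not_dvd
        (fun h => Nat.not_even_iff_odd.mpr hD (even_iff_two_dvd.mpr h)), zero_add]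
  refine Subgroup.isComplement'_of_coprime (by rw [hPk, mul_comm, hG]) ?_
  rw [hPk]
  exact Nat.Coprime.pow_left k (Nat.coprime_two_left.mpr hD)

end H70
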