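import Mathlib

/-!
The centralizer of a double transposition in `A₆` is dihedral of order eight.
-/

set_option autoImplicit false

namespace H70

open Equiv

abbrev a6Dbl : Perm (Fin 6) := swap 0 1 * swap 2 3

abbrev a6Rot : Perm (Fin 6) := swap 0 2 * swap 2 1 * swap 1 3 * swap 4 5

abbrev a6Ref : Perm (Fin 6) := swap 0 1 * swap 4 5

/-- The dihedral group inside the centralizer. -/
def a6Dih : DihedralGroup 4 → Perm (Fin 6)
  | DihedralGroup.r i => a6Rot ^ i.val
  | DihedralGroup.sr i => a6Ref * a6Rot ^ i.val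

theorem a6Dih_facts : (∀ x y, a6Dih (x * y) = a6Dih x * a6Dih y) ∧
    (∀ x y, a6Dih x = a6Dih y → x = y) ∧
    (∀ x, Perm.sign (a6Dih x) = 1 ∧ a6Dih x * a6Dbl = a6Dbl * a6Dih x) := by
  refine ⟨?_, ?_, ?_⟩ <;> decide +kernel

theorem a6Dbl_centralizer_subset : ∀ g : Perm (Fin 6), Perm.sign g = 1 → g * a6Dbl = a6Dbl * g →
    ∃ x, a6Dih x = g := by
  decide +kernel

/-- The centralizer of a double transposition of `A₆` is isomorphic to `DihedralGroup 4`. -/
theorem alt_six_centralizer_dihedral (α : ↥(alternatingGroup (Fin 6))) (hα : orderOf α = 2)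
    (hs : (α : Perm (Fin 6)).support.card = 4) :
    Nonempty (↥(Subgroup.centralizer ({α} : Set ↥(alternatingGroup (Fin 6)))) ≃* DihedralGroup 4) := by
  have hord : orderOf (α : Perm (Fin 6)) = 2 := by rw [Subgroup.orderOf_coe]; exact hα
  have hdbl : orderOf a6Dbl = 2 := orderOf_eq_prime (by decide) (by decide)
  have htype : ∀ σ : Perm (Fin 6), orderOf σ = 2 → σ.support.card = 4 →
      σ.cycleType = Multiset.replicate 2 2 := by
    intro σ h2 h4
    obtain ⟨k, hk⟩ := Perm.cycleType_prime_order (σ := σ) (by rw [h2]; exact Nat.prime_two)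
    have hsum := Perm.sum_cycleType σ
    rw [hk, h2, Multiset.sum_replicate, h4] at hsum
    rw [hk, h2]
    congr 1
    simp at hsum
    omega
  obtain ⟨τ, hτ⟩ := isConj_iff.mp (Perm.isConj_iff_cycleType_eq.mpr
    ((htype a6Dbl hdbl (by decide)).trans (htype _ hord hs).symm))
  obtain ⟨hmul, hinj, hin⟩ := a6Dih_facts
  have hmem : ∀ x, τ * a6Dih x * τ⁻¹ ∈ alternatingGroup (Fin 6) := fun x => by
    rw [Perm.mem_alternatingGroup, map_mul, map_mul, map_inv, (hin x).1, mul_one, mul_inv_cancel]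
  let f : DihedralGroup 4 →* ↥(Subgroup.centralizer ({α} : Set ↥(alternatingGroup (Fin 6)))) :=
    MonoidHom.mk' (fun x => ⟨⟨τ * a6Dih x * τ⁻¹, hmem x⟩,
      Subgroup.mem_centralizer_singleton_iff.mpr (Subtype.ext (by
        show τ * a6Dih x * τ⁻¹ * (α : Perm (Fin 6)) = (α : Perm (Fin 6)) * (τ * a6Dih x * τ⁻¹)
        rw [← hτ]
        calc τ * a6Dih x * τ⁻¹ * (τ * a6Dbl * τ⁻¹) = τ * (a6Dih x * a6Dbl) * τ⁻¹ := by group
          _ = τ * (a6Dbl * a6Dih x) * τ⁻¹ := by rw [(hin x).2]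
          _ = _ := by group))⟩) fun x y => Subtype.ext (Subtype.ext (by
        show τ * a6Dih (x * y) * τ⁻¹ = τ * a6Dih x * τ⁻¹ * (τ * a6Dih y * τ⁻¹)
        rw [hmul]; group))
  refine ⟨(MulEquiv.ofBijective f ⟨fun x y h => hinj x y ?_, fun c => ?_⟩).symm⟩
  · have h' : τ * a6Dih x * τ⁻¹ = τ * a6Dih y * τ⁻¹ :=
      congrArg (fun z => ((z : ↥(alternatingGroup (Fin 6))) : Perm (Fin 6)))
        (congrArg Subtype.val h)
    exact mul_left_cancel (mul_right_cancel h')
  · have hc : ((c : ↥(alternatingGroup (Fin 6))) : Perm (Fin 6)) * α = α * c :=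
      congrArg Subtype.val (Subgroup.mem_centralizer_singleton_iff.mp c.2)
    obtain ⟨x, hx⟩ := a6Dbl_centralizer_subset (τ⁻¹ * c * τ) (by
      rw [map_mul, map_mul, map_inv, Perm.mem_alternatingGroup.mp c.1.2, mul_one, inv_mul_cancel]) (by
      rw [← hτ] at hc
      calc τ⁻¹ * (c : ↥(alternatingGroup (Fin 6))) * τ * a6Dbl
          = τ⁻¹ * ((c : ↥(alternatingGroup (Fin 6))) * (τ * a6Dbl * τ⁻¹)) * τ := by group
        _ = _ := by rw [hc]; group)
    refine ⟨x, Subtype.ext (Subtype.ext ?_)⟩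
    show τ * a6Dih x * τ⁻¹ = _
    rw [hx]; group

end H70
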