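import Cfsg.Prelude.Def_Local
import Cfsg.Prelude.Def_OddOrderLocal
import Cfsg.Prelude.Def_CaseTheorems
import Cfsg.Agent.S1327
import Cfsg.Agent.H1.Cores
import Cfsg.Agent.H7.RankGraph
import Cfsg.Agent.H7.Signalizer
import Cfsg.Agent.H6.RankFour
import Cfsg.Agent.H11.PConstrained
import Cfsg.Agent.H30.Basic
import Cfsg.Agent.H66.Inverted
import Cfsg.Agent.H70.Conj
import Cfsg.Agent.H70.TwoInvol
import Cfsg.Agent.H85.BrauerSuzuki

/-!
Groups of characteristic 2 type in the early sense: the cores of involution centralisers are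
trivial, and some maximal 2-local subgroup has a noncyclic centre of its 2-core.
-/

set_option autoImplicit false
open Cfsg

namespace H70.CharTwoEarly

variable {G : Type*} [Group G]

local notation "θ" => Cfsg.centralizerPPrimeCore 2

theorem orderOf_two {x : G} (h : x * x = 1) (h1 : x ≠ 1) : orderOf x = 2 := by
  haveI : Fact (Nat.Prime 2) := ⟨Nat.prime_two⟩
  exact orderOf_eq_prime (by rw [pow_two, h]) h1

theorem normalizer_zpowers_eq {x : G} (hx : orderOf x = 2) :
    Subgroup.normalizer ((Subgroup.zpowers x : Subgroup G) : Set G) =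
      Subgroup.centralizer ({x} : Set G) := by
  refine le_antisymm (fun g hg => ?_) (H7.centralizer_le_normalizer_zpowers x)
  have h := (Subgroup.mem_normalizer_iff.mp hg x).mp (Subgroup.mem_zpowers x)
  obtain ⟨k, hk⟩ := Subgroup.mem_zpowers_iff.mp h
  rw [← zpow_mod_orderOf, hx] at hk
  rw [Subgroup.mem_centralizer_singleton_iff]
  have hk2 : k % ((2 : ℕ) : ℤ) = 0 ∨ k % ((2 : ℕ) : ℤ) = 1 := by omega
  rcases hk2 with h2 | h2 <;> rw [h2] at hk
  · rw [zpow_zero] at hk
    have : x = 1 := by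
      calc x = g⁻¹ * (g * x * g⁻¹) * g := by group
        _ = 1 := by rw [← hk]; group
    rw [this]; simp
  · rw [zpow_one] at hk
    exact (mul_inv_eq_iff_eq_mul.mp hk.symm)

theorem isPGroup_zpowers_two {x : G} (hx : orderOf x = 2) : IsPGroup 2 (Subgroup.zpowers x) :=
  IsPGroup.of_card (n := 1) (by rw [Nat.card_zpowers, hx, pow_one])

theorem zpowers_ne_bot_two {x : G} (hx : orderOf x = 2) : Subgroup.zpowers x ≠ ⊥ := by
  rw [Subgroup.zpowers_ne_bot]
  intro h
  rw [h, orderOf_one] at hx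
  omega

theorem isTwoLocal_centralizer {x : G} (hx : orderOf x = 2) :
    Cfsg.IsTwoLocal (Subgroup.centralizer ({x} : Set G)) :=
  ⟨Subgroup.zpowers x, isPGroup_zpowers_two hx, zpowers_ne_bot_two hx, (normalizer_zpowers_eq hx).symm⟩

variable [Finite G]
  (hcon : ∀ T : Subgroup G, IsPGroup 2 ↥T → T ≠ ⊥ →
    Cfsg.IsPConstrained 2 ↥(Subgroup.normalizer (T : Set G)))

include hcon in
/-- Balance for commuting involutions. -/
theorem balance {x y : G} (hx : orderOf x = 2) (hy : orderOf y = 2) (hxy : x * y = y * x) :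
    θ x ⊓ Subgroup.centralizer {y} ≤ θ y := by
  haveI : Fact (Nat.Prime 2) := ⟨Nat.prime_two⟩
  have hc : Cfsg.IsPConstrained 2 ↥(Subgroup.centralizer ({y} : Set G)) := by
    have h := hcon _ (isPGroup_zpowers_two hy) (zpowers_ne_bot_two hy)
    rw [normalizer_zpowers_eq hy] at h
    exact h
  exact H7.balance_of_pLayer (by rw [pow_two]; exact H70.mul_self_of_two hx) hxy
    ((Cfsg.Agent.S1327.result 2).mp hc)

omit hcon in
theorem odd_theta (x : G) : Odd (Nat.card ↥(θ x)) := by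
  haveI : Fact (Nat.Prime 2) := ⟨Nat.prime_two⟩
  exact Nat.odd_iff.mpr (Nat.two_dvd_ne_zero.mp (H7.not_dvd_centralizerPPrimeCore x))

omit hcon in
theorem theta_le (x : G) {a : G} (ha : a ∈ θ x) : a * x = x * a :=
  Subgroup.mem_centralizer_singleton_iff.mp (H7.centralizerPPrimeCore_le 2 x ha)

omit hcon in
theorem conj_mem_theta {x c a : G} (hc : c * x = x * c) (ha : a ∈ θ x) : c * a * c⁻¹ ∈ θ x :=
  (Subgroup.mem_normalizer_iff.mp (H7.centralizer_le_normalizer_centralizerPPrimeCore 2 x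
    (Subgroup.mem_centralizer_singleton_iff.mpr hc)) a).mp ha

/-- In a group of order at most 8 two "planes" `{1, e, u}`, `{1, f, v}` have a common quotient. -/
theorem planes_meet {E : Subgroup G} (hE : Nat.card E ≤ 8) {e u f v : G} (he : e ∈ E) (hu : u ∈ E)
    (hf : f ∈ E) (hv : v ∈ E) (he1 : e ≠ 1) (hu1 : u ≠ 1) (hue : u ≠ e) (hf1 : f ≠ 1) (hv1 : v ≠ 1)
    (hvf : v ≠ f) :
    ∃ w ∈ E, w ≠ 1 ∧ (∀ a : G, Commute a e → Commute a u → Commute a w) ∧
      (∀ b : G, Commute b f → Commute b v → Commute b w) := by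
  classical
  haveI : Fintype E := Fintype.ofFinite E
  set P : Finset G := {1, e, u} with hP
  set Q : Finset G := {1, f, v} with hQ
  have hPc : P.card = 3 := Finset.card_eq_three.mpr ⟨1, e, u, he1.symm, hu1.symm, hue.symm, rfl⟩
  have hQc : Q.card = 3 := Finset.card_eq_three.mpr ⟨1, f, v, hf1.symm, hv1.symm, hvf.symm, rfl⟩
  have hPE : ∀ p ∈ P, p ∈ E := by
    intro p hp; simp [hP] at hp; rcases hp with rfl | rfl | rfl <;> simp [he, hu, one_mem]
  have hQE : ∀ q ∈ Q, q ∈ E := by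
    intro p hp; simp [hQ] at hp; rcases hp with rfl | rfl | rfl <;> simp [hf, hv, one_mem]
  obtain ⟨⟨p, q⟩, hpq, ⟨p', q'⟩, hpq', hne, heq⟩ :=
    Finset.exists_ne_map_eq_of_card_lt_of_maps_to (s := P ×ˢ Q)
      (t := Finset.univ.map ⟨fun x : E => (x : G), Subtype.val_injective⟩)
      (by rw [Finset.card_map, Finset.card_univ, Finset.card_product, hPc, hQc,
        ← Nat.card_eq_fintype_card]; omega)
      (f := fun pq : G × G => pq.1 * pq.2)
      (fun pq hpq => by
        obtain ⟨h1, h2⟩ := Finset.mem_product.mp hpq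
        exact Finset.mem_map.mpr ⟨⟨pq.1 * pq.2, mul_mem (hPE _ h1) (hQE _ h2)⟩, Finset.mem_univ _, rfl⟩)
  simp only at heq
  obtain ⟨hp, hq⟩ := Finset.mem_product.mp hpq
  obtain ⟨hp', hq'⟩ := Finset.mem_product.mp hpq'
  have hw : p'⁻¹ * p = q' * q⁻¹ := by
    calc p'⁻¹ * p = p'⁻¹ * (p * q) * q⁻¹ := by group
      _ = q' * q⁻¹ := by rw [heq]; group
  refine ⟨p'⁻¹ * p, mul_mem (inv_mem (hPE _ hp')) (hPE _ hp), fun h => hne ?_, ?_, ?_⟩
  · have h1 : p = p' := (inv_mul_eq_one.mp h).symm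
    subst h1
    exact Prod.ext rfl (mul_left_cancel heq)
  · intro a hae hau
    have : ∀ r ∈ P, Commute a r := by
      intro r hr; simp [hP] at hr
      rcases hr with rfl | rfl | rfl
      exacts [Commute.one_right a, hae, hau]
    exact (this p' hp').inv_right.mul_right (this p hp)
  · intro a hae hau
    have : ∀ r ∈ Q, Commute a r := by
      intro r hr; simp [hQ] at hr
      rcases hr with rfl | rfl | rfl
      exacts [Commute.one_right a, hae, hau]
    rw [hw]
    exact (this q' hq').mul_right (this q hq).inv_right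

/-- An elementary abelian normal subgroup of order 8 of a Sylow subgroup from an SCN₃ subgroup. -/
theorem exists_normal_eight (S : Sylow 2 G) (A : Subgroup G) (hA : Cfsg.IsSCN (S : Subgroup G) A)
    (hA3 : ¬ Cfsg.PRankLE 2 2 ↥A) :
    ∃ E : Subgroup G, E ≤ (S : Subgroup G) ∧ Nat.card E = 8 ∧
      (∀ a ∈ E, ∀ b ∈ E, a * b = b * a) ∧ (∀ a ∈ E, a * a = 1) ∧
      (S : Subgroup G) ≤ Subgroup.normalizer (E : Set G) := by
  haveI : Fact (Nat.Prime 2) := ⟨Nat.prime_two⟩
  obtain ⟨hAS, hSA, hCA⟩ := hA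
  have hAc : ∀ a ∈ A, ∀ b ∈ A, a * b = b * a := fun a ha b hb => by
    have h := (Subgroup.mem_inf.mp (hCA.ge hb)).2
    exact Subgroup.mem_centralizer_iff.mp h a ha
  let O : Subgroup G :=
    { carrier := {a | a ∈ A ∧ a * a = 1}
      one_mem' := ⟨one_mem _, one_mul 1⟩
      mul_mem' := fun {a b} ha hb => ⟨mul_mem ha.1 hb.1, by
        calc a * b * (a * b) = a * (b * a) * b := by group
          _ = (a * a) * (b * b) := by rw [← hAc a ha.1 b hb.1]; group
          _ = 1 := by rw [ha.2, hb.2, one_mul]⟩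
      inv_mem' := fun {a} ha => ⟨inv_mem ha.1, by rw [← mul_inv_rev, ha.2, inv_one]⟩ }
  obtain ⟨A₁, hA₁, hA₁e, hA₁c⟩ := H7.exists_elemAb_of_not_pRankLE (p := 2) hA3
  have hA₁O : A₁ ≤ O := fun a ha => ⟨hA₁ ha, by rw [← pow_two]; exact hA₁e.2 a ha⟩
  have hOS : O ≤ (S : Subgroup G) := fun a ha => hAS ha.1
  have hOn : ∀ s ∈ (S : Subgroup G), ∀ a ∈ O, s * a * s⁻¹ ∈ O := fun s hs a ha =>
    ⟨(Subgroup.mem_normalizer_iff.mp (hSA hs) a).mp ha.1, by
      rw [show s * a * s⁻¹ * (s * a * s⁻¹) = s * (a * a) * s⁻¹ by group, ha.2, mul_one,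
        mul_inv_cancel]⟩
  haveI : (O.subgroupOf (S : Subgroup G)).Normal :=
    ⟨fun a ha s => Subgroup.mem_subgroupOf.mpr (hOn s s.2 a (Subgroup.mem_subgroupOf.mp ha))⟩
  have hOc : 2 ^ 3 ≤ Nat.card ↥(O.subgroupOf (S : Subgroup G)) := by
    rw [Nat.card_congr (Subgroup.subgroupOfEquivOfLe hOS).toEquiv]
    exact hA₁c.trans (Nat.le_of_dvd Nat.card_pos (Subgroup.card_dvd_of_le hA₁O))
  obtain ⟨K, hKn, hKO, hK⟩ := H6.exists_normal_le_card S.2 (O.subgroupOf (S : Subgroup G)) 3 hOc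
  refine ⟨K.map (S : Subgroup G).subtype, Subgroup.map_subtype_le _, ?_, ?_, ?_, ?_⟩
  · rw [Subgroup.card_map_of_injective (S : Subgroup G).subtype_injective, hK]; norm_num
  · rintro _ ⟨a, ha, rfl⟩ _ ⟨b, hb, rfl⟩
    exact hAc _ (Subgroup.mem_subgroupOf.mp (hKO ha)).1 _ (Subgroup.mem_subgroupOf.mp (hKO hb)).1
  · rintro _ ⟨a, ha, rfl⟩
    exact (Subgroup.mem_subgroupOf.mp (hKO ha)).2
  · have h1 := Subgroup.le_normalizer_map (S : Subgroup G).subtype (H := K)
    rw [Subgroup.normalizer_eq_top_iff.mpr hKn, ← MonoidHom.range_eq_map, Subgroup.range_subtype] at h1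
    exact h1

section core

variable (S : Sylow 2 G)
  (hinv : ∀ X : Subgroup G, Odd (Nat.card ↥X) →
    (S : Subgroup G) ≤ Subgroup.normalizer (X : Set G) → X = ⊥)

omit hcon in
include hinv in
theorem theta_central_eq_bot {z : G} (hz : ∀ s ∈ (S : Subgroup G), s * z = z * s) : θ z = ⊥ :=
  hinv _ (odd_theta z) fun s hs =>
    H7.centralizer_le_normalizer_centralizerPPrimeCore 2 z
      (Subgroup.mem_centralizer_singleton_iff.mpr (hz s hs))

variable {E : Subgroup G} (hES : E ≤ (S : Subgroup G)) (hE8 : Nat.card E = 8)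
  (hEc : ∀ a ∈ E, ∀ b ∈ E, a * b = b * a) (hE2 : ∀ a ∈ E, a * a = 1)
  (hEn : (S : Subgroup G) ≤ Subgroup.normalizer (E : Set G))

include hcon hinv hES hE8 hEc hE2 hEn in
/-- The cores of the centralisers of the nontrivial elements of `E` are trivial. -/
theorem theta_eq_bot_of_mem {z : G} (hz2 : orderOf z = 2) (hzS : z ∈ (S : Subgroup G))
    (hzc : ∀ s ∈ (S : Subgroup G), s * z = z * s) {e : G} (he : e ∈ E) (he1 : e ≠ 1) :
    θ e = ⊥ := by
  classical
  haveI : Fact (Nat.Prime 2) := ⟨Nat.prime_two⟩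
  have hzz : z * z = 1 := H70.mul_self_of_two hz2
  have hord : ∀ w ∈ E, w ≠ 1 → orderOf w = 2 := fun w hw hw1 => orderOf_two (hE2 w hw) hw1
  have hodd : ∀ w : G, ∀ a ∈ θ w, Odd (orderOf a) := fun w =>
    H66.odd_orderOf_of_mem_odd_card (odd_theta w)
  -- the cores are inverted by `z`, so abelian
  have habel : ∀ w ∈ E, w ≠ 1 → ∀ a ∈ θ w, ∀ b ∈ θ w, a * b = b * a := by
    intro w hw hw1
    have hwz : w * z = z * w := hzc w (hES hw)
    have hnorm : ∀ a ∈ θ w, z * a * z⁻¹ ∈ θ w := fun a ha => conj_mem_theta hwz.symm ha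
    have hinvert : ∀ a ∈ θ w, z * a * z⁻¹ = a⁻¹ := by
      intro a ha
      obtain ⟨⟨y, i⟩, ⟨hy, hi, hai⟩, -⟩ := H66.inverted_factor (hodd w) hzz hnorm ha
      have hy1 := balance hcon (hord w hw hw1) hz2 hwz hy
      rw [theta_central_eq_bot S hinv hzc, Subgroup.mem_bot] at hy1
      have hai' : a = i := by rw [hai]; exact (congrArg (· * i) hy1).trans (one_mul i)
      rw [hai']
      exact hi.2
    intro a ha b hb
    have h1 := hinvert _ (mul_mem ha hb)
    rw [show z * (a * b) * z⁻¹ = (z * a * z⁻¹) * (z * b * z⁻¹) by group, hinvert a ha, hinvert b hb,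
      mul_inv_rev] at h1
    have h2 := congrArg (fun t => t⁻¹) h1
    simp only [mul_inv_rev, inv_inv] at h2
    exact h2.symm
  let K : Set G := {a | ∃ e ∈ E, ∃ u ∈ E, e ≠ 1 ∧ u ≠ 1 ∧ u ≠ e ∧ a ∈ θ e ∧ Commute a u}
  have hKcomm : K ⊆ Subgroup.centralizer K := by
    rintro a ⟨e, he, u, hu, he1, hu1, hue, ha, hau⟩
    refine Subgroup.mem_centralizer_iff.mpr ?_
    rintro b ⟨f, hf, v, hv, hf1, hv1, hvf, hb, hbv⟩
    obtain ⟨w, hw, hw1, hwa, hwb⟩ :=
      planes_meet hE8.le he hu hf hv he1 hu1 hue hf1 hv1 hvf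
    have haw : a ∈ θ w := balance hcon (hord e he he1) (hord w hw hw1) (hEc e he w hw)
      ⟨ha, Subgroup.mem_centralizer_singleton_iff.mpr (hwa a (theta_le e ha) hau)⟩
    have hbw : b ∈ θ w := balance hcon (hord f hf hf1) (hord w hw hw1) (hEc f hf w hw)
      ⟨hb, Subgroup.mem_centralizer_singleton_iff.mpr (hwb b (theta_le f hb) hbv)⟩
    exact habel w hw hw1 b hbw a haw
  set W := Subgroup.closure K with hWdef
  have hWc : W ≤ Subgroup.centralizer (W : Set G) := by
    rw [hWdef, Subgroup.centralizer_closure, Subgroup.closure_le]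
    exact hKcomm
  have hWodd : ∀ x ∈ W, Odd (orderOf x) := by
    intro x hx
    induction hx using Subgroup.closure_induction with
    | mem a ha =>
      obtain ⟨e, -, -, -, -, -, -, ha', -⟩ := ha
      exact hodd e a ha'
    | one => simp
    | mul a b ha hb iha ihb =>
      have hc : Commute a b := (Subgroup.mem_centralizer_iff.mp (hWc hb) a ha)
      exact (iha.mul ihb).of_dvd_nat hc.orderOf_mul_dvd_mul_orderOf
    | inv a _ iha => rwa [orderOf_inv]
  have hWo : Odd (Nat.card W) := by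
    rw [← Nat.not_even_iff_odd, even_iff_two_dvd]
    intro hd
    obtain ⟨x, hx⟩ := exists_prime_orderOf_dvd_card' 2 hd
    have := hWodd x x.2
    rw [Subgroup.orderOf_coe, hx] at this
    exact absurd this (by decide)
  have hWS : (S : Subgroup G) ≤ Subgroup.normalizer (W : Set G) := by
    have hgen : ∀ s ∈ (S : Subgroup G), ∀ x ∈ W, s * x * s⁻¹ ∈ W := by
      intro s hs x hx
      induction hx using Subgroup.closure_induction with
      | mem a ha =>
        obtain ⟨e, he, u, hu, he1, hu1, hue, ha, hau⟩ := ha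
        have hconjE : ∀ r ∈ E, s * r * s⁻¹ ∈ E := fun r hr =>
          (Subgroup.mem_normalizer_iff.mp (hEn hs) r).mp hr
        refine Subgroup.subset_closure
          ⟨s * e * s⁻¹, hconjE e he, s * u * s⁻¹, hconjE u hu, ?_, ?_, ?_, ?_, ?_⟩
        · exact fun h => he1 (conj_eq_one_iff.mp h)
        · exact fun h => hu1 (conj_eq_one_iff.mp h)
        · exact fun h => hue (mul_left_cancel (mul_right_cancel h))
        · rw [H7.centralizerPPrimeCore_conj_eq]
          exact ⟨a, ha, rfl⟩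
        · exact hau.map (MulAut.conj s).toMonoidHom
      | one => simp
      | mul a b _ _ iha ihb =>
        rw [show s * (a * b) * s⁻¹ = (s * a * s⁻¹) * (s * b * s⁻¹) by group]
        exact mul_mem iha ihb
      | inv a _ iha =>
        rw [show s * a⁻¹ * s⁻¹ = (s * a * s⁻¹)⁻¹ by group]
        exact inv_mem iha
    intro s hs
    refine Subgroup.mem_normalizer_iff.mpr fun x => ⟨hgen s hs x, fun h => ?_⟩
    have := hgen s⁻¹ (inv_mem hs) _ h
    rwa [show s⁻¹ * (s * x * s⁻¹) * s⁻¹⁻¹ = x by group] at this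
  have hW : W = ⊥ := hinv W hWo hWS
  -- a four-group complement to `e` in `E`
  haveI : Fintype E := Fintype.ofFinite E
  have hex : ∀ F : Finset G, F.card ≤ 4 → ∃ r ∈ E, r ∉ F := by
    intro F hF
    by_contra hcon'
    push Not at hcon'
    have h1 : (Finset.univ.map ⟨fun x : E => (x : G), Subtype.val_injective⟩).card ≤ F.card :=
      Finset.card_le_card fun r hr => by
        obtain ⟨r', -, rfl⟩ := Finset.mem_map.mp hr
        exact hcon' _ r'.2
    rw [Finset.card_map, Finset.card_univ, ← Nat.card_eq_fintype_card, hE8] at h1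
    omega
  obtain ⟨u, hu, huF⟩ := hex {1, e} (Finset.card_le_two.trans (by norm_num))
  obtain ⟨v, hv, hvF⟩ := hex {1, e, u, u * e} Finset.card_le_four
  simp only [Finset.mem_insert, Finset.mem_singleton, not_or] at huF hvF
  have huu := hE2 u hu
  have huv1 : u * v ≠ 1 := fun h => hvF.2.2.1 (mul_left_cancel (h.trans huu.symm))
  have huve : u * v ≠ e := fun h => hvF.2.2.2 (by
    calc v = (u * u) * v := by rw [huu, one_mul]
      _ = u * e := by rw [mul_assoc, h])
  have hpiece : ∀ r ∈ E, r ≠ 1 → r ≠ e → ∀ x ∈ θ e, Commute x r → x ∈ (⊥ : Subgroup G) := by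
    intro r hr hr1 hre x hx hxr
    rw [← hW]
    exact Subgroup.subset_closure ⟨e, he, r, hr, he1, hr1, hre, hx, hxr⟩
  exact eq_bot_iff.mpr (H66.le_of_centralizers_fourGroup (hodd e) huu (hE2 v hv) (hEc u hu v hv)
    (fun x hx => conj_mem_theta (hEc u hu e he) hx) (fun x hx => conj_mem_theta (hEc v hv e he) hx)
    (hpiece u hu huF.1 huF.2) (hpiece v hv hvF.1 hvF.2.1)
    (hpiece _ (mul_mem hu hv) huv1 huve))

include hcon hinv hES hE8 hEc hE2 hEn in
/-- The core of the centraliser of an involution is trivial. -/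
theorem theta_eq_bot {z : G} (hz2 : orderOf z = 2) (hzS : z ∈ (S : Subgroup G))
    (hzc : ∀ s ∈ (S : Subgroup G), s * z = z * s) {x : G} (hx : orderOf x = 2) : θ x = ⊥ := by
  classical
  haveI : Fact (Nat.Prime 2) := ⟨Nat.prime_two⟩
  have hbot : ∀ {e : G}, e ∈ E → e ≠ 1 → θ e = ⊥ := fun he he1 =>
    theta_eq_bot_of_mem hcon S hinv hES hE8 hEc hE2 hEn hz2 hzS hzc he he1
  obtain ⟨c, -, hc⟩ := H70.exists_cj_le_sylow S (K := ⊤) le_top (isPGroup_zpowers_two hx) le_top
  have hyS : c * x * c⁻¹ ∈ (S : Subgroup G) := hc ⟨x, Subgroup.mem_zpowers x, rfl⟩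
  suffices hy : θ (c * x * c⁻¹) = ⊥ by
    rw [H7.centralizerPPrimeCore_conj_eq] at hy
    exact (Subgroup.map_eq_bot_iff_of_injective _ (MulAut.conj c).injective).mp hy
  set y := c * x * c⁻¹ with hy
  have hy2 : orderOf y = 2 := by
    rw [hy, show c * x * c⁻¹ = MulAut.conj c x from rfl, MulEquiv.orderOf_eq, hx]
  have hyy : y * y = 1 := H70.mul_self_of_two hy2
  have hyinv : y⁻¹ = y := H70.inv_eq_self_of_two hy2
  have hyE : ∀ e ∈ E, y * e * y⁻¹ ∈ E := fun e he =>
    (Subgroup.mem_normalizer_iff.mp (hEn hyS) e).mp he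
  let φ : E →* E :=
    { toFun := fun e => ⟨(e : G) * (y * e * y⁻¹), mul_mem e.2 (hyE e e.2)⟩
      map_one' := by ext; simp
      map_mul' := fun a b => by
        ext
        push_cast
        calc (a : G) * b * (y * (a * b) * y⁻¹)
            = a * ((b : G) * (y * a * y⁻¹)) * (y * b * y⁻¹) := by group
          _ = a * ((y * a * y⁻¹) * b) * (y * b * y⁻¹) := by
              rw [hEc b b.2 _ (hyE a a.2)]
          _ = _ := by group }
  have hker : ∀ e : E, e ∈ φ.ker ↔ y * (e : G) * y⁻¹ = e := by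
    intro e
    rw [MonoidHom.mem_ker, Subtype.ext_iff]
    change (e : G) * (y * e * y⁻¹) = 1 ↔ _
    constructor
    · exact fun h => mul_left_cancel (h.trans (hE2 e e.2).symm)
    · intro h; rw [h]; exact hE2 e e.2
  have hrange : φ.range ≤ φ.ker := by
    rintro _ ⟨e, rfl⟩
    rw [hker]
    change y * ((e : G) * (y * e * y⁻¹)) * y⁻¹ = (e : G) * (y * e * y⁻¹)
    rw [hEc e e.2 _ (hyE e e.2), hyinv]
    calc y * (y * (e : G) * y * e) * y = (y * y) * e * (y * e * y) := by group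
      _ = (y * e * y) * e := by
          rw [hyy, one_mul]
          exact hEc e e.2 _ (by simpa [hyinv] using hyE e e.2)
  have hcard := φ.ker.card_mul_index
  rw [Subgroup.index_ker, hE8] at hcard
  have hle := Nat.le_of_dvd Nat.card_pos (Subgroup.card_dvd_of_le hrange)
  have h3 : 2 < Nat.card φ.ker := by
    by_contra h
    push Not at h
    have h4 := Nat.mul_le_mul h (hle.trans h)
    omega
  obtain ⟨u, hu, hu1⟩ := φ.ker.bot_or_exists_ne_one.resolve_left fun h => by
    rw [h, Subgroup.card_bot] at h3; omega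
  obtain ⟨v, hv, hvu⟩ : ∃ v ∈ φ.ker, v ∉ Subgroup.zpowers u := by
    by_contra h
    push Not at h
    have h1 := Nat.le_of_dvd Nat.card_pos (Subgroup.card_dvd_of_le (show φ.ker ≤ _ from h))
    rw [Nat.card_zpowers] at h1
    have h2 : orderOf u ≤ 2 := Nat.le_of_dvd (by norm_num)
      (orderOf_dvd_of_pow_eq_one (Subtype.ext (by simpa [pow_two] using hE2 u u.2)))
    omega
  have hv1 : v ≠ 1 := fun h => hvu (h ▸ one_mem _)
  have huv : u ≠ v := fun h => hvu (h ▸ Subgroup.mem_zpowers u)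
  have hcom : ∀ e : E, e ∈ φ.ker → (e : G) * y = y * e := fun e he =>
    (mul_inv_eq_iff_eq_mul.mp ((hker e).mp he)).symm
  have hpiece : ∀ r : E, r ∈ φ.ker → r ≠ 1 → ∀ a ∈ θ y, Commute a (r : G) → a ∈ (⊥ : Subgroup G) := by
    intro r hr hr1 a ha har
    have hr1' : (r : G) ≠ 1 := fun h => hr1 (Subtype.ext h)
    rw [← hbot r.2 hr1']
    exact balance hcon hy2 (orderOf_two (hE2 r r.2) hr1') (hcom r hr).symm
      ⟨ha, Subgroup.mem_centralizer_singleton_iff.mpr har⟩
  refine eq_bot_iff.mpr (H66.le_of_centralizers_fourGroup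
    (H66.odd_orderOf_of_mem_odd_card (odd_theta y)) (hE2 u u.2) (hE2 v v.2) (hEc u u.2 v v.2)
    (fun a ha => conj_mem_theta (hcom u hu) ha) (fun a ha => conj_mem_theta (hcom v hv) ha)
    (hpiece u hu hu1) (hpiece v hv hv1) ?_)
  refine hpiece (u * v) (mul_mem hu hv) fun h => huv ?_
  exact (mul_left_cancel (h.trans (Subtype.ext (hE2 u u.2) : u * u = 1).symm)).symm

end core

end H70.CharTwoEarly
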