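import Mathlib.GroupTheory.SpecificGroups.Dihedral
import Mathlib.GroupTheory.Sylow
import Cfsg.Agent.H6.Transfer

/-!
A group without subgroups of index two having a self-centralizing dihedral Sylow 2-subgroup of
order eight is simple.
-/

set_option autoImplicit false
set_option linter.style.haveILetI false

namespace H70

open DihedralGroup in
theorem dih4_facts :
    (∀ x : DihedralGroup 4, x ≠ 1 → (∀ y, x * y = y * x) → x = r 2) ∧
    (∀ x : DihedralGroup 4, ∃ a b : DihedralGroup 4, a * a = 1 ∧ b * b = 1 ∧ x = a * b) ∧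
    (∀ i : ZMod 4, r i * r i = (1 : DihedralGroup 4) → r i ≠ (1 : DihedralGroup 4) →
      (r i : DihedralGroup 4) = r 2) := by
  refine ⟨?_, ?_, ?_⟩ <;> decide

variable {G : Type*} [Group G] [Finite G]

/-- No subgroup of index two and an involution centralizer `D₈` force simplicity. -/
theorem isSimple_of_centralizer_d8 (hG : ∀ H : Subgroup G, H.index ≠ 2) {t : G}
    (ht : orderOf t = 2) (S : Sylow 2 G)
    (hS : (S : Subgroup G) = Subgroup.centralizer ({t} : Set G))
    (e : ↥(Subgroup.centralizer ({t} : Set G)) ≃* DihedralGroup 4) : IsSimpleGroup G := by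
  classical
  haveI : Fact (Nat.Prime 2) := ⟨Nat.prime_two⟩
  set C := Subgroup.centralizer ({t} : Set G) with hC
  obtain ⟨hcen, hgen, hrot⟩ := dih4_facts
  have htC : t ∈ C := Subgroup.mem_centralizer_singleton_iff.mpr rfl
  have ht1 : t ≠ 1 := fun h => by rw [h, orderOf_one] at ht; omega
  have htt : t * t = 1 := by rw [← pow_two, ← ht, pow_orderOf_eq_one]
  haveI : Nontrivial G := ⟨⟨t, 1, ht1⟩⟩
  have hzt : ∀ z : ↥C, z ≠ 1 → (∀ y : ↥C, z * y = y * z) → (z : G) = t := by
    intro z hz hzc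
    have key : ∀ w : ↥C, w ≠ 1 → (∀ y : ↥C, w * y = y * w) → e w = DihedralGroup.r 2 := by
      intro w hw hwc
      refine hcen _ (fun h => hw (e.map_eq_one_iff.mp h)) fun y => ?_
      obtain ⟨x, rfl⟩ := e.surjective y
      rw [← map_mul, ← map_mul, hwc]
    have h1 := key ⟨t, htC⟩ (fun h => ht1 (congrArg Subtype.val h))
      (fun y => Subtype.ext (Subgroup.mem_centralizer_singleton_iff.mp y.2).symm)
    exact congrArg Subtype.val (e.injective ((key z hz hzc).trans h1.symm))
  -- one class of involutions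
  set u : ↥C := e.symm (DihedralGroup.r 1) with hu
  set U : Subgroup G := (Subgroup.zpowers u).map C.subtype with hU
  have hUi : U.relIndex (S : Subgroup G) = 2 := by
    rw [hS, hU, Subgroup.relIndex, Subgroup.subgroupOf,
      Subgroup.comap_map_eq_self_of_injective (Subgroup.subtype_injective _)]
    have h := (Subgroup.zpowers u).card_mul_index
    rw [Nat.card_zpowers, show orderOf u = 4 by rw [hu, e.symm.orderOf_eq, DihedralGroup.orderOf_r_one], Nat.card_congr e.toEquiv,
      Nat.card_eq_fintype_card, DihedralGroup.card] at h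
    omega
  have hone : ∀ s : G, orderOf s = 2 → ∃ g : G, g * s * g⁻¹ = t := by
    intro s hs
    rcases H6.thompson_transfer S U (by rw [hS]; exact Subgroup.map_subtype_le _) hUi s hs with
      ⟨M, -, hM, -⟩ | ⟨g, hg⟩
    · exact absurd hM (hG M)
    · refine ⟨g, ?_⟩
      obtain ⟨w, hw, hwe⟩ := hg
      obtain ⟨i, hi⟩ := Subgroup.mem_zpowers_iff.mp hw
      have hwo : orderOf (w : G) = 2 := by
        rw [show (w : G) = MulAut.conj g s from hwe, MulEquiv.orderOf_eq, hs]
      have h2 : w * w = 1 := Subtype.ext (by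
        show (w : G) * w = 1
        rw [← pow_two, ← hwo, pow_orderOf_eq_one])
      have hew : e w = DihedralGroup.r (i : ZMod 4) := by
        rw [← hi, map_zpow, hu, e.apply_symm_apply, DihedralGroup.r_one_zpow]
      have hw1 : w ≠ 1 := fun h => by rw [h, Subgroup.coe_one, orderOf_one] at hwo; omega
      have h3 : e w = DihedralGroup.r 2 := by
        rw [hew]
        refine hrot _ ?_ ?_
        · rw [← hew, ← map_mul, h2, map_one]
        · rw [← hew]; exact fun h => hw1 (e.map_eq_one_iff.mp h)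
      rw [← hwe]
      refine hzt w hw1 fun y => e.injective ?_
      rw [map_mul, map_mul, h3]
      generalize e y = q
      revert q
      decide
  have hinC : ∀ N : Subgroup G, N.Normal → ∀ s ∈ N, orderOf s = 2 → C ≤ N := by
    intro N hN s hsN hs c hc
    have hall : ∀ v : G, orderOf v = 2 → v ∈ N := by
      intro v hv
      obtain ⟨g, hg⟩ := hone s hs
      obtain ⟨k, hk⟩ := hone v hv
      have hv' : v = k⁻¹ * g * s * (k⁻¹ * g)⁻¹ := by
        calc v = k⁻¹ * (k * v * k⁻¹) * k := by group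
          _ = k⁻¹ * (g * s * g⁻¹) * k := by rw [hk, hg]
          _ = _ := by group
      rw [hv']
      exact hN.conj_mem s hsN _
    obtain ⟨a, b, ha, hb, hab⟩ := hgen (e ⟨c, hc⟩)
    have hmem : ∀ d : DihedralGroup 4, d * d = 1 → ((e.symm d : ↥C) : G) ∈ N := by
      intro d hd
      by_cases hd1 : d = 1
      · rw [hd1, map_one]; exact one_mem N
      refine hall _ (orderOf_eq_prime ?_ fun h => hd1 ?_)
      · rw [pow_two, ← Subgroup.coe_mul, ← map_mul, hd, map_one]; rfl
      · have h' : e.symm d = 1 := Subtype.ext h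
        exact (e.symm.map_eq_one_iff).mp h'
    have h1 : (⟨c, hc⟩ : ↥C) = e.symm a * e.symm b := by rw [← map_mul, ← hab, e.symm_apply_apply]
    have h2 : c = ((e.symm a : ↥C) : G) * ((e.symm b : ↥C) : G) := congrArg Subtype.val h1
    rw [h2]
    exact mul_mem (hmem a ha) (hmem b hb)
  -- normal subgroups of odd order are trivial
  have hoddN : ∀ N : Subgroup G, N.Normal → (∀ s ∈ N, orderOf s ≠ 2) → N = ⊥ := by
    intro N hN hno
    have hodd : Odd (Nat.card N) := by
      by_contra h
      rw [Nat.not_odd_iff_even, even_iff_two_dvd] at h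
      obtain ⟨y, hy⟩ := exists_prime_orderOf_dvd_card' 2 h
      exact hno y y.2 (by rw [Subgroup.orderOf_coe]; exact hy)
    have hinv : ∀ v : G, orderOf v = 2 → ∀ n ∈ N, v * n * v⁻¹ = n⁻¹ := by
      intro v hv
      have hvv : v * v = 1 := by rw [← pow_two, ← hv, pow_orderOf_eq_one]
      have hvi : v⁻¹ = v := inv_eq_of_mul_eq_one_right hvv
      obtain ⟨g, hg⟩ := hone v hv
      have hfpf : ∀ n ∈ N, v * n * v⁻¹ = n → n = 1 := by
        intro n hn hfix
        have hnC : g * n * g⁻¹ ∈ C := by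
          rw [hC, Subgroup.mem_centralizer_singleton_iff, ← hg]
          calc g * n * g⁻¹ * (g * v * g⁻¹) = g * (n * v) * g⁻¹ := by group
            _ = g * (v * n) * g⁻¹ := by rw [mul_inv_eq_iff_eq_mul.mp hfix]
            _ = _ := by group
        obtain ⟨m, hm⟩ := S.2 ⟨_, hS ▸ hnC⟩
        have hm' : (g * n * g⁻¹) ^ 2 ^ m = 1 := congrArg Subtype.val hm
        rw [conj_pow, conj_eq_one_iff] at hm'
        have h1 : orderOf n ∣ 2 ^ m := orderOf_dvd_of_pow_eq_one hm'
        have h2 : orderOf n ∣ Nat.card N := Subgroup.orderOf_coe (⟨n, hn⟩ : ↥N) ▸ orderOf_dvd_natCard _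
        exact orderOf_eq_one_iff.mp (Nat.eq_one_of_dvd_coprimes
          (Nat.Coprime.pow_left m (Nat.coprime_two_left.mpr hodd)) h1 h2)
      let f : ↥N → ↥N := fun n => ⟨(n : G)⁻¹ * (v * n * v⁻¹),
        mul_mem (inv_mem n.2) (hN.conj_mem _ n.2 v)⟩
      have hf : Function.Injective f := fun a b h => by
        have h' : (a : G)⁻¹ * (v * a * v⁻¹) = (b : G)⁻¹ * (v * b * v⁻¹) := congrArg Subtype.val h
        have h1 := hfpf ((b : G) * (a : G)⁻¹) (mul_mem b.2 (inv_mem a.2)) (by
          calc v * ((b : G) * (a : G)⁻¹) * v⁻¹ = (v * b * v⁻¹) * (v * a * v⁻¹)⁻¹ := by group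
            _ = ((b : G) * ((b : G)⁻¹ * (v * b * v⁻¹))) * (v * a * v⁻¹)⁻¹ := by group
            _ = _ := by rw [← h']; group)
        exact Subtype.ext (mul_inv_eq_one.mp h1).symm
      intro n hn
      obtain ⟨m, hm⟩ := (Finite.injective_iff_surjective.mp hf) ⟨n, hn⟩
      have hm' : (m : G)⁻¹ * (v * m * v⁻¹) = n := congrArg Subtype.val hm
      rw [← hm', hvi]
      calc v * ((m : G)⁻¹ * (v * m * v)) * v = (v * (m : G)⁻¹ * v) * m * (v * v) := by group
        _ = (v⁻¹ * (m : G)⁻¹ * v⁻¹) * m := by rw [hvv, mul_one, hvi]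
        _ = _ := by group
    -- a four group: `t`, `b`, `t b`
    set b : G := ((e.symm (DihedralGroup.sr 0) : ↥C) : G) with hb
    have hbo : orderOf b = 2 := by
      rw [hb, Subgroup.orderOf_coe, e.symm.orderOf_eq, DihedralGroup.orderOf_sr]
    have hbC : b ∈ C := (e.symm (DihedralGroup.sr 0)).2
    have hbt : b * t = t * b := Subgroup.mem_centralizer_singleton_iff.mp hbC
    have hbt1 : t * b ≠ 1 := fun h => by
      have h1 : b = t := by rw [← inv_eq_of_mul_eq_one_right h, inv_eq_of_mul_eq_one_right htt]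
      have h2 : (e.symm (DihedralGroup.sr 0) : ↥C) = ⟨t, htC⟩ := Subtype.ext h1
      have h3 := congrArg e h2
      rw [e.apply_symm_apply] at h3
      have h4 : ∀ y : DihedralGroup 4, DihedralGroup.sr 0 * y = y * DihedralGroup.sr 0 := by
        intro y
        obtain ⟨y, rfl⟩ := e.surjective y
        rw [h3, ← map_mul, ← map_mul]
        exact congrArg e (Subtype.ext (Subgroup.mem_centralizer_singleton_iff.mp y.2).symm)
      exact absurd (h4 (DihedralGroup.r 1)) (by decide)
    have hbb : b * b = 1 := by rw [← pow_two, ← hbo, pow_orderOf_eq_one]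
    have htbo : orderOf (t * b) = 2 := by
      refine orderOf_eq_prime ?_ hbt1
      rw [pow_two]
      calc t * b * (t * b) = t * (b * t) * b := by group
        _ = (t * t) * (b * b) := by rw [hbt]; group
        _ = 1 := by rw [htt, hbb, mul_one]
    rw [eq_bot_iff]
    intro n hn
    have h3 : n = n⁻¹ := by
      calc n = n⁻¹⁻¹ := (inv_inv n).symm
        _ = t * n⁻¹ * t⁻¹ := (hinv t ht _ (inv_mem hn)).symm
        _ = t * (b * n * b⁻¹) * t⁻¹ := by rw [hinv b hbo n hn]
        _ = (t * b) * n * (t * b)⁻¹ := by group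
        _ = n⁻¹ := hinv _ htbo n hn
    by_contra hne
    exact hno n hn (orderOf_eq_prime (by rw [pow_two]; nth_rewrite 1 [h3]; exact inv_mul_cancel n) hne)
  refine ⟨fun N hN => ?_⟩
  by_cases hs : ∃ s ∈ N, orderOf s = 2
  · right
    obtain ⟨s, hsN, hs2⟩ := hs
    haveI := hN
    have hCN : C ≤ N := hinC N hN s hsN hs2
    have hSN : (S : Subgroup G) ≤ N := hS.le.trans hCN
    rw [eq_top_iff]
    intro g _
    let T : Sylow 2 ↥N := S.subtype hSN
    obtain ⟨m, hm⟩ := MulAction.exists_smul_eq ↥N ((g • S).subtype (fun x hx => by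
      rw [Sylow.coe_subgroup_smul] at hx
      obtain ⟨y, hy, rfl⟩ := hx
      exact hN.conj_mem y (hSN hy) g)) T
    have hstab : ∀ x ∈ (S : Subgroup G), ((m : G) * g) * x * ((m : G) * g)⁻¹ ∈ (S : Subgroup G) := by
      intro x hx
      have hx' : g * x * g⁻¹ ∈ N := hN.conj_mem x (hSN hx) g
      have h2 : m * (⟨g * x * g⁻¹, hx'⟩ : ↥N) * m⁻¹ ∈ (T : Subgroup ↥N) := by
        rw [← hm, Sylow.coe_subgroup_smul]
        refine ⟨⟨g * x * g⁻¹, hx'⟩, ?_, rfl⟩
        show g * x * g⁻¹ ∈ ((g • S : Sylow 2 G) : Subgroup G)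
        rw [Sylow.coe_subgroup_smul]
        exact ⟨x, hx, rfl⟩
      have h3 : (m : G) * (g * x * g⁻¹) * (m : G)⁻¹ ∈ (S : Subgroup G) := h2
      rwa [show (m : G) * g * x * ((m : G) * g)⁻¹ = (m : G) * (g * x * g⁻¹) * (m : G)⁻¹ by group]
    set h := (m : G) * g with hh
    have htS : h * t * h⁻¹ ∈ C := hS ▸ hstab t (hS ▸ htC)
    have hht : h * t * h⁻¹ = t := by
      refine hzt ⟨_, htS⟩ (fun e' => ht1 (conj_eq_one_iff.mp (congrArg Subtype.val e'))) fun y => ?_
      obtain ⟨y, hy⟩ := y
      have hmapS : (S : Subgroup G).map (MulAut.conj h).toMonoidHom = (S : Subgroup G) := by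
        refine Subgroup.eq_of_le_of_card_ge (fun _ ⟨x, hx, hxe⟩ => hxe ▸ hstab x hx) ?_
        rw [Subgroup.card_map_of_injective (MulAut.conj h).injective]
      have hy' : y ∈ (S : Subgroup G).map (MulAut.conj h).toMonoidHom := by rw [hmapS, hS]; exact hy
      obtain ⟨x, hx, rfl⟩ := hy'
      have hxt : x * t = t * x := Subgroup.mem_centralizer_singleton_iff.mp (show x ∈ C from hS ▸ hx)
      refine Subtype.ext ?_
      show h * t * h⁻¹ * (h * x * h⁻¹) = h * x * h⁻¹ * (h * t * h⁻¹)
      calc h * t * h⁻¹ * (h * x * h⁻¹) = h * (t * x) * h⁻¹ := by group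
        _ = h * (x * t) * h⁻¹ := by rw [hxt]
        _ = _ := by group
    have hhC : h ∈ C := Subgroup.mem_centralizer_singleton_iff.mpr (mul_inv_eq_iff_eq_mul.mp hht)
    have h5 := mul_mem (inv_mem m.2) (hCN hhC)
    rwa [hh, inv_mul_cancel_left] at h5
  · left
    push Not at hs
    exact hoddN N hN hs

end H70
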