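import Cfsg.Prelude.Def_LocalEven
import Cfsg.Prelude.Def_CaseTheorems
import Cfsg.Prelude.Def_Transfer
import Cfsg.Agent.H77.CharP
import Cfsg.Agent.H9.Thompson
import Cfsg.Agent.H71.SymplecticType

/-!
Groups of local characteristic `p` and of characteristic 2 type: the basic set-up for the bound on
the `p`-rank of 2-local subgroups, and the bound on elementary abelian 2-groups centralizing a
`p`-subgroup.
-/

set_option autoImplicit false

open Subgroup

namespace H70.KM

universe u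

variable {G : Type u} [Group G]

/-- The standing hypotheses: local characteristic `p`, characteristic 2 type, and `n ≥ 3` an upper
bound for the ranks of elementary abelian `p`-subgroups of 2-local subgroups. -/
structure Ctx (G : Type u) [Group G] [Finite G] (p n : ℕ) : Prop where
  prime : p.Prime
  odd : p ≠ 2
  three : 3 ≤ n
  charP : Cfsg.IsOfLocalCharacteristic p G
  charTwo : Cfsg.IsCharacteristicTwoType G
  max : ∀ (T P : Subgroup G), IsPGroup 2 T → T ≠ ⊥ → Cfsg.IsElementaryAbelian p P →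
    P ≤ normalizer (T : Set G) → Nat.card P ≤ p ^ n

theorem mem_cent_iff {s : Set G} {g : G} : g ∈ centralizer s ↔ ∀ x ∈ s, g * x = x * g := by
  rw [mem_centralizer_iff]
  exact ⟨fun h x hx => (h x hx).symm, fun h x hx => (h x hx).symm⟩

theorem elemAb_commute {q : ℕ} {A : Subgroup G} (hA : Cfsg.IsElementaryAbelian q A) {a b : G}
    (ha : a ∈ A) (hb : b ∈ A) : Commute a b :=
  congrArg Subtype.val (hA.1.is_comm.comm ⟨a, ha⟩ ⟨b, hb⟩)

theorem elemAb_isPGroup {q : ℕ} {A : Subgroup G} (hA : Cfsg.IsElementaryAbelian q A) : IsPGroup q A :=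
  fun a => ⟨1, Subtype.ext (by simpa using hA.2 a a.2)⟩

theorem elemAb_le {q : ℕ} {A B : Subgroup G} (hB : Cfsg.IsElementaryAbelian q B) (h : A ≤ B) :
    Cfsg.IsElementaryAbelian q A :=
  ⟨⟨⟨fun a b => Subtype.ext (elemAb_commute hB (h a.2) (h b.2))⟩⟩, fun a ha => hB.2 a (h ha)⟩

theorem elemAb_closure [Finite G] {q : ℕ} {s : Set G} (hc : ∀ a ∈ s, ∀ b ∈ s, Commute a b)
    (he : ∀ a ∈ s, a ^ q = 1) : Cfsg.IsElementaryAbelian q (closure s) :=
  ⟨⟨⟨fun a b => Subtype.ext (H71.coe_closure_comm hc a a.2 b b.2)⟩⟩,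
    H71.closure_pow_eq_one hc he⟩

/-- A proper subgroup of a `q`-group has index at least `q`. -/
theorem mul_card_le_of_lt [Finite G] {q : ℕ} [hq : Fact q.Prime] {H K : Subgroup G} (hK : IsPGroup q K)
    (h : H < K) : q * Nat.card H ≤ Nat.card K := by
  obtain ⟨a, ha⟩ := IsPGroup.iff_card.1 (hK.to_le h.le)
  obtain ⟨b, hb⟩ := IsPGroup.iff_card.1 hK
  have hlt : Nat.card H < Nat.card K :=
    lt_of_le_of_ne (card_le_of_le h.le) fun e => h.ne (eq_of_le_of_card_ge h.le e.ge)
  rw [ha, hb] at hlt ⊢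
  rw [← pow_succ']
  exact Nat.pow_le_pow_right hq.out.pos ((Nat.pow_lt_pow_iff_right hq.out.one_lt).1 hlt)

/-- An element of exponent `q` not in `A` multiplies the order by at least `q`. -/
theorem mul_card_le_insert [Finite G] {q : ℕ} [Fact q.Prime] {s : Set G} {x : G}
    (h : Cfsg.IsElementaryAbelian q (closure (insert x s))) (hx : x ∉ closure s) :
    q * Nat.card (closure s) ≤ Nat.card (closure (insert x s)) :=
  mul_card_le_of_lt (elemAb_isPGroup h) (lt_of_le_of_ne (closure_mono (Set.subset_insert x s))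
    fun e => hx (e.symm ▸ subset_closure (Set.mem_insert x s)))

theorem not_two_dvd_orderOf {q : ℕ} (hq : q.Prime) (hq2 : q ≠ 2) {a : G} {i : ℕ} (ha : a ^ q ^ i = 1) :
    ¬ 2 ∣ orderOf a := by
  intro h
  exact hq2 ((Nat.prime_dvd_prime_iff_eq Nat.prime_two hq).1
    (Nat.prime_two.dvd_of_dvd_pow (h.trans (orderOf_dvd_of_pow_eq_one ha)))).symm

theorem eq_one_of_two_power_of_not_dvd {a : G} {i : ℕ} (ha : a ^ 2 ^ i = 1) (h : ¬ 2 ∣ orderOf a) :
    a = 1 := by
  obtain ⟨j, -, hj⟩ := (Nat.dvd_prime_pow Nat.prime_two).1 (orderOf_dvd_of_pow_eq_one ha)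
  rcases j with _ | j
  · exact orderOf_eq_one_iff.1 (by simpa using hj)
  · exact absurd (hj ▸ dvd_pow_self 2 j.succ_ne_zero) h

/-- An element of odd order moving `x` by a 2-element it centralizes commutes with `x`. -/
theorem stab_left {b x c : G} (hb : ¬ 2 ∣ orderOf b) (hc : ∃ i : ℕ, c ^ 2 ^ i = 1) (hbc : Commute b c)
    (h : b * x * b⁻¹ = c * x) : Commute b x := by
  haveI : Fact (Nat.Prime 2) := ⟨Nat.prime_two⟩
  have h1 := H77.pow_conj_of_fix hbc.eq h (orderOf b)
  rw [pow_orderOf_eq_one, one_mul, inv_one, mul_one] at h1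
  have h2 : c = 1 := H77.eq_one_of_pow_orderOf (p := 2) hc hb (mul_eq_right.1 h1.symm)
  rw [h2, one_mul] at h
  exact H77.conj_eq_self_iff.1 h

theorem stab_right {b x c : G} (hb : ¬ 2 ∣ orderOf b) (hc : ∃ i : ℕ, c ^ 2 ^ i = 1) (hbc : Commute b c)
    (h : b * x * b⁻¹ = x * c) : Commute b x := by
  obtain ⟨i, hi⟩ := hc
  refine Commute.inv_right_iff.1 (stab_left (x := x⁻¹) hb ⟨i, ?_⟩ hbc.inv_right ?_)
  · rw [inv_pow, hi, inv_one]
  · have h' : (b * x * b⁻¹)⁻¹ = (x * c)⁻¹ := by rw [h]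
    simpa [mul_inv_rev, mul_assoc] using h'

variable [Finite G] {p n : ℕ}

theorem Ctx.not_two_dvd (X : Ctx G p n) {P : Subgroup G} (hP : IsPGroup p P) {a : G} (ha : a ∈ P) :
    ¬ 2 ∣ orderOf a := by
  obtain ⟨i, hi⟩ := H77.exists_pow_eq_one_of_mem hP ha
  exact not_two_dvd_orderOf X.prime X.odd hi

theorem Ctx.eq_one_of_two (X : Ctx G p n) {a : G} (ha : a ^ p = 1) {i : ℕ} (h : a ^ 2 ^ i = 1) : a = 1 :=
  eq_one_of_two_power_of_not_dvd h (not_two_dvd_orderOf X.prime X.odd (i := 1) (by rwa [pow_one]))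

theorem Ctx.not_p_dvd_of_two (X : Ctx G p n) {a : G} {i : ℕ} (ha : a ^ 2 ^ i = 1) : ¬ p ∣ orderOf a := by
  intro h
  exact X.odd ((Nat.prime_dvd_prime_iff_eq X.prime Nat.prime_two).1
    (X.prime.dvd_of_dvd_pow (h.trans (orderOf_dvd_of_pow_eq_one ha))))

/-- In a 2-local subgroup only the trivial odd-order element centralizes the 2-core. -/
theorem Ctx.two_core_faithful (X : Ctx G p n) {T : Subgroup G} (hT : IsPGroup 2 T) (hT1 : T ≠ ⊥) {g : G}
    (hg : g ∈ normalizer (T : Set G)) (hodd : ¬ 2 ∣ orderOf g)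
    (hc : ∀ q ∈ Cfsg.pCoreOf 2 (normalizer (T : Set G)), g * q = q * g) : g = 1 := by
  have h1 := (H77.charP_subgroup_iff (p := 2)).1 (X.charTwo.2 T hT hT1) ⟨hg, mem_cent_iff.2 hc⟩
  obtain ⟨i, hi⟩ := H77.exists_pow_eq_one_of_mem (H77.isPGroup_pCoreOf _) h1
  exact eq_one_of_two_power_of_not_dvd hi hodd

/-- An element of order prime to `p` centralizing `P` and `O_p(C(P))` is trivial. -/
theorem Ctx.p_core_faithful (X : Ctx G p n) {P : Subgroup G} (hP : IsPGroup p P) (hP1 : P ≠ ⊥) {g : G}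
    (hg : g ∈ centralizer (P : Set G)) (hp' : ¬ p ∣ orderOf g)
    (hc : ∀ q ∈ Cfsg.pCoreOf p (centralizer (P : Set G)), g * q = q * g) : g = 1 := by
  haveI : Fact p.Prime := ⟨X.prime⟩
  set N := normalizer (P : Set G)
  set R := Cfsg.pCoreOf p N
  have hCN : centralizer (P : Set G) ≤ N := centralizer_le_normalizer _
  have hgN : g ∈ N := hCN hg
  have hNR : N ≤ normalizer (R : Set G) := H77.le_normalizer_pCoreOf N
  have hRC : R ⊓ centralizer (P : Set G) ≤ Cfsg.pCoreOf p (centralizer (P : Set G)) := by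
    refine H77.le_pCoreOf inf_le_right ((H77.isPGroup_pCoreOf N).to_le inf_le_left) ?_
    exact (le_inf (hCN.trans hNR) le_normalizer).trans inf_normalizer_le_normalizer_inf
  have hgR : ∀ r ∈ R, g * r = r * g := by
    intro r hr
    have h1 : g * r * g⁻¹ * r⁻¹ ∈ R := mul_mem ((mem_normalizer_iff.1 (hNR hgN) r).1 hr) (inv_mem hr)
    have h2 : g * r * g⁻¹ * r⁻¹ ∈ centralizer (P : Set G) := by
      rw [show g * r * g⁻¹ * r⁻¹ = g * (r * g⁻¹ * r⁻¹) by group]
      refine mul_mem hg ?_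
      have hrN : r ∈ N := H77.pCoreOf_le N hr
      refine mem_cent_iff.2 fun x hx => ?_
      have hx' : r⁻¹ * x * r ∈ P := (mem_normalizer_iff''.1 hrN x).1 hx
      have := mem_cent_iff.1 (inv_mem hg) _ hx'
      calc r * g⁻¹ * r⁻¹ * x = r * (g⁻¹ * (r⁻¹ * x * r)) * r⁻¹ := by group
        _ = x * (r * g⁻¹ * r⁻¹) := by rw [this]; group
    exact H77.commute_of_fix (H77.isPGroup_pCoreOf N) h1 hp' (hc _ (hRC ⟨h1, h2⟩)) (by group)
  have hgm := (H77.charP_subgroup_iff (p := p)).1 (X.charP.2 P hP hP1) ⟨hgN, mem_cent_iff.2 hgR⟩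
  obtain ⟨i, hi⟩ := H77.exists_pow_eq_one_of_mem (H77.isPGroup_pCoreOf N) hgm
  exact orderOf_eq_one_iff.1 (Nat.eq_one_of_dvd_coprimes ((X.prime.coprime_iff_not_dvd.2 hp').pow_left i)
    (orderOf_dvd_of_pow_eq_one hi) dvd_rfl)

/-- If `P` is large, only small elementary abelian 2-groups centralize it. -/
theorem Ctx.two_bound (X : Ctx G p n) {P : Subgroup G} (hP : Cfsg.IsElementaryAbelian p P) (hP1 : P ≠ ⊥)
    {k : ℕ} (hk : p ^ n ≤ Nat.card P * p ^ k) {E : Subgroup G} (hE : Cfsg.IsElementaryAbelian 2 E)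
    (hEP : E ≤ centralizer (P : Set G)) : Nat.card E ≤ 2 ^ (k + 1) := by
  classical
  haveI : Fact p.Prime := ⟨X.prime⟩
  haveI : Fact (Nat.Prime 2) := ⟨Nat.prime_two⟩
  obtain ⟨d, hd⟩ := IsPGroup.iff_card.1 (elemAb_isPGroup hE)
  by_contra hbig
  push Not at hbig
  rw [hd] at hbig
  have hd2 : k + 1 < d := (Nat.pow_lt_pow_iff_right (by norm_num)).1 hbig
  set O := Cfsg.pCoreOf p (centralizer (P : Set G))
  have hOp : IsPGroup p O := H77.isPGroup_pCoreOf _
  have hfaith : E ⊓ centralizer (O : Set G) = ⊥ := by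
    rw [eq_bot_iff]
    rintro x ⟨hxE, hxO⟩
    exact mem_bot.2 (X.p_core_faithful (elemAb_isPGroup hP) hP1 (hEP hxE)
      (X.not_p_dvd_of_two (i := 1) (by rw [pow_one]; exact hE.2 x hxE)) (mem_cent_iff.1 hxO))
  obtain ⟨a, v, hav, -, hcom, -⟩ := Cfsg.Agent.H9.exists_dihedral_family E
    (fun x hx y hy => (elemAb_commute hE hx hy).eq) (fun x hx => by rw [← pow_two]; exact hE.2 x hx)
    d E O le_rfl hd hOp.isNilpotent
    (by obtain ⟨j, hj⟩ := IsPGroup.iff_card.1 hOp; rw [hj]; exact (X.prime.odd_of_ne_two X.odd).pow)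
    (hEP.trans (H77.le_normalizer_pCoreOf _)) hfaith
  have haE : ∀ i, a i ∈ E := fun i => (hav i).1
  have huex : ∀ i, ∃ m : ℕ, orderOf (v i ^ m) = p := by
    intro i
    obtain ⟨e, he⟩ := H77.exists_pow_eq_one_of_mem hOp (hav i).2.1
    obtain ⟨j, -, hj⟩ := (Nat.dvd_prime_pow X.prime).1 (orderOf_dvd_of_pow_eq_one he)
    rcases j with _ | j
    · exact absurd (orderOf_eq_one_iff.1 (by simpa using hj)) (hav i).2.2.1
    · refine ⟨p ^ j, ?_⟩
      rw [orderOf_pow, hj, Nat.gcd_eq_right (pow_dvd_pow p j.le_succ),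
        Nat.pow_div j.le_succ X.prime.pos, show j + 1 - j = 1 by omega, pow_one]
  choose m hm using huex
  set w : Fin d → G := fun i => v i ^ m i
  have hw1 : ∀ i, w i ≠ 1 := fun i h => by
    have := hm i
    rw [show v i ^ m i = 1 from h, orderOf_one] at this
    exact X.prime.one_lt.ne this
  have hwp : ∀ i, w i ^ p = 1 := fun i => by
    have := pow_orderOf_eq_one (v i ^ m i)
    rwa [hm i] at this
  have hwinv : ∀ i, a i * w i * (a i)⁻¹ = (w i)⁻¹ := fun i => by
    show a i * v i ^ m i * (a i)⁻¹ = (v i ^ m i)⁻¹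
    rw [← conj_pow, (hav i).2.2.2, inv_pow]
  have hPw : ∀ i, ∀ x ∈ P, Commute x (w i) := fun i x hx =>
    (show Commute x (v i) from ((mem_cent_iff.1 (H77.pCoreOf_le _ (hav i).2.1)) x hx).symm).pow_right _
  have hgen : ∀ s : Finset (Fin d), Cfsg.IsElementaryAbelian p (closure ((P : Set G) ∪ w '' s)) ∧
      Nat.card P * p ^ s.card ≤ Nat.card (closure ((P : Set G) ∪ w '' s)) ∧
      ∀ i, i ∉ s → closure ((P : Set G) ∪ w '' s) ≤ centralizer {a i} := by
    intro s
    have helem : ∀ t : Finset (Fin d), Cfsg.IsElementaryAbelian p (closure ((P : Set G) ∪ w '' t)) := by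
      intro t
      refine elemAb_closure ?_ ?_
      · rintro x (hx | ⟨i, -, rfl⟩) y (hy | ⟨j, -, rfl⟩)
        · exact elemAb_commute hP hx hy
        · exact hPw j x hx
        · exact (hPw i y hy).symm
        · rcases eq_or_ne i j with rfl | hij
          · exact Commute.refl _
          · exact (show Commute (v i) (v j) from (hcom i j hij).2).pow_pow _ _
      · rintro x (hx | ⟨i, -, rfl⟩)
        exacts [hP.2 x hx, hwp i]
    have hcent : ∀ (t : Finset (Fin d)) i, i ∉ t →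
        closure ((P : Set G) ∪ w '' t) ≤ centralizer {a i} := by
      intro t i hi
      rw [closure_le]
      rintro x (hx | ⟨j, hj, rfl⟩) <;> rw [SetLike.mem_coe, mem_centralizer_singleton_iff]
      · exact (mem_cent_iff.1 (hEP (haE i)) x hx).symm
      · have hij : i ≠ j := fun e => hi (e ▸ hj)
        exact ((show Commute (a i) (v j) from (hcom i j hij).1).pow_right _).eq.symm
    refine ⟨helem s, ?_, hcent s⟩
    induction s using Finset.induction_on with
    | empty => simp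
    | @insert i t hit ih =>
      have hset : (P : Set G) ∪ w '' ↑(insert i t) = insert (w i) ((P : Set G) ∪ w '' ↑t) := by
        rw [Finset.coe_insert, Set.image_insert_eq, Set.union_insert]
      rw [hset, Finset.card_insert_of_notMem hit, pow_succ, ← mul_assoc, mul_comm _ p]
      refine (Nat.mul_le_mul le_rfl ih).trans (mul_card_le_insert (hset ▸ helem (insert i t)) ?_)
      intro hmem
      have h1 : a i * w i = w i * a i := ((mem_centralizer_singleton_iff).1 (hcent t i hit hmem)).symm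
      exact hw1 i (H71.eq_self_of_inv_eq X.odd
        ((hwinv i).symm.trans (H77.conj_eq_self_iff.2 h1)) (hwp i))
  obtain ⟨helem, hcard, hcent⟩ := hgen (Finset.univ.erase (⟨0, by omega⟩ : Fin d))
  rw [Finset.card_erase_of_mem (Finset.mem_univ _), Finset.card_univ, Fintype.card_fin] at hcard
  have ha0 : a ⟨0, by omega⟩ ≠ 1 := by
    intro h
    have h1 := hwinv ⟨0, by omega⟩
    rw [h, one_mul, inv_one, mul_one] at h1
    exact hw1 _ (H71.eq_self_of_inv_eq X.odd h1.symm (hwp _))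
  have hle := X.max (zpowers (a ⟨0, by omega⟩)) _ ((elemAb_isPGroup hE).to_le (zpowers_le.2 (haE _)))
    (by rwa [Ne, zpowers_eq_bot]) helem (((hcent _ (Finset.notMem_erase _ _)).trans (by
      rw [zpowers_eq_closure, centralizer_closure])).trans (centralizer_le_normalizer _))
  have := (Nat.mul_le_mul_left_iff Nat.card_pos).1 ((hcard.trans hle).trans hk)
  have := (Nat.pow_le_pow_iff_right X.prime.one_lt).1 this
  omega

end H70.KM
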