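import Cfsg.Agent.H70.KMBase
import Cfsg.Agent.H89.CoprimeSmall
import Cfsg.Agent.H8.Coprime
import Cfsg.Agent.H83.CoprimeAbelian

/-!
Step I: an elementary abelian `p`-group `B` of maximal rank inside a 2-local subgroup commutes with
an involution `z`, and acts faithfully on a subgroup `K` of `O₂(C(z))` of class two with cyclic
centre centralized by `B`.
-/

set_option autoImplicit false

open Subgroup

namespace H70.KM

universe u

variable {G : Type u} [Group G]

/-- An involution `z` together with an elementary abelian group of order `p ^ n` commuting with it. -/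
structure Frame (p n : ℕ) (z : G) (B : Subgroup G) : Prop where
  ne_one : z ≠ 1
  sq : z ^ 2 = 1
  elem : Cfsg.IsElementaryAbelian p B
  card : Nat.card B = p ^ n
  comm : ∀ b ∈ B, Commute b z

/-- The 2-group on which `B` acts. -/
structure Core (z : G) (B K : Subgroup G) : Prop where
  two : IsPGroup 2 K
  mem : z ∈ K
  le_cent : K ≤ centralizer ({z} : Set G)
  le_norm : centralizer ({z} : Set G) ≤ normalizer (K : Set G)
  faithful : ∀ b ∈ B, (∀ x ∈ K, Commute b x) → b = 1
  omega : ∀ x ∈ K, (∀ y ∈ K, Commute x y) → x ^ 2 = 1 → x = 1 ∨ x = z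
  fixes : ∀ x ∈ K, (∀ y ∈ K, Commute x y) → ∀ b ∈ B, Commute b x
  commutator : ∀ x ∈ K, ∀ y ∈ K, x * y * x⁻¹ * y⁻¹ = 1 ∨ x * y * x⁻¹ * y⁻¹ = z
  square : ∀ x ∈ K, ∀ y ∈ K, Commute (x ^ 2) y

theorem inv_eq_self {a : G} (ha : a ^ 2 = 1) : a⁻¹ = a :=
  inv_eq_of_mul_eq_one_right (by rwa [← pow_two])

theorem mem_four {a b x : G} (ha : a ^ 2 = 1) (hb : b ^ 2 = 1) (hab : Commute a b)
    (hx : x ∈ closure ({a, b} : Set G)) : x = 1 ∨ x = a ∨ x = b ∨ x = a * b := by
  have hai := inv_eq_self ha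
  have hbi := inv_eq_self hb
  rw [pow_two] at ha hb
  have e1 : ∀ y, a * (a * y) = y := fun y => by rw [← mul_assoc, ha, one_mul]
  have e2 : ∀ y, b * (b * y) = y := fun y => by rw [← mul_assoc, hb, one_mul]
  have e3 : ∀ y, b * (a * y) = a * (b * y) := fun y => by rw [← mul_assoc, ← hab.eq, mul_assoc]
  induction hx using closure_induction with
  | mem y hy =>
    rcases hy with rfl | hy
    · tauto
    · rw [Set.mem_singleton_iff] at hy; tauto
  | one => tauto
  | mul y y' _ _ h h' =>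
    rcases h with rfl | rfl | rfl | rfl <;> rcases h' with rfl | rfl | rfl | rfl <;>
      simp [ha, hb, e1, e2, e3, hab.eq.symm, mul_assoc]
  | inv y _ h =>
    rcases h with rfl | rfl | rfl | rfl <;> simp [hai, hbi, hab.eq.symm, mul_inv_rev]

theorem mem_insert_invol {s : Set G} {c x : G} (hc : c ^ 2 = 1) (hcs : ∀ a ∈ s, Commute a c)
    (hx : x ∈ closure (insert c s)) : x ∈ closure s ∨ x * c ∈ closure s := by
  have hci := inv_eq_self hc
  rw [pow_two] at hc
  have hcl : ∀ a ∈ closure s, Commute a c := by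
    intro a ha
    have hle : closure s ≤ centralizer {c} := (closure_le _).2 fun a ha =>
      mem_centralizer_singleton_iff.2 (hcs a ha).eq
    exact mem_centralizer_singleton_iff.1 (hle ha)
  induction hx using closure_induction with
  | mem y hy =>
    rcases hy with rfl | hy
    · exact Or.inr (by rw [hc]; exact one_mem _)
    · exact Or.inl (subset_closure hy)
  | one => exact Or.inl (one_mem _)
  | mul y y' _ _ h h' =>
    rcases h with h | h <;> rcases h' with h' | h'
    · exact Or.inl (mul_mem h h')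
    · exact Or.inr (by rw [mul_assoc]; exact mul_mem h h')
    · refine Or.inr ?_
      rw [show y * y' * c = (y * c) * y' by rw [mul_assoc, mul_assoc, (hcl _ h').eq]]
      exact mul_mem h h'
    · refine Or.inl ?_
      have hy' : Commute (y' * c) c := hcl _ h'
      rw [show y * y' = (y * c) * (y' * c) by
        calc y * y' = y * ((y' * c) * c) := by rw [mul_assoc, hc, mul_one]
          _ = (y * c) * (y' * c) := by rw [hy'.eq, ← mul_assoc]]
      exact mul_mem h h'
  | inv y _ h =>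
    rcases h with h | h
    · exact Or.inl (inv_mem h)
    · refine Or.inr ?_
      have h1 := inv_mem h
      rw [mul_inv_rev, hci] at h1
      have h2 := hcl _ h1
      have h3 : y⁻¹ * c = c * y⁻¹ := by
        calc y⁻¹ * c = c * ((c * y⁻¹) * c) := by rw [mul_assoc, ← mul_assoc c c, hc, one_mul]
          _ = c * y⁻¹ := by rw [h2.eq, ← mul_assoc c c, hc, one_mul]
      rw [h3]
      exact h1

theorem elemAb_conj_mem {q : ℕ} {B H : Subgroup G} (hB : Cfsg.IsElementaryAbelian q B) (hH : H ≤ B)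
    {b : G} (hb : b ∈ B) {x : G} (hx : ∀ h ∈ H, Commute h x) : ∀ h ∈ H, Commute h (b * x * b⁻¹) := by
  intro h hh
  have h1 : Commute h b := elemAb_commute hB (hH hh) hb
  exact (h1.mul_right (hx h hh)).mul_right h1.inv_right

theorem exists_ne_one {H : Subgroup G} (h : H ≠ ⊥) : ∃ x ∈ H, x ≠ 1 := by
  obtain ⟨x, hx⟩ := ne_bot_iff_exists_ne_one.1 h
  exact ⟨x, x.2, fun e => hx (Subtype.ext e)⟩

variable [Finite G] {p n : ℕ}

theorem card_inf_le {B H H' : Subgroup G} (hH : H ≤ B) (h : H.relIndex B = p) (h' : H'.relIndex B = p) :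
    Nat.card B ≤ Nat.card (H ⊓ H' : Subgroup G) * p ^ 2 := by
  have h1 := relIndex_mul_relIndex ⊥ (H ⊓ H') B bot_le (inf_le_left.trans hH)
  rw [relIndex_bot_left, relIndex_bot_left] at h1
  rw [← h1, pow_two]
  refine Nat.mul_le_mul le_rfl ?_
  have h2 := relIndex_inf_le (H := H) (K := H') (L := B)
  rwa [h, h'] at h2

theorem card_hyper {B H : Subgroup G} (hH : H ≤ B) (h : H.relIndex B = p) :
    Nat.card H * p = Nat.card B := by
  have h1 := relIndex_mul_relIndex ⊥ H B bot_le hH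
  rwa [relIndex_bot_left, relIndex_bot_left, h] at h1

/-- A hyperplane and an element outside generate. -/
theorem hyper_commute {B H : Subgroup G} (hp : p.Prime) (hB : Cfsg.IsElementaryAbelian p B) (hH : H ≤ B)
    (h : H.relIndex B = p) {β : G} (hβ : β ∈ B) (hβH : β ∉ H) {x : G} (hxH : ∀ a ∈ H, Commute a x)
    (hxβ : Commute β x) : ∀ b ∈ B, Commute b x := by
  haveI : Fact p.Prime := ⟨hp⟩
  intro b hb
  have hle : closure (insert β (H : Set G)) ≤ centralizer {x} := (closure_le _).2 (by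
    rintro a (rfl | ha)
    · exact mem_centralizer_singleton_iff.2 hxβ.eq
    · exact mem_centralizer_singleton_iff.2 (hxH a ha).eq)
  have hleB : closure (insert β (H : Set G)) ≤ B := (closure_le _).2 (Set.insert_subset hβ hH)
  have hc := mul_card_le_insert (q := p) (s := (H : Set G)) (x := β) (elemAb_le hB hleB)
    (by rwa [closure_eq])
  rw [closure_eq, mul_comm, card_hyper hH h] at hc
  have heq := eq_of_le_of_card_ge hleB hc
  exact mem_centralizer_singleton_iff.1 (hle (heq.symm ▸ hb))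

theorem Ctx.not_two_dvd_of_pow (X : Ctx G p n) {a : G} (ha : a ^ p = 1) : ¬ 2 ∣ orderOf a :=
  not_two_dvd_orderOf X.prime X.odd (i := 1) (by rwa [pow_one])

/-- Bound for elementary abelian 2-groups centralizing a subgroup of index at most `p ^ k`. -/
theorem Ctx.two_bound' (X : Ctx G p n) {P : Subgroup G} (hP : Cfsg.IsElementaryAbelian p P)
    {k : ℕ} (hk2 : k ≤ 2) (hk : p ^ n ≤ Nat.card P * p ^ k) {E : Subgroup G}
    (hE : Cfsg.IsElementaryAbelian 2 E) (hEP : E ≤ centralizer (P : Set G)) :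
    Nat.card E ≤ 2 ^ (k + 1) := by
  refine X.two_bound hP ?_ hk hE hEP
  rintro rfl
  rw [card_bot, one_mul, Nat.pow_le_pow_iff_right X.prime.one_lt] at hk
  have := X.three
  omega

/-- No three independent commuting involutions centralize a subgroup of index `p`. -/
theorem Ctx.three_false (X : Ctx G p n) {P : Subgroup G} (hP : Cfsg.IsElementaryAbelian p P)
    (hk : p ^ n ≤ Nat.card P * p) {a b c : G} (ha : a ^ 2 = 1) (hb : b ^ 2 = 1) (hc : c ^ 2 = 1)
    (hab : Commute a b) (hac : Commute a c) (hbc : Commute b c)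
    (haP : ∀ x ∈ P, Commute x a) (hbP : ∀ x ∈ P, Commute x b) (hcP : ∀ x ∈ P, Commute x c)
    (ha1 : a ≠ 1) (hb1 : b ∉ closure ({a} : Set G)) (hc1 : c ∉ closure ({b, a} : Set G)) : False := by
  haveI : Fact (Nat.Prime 2) := ⟨Nat.prime_two⟩
  have hset : ∀ x ∈ ({c, b, a} : Set G), x = c ∨ x = b ∨ x = a := fun x hx => by simpa using hx
  have hE : Cfsg.IsElementaryAbelian 2 (closure ({c, b, a} : Set G)) := by
    refine elemAb_closure ?_ ?_
    · intro x hx y hy
      rcases hset x hx with rfl | rfl | rfl <;> rcases hset y hy with rfl | rfl | rfl <;>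
        first | exact Commute.refl _ | assumption | exact Commute.symm (by assumption)
    · intro x hx
      rcases hset x hx with rfl | rfl | rfl <;> assumption
  have h1 := mul_card_le_insert (q := 2) (x := c) (s := {b, a}) hE hc1
  have h2 := mul_card_le_insert (q := 2) (x := b) (s := {a})
    (elemAb_le hE (closure_mono (Set.subset_insert c _))) hb1
  have h3 := mul_card_le_insert (q := 2) (x := a) (s := ∅)
    (elemAb_le hE (closure_mono (by simp))) (by rw [Subgroup.closure_empty, mem_bot]; exact ha1)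
  rw [Subgroup.closure_empty, card_bot, LawfulSingleton.insert_empty_eq] at h3
  have h4 := X.two_bound' hP (k := 1) (by norm_num) (by rwa [pow_one]) hE ((closure_le _).2 (by
    intro x hx
    refine mem_cent_iff.2 fun y hy => ?_
    rcases hset x hx with rfl | rfl | rfl
    exacts [(hcP y hy).eq.symm, (hbP y hy).eq.symm, (haP y hy).eq.symm]))
  norm_num at h4
  omega

/-- No four independent commuting involutions centralize a subgroup of index `p ^ 2`. -/
theorem Ctx.four_false (X : Ctx G p n) {P : Subgroup G} (hP : Cfsg.IsElementaryAbelian p P)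
    (hk : p ^ n ≤ Nat.card P * p ^ 2) {a b c d : G} (ha : a ^ 2 = 1) (hb : b ^ 2 = 1) (hc : c ^ 2 = 1)
    (hd : d ^ 2 = 1) (hab : Commute a b) (hac : Commute a c) (hbc : Commute b c) (had : Commute a d)
    (hbd : Commute b d) (hcd : Commute c d) (haP : ∀ x ∈ P, Commute x a) (hbP : ∀ x ∈ P, Commute x b)
    (hcP : ∀ x ∈ P, Commute x c) (hdP : ∀ x ∈ P, Commute x d)
    (ha1 : a ≠ 1) (hb1 : b ∉ closure ({a} : Set G)) (hc1 : c ∉ closure ({b, a} : Set G))
    (hd1 : d ∉ closure ({c, b, a} : Set G)) : False := by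
  haveI : Fact (Nat.Prime 2) := ⟨Nat.prime_two⟩
  have hset : ∀ x ∈ ({d, c, b, a} : Set G), x = d ∨ x = c ∨ x = b ∨ x = a := fun x hx => by
    simpa using hx
  have hE : Cfsg.IsElementaryAbelian 2 (closure ({d, c, b, a} : Set G)) := by
    refine elemAb_closure ?_ ?_
    · intro x hx y hy
      rcases hset x hx with rfl | rfl | rfl | rfl <;> rcases hset y hy with rfl | rfl | rfl | rfl <;>
        first | exact Commute.refl _ | assumption | exact Commute.symm (by assumption)
    · intro x hx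
      rcases hset x hx with rfl | rfl | rfl | rfl <;> assumption
  have h0 := mul_card_le_insert (q := 2) (x := d) (s := {c, b, a}) hE hd1
  have h1 := mul_card_le_insert (q := 2) (x := c) (s := {b, a})
    (elemAb_le hE (closure_mono (Set.subset_insert d _))) hc1
  have h2 := mul_card_le_insert (q := 2) (x := b) (s := {a})
    (elemAb_le hE (closure_mono ((Set.subset_insert c _).trans (Set.subset_insert d _)))) hb1
  have h3 := mul_card_le_insert (q := 2) (x := a) (s := ∅)
    (elemAb_le hE (closure_mono (by simp))) (by rw [Subgroup.closure_empty, mem_bot]; exact ha1)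
  rw [Subgroup.closure_empty, card_bot, LawfulSingleton.insert_empty_eq] at h3
  have h4 := X.two_bound' hP (k := 2) le_rfl hk hE ((closure_le _).2 (by
    intro x hx
    refine mem_cent_iff.2 fun y hy => ?_
    rcases hset x hx with rfl | rfl | rfl | rfl
    exacts [(hdP y hy).eq.symm, (hcP y hy).eq.symm, (hbP y hy).eq.symm, (haP y hy).eq.symm]))
  norm_num at h4
  omega

/-- The central involutions of a 2-group on which `B` acts faithfully are centralized by `B`. -/
theorem Ctx.omega_centralized (X : Ctx G p n) {B K : Subgroup G} (hB : Cfsg.IsElementaryAbelian p B)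
    (hcard : Nat.card B = p ^ n) (hK : IsPGroup 2 K) (hBK : B ≤ normalizer (K : Set G))
    (hfaith : ∀ b ∈ B, (∀ x ∈ K, Commute b x) → b = 1) {x : G} (hx : x ∈ K)
    (hxc : ∀ y ∈ K, Commute x y) (hx2 : x ^ 2 = 1) : ∀ b ∈ B, Commute b x := by
  haveI : Fact p.Prime := ⟨X.prime⟩
  haveI : Fact (Nat.Prime 2) := ⟨Nat.prime_two⟩
  have hB1 : B ≠ ⊥ := by
    rintro rfl
    rw [card_bot] at hcard
    have := X.three
    exact absurd hcard (Nat.one_lt_pow (by omega) X.prime.one_lt).ne
  have hKn : ∀ b ∈ B, ∀ y, y ∈ K → b * y * b⁻¹ ∈ K := fun b hb y hy =>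
    (mem_normalizer_iff.1 (hBK hb) y).1 hy
  let V : Subgroup G :=
    { carrier := {v | v ∈ K ∧ (∀ y ∈ K, Commute v y) ∧ v ^ 2 = 1}
      one_mem' := ⟨one_mem _, fun y _ => Commute.one_left y, one_pow 2⟩
      mul_mem' := fun {a b} ha hb => ⟨mul_mem ha.1 hb.1, fun y hy => (ha.2.1 y hy).mul_left (hb.2.1 y hy),
        by rw [(ha.2.1 b hb.1).mul_pow, ha.2.2, hb.2.2, one_mul]⟩
      inv_mem' := fun {a} ha => ⟨inv_mem ha.1, fun y hy => (ha.2.1 y hy).inv_left, by
        rw [inv_pow, ha.2.2, inv_one]⟩ }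
  have hVn : ∀ b ∈ B, ∀ v ∈ V, b * v * b⁻¹ ∈ V := by
    refine fun b hb v hv => ⟨hKn b hb v hv.1, fun y hy => ?_, by rw [conj_pow, hv.2.2]; group⟩
    have := (hv.2.1 _ (hKn _ (inv_mem hb) y hy)).eq
    calc b * v * b⁻¹ * y = b * (v * (b⁻¹ * y * b⁻¹⁻¹)) * b⁻¹ := by group
      _ = y * (b * v * b⁻¹) := by rw [this]; group
  by_contra hcon
  push Not at hcon
  obtain ⟨b₀, hb₀, hb₀x⟩ := hcon
  have hVp : ¬ p ∣ Nat.card V :=
    (X.prime.coprime_iff_not_dvd).1 (H71.two_coprime X.odd (hK.to_le (show V ≤ K from fun v hv => hv.1))).symm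
  -- a hyperplane with non-centralized fixed points
  have hgen : ¬ ∀ H : Subgroup G, H ≤ B → H.relIndex B = p →
      V ⊓ centralizer (H : Set G) ≤ centralizer (B : Set G) := fun h =>
    hb₀x ((mem_cent_iff.1 (H8.generation hB hB1 (le_normalizer_iff.2 hVn) hVp h ⟨hx, hxc, hx2⟩)
      b₀ hb₀).symm)
  push Not at hgen
  obtain ⟨H, hHB, hHi, hH⟩ := hgen
  obtain ⟨a, ⟨haV, haH⟩, haB⟩ := SetLike.not_le_iff_exists.1 hH
  have haH' : ∀ h ∈ H, Commute h a := fun h hh => (mem_cent_iff.1 haH h hh).symm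
  have hmove : ∀ {H : Subgroup G}, H ≤ B → H.relIndex B = p → ∀ {a : G}, (∀ h ∈ H, Commute h a) →
      a ∉ centralizer (B : Set G) → ∃ β ∈ B, β ∉ H ∧ ¬ Commute β a := by
    intro H _ hHi a haH haB
    by_contra h
    push Not at h
    refine haB (mem_cent_iff.2 fun b hb => ?_)
    by_cases hbH : b ∈ H
    · exact (haH b hbH).eq.symm
    · exact (h b hb hbH).eq.symm
  obtain ⟨β, hβ, hβH, hβa⟩ := hmove hHB hHi haH' haB
  set b := β * a * β⁻¹ with hb_def
  have hbV : b ∈ V := hVn β hβ a haV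
  have hbH : ∀ h ∈ H, Commute h b := elemAb_conj_mem hB hHB hβ haH'
  have ha1 : a ≠ 1 := by rintro rfl; exact hβa (Commute.one_right β)
  have hba : b ≠ a := fun h => hβa (H77.conj_eq_self_iff.1 h)
  have hb1 : b ≠ 1 := by
    intro h
    rw [hb_def, conj_eq_one_iff] at h
    exact ha1 h
  have hab : Commute a b := haV.2.1 b hbV.1
  have hb4 : b ∉ closure ({a} : Set G) := by
    intro h
    have hsub : closure ({a} : Set G) ≤ closure ({a, a} : Set G) := closure_mono (by simp)
    rcases mem_four haV.2.2 haV.2.2 (Commute.refl a) (hsub h) with e | e | e | e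
    · exact hb1 e
    · exact hba e
    · exact hba e
    · exact hb1 (by rw [e, ← pow_two, haV.2.2])
  have hfour : ∀ y ∈ closure ({b, a} : Set G), y = 1 ∨ y = b ∨ y = a ∨ y = b * a := fun y hy =>
    mem_four hbV.2.2 haV.2.2 hab.symm hy
  have hfourV : ∀ y ∈ closure ({b, a} : Set G), y ∈ V ∧ ∀ h ∈ H, Commute h y := by
    intro y hy
    rcases hfour y hy with rfl | rfl | rfl | rfl
    · exact ⟨one_mem V, fun h _ => Commute.one_right h⟩
    · exact ⟨hbV, hbH⟩
    · exact ⟨haV, haH'⟩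
    · exact ⟨mul_mem hbV haV, fun h hh => (hbH h hh).mul_right (haH' h hh)⟩
  -- a product of a moved involution and its image is moved
  have hprod : ∀ {β a : G}, β ∈ B → a ^ 2 = 1 → ¬ Commute β a → Commute a (β * a * β⁻¹) →
      ¬ Commute β (a * (β * a * β⁻¹)) := by
    intro β a hβ ha2 hne hcom hfix
    refine hne (stab_right (c := a * (β * a * β⁻¹)) (X.not_two_dvd_of_pow (hB.2 β hβ)) ⟨1, ?_⟩ hfix ?_)
    · rw [pow_one, hcom.mul_pow, conj_pow, ha2, one_mul, mul_one, mul_inv_cancel]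
    · rw [← mul_assoc a a, ← pow_two, ha2, one_mul]
  have hfix1 : ∀ y ∈ closure ({b, a} : Set G), (∀ g ∈ B, Commute g y) → y = 1 := by
    intro y hy hyB
    rcases hfour y hy with rfl | rfl | rfl | rfl
    · rfl
    · exfalso
      have h1 := (hyB β hβ).eq
      have h2 : β * (β * a * β⁻¹) * β⁻¹ = β * a * β⁻¹ := H77.conj_eq_self_iff.2 h1
      exact hba (mul_left_cancel (mul_right_cancel h2))
    · exact absurd (hyB β hβ) hβa
    · exact absurd (hab.eq ▸ hyB β hβ) (hprod hβ haV.2.2 hβa hab)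
  have hHn : p ^ n ≤ Nat.card H * p := (card_hyper hHB hHi).symm ▸ hcard.ge
  -- no involution in `V` is centralized by `B`
  have hVfix : ∀ v ∈ V, (∀ g ∈ B, Commute g v) → v = 1 := by
    intro v hv hvB
    by_contra hv1
    exact X.three_false (elemAb_le hB hHB) hHn haV.2.2 hbV.2.2 hv.2.2 hab
      (haV.2.1 v hv.1) (hbV.2.1 v hv.1) haH' hbH (fun h hh => hvB h (hHB hh)) ha1 hb4
      fun h => hv1 (hfix1 v h hvB)
  by_cases hA : ∃ H' : Subgroup G, H' ≤ B ∧ H'.relIndex B = p ∧ H' ≠ H ∧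
      ¬ V ⊓ centralizer (H' : Set G) ≤ centralizer (B : Set G)
  · obtain ⟨H', hH'B, hH'i, hne, hH'⟩ := hA
    obtain ⟨a', ⟨ha'V, ha'H⟩, ha'B⟩ := SetLike.not_le_iff_exists.1 hH'
    have ha'H' : ∀ h ∈ H', Commute h a' := fun h hh => (mem_cent_iff.1 ha'H h hh).symm
    obtain ⟨γ, hγ, hγH, hγa⟩ := hmove hH'B hH'i ha'H' ha'B
    set b' := γ * a' * γ⁻¹
    have hb'V : b' ∈ V := hVn γ hγ a' ha'V
    have hb'H : ∀ h ∈ H', Commute h b' := elemAb_conj_mem hB hH'B hγ ha'H'
    obtain ⟨δ, hδ, hδH⟩ : ∃ δ ∈ H', δ ∉ H := by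
      by_contra h
      push Not at h
      exact hne (eq_of_le_of_card_ge h (Nat.eq_of_mul_eq_mul_right X.prime.pos
        ((card_hyper hHB hHi).trans (card_hyper hH'B hH'i).symm)).le)
    -- elements centralized by both hyperplanes are trivial
    have hboth : ∀ v ∈ closure ({b, a} : Set G), (∀ h ∈ H', Commute h v) → v = 1 := fun v hv hvH' =>
      hfix1 v hv (hyper_commute X.prime hB hHB hHi (hH'B hδ) hδH (hfourV v hv).2 (hvH' δ hδ))
    have hcH : ∀ y ∈ H ⊓ H', y ∈ H ∧ y ∈ H' := fun y hy => hy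
    refine X.four_false (elemAb_le hB (inf_le_left.trans hHB)) (hcard ▸ card_inf_le hHB hHi hH'i)
      haV.2.2 hbV.2.2 ha'V.2.2 hb'V.2.2 hab (haV.2.1 _ ha'V.1) (hbV.2.1 _ ha'V.1) (haV.2.1 _ hb'V.1)
      (hbV.2.1 _ hb'V.1) (ha'V.2.1 _ hb'V.1) (fun y hy => haH' y hy.1) (fun y hy => hbH y hy.1)
      (fun y hy => ha'H' y hy.2) (fun y hy => hb'H y hy.2) ha1 hb4 ?_ ?_
    · intro h
      have := hboth a' h ha'H'
      rw [this] at hγa
      exact hγa (Commute.one_right γ)
    · intro h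
      rcases mem_insert_invol ha'V.2.2 (fun y hy => ((hfourV y (subset_closure hy)).1.2.1 _ ha'V.1)) h
        with h | h
      · have := hboth b' h hb'H
        rw [conj_eq_one_iff] at this
        rw [this] at hγa
        exact hγa (Commute.one_right γ)
      · have h1 := hboth (b' * a') h fun y hy => (hb'H y hy).mul_right (ha'H' y hy)
        have hcom : Commute a' b' := ha'V.2.1 b' hb'V.1
        rw [← hcom.eq] at h1
        exact hprod hγ ha'V.2.2 hγa hcom (h1 ▸ Commute.one_right γ)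
  · push Not at hA
    have hHne : H ≠ ⊥ := by
      rintro rfl
      rw [card_bot, one_mul] at hHn
      have := X.three
      exact absurd ((Nat.pow_le_pow_iff_right X.prime.one_lt).1 (hHn.trans_eq (pow_one p).symm)) (by omega)
    obtain ⟨h₀, hh₀, hh₀1⟩ := exists_ne_one hHne
    have hKp : ¬ p ∣ Nat.card K := (X.prime.coprime_iff_not_dvd).1 (H71.two_coprime X.odd hK).symm
    have hgen' : ¬ ∀ H' : Subgroup G, H' ≤ B → H'.relIndex B = p →
        K ⊓ centralizer (H' : Set G) ≤ centralizer {h₀} := fun h =>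
      hh₀1 (hfaith h₀ (hHB hh₀) fun y hy => (mem_centralizer_singleton_iff.1
        (H8.generation hB hB1 hBK hKp h hy)).symm)
    push Not at hgen'
    obtain ⟨H', hH'B, hH'i, hH'⟩ := hgen'
    have hne : H' ≠ H := by
      rintro rfl
      exact hH' fun y hy => mem_centralizer_singleton_iff.2 (mem_cent_iff.1 hy.2 h₀ hh₀)
    have hVH' : ∀ v ∈ V, (∀ h ∈ H', Commute h v) → v = 1 := fun v hv hvH' => by
      have := hA H' hH'B hH'i hne ⟨hv, mem_cent_iff.2 fun h hh => (hvH' h hh).symm⟩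
      exact hVfix v hv fun g hg => (mem_cent_iff.1 this g hg).symm
    set R := K ⊓ centralizer (H' : Set G)
    haveI : Nontrivial R := (nontrivial_iff_ne_bot R).2 fun e => hH' (e ▸ bot_le)
    have hRp : IsPGroup 2 R := hK.to_le inf_le_left
    haveI := hRp.center_nontrivial
    obtain ⟨k, hk0, hk⟩ := (hRp.to_subgroup (center R)).nontrivial_iff_card.1 inferInstance
    obtain ⟨⟨⟨r, hrK, hrH⟩, hrz⟩, hr⟩ := exists_prime_orderOf_dvd_card' (G := center R) 2
      (hk ▸ dvd_pow_self 2 hk0.ne')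
    have hr' : orderOf r = 2 := by
      rw [← hr, ← Subgroup.orderOf_coe, ← Subgroup.orderOf_coe]
    have hr2 : r ^ 2 = 1 := hr' ▸ pow_orderOf_eq_one r
    have hr1 : r ≠ 1 := fun e => by rw [e, orderOf_one] at hr'; omega
    have hrH' : ∀ h ∈ H', Commute h r := fun h hh => (mem_cent_iff.1 hrH h hh).symm
    have hrV : ∀ v ∈ closure ({b, a} : Set G), r ≠ v := fun v hv e =>
      hr1 (hVH' r (e ▸ (hfourV v hv).1) hrH')
    by_cases hrB : ∀ g ∈ B, Commute g r
    · exact X.three_false (elemAb_le hB hHB) hHn haV.2.2 hbV.2.2 hr2 hab (haV.2.1 r hrK)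
        (hbV.2.1 r hrK) haH' hbH (fun h hh => hrB h (hHB hh)) ha1 hb4 fun h => hrV r h rfl
    · push Not at hrB
      obtain ⟨γ, hγ, hγr⟩ := hrB
      set r' := γ * r * γ⁻¹ with hr'_def
      have hr'K : r' ∈ K := hKn γ hγ r hrK
      have hr'H : ∀ h ∈ H', Commute h r' := elemAb_conj_mem hB hH'B hγ hrH'
      have hrr' : Commute r r' := by
        have := congrArg Subtype.val (mem_center_iff.1 hrz ⟨r', hr'K, mem_cent_iff.2 fun h hh => (hr'H h hh).symm⟩)
        exact this.symm
      have hr'2 : r' ^ 2 = 1 := by rw [hr'_def, conj_pow, hr2, mul_one, mul_inv_cancel]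
      refine X.four_false (elemAb_le hB (inf_le_left.trans hHB)) (hcard ▸ card_inf_le hHB hHi hH'i)
        haV.2.2 hbV.2.2 hr2 hr'2 hab (haV.2.1 _ hrK) (hbV.2.1 _ hrK) (haV.2.1 _ hr'K)
        (hbV.2.1 _ hr'K) hrr' (fun y hy => haH' y hy.1) (fun y hy => hbH y hy.1)
        (fun y hy => hrH' y hy.2) (fun y hy => hr'H y hy.2) ha1 hb4 (fun h => hrV r h rfl) ?_
      intro h
      rcases mem_insert_invol hr2 (fun y hy => ((hfourV y (subset_closure hy)).1.2.1 _ hrK)) h with h | h
      · have := hVH' r' (hfourV r' h).1 hr'H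
        rw [hr'_def, conj_eq_one_iff] at this
        exact hr1 this
      · have h1 := hVH' (r' * r) (hfourV _ h).1 fun y hy => (hr'H y hy).mul_right (hrH' y hy)
        have h2 : Commute γ (r * r') := by rw [hrr'.eq, h1]; exact Commute.one_right γ
        exact hprod hγ hr2 hγr hrr' h2

/-- Step I. -/
theorem Ctx.exists_center_involution (X : Ctx G p n) {T B : Subgroup G} (hT : IsPGroup 2 T) (hT1 : T ≠ ⊥)
    (hB : Cfsg.IsElementaryAbelian p B) (hcard : Nat.card B = p ^ n)
    (hBT : B ≤ normalizer (T : Set G)) :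
    ∃ (z : G) (K : Subgroup G), z ≠ 1 ∧ z ^ 2 = 1 ∧ z ∈ K ∧ IsPGroup 2 K ∧
      (∀ g ∈ normalizer (T : Set G), Commute g z) ∧
      normalizer (T : Set G) ≤ normalizer (K : Set G) ∧ K ≤ normalizer (T : Set G) ∧
      (∀ b ∈ B, (∀ x ∈ K, Commute b x) → b = 1) ∧
      (∀ x ∈ K, (∀ y ∈ K, Commute x y) → x ^ 2 = 1 → x = 1 ∨ x = z) ∧
      (∀ x ∈ K, (∀ y ∈ K, Commute x y) → ∀ b ∈ B, Commute b x) ∧
      (∀ x ∈ K, ∀ y ∈ K, x * y * x⁻¹ * y⁻¹ = 1 ∨ x * y * x⁻¹ * y⁻¹ = z) ∧
      (∀ x ∈ K, ∀ y ∈ K, Commute (x ^ 2) y) ∧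
      (∀ q ∈ Cfsg.pCoreOf 2 (normalizer (T : Set G)), (∀ x ∈ K, Commute q x) → q ∈ K) := by
  haveI : Fact p.Prime := ⟨X.prime⟩
  haveI : Fact (Nat.Prime 2) := ⟨Nat.prime_two⟩
  set N := normalizer (T : Set G)
  set Q := Cfsg.pCoreOf 2 N
  obtain ⟨K₀, hK₀c, hK₀C, hK₀comm, hK₀sq⟩ := H89.exists_critical (p := 2) (R := Q) (H77.isPGroup_pCoreOf N)
  haveI := hK₀c
  set K := K₀.map Q.subtype
  have hKQ : K ≤ Q := map_subtype_le _
  have hNK : N ≤ normalizer (K : Set G) :=
    H83.le_normalizer_map_of_characteristic (H77.le_normalizer_pCoreOf N) K₀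
  have hKN : K ≤ N := hKQ.trans (H77.pCoreOf_le N)
  have hKp : IsPGroup 2 K := (H77.isPGroup_pCoreOf N).to_le hKQ
  have hcomm : ∀ x ∈ K, ∀ r ∈ Q, x * r * x⁻¹ * r⁻¹ ∈ K ∧ ∀ u ∈ K, Commute (x * r * x⁻¹ * r⁻¹) u := by
    rintro _ ⟨x, hx, rfl⟩ r hr
    obtain ⟨h1, h2⟩ := hK₀comm x hx ⟨r, hr⟩
    refine ⟨⟨_, h1, by simp [commutatorElement_def]⟩, ?_⟩
    rintro _ ⟨u, hu, rfl⟩
    have := congrArg Subtype.val (mem_cent_iff.1 h2 u hu)
    exact (by simpa [commutatorElement_def] using this : _ * (u : G) = (u : G) * _)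
  have hsq : ∀ x ∈ K, ∀ y ∈ K, Commute (x ^ 2) y := by
    rintro _ ⟨x, hx, rfl⟩ _ ⟨u, hu, rfl⟩
    have := congrArg Subtype.val (mem_cent_iff.1 (hK₀sq x hx).2 u hu)
    exact (by simpa using this : (x : G) ^ 2 * u = u * (x : G) ^ 2)
  have hself : ∀ q ∈ Q, (∀ x ∈ K, Commute q x) → q ∈ K := by
    intro q hq h
    exact ⟨⟨q, hq⟩, hK₀C (mem_cent_iff.2 fun u hu => Subtype.ext (h u ⟨u, hu, rfl⟩).eq), rfl⟩
  have hBN : B ≤ N := hBT
  have hfaith : ∀ b ∈ B, (∀ x ∈ K, Commute b x) → b = 1 := by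
    intro b hb h
    have hodd := X.not_two_dvd_of_pow (hB.2 b hb)
    refine X.two_core_faithful hT hT1 (hBN hb) hodd fun r hr => ?_
    set d := b * r * b⁻¹ * r⁻¹ with hd
    have hdQ : d ∈ Q :=
      mul_mem ((mem_normalizer_iff.1 (H77.le_normalizer_pCoreOf N (hBN hb)) r).1 hr) (inv_mem hr)
    have hdc : ∀ x ∈ K, Commute d x := by
      intro x hx
      have hx' : r⁻¹ * x * r ∈ K := (mem_normalizer_iff''.1 (hNK (H77.pCoreOf_le N hr)) x).1 hx
      have h1 := h _ hx'
      have h2 := h x hx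
      show d * x = x * d
      calc d * x = b * r * (b⁻¹ * (r⁻¹ * x * r)) * r⁻¹ := by rw [hd]; group
        _ = b * r * ((r⁻¹ * x * r) * b⁻¹) * r⁻¹ := by rw [h1.inv_left.eq]
        _ = b * x * (r * b⁻¹ * r⁻¹) := by group
        _ = x * d := by rw [h2.eq, hd]; group
    obtain ⟨i, hi⟩ := H77.exists_pow_eq_one_of_mem hKp (hself d hdQ hdc)
    exact (stab_left hodd ⟨i, hi⟩ (h d (hself d hdQ hdc)) (by rw [hd]; group)).eq
  have hTQ : T ≤ Q := H77.le_pCoreOf le_normalizer hT le_rfl
  have hBK : B ≤ normalizer (K : Set G) := hBN.trans hNK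
  have homega := fun x hx hc h2 => X.omega_centralized hB hcard hKp hBK hfaith (x := x) hx hc h2
  -- at most one central involution
  have huniq : ∀ x ∈ K, (∀ y ∈ K, Commute x y) → x ^ 2 = 1 → x ≠ 1 →
      ∀ y ∈ K, (∀ u ∈ K, Commute y u) → y ^ 2 = 1 → y ≠ 1 → y = x := by
    intro x hx hxc hx2 hx1 y hy hyc hy2 hy1
    by_contra hne
    have hE : Cfsg.IsElementaryAbelian 2 (closure ({y, x} : Set G)) := by
      refine elemAb_closure ?_ ?_
      · rintro a (rfl | ha) b (rfl | hb)
        · exact Commute.refl _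
        · rw [Set.mem_singleton_iff] at hb; subst hb; exact hyc _ hx
        · rw [Set.mem_singleton_iff] at ha; subst ha; exact hxc _ hy
        · rw [Set.mem_singleton_iff] at ha hb; subst ha hb; exact Commute.refl _
      · rintro a (rfl | ha)
        · exact hy2
        · rw [Set.mem_singleton_iff] at ha; subst ha; exact hx2
    have h1 := mul_card_le_insert (q := 2) (x := y) (s := {x}) hE (by
      intro h
      have hsub : closure ({x} : Set G) ≤ closure ({x, x} : Set G) := closure_mono (by simp)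
      rcases mem_four hx2 hx2 (Commute.refl x) (hsub h) with e | e | e | e
      · exact hy1 e
      · exact hne e
      · exact hne e
      · exact hy1 (by rw [e, ← pow_two, hx2]))
    have h2 := mul_card_le_insert (q := 2) (x := x) (s := ∅)
      (elemAb_le hE (closure_mono (by simp))) (by rw [Subgroup.closure_empty, mem_bot]; exact hx1)
    rw [Subgroup.closure_empty, card_bot, LawfulSingleton.insert_empty_eq] at h2
    have h4 := X.two_bound' hB (k := 0) (by norm_num) (by rw [hcard, pow_zero, mul_one]) hE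
      ((closure_le _).2 (by
        rintro a (rfl | ha)
        · exact mem_cent_iff.2 fun b hb => (homega _ hy hyc hy2 b hb).eq.symm
        · rw [Set.mem_singleton_iff] at ha; subst ha
          exact mem_cent_iff.2 fun b hb => (homega _ hx hxc hx2 b hb).eq.symm))
    norm_num at h4
    omega
  -- the central involution
  have hKne : K ≠ ⊥ := by
    intro hK
    obtain ⟨t, ht, ht1⟩ := exists_ne_one hT1
    refine ht1 (mem_bot.1 (hK ▸ hself t (hTQ ht) fun x hx => ?_))
    rw [hK, mem_bot] at hx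
    subst hx
    exact Commute.one_right t
  haveI : Nontrivial K := (nontrivial_iff_ne_bot K).2 hKne
  haveI := hKp.center_nontrivial
  obtain ⟨k, hk0, hk⟩ := (hKp.to_subgroup (center K)).nontrivial_iff_card.1 inferInstance
  obtain ⟨⟨⟨z, hzK⟩, hzc⟩, hz⟩ := exists_prime_orderOf_dvd_card' (G := center K) 2
    (hk ▸ dvd_pow_self 2 hk0.ne')
  have hz' : orderOf z = 2 := by rw [← hz, ← Subgroup.orderOf_coe, ← Subgroup.orderOf_coe]
  have hz2 : z ^ 2 = 1 := hz' ▸ pow_orderOf_eq_one z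
  have hz1 : z ≠ 1 := fun e => by rw [e, orderOf_one] at hz'; omega
  have hzc' : ∀ y ∈ K, Commute z y := fun y hy =>
    (congrArg Subtype.val (mem_center_iff.1 hzc ⟨y, hy⟩)).symm
  have hΩ : ∀ x ∈ K, (∀ y ∈ K, Commute x y) → x ^ 2 = 1 → x = 1 ∨ x = z := fun x hx hxc hx2 => by
    by_cases h : x = 1
    · exact Or.inl h
    · exact Or.inr (huniq z hzK hzc' hz2 hz1 x hx hxc hx2 h)
  refine ⟨z, K, hz1, hz2, hzK, hKp, ?_, hNK, hKN, hfaith, hΩ, ?_, ?_, hsq, hself⟩
  · intro g hg
    have hgz : g * z * g⁻¹ ∈ K := (mem_normalizer_iff.1 (hNK hg) z).1 hzK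
    have hgzc : ∀ y ∈ K, Commute (g * z * g⁻¹) y := fun y hy => by
      have := (hzc' _ ((mem_normalizer_iff''.1 (hNK hg) y).1 hy)).eq
      calc g * z * g⁻¹ * y = g * (z * (g⁻¹ * y * g)) * g⁻¹ := by group
        _ = y * (g * z * g⁻¹) := by rw [this]; group
    rcases hΩ _ hgz hgzc (by rw [conj_pow, hz2, mul_one, mul_inv_cancel]) with h | h
    · rw [conj_eq_one_iff] at h; exact absurd h hz1
    · exact H77.conj_eq_self_iff.1 h
  · -- `B` fixes the centre, by induction on the exponent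
    intro x hx hxc b hb
    obtain ⟨i, hi⟩ := H77.exists_pow_eq_one_of_mem hKp hx
    induction i generalizing x with
    | zero => rw [pow_zero, pow_one] at hi; subst hi; exact Commute.one_right b
    | succ i ih =>
      have hx2 := ih (x ^ 2) (pow_mem hx 2) (fun y hy => hsq x hx y hy) (by rwa [← pow_mul, ← pow_succ'])
      set d := b * x * b⁻¹ * x⁻¹ with hd
      have hbxK : b * x * b⁻¹ ∈ K := (mem_normalizer_iff.1 (hBK hb) x).1 hx
      have hbxc : ∀ y ∈ K, Commute (b * x * b⁻¹) y := fun y hy => by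
        have := (hxc _ ((mem_normalizer_iff''.1 (hBK hb) y).1 hy)).eq
        calc b * x * b⁻¹ * y = b * (x * (b⁻¹ * y * b)) * b⁻¹ := by group
          _ = y * (b * x * b⁻¹) := by rw [this]; group
      have hdK : d ∈ K := mul_mem hbxK (inv_mem hx)
      have hdc : ∀ y ∈ K, Commute d y := fun y hy => (hbxc y hy).mul_left (hxc y hy).inv_left
      have hd2 : d ^ 2 = 1 := by
        rw [hd, (hbxc _ (inv_mem hx)).mul_pow, conj_pow, H77.conj_eq_self_iff.2 hx2.eq, inv_pow,
          mul_inv_cancel]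
      exact stab_left (X.not_two_dvd_of_pow (hB.2 b hb)) ⟨1, by rwa [pow_one]⟩
        (homega d hdK hdc hd2 b hb) (by rw [hd]; group)
  · intro x hx y hy
    set c := x * y * x⁻¹ * y⁻¹ with hc
    obtain ⟨hcK, hcc⟩ := hcomm x hx y (hKQ hy)
    refine hΩ c hcK hcc ?_
    have h1 : x ^ 2 * y * (x ^ 2)⁻¹ = y := H77.conj_eq_self_iff.2 (hsq x hx y hy).eq
    have h2 : x ^ 2 * y * (x ^ 2)⁻¹ = c * c * y := by
      calc x ^ 2 * y * (x ^ 2)⁻¹ = x * (c * y) * x⁻¹ := by rw [hc, pow_two]; group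
        _ = x * c * y * x⁻¹ := by group
        _ = c * x * y * x⁻¹ := by rw [← (hcc x hx).eq]
        _ = c * (x * y * x⁻¹) := by group
        _ = c * c * y := by rw [hc]; group
    rw [h1] at h2
    rw [pow_two]
    exact (mul_eq_right.1 h2.symm)

/-- Every frame has a core. -/
theorem Ctx.exists_core (X : Ctx G p n) {z : G} {B : Subgroup G} (F : Frame p n z B) :
    ∃ K : Subgroup G, Core z B K := by
  haveI : Fact (Nat.Prime 2) := ⟨Nat.prime_two⟩
  have hzp : IsPGroup 2 (zpowers z) :=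
    IsPGroup.of_card (n := 1) (by
      rw [Nat.card_zpowers, pow_one]; exact orderOf_eq_prime F.sq F.ne_one)
  have hcN : centralizer ({z} : Set G) = normalizer (zpowers z : Set G) := by
    refine le_antisymm ?_ fun g hg => ?_
    · rw [← centralizer_closure, ← zpowers_eq_closure]
      exact centralizer_le_normalizer _
    · have h1 := (mem_normalizer_iff.1 hg z).1 (mem_zpowers z)
      obtain ⟨i, hi⟩ := h1
      simp only at hi
      rcases Int.even_or_odd i with ⟨j, rfl⟩ | ⟨j, rfl⟩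
      · exfalso
        rw [← two_mul, zpow_mul, show z ^ (2 : ℤ) = 1 by exact_mod_cast F.sq, one_zpow] at hi
        exact F.ne_one (conj_eq_one_iff.1 hi.symm)
      · rw [zpow_add, zpow_mul, show z ^ (2 : ℤ) = 1 by exact_mod_cast F.sq, one_zpow, one_mul,
          zpow_one] at hi
        exact mem_centralizer_singleton_iff.2 (H77.conj_eq_self_iff.1 hi.symm)
  obtain ⟨z', K, hz'1, hz'2, hz'K, hKp, hz'c, hNK, hKN, hf, hΩ, hfix, hcomm, hsq, hself⟩ :=
    X.exists_center_involution hzp (by rw [Ne, zpowers_eq_bot]; exact F.ne_one) F.elem F.card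
      (fun b hb => hcN ▸ mem_centralizer_singleton_iff.2 (F.comm b hb).eq)
  have hzcK : ∀ x ∈ K, Commute z x := fun x hx =>
    (show x * z = z * x from mem_centralizer_singleton_iff.1 (hcN.symm ▸ hKN hx)).symm
  have hzK : z ∈ K := hself z (H77.le_pCoreOf le_normalizer hzp le_rfl (mem_zpowers z)) hzcK
  have hzz : z = z' := (hΩ z hzK hzcK F.sq).resolve_left F.ne_one
  subst hzz
  exact ⟨K, ⟨hKp, hzK, hcN ▸ hKN, hcN ▸ hNK, hf, hΩ, hfix, hcomm, hsq⟩⟩

end H70.KM
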