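import Cfsg.Agent.H70.KMWorld
import Cfsg.Agent.H2.FPFAction

/-!
Step IV: two inverted lines of one pair give a contradiction inside the group attached to a second
pair. Consequently every 2-local subgroup has `p`-rank at most two.
-/

set_option autoImplicit false

open Subgroup

namespace H70.KM

universe u

variable {G : Type u} [Group G]

/-- An element whose square inverts an abelian group acts without fixed points. -/
theorem four_dvd_card_sub_one [Finite G] {Y : Subgroup G} (hY : ∀ x ∈ Y, ∀ y ∈ Y, Commute x y) {i a : G}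
    (hi : i ^ 2 = a) (ha : a ^ 2 = 1) (ha1 : a ≠ 1) (hiY : i ∈ normalizer (Y : Set G))
    (hinv : ∀ x ∈ Y, Commute a x → x = 1) : 4 ∣ Nat.card Y - 1 := by
  haveI : Fact (Nat.Prime 2) := ⟨Nat.prime_two⟩
  have hord : orderOf i = 4 := by
    have := orderOf_eq_prime_pow (p := 2) (n := 1) (x := i) (by rwa [pow_one, hi])
      (by rw [show 2 ^ (1 + 1) = 2 * 2 by norm_num, pow_mul, hi, ha])
    simpa using this
  let hcg : CommGroup Y :=
    { (inferInstance : Group Y) with mul_comm := fun x y => Subtype.ext (hY x x.2 y y.2).eq }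
  have hle : zpowers i ≤ normalizer (Y : Set G) := zpowers_le.2 hiY
  letI act : MulDistribMulAction (zpowers i) Y :=
    { smul := fun f x => ⟨f * x * (f : G)⁻¹, (mem_normalizer_iff.1 (hle f.2) x).1 x.2⟩
      one_smul := fun x => Subtype.ext (show ((1 : zpowers i) : G) * x * ((1 : zpowers i) : G)⁻¹ = x by simp)
      mul_smul := fun f g x => Subtype.ext (show ((f * g : zpowers i) : G) * x * ((f * g : zpowers i) : G)⁻¹ =
        f * (g * x * (g : G)⁻¹) * (f : G)⁻¹ by push_cast; group)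
      smul_mul := fun f x y => Subtype.ext (show (f : G) * ((x * y : Y) : G) * (f : G)⁻¹ =
        (f * x * (f : G)⁻¹) * (f * y * (f : G)⁻¹) by push_cast; group)
      smul_one := fun f => Subtype.ext (show (f : G) * ((1 : Y) : G) * (f : G)⁻¹ = ((1 : Y) : G) by simp) }
  have h := H2.card_dvd_of_fpf (F := zpowers i) (M := Y) fun f hf x hx => by
    obtain ⟨k, hk⟩ := mem_zpowers_iff.1 f.2
    have hfx : Commute (f : G) x := H77.conj_eq_self_iff.1 (congrArg Subtype.val hx)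
    refine Subtype.ext (hinv x x.2 ?_)
    rcases Int.even_or_odd k with ⟨j, rfl⟩ | ⟨j, rfl⟩
    · rw [← two_mul, zpow_mul, show i ^ (2 : ℤ) = a by exact_mod_cast hi] at hk
      rcases Int.even_or_odd j with ⟨l, rfl⟩ | ⟨l, rfl⟩
      · rw [← two_mul, zpow_mul, show a ^ (2 : ℤ) = 1 by exact_mod_cast ha, one_zpow] at hk
        exact absurd (Subtype.ext hk.symm) hf
      · rw [zpow_add, zpow_mul, show a ^ (2 : ℤ) = 1 by exact_mod_cast ha, one_zpow, one_mul, zpow_one] at hk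
        exact hk ▸ hfx
    · have h2 : (f : G) ^ 2 = a := by
        rw [← hk, ← zpow_natCast, ← zpow_mul, show (2 * j + 1) * ((2 : ℕ) : ℤ) = 4 * j + 2 by push_cast; ring,
          zpow_add, zpow_mul, show i ^ (4 : ℤ) = 1 by have h4 := pow_orderOf_eq_one i; rw [hord] at h4; exact_mod_cast h4,
          one_zpow, one_mul, show i ^ (2 : ℤ) = a by exact_mod_cast hi]
      exact h2 ▸ hfx.pow_left 2
  rwa [Nat.card_zpowers, hord] at h

variable [Finite G] {p n : ℕ}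

/-- No frame exists. -/
theorem Ctx.no_frame (X : Ctx G p n) {z : G} {B : Subgroup G} (F : Frame p n z B) : False := by
  haveI : Fact p.Prime := ⟨X.prime⟩
  have hne : ∀ {z : G} {B : Subgroup G}, Frame p n z B → ∃ b ∈ B, b ≠ 1 := by
    intro z B F
    refine exists_ne_one fun h => ?_
    have := F.card
    rw [h, card_bot] at this
    exact absurd this (Nat.one_lt_pow (by have := X.three; omega) X.prime.one_lt).ne
  obtain ⟨K, C⟩ := X.exists_core F
  obtain ⟨b, hb, hb1⟩ := hne F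
  obtain ⟨hp3, P, -⟩ := X.exists_pair C F hb hb1
  have W := World.ofPair X C F P
  obtain ⟨D, H⟩ := W.exists_hyp X
  set a := P.i₁ * P.i₂ with ha
  have A := W.axis
  -- a frame centralized by `a` and two lines inverted by `a`
  obtain ⟨t, ht, ht1, hzt, hat, ha't⟩ := H.exists_fixed X W A
  obtain ⟨Fa, -⟩ := H.frame_of_fixed X W A ht ht1 hzt hat ha't
  have hBle := H.frame_le ht A.fix_i
  obtain ⟨g₁, hg₁, hg₁1, hzg₁, hag₁, ha'g₁⟩ := H.exists_fixed X W (A.zaxis W)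
  obtain ⟨-, hzg₂, hag₂, hg₂n⟩ := H.frame_of_fixed X W (A.zaxis W) hg₁ hg₁1 hzg₁ hag₁ ha'g₁
  set g₂ := P.i₁ * g₁ * P.i₁⁻¹
  have hg₂ : g₂ ∈ D := H.conj_mem W.fix_i₁ hg₁
  set Ba := closure (insert (P.i₁ * t * P.i₁⁻¹) (insert t ((P.H₁ ⊓ P.H₂ : Subgroup G) : Set G)))
  have hinvert : ∀ g, z * g * z⁻¹ = g⁻¹ → z * a * g * (z * a)⁻¹ = g → a * g * a⁻¹ = g⁻¹ := by
    intro g h1 h2
    calc a * g * a⁻¹ = z⁻¹ * (z * a * g * (z * a)⁻¹) * z := by group
      _ = z * g * z⁻¹ := by rw [h2, inv_eq_self F.sq]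
      _ = g⁻¹ := h1
  have hai₁ := hinvert g₁ hzg₁ hag₁
  have hai₂ := hinvert g₂ hzg₂ hag₂
  -- the second pair
  obtain ⟨K', C'⟩ := X.exists_core Fa
  obtain ⟨b', hb', hb'1⟩ := hne Fa
  obtain ⟨-, P', -⟩ := X.exists_pair C' Fa hb' hb'1
  have W' := World.ofPair X C' Fa P'
  obtain ⟨D', H'⟩ := W'.exists_hyp X
  set i₂' := P'.i₂
  set γ₁ := P'.β₁ with hγ₁def
  set γ₂ := P'.β₂ with hγ₂def
  have hγ₁ : γ₁ ∈ Ba := P'.le₂ P'.β₁_mem
  have hγ₂ : γ₂ ∈ Ba := P'.le₁ P'.β₂_mem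
  let S : Subgroup G :=
    { carrier := {x | x ∈ D' ∧ a * x * a⁻¹ = x⁻¹}
      one_mem' := ⟨one_mem _, by simp⟩
      mul_mem' := fun {x y} hx hy => ⟨mul_mem hx.1 hy.1, by
        rw [show a * (x * y) * a⁻¹ = (a * x * a⁻¹) * (a * y * a⁻¹) by group, hx.2, hy.2, mul_inv_rev]
        exact (H'.abelian X W' hx.1 hy.1).inv_inv.eq⟩
      inv_mem' := fun {x} hx => ⟨inv_mem hx.1, by
        rw [show a * x⁻¹ * a⁻¹ = (a * x * a⁻¹)⁻¹ by group, hx.2]⟩ }
  set Y := S ⊓ centralizer {γ₁}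
  set Y₀ := Y ⊓ centralizer {γ₂}
  have hmem : ∀ g ∈ D, a * g * a⁻¹ = g⁻¹ → g ∈ Y₀ := by
    intro g hg hag
    have hBg : ∀ x ∈ Ba, Commute x g := fun x hx => H.abelian X W (hBle hx) hg
    have hgO := H'.inv_mem_O X W' (W'.mem_cent fun x hx => hBg x (P'.le₁ hx.1))
      ⟨1, by rw [pow_one]; exact H.exp g hg⟩ hag
    exact ⟨⟨⟨H'.omega X W' hgO (H.exp g hg), hag⟩,
      mem_centralizer_singleton_iff.2 (hBg γ₁ hγ₁).eq.symm⟩,
      mem_centralizer_singleton_iff.2 (hBg γ₂ hγ₂).eq.symm⟩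
  have hY₀Y : Y₀ ≤ Y := inf_le_left
  have hYS : Y ≤ S := inf_le_left
  have hSD' : ∀ x ∈ S, x ∈ D' := fun x hx => hx.1
  have hSp : IsPGroup p S := (H77.isPGroup_pCoreOf _).to_le fun x hx => H'.le (hSD' x hx)
  have hYp : IsPGroup p Y := hSp.to_le hYS
  have hY₀p : IsPGroup p Y₀ := hYp.to_le hY₀Y
  -- `|Y₀| ≥ p ^ 2`
  have hY₀ : p * (p * 1) ≤ Nat.card Y₀ := by
    have hle : closure ({g₂, g₁} : Set G) ≤ Y₀ := (closure_le _).2 (by
      rintro x (rfl | hx)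
      · exact hmem _ hg₂ hai₂
      · rw [Set.mem_singleton_iff] at hx
        subst hx
        exact hmem _ hg₁ hai₁)
    have hel : Cfsg.IsElementaryAbelian p (closure ({g₂, g₁} : Set G)) :=
      elemAb_le (H.elem X W) ((closure_le _).2 (Set.insert_subset hg₂ (Set.singleton_subset_iff.2 hg₁)))
    have h1 := mul_card_le_insert (q := p) (x := g₂) (s := {g₁}) hel
      fun h => hg₂n (closure_mono (Set.singleton_subset_iff.2 (Set.mem_insert g₁ _)) h)
    have h2 := mul_card_le_insert (q := p) (x := g₁) (s := ∅)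
      (elemAb_le hel (closure_mono (by simp))) (by rw [Subgroup.closure_empty, mem_bot]; exact hg₁1)
    rw [Subgroup.closure_empty, card_bot, LawfulSingleton.insert_empty_eq] at h2
    exact (Nat.mul_le_mul_left p h2).trans (h1.trans (card_le_of_le hle))
  -- `γ₁` does not centralize `S`
  have hYne : Y ≠ S := by
    intro he
    have hγD : ∀ d ∈ D', Commute γ₁ d := by
      intro d hd
      obtain ⟨c, hc, s, hs, hzs, rfl⟩ := H'.decomp X W' hd
      refine (elemAb_commute Fa.elem hγ₁ (P'.le₁ hc.1)).mul_right ?_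
      have : s ∈ Y := he.symm ▸ ⟨hs, hzs⟩
      exact (show s * γ₁ = γ₁ * s from mem_centralizer_singleton_iff.1 this.2).symm
    set k := P'.i₁⁻¹ * (γ₁ * P'.i₁ * γ₁⁻¹) with hk
    obtain ⟨m, hm⟩ := H77.exists_pow_eq_one_of_mem C'.two
      (mul_mem (inv_mem W'.mem_i₁) W'.mem_j₁ : k ∈ K')
    have hk1 := H'.det k (W'.mem_cent fun c hc => (W'.fix_i₁ c hc).inv_right.mul_right (W'.fix_j₁ c hc))
      (X.not_p_dvd_of_two hm) fun d hd => H77.conj_eq_self_iff.1 (by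
        have hd' : P'.i₁ * d * P'.i₁⁻¹ ∈ D' := H'.conj_mem W'.fix_i₁ hd
        have e1 : γ₁⁻¹ * d * γ₁ = d := by rw [mul_assoc, ← (hγD d hd).eq, inv_mul_cancel_left]
        have e2 : γ₁ * (P'.i₁ * d * P'.i₁⁻¹) * γ₁⁻¹ = P'.i₁ * d * P'.i₁⁻¹ :=
          H77.conj_eq_self_iff.2 (hγD _ hd').eq
        calc k * d * k⁻¹
            = P'.i₁⁻¹ * (γ₁ * (P'.i₁ * (γ₁⁻¹ * d * γ₁) * P'.i₁⁻¹) * γ₁⁻¹) * P'.i₁ := by rw [hk]; group
          _ = d := by rw [e1, e2]; group)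
    exact P'.anti₁ (by rw [← inv_mul_eq_one.1 hk1])
  -- `γ₂` does not centralize `Y`
  have hinvS : ∀ x ∈ S, Commute a x → x = 1 := fun x hx h => by
    have h1 := hx.2
    rw [H77.conj_eq_self_iff.2 h.eq] at h1
    exact H71.eq_self_of_inv_eq (p := p) X.odd h1.symm (H'.exp x hx.1)
  have hconjY : ∀ x ∈ Y, i₂' * x * i₂'⁻¹ ∈ Y := by
    rintro x ⟨hx, hxγ⟩
    have hai : Commute a i₂' := C'.z_comm W'.mem_i₂
    refine ⟨⟨H'.conj_mem W'.fix_i₂ hx.1, ?_⟩, ?_⟩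
    · calc a * (i₂' * x * i₂'⁻¹) * a⁻¹ = (a * i₂') * x * (i₂'⁻¹ * a⁻¹) := by group
        _ = (i₂' * a) * x * (a⁻¹ * i₂'⁻¹) := by rw [hai.eq, hai.inv_inv.symm.eq]
        _ = i₂' * (a * x * a⁻¹) * i₂'⁻¹ := by group
        _ = (i₂' * x * i₂'⁻¹)⁻¹ := by rw [hx.2]; group
    · have h1 : Commute γ₁ i₂' := P'.disp₂.fix γ₁ P'.β₁_mem
      have h2 : Commute γ₁ x := (show x * γ₁ = γ₁ * x from mem_centralizer_singleton_iff.1 hxγ).symm
      exact mem_centralizer_singleton_iff.2 ((h1.mul_right h2).mul_right h1.inv_right).eq.symm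
  have hY₀ne : Y₀ ≠ Y := by
    intro he
    have hg₁Y : g₁ ∈ Y := (hmem g₁ hg₁ hai₁).1
    set k := i₂'⁻¹ * (γ₂ * i₂' * γ₂⁻¹) with hk
    have hγY : ∀ x ∈ Y, Commute γ₂ x := fun x hx => by
      have : x ∈ Y₀ := he.symm ▸ hx
      exact (show x * γ₂ = γ₂ * x from mem_centralizer_singleton_iff.1 this.2).symm
    have hk2 : Commute k g₁ := H77.conj_eq_self_iff.1 (by
      have e1 : γ₂⁻¹ * g₁ * γ₂ = g₁ := by rw [mul_assoc, ← (hγY g₁ hg₁Y).eq, inv_mul_cancel_left]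
      have e2 : γ₂ * (i₂' * g₁ * i₂'⁻¹) * γ₂⁻¹ = i₂' * g₁ * i₂'⁻¹ :=
        H77.conj_eq_self_iff.2 (hγY _ (hconjY g₁ hg₁Y)).eq
      calc k * g₁ * k⁻¹
          = i₂'⁻¹ * (γ₂ * (i₂' * (γ₂⁻¹ * g₁ * γ₂) * i₂'⁻¹) * γ₂⁻¹) * i₂' := by rw [hk]; group
        _ = g₁ := by rw [e1, e2]; group)
    have hksq : k ^ 2 = a := by
      rw [hk, (C'.sq_mul (inv_mem W'.mem_i₂) W'.mem_j₂).2 (fun h => P'.anti₂ (Commute.inv_left_iff.1 h)),
        inv_pow, W'.sq_i₂, W'.sq_j₂, inv_mul_cancel, mul_one]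
    exact hg₁1 (hinvS g₁ hg₁Y.1 (hksq ▸ hk2.pow_left 2))
  -- counting
  have h1 := mul_card_le_of_lt hYp (lt_of_le_of_ne hY₀Y hY₀ne)
  have h2 := mul_card_le_of_lt hSp (lt_of_le_of_ne hYS hYne)
  have h3 := H'.card_inverted X W' (S := S) fun x hx => hx
  obtain ⟨m, hm⟩ := IsPGroup.iff_card.1 hYp
  have hY3 : Nat.card Y = 27 := by
    subst hp3
    have : 27 ≤ Nat.card Y := by omega
    have : Nat.card Y ≤ 27 := by omega
    omega
  have h4 := four_dvd_card_sub_one (Y := Y) (fun x hx y hy => H'.abelian X W' (hSD' x (hYS hx)) (hSD' y (hYS hy)))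
    W'.sq_i₂ Fa.sq Fa.ne_one (H77.mem_normalizer_of_forall hconjY) fun x hx h => hinvS x (hYS hx) h
  rw [hY3] at h4
  norm_num at h4

end H70.KM

/-- In a group of local characteristic `p` and of characteristic 2 type every 2-local subgroup has
`p`-rank at most two. -/
theorem H70.KM.twoLocalPRankLE_two {G : Type*} [Group G] [Finite G] {p : ℕ} (hp : p.Prime) (hp2 : p ≠ 2)
    (hGp : Cfsg.IsOfLocalCharacteristic p G) (hG2 : Cfsg.IsCharacteristicTwoType G) :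
    Cfsg.TwoLocalPRankLE p 2 G := by
  classical
  haveI : Fact p.Prime := ⟨hp⟩
  rintro M ⟨T, hT, hT1, rfl⟩ A hA hAe
  by_contra hbig
  push Not at hbig
  let Q : ℕ → Prop := fun k => ∃ (T P : Subgroup G), IsPGroup 2 T ∧ T ≠ ⊥ ∧
    Cfsg.IsElementaryAbelian p P ∧ P ≤ normalizer (T : Set G) ∧ Nat.card P = p ^ k
  set P₀ := A.map (normalizer (T : Set G)).subtype
  have hP₀ : Cfsg.IsElementaryAbelian p P₀ :=
    ⟨⟨⟨by
      rintro ⟨_, x, hx, rfl⟩ ⟨_, y, hy, rfl⟩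
      have hxy : x * y = y * x := congrArg Subtype.val (hA.is_comm.comm ⟨x, hx⟩ ⟨y, hy⟩)
      exact Subtype.ext (congrArg Subtype.val hxy : (x : G) * (y : G) = (y : G) * (x : G))⟩⟩, by
      rintro _ ⟨x, hx, rfl⟩
      simpa using congrArg Subtype.val (hAe x hx)⟩
  have hP₀c : Nat.card P₀ = Nat.card A := card_map_of_injective (Subgroup.subtype_injective _)
  obtain ⟨k, hk⟩ := IsPGroup.iff_card.1 (H70.KM.elemAb_isPGroup hP₀)
  have hbound : ∀ k, Q k → k ≤ Nat.card G := by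
    rintro k ⟨-, P, -, -, -, -, hP⟩
    exact ((Nat.lt_pow_self hp.one_lt).le.trans hP.ge).trans (card_le_card_group P)
  have hQk : Q k := ⟨T, P₀, hT, hT1, hP₀, map_subtype_le _, hk⟩
  set n := Nat.findGreatest Q (Nat.card G) with hn
  have hQn : Q n := Nat.findGreatest_spec (hbound k hQk) hQk
  have hn3 : 3 ≤ n := by
    have h1 : k ≤ n := Nat.le_findGreatest (hbound k hQk) hQk
    have h2 : 2 < k := (Nat.pow_lt_pow_iff_right hp.one_lt).1 (by rw [← hk, hP₀c]; exact hbig)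
    omega
  have X : H70.KM.Ctx G p n := ⟨hp, hp2, hn3, hGp, hG2, fun T P hT hT1 hP hPT => by
    obtain ⟨j, hj⟩ := IsPGroup.iff_card.1 (H70.KM.elemAb_isPGroup hP)
    rw [hj]
    exact Nat.pow_le_pow_right hp.pos (Nat.le_findGreatest (hbound j ⟨T, P, hT, hT1, hP, hPT, hj⟩)
      ⟨T, P, hT, hT1, hP, hPT, hj⟩)⟩
  obtain ⟨T', B, hT', hT'1, hB, hBT, hBc⟩ := hQn
  obtain ⟨z, K, hz1, hz2, -, -, hzc, -⟩ := X.exists_center_involution hT' hT'1 hB hBc hBT
  exact X.no_frame ⟨hz1, hz2, hB, hBc, fun b hb => hzc b (hBT hb)⟩
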