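import Cfsg.Agent.H70.KMCore
import Mathlib.Data.ZMod.Basic

/-!
Step II: kernels of `B` on `K`, the proof that `p = 3`, and the two quaternion pairs `⟨i₁, j₁⟩`,
`⟨i₂, j₂⟩` attached to two kernels.
-/

set_option autoImplicit false

open Subgroup

namespace H70.KM

universe u

variable {G : Type u} [Group G]

open scoped Classical in
/-- `0` for commuting elements, `1` otherwise. -/
noncomputable def sg (x y : G) : ZMod 2 := if Commute x y then 0 else 1

theorem sg_eq_zero {x y : G} : sg x y = 0 ↔ Commute x y := by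
  unfold sg
  split <;> simp_all

theorem sg_of_comm {x y : G} (h : Commute x y) : sg x y = 0 := sg_eq_zero.2 h

theorem sg_eq_one {x y : G} : sg x y = 1 ↔ ¬ Commute x y := by
  unfold sg
  split <;> simp_all

theorem sg_self (x : G) : sg x x = 0 := sg_of_comm (Commute.refl x)

theorem sg_congr {x y x' y' : G} (h : Commute x y ↔ Commute x' y') : sg x y = sg x' y' := by
  unfold sg
  split <;> split <;> simp_all

theorem sg_comm (x y : G) : sg x y = sg y x := sg_congr ⟨Commute.symm, Commute.symm⟩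

theorem sg_inv_left (x y : G) : sg x⁻¹ y = sg x y := sg_congr Commute.inv_left_iff

theorem sg_inv_right (x y : G) : sg x y⁻¹ = sg x y := sg_congr Commute.inv_right_iff

theorem sg_conj (b x y : G) : sg (b * x * b⁻¹) (b * y * b⁻¹) = sg x y := by
  refine sg_congr ⟨fun h => ?_, fun h => h.conj b⟩
  simpa [mul_assoc] using h.conj b⁻¹

theorem zmod_two_cases : ∀ a : ZMod 2, a = 0 ∨ a = 1 := by decide

section core

variable [Finite G] {p n : ℕ} {z : G} {B K : Subgroup G}

theorem Core.z_comm (C : Core z B K) {x : G} (hx : x ∈ K) : Commute z x :=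
  (show x * z = z * x from mem_centralizer_singleton_iff.1 (C.le_cent hx)).symm

theorem Core.conj_mem (C : Core z B K) (F : Frame p n z B) {b x : G} (hb : b ∈ B) (hx : x ∈ K) :
    b * x * b⁻¹ ∈ K :=
  (mem_normalizer_iff.1 (C.le_norm (mem_centralizer_singleton_iff.2 (F.comm b hb).eq)) x).1 hx

theorem Core.conj_not (C : Core z B K) {x y : G} (hx : x ∈ K) (hy : y ∈ K) (h : ¬ Commute x y) :
    x * y * x⁻¹ = z * y := by
  rcases C.commutator x hx y hy with e | e
  · refine absurd ?_ h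
    calc x * y = x * y * x⁻¹ * y⁻¹ * (y * x) := by group
      _ = y * x := by rw [e, one_mul]
  · calc x * y * x⁻¹ = x * y * x⁻¹ * y⁻¹ * y := by group
      _ = z * y := by rw [e]

theorem Core.sg_mul_left (C : Core z B K) (F : Frame p n z B) {x y u : G} (hx : x ∈ K) (hy : y ∈ K)
    (hu : u ∈ K) : sg (x * y) u = sg x u + sg y u := by
  rcases em (Commute x u) with h1 | h1 <;> rcases em (Commute y u) with h2 | h2
  · rw [sg_of_comm h1, sg_of_comm h2, sg_of_comm (h1.mul_left h2), add_zero]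
  · rw [sg_of_comm h1, sg_eq_one.2 h2, zero_add, sg_eq_one]
    intro h
    exact h2 (by simpa [← mul_assoc] using h1.inv_left.mul_left h)
  · rw [sg_eq_one.2 h1, sg_of_comm h2, add_zero, sg_eq_one]
    intro h
    exact h1 (by simpa [mul_assoc] using h.mul_left h2.inv_left)
  · rw [sg_eq_one.2 h1, sg_eq_one.2 h2, show (1 : ZMod 2) + 1 = 0 from rfl, sg_eq_zero]
    refine H77.conj_eq_self_iff.1 ?_
    calc x * y * u * (x * y)⁻¹ = x * (y * u * y⁻¹) * x⁻¹ := by group
      _ = x * (z * u) * x⁻¹ := by rw [C.conj_not hy hu h2]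
      _ = z * (x * u * x⁻¹) := by rw [← mul_assoc x z, ← (C.z_comm hx).eq]; group
      _ = u := by rw [C.conj_not hx hu h1, ← mul_assoc, ← pow_two, F.sq, one_mul]

theorem Core.sg_mul_right (C : Core z B K) (F : Frame p n z B) {x y u : G} (hx : x ∈ K) (hy : y ∈ K)
    (hu : u ∈ K) : sg u (x * y) = sg u x + sg u y := by
  rw [sg_comm, C.sg_mul_left F hx hy hu, sg_comm x u, sg_comm y u]

theorem Core.sq_mul (C : Core z B K) {x y : G} (hx : x ∈ K) (hy : y ∈ K) :
    (Commute x y → (x * y) ^ 2 = x ^ 2 * y ^ 2) ∧ (¬ Commute x y → (x * y) ^ 2 = z * (x ^ 2 * y ^ 2)) := by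
  refine ⟨fun h => h.mul_pow 2, fun h => ?_⟩
  have h1 := C.conj_not hy hx fun e => h e.symm
  calc (x * y) ^ 2 = x * (y * x * y⁻¹) * y ^ 2 := by simp [pow_two, mul_assoc]
    _ = x * (z * x) * y ^ 2 := by rw [h1]
    _ = z * (x ^ 2 * y ^ 2) := by rw [← mul_assoc x z, ← (C.z_comm hx).eq, pow_two x]; group

theorem Core.sq_fixed (C : Core z B K) {x : G} (hx : x ∈ K) {b : G} (hb : b ∈ B) : Commute b (x ^ 2) :=
  C.fixes _ (pow_mem hx 2) (C.square x hx) b hb

/-- An element of `B` moves the product of a moved element and its image. -/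
theorem Ctx.conj_moved (X : Ctx G p n) (C : Core z B K) (F : Frame p n z B) {β x c : G} (hβ : β ∈ B)
    (hc : c ∈ K) (hne : ¬ Commute β x) (h : β * x * β⁻¹ = x * c) : ¬ Commute β c := fun hf => by
  obtain ⟨i, hi⟩ := H77.exists_pow_eq_one_of_mem C.two hc
  exact hne (stab_right (X.not_two_dvd_of_pow (F.elem.2 β hβ)) ⟨i, hi⟩ hf h)

/-- Elements of `K` centralizing `H`, with square in `⟨z⟩`, commuting with `C_K(H')`. -/
structure Disp (z : G) (K H H' : Subgroup G) (x : G) : Prop where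
  mem : x ∈ K
  fix : ∀ h ∈ H, Commute h x
  sq : x ^ 2 = 1 ∨ x ^ 2 = z
  other : ∀ y ∈ K, (∀ h ∈ H', Commute h y) → Commute x y

theorem Core.disp_mul (C : Core z B K) (F : Frame p n z B) {H H' : Subgroup G} {x y : G}
    (hx : Disp z K H H' x) (hy : Disp z K H H' y) : Disp z K H H' (x * y) := by
  refine ⟨mul_mem hx.mem hy.mem, fun h hh => (hx.fix h hh).mul_right (hy.fix h hh), ?_,
    fun u hu hu' => (hx.other u hu hu').mul_left (hy.other u hu hu')⟩
  obtain ⟨h1, h2⟩ := C.sq_mul hx.mem hy.mem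
  have hzz : z * z = 1 := by rw [← pow_two]; exact F.sq
  by_cases h : Commute x y
  · rw [h1 h]
    rcases hx.sq with e | e <;> rcases hy.sq with e' | e' <;> rw [e, e'] <;> simp [hzz]
  · rw [h2 h]
    rcases hx.sq with e | e <;> rcases hy.sq with e' | e' <;> rw [e, e'] <;> simp [hzz]

theorem Core.disp_conj (C : Core z B K) (F : Frame p n z B) {H H' : Subgroup G} (hH : H ≤ B) (hH' : H' ≤ B)
    {x : G} (hx : Disp z K H H' x) {b : G} (hb : b ∈ B) : Disp z K H H' (b * x * b⁻¹) := by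
  refine ⟨C.conj_mem F hb hx.mem, elemAb_conj_mem F.elem hH hb hx.fix, ?_, fun u hu hu' => ?_⟩
  · rw [conj_pow, H77.conj_eq_self_iff.2 (C.sq_fixed hx.mem hb).eq]
    exact hx.sq
  · have h1 := hx.other (b⁻¹ * u * b⁻¹⁻¹) (C.conj_mem F (inv_mem hb) hu)
      (elemAb_conj_mem F.elem hH' (inv_mem hb) hu')
    simpa [mul_assoc] using h1.conj b

theorem Ctx.invol_moved (X : Ctx G p n) (C : Core z B K) (F : Frame p n z B) {H : Subgroup G} (hH : H ≤ B)
    (hi : H.relIndex B = p) {β w : G} (hβ : β ∈ B) (hw : w ∈ K) (hwH : ∀ h ∈ H, Commute h w)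
    (hw2 : w ^ 2 = 1) (hne : ¬ Commute β w) : sg w (β * w * β⁻¹) = 1 := by
  rw [sg_eq_one]
  intro hcom
  set w' := β * w * β⁻¹
  have hw' : w' ∈ K := C.conj_mem F hβ hw
  have hw'2 : w' ^ 2 = 1 := by rw [show w' = β * w * β⁻¹ from rfl, conj_pow, hw2, mul_one, mul_inv_cancel]
  have hz1 : ∀ x ∈ closure ({z} : Set G), Commute β x := fun x hx => by
    rw [← zpowers_eq_closure] at hx
    obtain ⟨i, rfl⟩ := hx
    exact (F.comm β hβ).zpow_right i
  refine X.three_false (elemAb_le F.elem hH) ((card_hyper hH hi).symm ▸ F.card.ge) F.sq hw2 hw'2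
    (C.z_comm hw) (C.z_comm hw') hcom (fun h hh => F.comm h (hH hh)) hwH
    (elemAb_conj_mem F.elem hH hβ hwH) F.ne_one (fun h => hne (hz1 w h)) fun h => ?_
  rcases mem_four hw2 F.sq (C.z_comm hw).symm h with e | e | e | e
  · rw [show w' = β * w * β⁻¹ from rfl, conj_eq_one_iff] at e
    exact hne (e ▸ Commute.one_right β)
  · exact hne (H77.conj_eq_self_iff.1 e)
  · apply hne
    have hwz : w = β⁻¹ * z * β := by rw [← e, show w' = β * w * β⁻¹ from rfl]; group
    have : w = z := by rw [hwz, mul_assoc, ← (F.comm β hβ).eq, inv_mul_cancel_left]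
    exact this ▸ F.comm β hβ
  · exact X.conj_moved C F hβ C.mem hne e (F.comm β hβ)

/-- Data attached to a moved element commuting with its image. -/
theorem Ctx.fail_data (X : Ctx G p n) (C : Core z B K) (F : Frame p n z B) {H H' : Subgroup G}
    (hH : H ≤ B) (hH' : H' ≤ B) (hi : H.relIndex B = p) {β x : G} (hβ : β ∈ B)
    (hx : Disp z K H H' x) (hne : ¬ Commute β x) (hcom : Commute x (β * x * β⁻¹)) :
    x ^ 2 = z ∧ ∃ w v : G, Disp z K H H' w ∧ Disp z K H H' v ∧ w ^ 2 = 1 ∧ v ^ 2 = z ∧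
      ¬ Commute β w ∧ Commute w x ∧ Commute w v ∧ ¬ Commute x v := by
  set x' := β * x * β⁻¹ with hx'def
  set x'' := β * x' * β⁻¹ with hx''def
  set y := β⁻¹ * x * β⁻¹⁻¹ with hydef
  have hxx := C.disp_conj F hH hH' hx hβ
  rw [← hx'def] at hxx
  have hxxx := C.disp_conj F hH hH' hxx hβ
  rw [← hx''def] at hxxx
  have hy := C.disp_conj F hH hH' hx (inv_mem hβ)
  rw [← hydef] at hy
  have hsq' : x' ^ 2 = x ^ 2 := by
    rw [hx'def, conj_pow, H77.conj_eq_self_iff.2 (C.sq_fixed hx.mem hβ).eq]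
  have hx2 : x ^ 2 = z := hx.sq.resolve_left fun h => by
    have := X.invol_moved C F hH hi hβ hx.mem hx.fix h hne
    rw [← hx'def, sg_of_comm hcom] at this
    exact zero_ne_one this
  set w := x⁻¹ * x' with hwdef
  have hxinv : Disp z K H H' x⁻¹ := ⟨inv_mem hx.mem, fun h hh => (hx.fix h hh).inv_right,
    Or.inr (by rw [inv_pow, hx2, inv_eq_self F.sq]), fun u hu hu' => (hx.other u hu hu').inv_left⟩
  have hw : Disp z K H H' w := C.disp_mul F hxinv hxx
  have hw2 : w ^ 2 = 1 := by rw [hwdef, hcom.inv_left.mul_pow, hsq', inv_pow, inv_mul_cancel]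
  have hwne : ¬ Commute β w := X.conj_moved C F hβ hw.mem hne (by rw [hwdef, hx'def]; group)
  have h1 := X.invol_moved C F hH hi hβ hw.mem hw.fix hw2 hwne
  have hconj : β * w * β⁻¹ = x'⁻¹ * x'' := by rw [hwdef, hx''def, hx'def]; group
  have e01 : sg x x' = 0 := sg_of_comm hcom
  have e12 : sg x' x'' = 0 := by
    conv_lhs => rw [hx'def, hx''def, hx'def]
    rw [sg_conj, ← hx'def]
    exact e01
  rw [hconj, hwdef, C.sg_mul_left F (inv_mem hx.mem) hxx.mem (mul_mem (inv_mem hxx.mem) hxxx.mem),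
    C.sg_mul_right F (inv_mem hxx.mem) hxxx.mem (inv_mem hx.mem),
    C.sg_mul_right F (inv_mem hxx.mem) hxxx.mem hxx.mem, sg_inv_left, sg_inv_left, sg_inv_right,
    sg_inv_right, e01, e12, sg_self] at h1
  simp only [zero_add, add_zero] at h1
  -- `h1 : sg x x'' = 1`
  set v := x'' * y with hvdef
  have hv : Disp z K H H' v := C.disp_mul F hxxx hy
  have exy : sg x y = 0 := by
    rw [← sg_conj β, ← hx'def, hydef, show β * (β⁻¹ * x * β⁻¹⁻¹) * β⁻¹ = x by group, sg_comm]
    exact e01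
  have ex'y : sg x' y = 1 := by
    rw [← sg_conj β, ← hx''def, hydef, show β * (β⁻¹ * x * β⁻¹⁻¹) * β⁻¹ = x by group, sg_comm]
    exact h1
  have hxv : sg x v = 1 := by rw [hvdef, C.sg_mul_right F hxxx.mem hy.mem hx.mem, h1, exy, add_zero]
  have hwv : sg w v = 0 := by
    rw [hwdef, C.sg_mul_left F (inv_mem hx.mem) hxx.mem hv.mem, sg_inv_left, hxv, hvdef,
      C.sg_mul_right F hxxx.mem hy.mem hxx.mem, e12, ex'y, zero_add]
    rfl
  have hwx : Commute w x := ((Commute.refl x).inv_left.mul_left hcom.symm)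
  refine ⟨hx2, w, v, hw, hv, hw2, hv.sq.resolve_left fun hv2 => ?_, hwne, hwx, sg_eq_zero.1 hwv,
    sg_eq_one.1 hxv⟩
  have hzw : w ∉ closure ({z} : Set G) := fun h => by
    rw [← zpowers_eq_closure] at h
    obtain ⟨i, hi'⟩ := h
    simp only at hi'
    exact hwne (hi' ▸ (F.comm β hβ).zpow_right i)
  refine X.three_false (elemAb_le F.elem hH) ((card_hyper hH hi).symm ▸ F.card.ge) F.sq hw2 hv2
    (C.z_comm hw.mem) (C.z_comm hv.mem) (sg_eq_zero.1 hwv) (fun h hh => F.comm h (hH hh)) hw.fix hv.fix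
    F.ne_one hzw fun h => sg_eq_one.1 hxv ?_
  have hle : closure ({w, z} : Set G) ≤ centralizer {x} := (closure_le _).2 (by
    rintro a (rfl | ha)
    · exact mem_centralizer_singleton_iff.2 hwx.eq
    · rw [Set.mem_singleton_iff] at ha
      subst ha
      exact mem_centralizer_singleton_iff.2 (C.z_comm hx.mem).eq)
  exact (show v * x = x * v from mem_centralizer_singleton_iff.1 (hle h)).symm

/-- A hyperplane of `B` whose fixed points in `K` are not all centralized by `B`. -/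
structure Kernel (p : ℕ) (B K H : Subgroup G) : Prop where
  le : H ≤ B
  index : H.relIndex B = p
  moved : ∃ a ∈ K, (∀ h ∈ H, Commute h a) ∧ ¬ ∀ b ∈ B, Commute b a

theorem Ctx.exists_kernel (X : Ctx G p n) (C : Core z B K) (F : Frame p n z B) {b : G} (hb : b ∈ B)
    (hb1 : b ≠ 1) : ∃ H, Kernel p B K H ∧ b ∉ H := by
  haveI : Fact p.Prime := ⟨X.prime⟩
  by_contra hcon
  push Not at hcon
  have hB1 : B ≠ ⊥ := fun h => hb1 (mem_bot.1 (h ▸ hb))
  have hBK : B ≤ normalizer (K : Set G) := fun a ha =>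
    C.le_norm (mem_centralizer_singleton_iff.2 (F.comm a ha).eq)
  have hKp : ¬ p ∣ Nat.card K := (X.prime.coprime_iff_not_dvd).1 (H71.two_coprime X.odd C.two).symm
  refine hb1 (C.faithful b hb fun y hy => (mem_centralizer_singleton_iff.1
    (H8.generation (W := centralizer {b}) F.elem hB1 hBK hKp ?_ hy)).symm)
  rintro H hHB hHi a ⟨haK, haH⟩
  rw [mem_centralizer_singleton_iff]
  have haH' : ∀ h ∈ H, Commute h a := fun h hh => (mem_cent_iff.1 haH h hh).symm
  by_cases hbH : b ∈ H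
  · exact (haH' b hbH).eq.symm
  · by_contra h
    exact hbH (hcon H ⟨hHB, hHi, a, haK, haH', fun h' => h (h' b hb).eq.symm⟩)

theorem Kernel.exists_mem_diff {H H' : Subgroup G} (hp : p.Prime) (hH : Kernel p B K H)
    (hH' : Kernel p B K H') (hne : H ≠ H') : ∃ δ ∈ H, δ ∉ H' := by
  by_contra h
  push Not at h
  exact hne (eq_of_le_of_card_ge h (Nat.eq_of_mul_eq_mul_right hp.pos
    ((card_hyper hH'.le hH'.index).trans (card_hyper hH.le hH.index).symm)).le)

/-- A moved displacement. -/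
theorem Ctx.exists_disp (X : Ctx G p n) (C : Core z B K) (F : Frame p n z B) {H H' : Subgroup G}
    (hH : Kernel p B K H) (hH' : H' ≤ B) {δ : G} (hδ : δ ∈ H') (hδH : δ ∉ H) :
    ∃ r, Disp z K H H' r ∧ ¬ Commute δ r := by
  obtain ⟨a, haK, haH, haB⟩ := hH.moved
  have hδB : δ ∈ B := hH' hδ
  have hne : ¬ Commute δ a := fun h =>
    haB (hyper_commute X.prime F.elem hH.le hH.index hδB hδH haH h)
  set a' := δ * a * δ⁻¹ with ha'
  have ha'K : a' ∈ K := C.conj_mem F hδB haK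
  have hr : ¬ Commute δ (a⁻¹ * a') :=
    X.conj_moved C F hδB (mul_mem (inv_mem haK) ha'K) hne (by rw [ha']; group)
  refine ⟨a⁻¹ * a', ⟨mul_mem (inv_mem haK) ha'K,
    fun h hh => (haH h hh).inv_right.mul_right (elemAb_conj_mem F.elem hH.le hδB haH h hh), ?_,
    fun y hy hy' => ?_⟩, hr⟩
  · obtain ⟨h1, h2⟩ := C.sq_mul (inv_mem haK) ha'K
    have hsq : (a⁻¹) ^ 2 * a' ^ 2 = 1 := by
      rw [ha', conj_pow, H77.conj_eq_self_iff.2 (C.sq_fixed haK hδB).eq, inv_pow, inv_mul_cancel]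
    by_cases h : Commute a⁻¹ a'
    · left; rw [h1 h, hsq]
    · right; rw [h2 h, hsq, mul_one]
  · rw [← sg_eq_zero, C.sg_mul_left F (inv_mem haK) ha'K hy, sg_inv_left]
    have : sg a' y = sg a y := by
      conv_lhs => rw [ha', show y = δ * y * δ⁻¹ from (H77.conj_eq_self_iff.2 (hy' δ hδ).eq).symm]
      rw [sg_conj]
    rw [this]
    exact CharTwo.add_self_eq_zero _

/-- If no moved displacement commutes with its image, there is a quaternion pair. -/
theorem Ctx.exists_quat (X : Ctx G p n) (C : Core z B K) (F : Frame p n z B) {H H' : Subgroup G}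
    (hH : Kernel p B K H) (hH' : H' ≤ B) {δ : G} (hδ : δ ∈ H') (hδH : δ ∉ H)
    (hgood : ∀ x, Disp z K H H' x → ¬ Commute δ x → ¬ Commute x (δ * x * δ⁻¹)) :
    ∃ i, Disp z K H H' i ∧ i ^ 2 = z ∧ ¬ Commute i (δ * i * δ⁻¹) := by
  obtain ⟨r, hr, hne⟩ := X.exists_disp C F hH hH' hδ hδH
  have hδB : δ ∈ B := hH' hδ
  rcases hr.sq with h2 | h2
  swap
  · exact ⟨r, hr, h2, hgood r hr hne⟩
  have hr' := C.disp_conj F hH.le hH' hr hδB
  have hnc := hgood r hr hne
  have hi := C.disp_mul F hr hr'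
  have hsq : (r * (δ * r * δ⁻¹)) ^ 2 = z := by
    rw [(C.sq_mul hr.mem hr'.mem).2 hnc, conj_pow, h2, mul_one, mul_inv_cancel, mul_one, mul_one]
  refine ⟨_, hi, hsq, hgood _ hi ?_⟩
  refine X.conj_moved C F hδB hi.mem hne ?_
  rw [← mul_assoc r r, ← pow_two, h2, one_mul]

/-- Moved displacements do not commute with their images. -/
theorem Ctx.no_fail (X : Ctx G p n) (C : Core z B K) (F : Frame p n z B) {H H' : Subgroup G}
    (hH : Kernel p B K H) (hH' : Kernel p B K H') (hne : H ≠ H') {β x : G} (hβ : β ∈ B)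
    (hx : Disp z K H H' x) (hbx : ¬ Commute β x) : ¬ Commute x (β * x * β⁻¹) := by
  intro hcom
  obtain ⟨hx2, w, v, hw, hv, hw2, hv2, hwne, hwx, hwv, hxv⟩ :=
    X.fail_data C F hH.le hH'.le hH.index hβ hx hbx hcom
  obtain ⟨δ, hδ, hδH'⟩ := hH.exists_mem_diff X.prime hH' hne
  have hδB : δ ∈ B := hH.le hδ
  have hP := elemAb_le F.elem (inf_le_left.trans hH.le : H ⊓ H' ≤ B)
  have hk : p ^ n ≤ Nat.card (H ⊓ H' : Subgroup G) * p ^ 2 :=
    F.card ▸ card_inf_le hH.le hH.index hH'.index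
  have hzP : ∀ y ∈ H ⊓ H', Commute y z := fun y hy => F.comm y (hH.le hy.1)
  have hwP : ∀ y ∈ H ⊓ H', Commute y w := fun y hy => hw.fix y hy.1
  have hzz : z * z = 1 := by rw [← pow_two]; exact F.sq
  have hzw : w ∉ closure ({z} : Set G) := fun h => by
    rw [← zpowers_eq_closure] at h
    obtain ⟨i, hi'⟩ := h
    simp only at hi'
    exact hwne (hi' ▸ (F.comm β hβ).zpow_right i)
  by_cases hbad : ∃ r, Disp z K H' H r ∧ ¬ Commute δ r ∧ Commute r (δ * r * δ⁻¹)
  · obtain ⟨r, hr, hrne, hrcom⟩ := hbad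
    obtain ⟨hr2, w₂, v₂, hw₂, -, hw₂2, -, hw₂ne, hw₂r, -, -⟩ :=
      X.fail_data C F hH'.le hH.le hH'.index hδB hr hrne hrcom
    have hxr : Commute x r := hx.other r hr.mem hr.fix
    have hd2 : (x * r) ^ 2 = 1 := by rw [hxr.mul_pow, hx2, hr2, hzz]
    refine X.four_false hP hk F.sq hw2 hw₂2 hd2 (C.z_comm hw.mem) (C.z_comm hw₂.mem)
      (hw.other _ hw₂.mem hw₂.fix) ((C.z_comm hx.mem).mul_right (C.z_comm hr.mem))
      (hwx.mul_right (hw.other _ hr.mem hr.fix))
      (((hx.other _ hw₂.mem hw₂.fix).symm).mul_right hw₂r) hzP hwP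
      (fun y hy => hw₂.fix y hy.2) (fun y hy => (hx.fix y hy.1).mul_right (hr.fix y hy.2))
      F.ne_one hzw (fun h => hw₂ne ?_) (fun h => ?_)
    · have hle : closure ({w, z} : Set G) ≤ centralizer {δ} := (closure_le _).2 (by
        rintro a (rfl | ha)
        · exact mem_centralizer_singleton_iff.2 (hw.fix δ hδ).eq.symm
        · rw [Set.mem_singleton_iff] at ha
          subst ha
          exact mem_centralizer_singleton_iff.2 (F.comm δ hδB).eq.symm)
      exact (show w₂ * δ = δ * w₂ from mem_centralizer_singleton_iff.1 (hle h)).symm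
    · have hle : closure ({w₂, w, z} : Set G) ≤ centralizer {v} := (closure_le _).2 (by
        rintro a (rfl | rfl | ha)
        · exact mem_centralizer_singleton_iff.2 (hv.other _ hw₂.mem hw₂.fix).eq.symm
        · exact mem_centralizer_singleton_iff.2 hwv.eq
        · rw [Set.mem_singleton_iff] at ha
          subst ha
          exact mem_centralizer_singleton_iff.2 (C.z_comm hv.mem).eq)
      have h1 : Commute (x * r) v := mem_centralizer_singleton_iff.1 (hle h)
      refine hxv ?_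
      have h2 := h1.mul_left (hv.other r hr.mem hr.fix).symm.inv_left
      simpa [mul_assoc] using h2
  · push Not at hbad
    obtain ⟨i, hi, hi2, hij⟩ := X.exists_quat C F hH' hH.le hδ hδH' hbad
    set j := δ * i * δ⁻¹ with hj
    have hjd : Disp z K H' H j := C.disp_conj F hH'.le hH.le hi hδB
    have hj2 : j ^ 2 = z := by
      rw [hj, conj_pow, hi2, H77.conj_eq_self_iff.2 (F.comm δ hδB).eq]
    have hxi : Commute x i := hx.other i hi.mem hi.fix
    have hvj : Commute v j := hv.other j hjd.mem hjd.fix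
    have hc2 : (x * i) ^ 2 = 1 := by rw [hxi.mul_pow, hx2, hi2, hzz]
    have hd2 : (v * j) ^ 2 = 1 := by rw [hvj.mul_pow, hv2, hj2, hzz]
    have hcd : Commute (x * i) (v * j) := by
      rw [← sg_eq_zero, C.sg_mul_left F hx.mem hi.mem (mul_mem hv.mem hjd.mem),
        C.sg_mul_right F hv.mem hjd.mem hx.mem, C.sg_mul_right F hv.mem hjd.mem hi.mem,
        sg_eq_one.2 hxv, sg_of_comm (hx.other j hjd.mem hjd.fix),
        sg_of_comm (hv.other i hi.mem hi.fix).symm, sg_eq_one.2 hij]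
      rfl
    refine X.four_false hP hk F.sq hw2 hc2 hd2 (C.z_comm hw.mem)
      ((C.z_comm hx.mem).mul_right (C.z_comm hi.mem)) (hwx.mul_right (hw.other _ hi.mem hi.fix))
      ((C.z_comm hv.mem).mul_right (C.z_comm hjd.mem)) (hwv.mul_right (hw.other _ hjd.mem hjd.fix))
      hcd hzP hwP (fun y hy => (hx.fix y hy.1).mul_right (hi.fix y hy.2))
      (fun y hy => (hv.fix y hy.1).mul_right (hjd.fix y hy.2)) F.ne_one hzw (fun h => hij ?_)
      (fun h => hxv ?_)
    · have hle : closure ({w, z} : Set G) ≤ centralizer {j} := (closure_le _).2 (by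
        rintro a (rfl | ha)
        · exact mem_centralizer_singleton_iff.2 (hw.other j hjd.mem hjd.fix).eq
        · rw [Set.mem_singleton_iff] at ha
          subst ha
          exact mem_centralizer_singleton_iff.2 (C.z_comm hjd.mem).eq)
      have h1 : Commute (x * i) j := mem_centralizer_singleton_iff.1 (hle h)
      simpa [← mul_assoc] using (hx.other j hjd.mem hjd.fix).inv_left.mul_left h1
    · have hle : closure ({x * i, w, z} : Set G) ≤ centralizer {x} := (closure_le _).2 (by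
        rintro a (rfl | rfl | ha)
        · exact mem_centralizer_singleton_iff.2 ((Commute.refl x).mul_left hxi.symm).eq
        · exact mem_centralizer_singleton_iff.2 hwx.eq
        · rw [Set.mem_singleton_iff] at ha
          subst ha
          exact mem_centralizer_singleton_iff.2 (C.z_comm hx.mem).eq)
      have h1 : Commute (v * j) x := mem_centralizer_singleton_iff.1 (hle h)
      have h2 := h1.mul_left (hx.other j hjd.mem hjd.fix).symm.inv_left
      exact (show Commute v x by simpa [mul_assoc] using h2).symm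

/-- The prime is 3. -/
theorem Ctx.eq_three (X : Ctx G p n) (C : Core z B K) (F : Frame p n z B) {H H' : Subgroup G}
    (hH : Kernel p B K H) (hH' : Kernel p B K H') (hne : H ≠ H') : p = 3 := by
  by_contra hp3
  obtain ⟨β, hβ', hβH⟩ := hH'.exists_mem_diff X.prime hH (Ne.symm hne)
  have hβ : β ∈ B := hH'.le hβ'
  obtain ⟨x, hx, hbx⟩ := X.exists_disp C F hH hH'.le hβ' hβH
  have hpow : β ^ p = 1 := F.elem.2 β hβ
  have hodd : ∀ k : ℕ, ¬ 2 ∣ orderOf (β ^ k) := fun k =>
    X.not_two_dvd_of_pow (by rw [← pow_mul, mul_comm, pow_mul, hpow, one_pow])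
  have hroot : ∀ k : ℕ, p.Coprime k → ∀ y : G, Commute (β ^ k) y → Commute β y := by
    intro k hk y hy
    obtain ⟨m, -, hm⟩ := Nat.exists_mul_mod_eq_one_of_coprime hk.symm X.prime.one_lt
    have h1 := hy.pow_left m
    rwa [← pow_mul, pow_eq_pow_mod (k * m) hpow, hm, pow_one] at h1
  set x' := β * x * β⁻¹ with hx'
  set x'' := β * x' * β⁻¹ with hx''
  set x''' := β * x'' * β⁻¹ with hx'''
  have d1 : Disp z K H H' x' := C.disp_conj F hH.le hH'.le hx hβ
  have d2 : Disp z K H H' x'' := C.disp_conj F hH.le hH'.le d1 hβ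
  have d3 : Disp z K H H' x''' := C.disp_conj F hH.le hH'.le d2 hβ
  have s1 : sg x x' = 1 := sg_eq_one.2 (X.no_fail C F hH hH' hne hβ hx hbx)
  have s12 : sg x' x'' = 1 := by
    rw [show sg x' x'' = sg (β * x * β⁻¹) (β * x' * β⁻¹) from rfl, sg_conj, s1]
  have s23 : sg x'' x''' = 1 := by
    rw [show sg x'' x''' = sg (β * x' * β⁻¹) (β * x'' * β⁻¹) from rfl, sg_conj, s12]
  have s13 : sg x' x''' = sg x x'' := by
    rw [show sg x' x''' = sg (β * x * β⁻¹) (β * x'' * β⁻¹) from rfl, sg_conj]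
  -- `x x''` is moved
  have hm : ¬ Commute β (x * x'') := by
    intro hf
    refine hbx (hroot 2 ((Nat.coprime_primes X.prime Nat.prime_two).2 X.odd) x ?_)
    obtain ⟨i, hi⟩ := H77.exists_pow_eq_one_of_mem C.two
      (mul_mem (inv_mem (pow_mem hx.mem 2)) (mul_mem hx.mem d2.mem))
    refine stab_right (c := (x ^ 2)⁻¹ * (x * x'')) (hodd 2) ⟨i, hi⟩ ?_ ?_
    · exact (((C.sq_fixed hx.mem hβ).inv_right).mul_right hf).pow_left 2
    · rw [hx'', hx', pow_two, pow_two]; group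
  have hA : sg x x''' = 0 := by
    have h1 := sg_eq_one.2 (X.no_fail C F hH hH' hne hβ (C.disp_mul F hx d2) hm)
    rw [show β * (x * x'') * β⁻¹ = x' * x''' by rw [hx''', hx']; group,
      C.sg_mul_left F hx.mem d2.mem (mul_mem d1.mem d3.mem), C.sg_mul_right F d1.mem d3.mem hx.mem,
      C.sg_mul_right F d1.mem d3.mem d2.mem, sg_comm x'' x', s1, s12, s23] at h1
    rcases zmod_two_cases (sg x x''') with e | e
    · exact e
    · rw [e] at h1; exact absurd h1 (by decide)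
  have hfix : Commute β (x * x' * x'') := by
    by_contra hf
    have h1 := sg_eq_one.2 (X.no_fail C F hH hH' hne hβ (C.disp_mul F (C.disp_mul F hx d1) d2) hf)
    have hm' := mul_mem (mul_mem d1.mem d2.mem) d3.mem
    rw [show β * (x * x' * x'') * β⁻¹ = x' * x'' * x''' by rw [hx''', hx'', hx']; group,
      C.sg_mul_left F (mul_mem hx.mem d1.mem) d2.mem hm', C.sg_mul_left F hx.mem d1.mem hm',
      C.sg_mul_right F (mul_mem d1.mem d2.mem) d3.mem hx.mem, C.sg_mul_right F d1.mem d2.mem hx.mem,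
      C.sg_mul_right F (mul_mem d1.mem d2.mem) d3.mem d1.mem, C.sg_mul_right F d1.mem d2.mem d1.mem,
      C.sg_mul_right F (mul_mem d1.mem d2.mem) d3.mem d2.mem, C.sg_mul_right F d1.mem d2.mem d2.mem,
      sg_self, sg_self, sg_comm x'' x', s1, s12, s23, s13, hA] at h1
    rcases zmod_two_cases (sg x x'') with e | e <;> rw [e] at h1 <;> exact absurd h1 (by decide)
  set c := x * x' * x'' with hc
  have hcK : c ∈ K := mul_mem (mul_mem hx.mem d1.mem) d2.mem
  have e1 : x'' = x'⁻¹ * x⁻¹ * c := by rw [hc]; group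
  have e2 : x''' = x''⁻¹ * x'⁻¹ * c := by
    have h2 : β * x'' * β⁻¹ = x''⁻¹ * x'⁻¹ * (β * c * β⁻¹) := by simp [hc, hx'', hx', mul_assoc]
    rw [H77.conj_eq_self_iff.2 hfix.eq] at h2
    exact h2
  have e3 : x''' = x * (x⁻¹ * c⁻¹ * x * c) := by
    rw [e2]
    conv_lhs => rw [e1]
    group
  refine hbx (hroot 3 ((Nat.coprime_primes X.prime Nat.prime_three).2 hp3) x ?_)
  have hd : x⁻¹ * c⁻¹ * x * c = 1 ∨ x⁻¹ * c⁻¹ * x * c = z := by
    simpa using C.commutator _ (inv_mem hx.mem) _ (inv_mem hcK)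
  refine stab_right (c := x⁻¹ * c⁻¹ * x * c) (hodd 3) ?_ ?_ ?_
  · rcases hd with e | e <;> rw [e] <;> refine ⟨1, ?_⟩ <;> simp [F.sq]
  · rcases hd with e | e <;> rw [e]
    · exact Commute.one_right _
    · exact (F.comm β hβ).pow_left 3
  · rw [← e3, hx''', hx'', hx', show β ^ 3 = β * β * β by simp only [pow_succ, pow_zero, one_mul]]; group

/-- Two kernels with their quaternion pairs. -/
structure Pair (p : ℕ) (z : G) (B K : Subgroup G) where
  H₁ : Subgroup G
  H₂ : Subgroup G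
  i₁ : G
  i₂ : G
  β₁ : G
  β₂ : G
  le₁ : H₁ ≤ B
  le₂ : H₂ ≤ B
  index₁ : H₁.relIndex B = p
  index₂ : H₂.relIndex B = p
  ne : H₁ ≠ H₂
  β₁_mem : β₁ ∈ H₂
  β₁_not : β₁ ∉ H₁
  β₂_mem : β₂ ∈ H₁
  β₂_not : β₂ ∉ H₂
  disp₁ : Disp z K H₁ H₂ i₁
  disp₂ : Disp z K H₂ H₁ i₂
  sq₁ : i₁ ^ 2 = z
  sq₂ : i₂ ^ 2 = z
  anti₁ : ¬ Commute i₁ (β₁ * i₁ * β₁⁻¹)
  anti₂ : ¬ Commute i₂ (β₂ * i₂ * β₂⁻¹)

theorem Ctx.exists_pair (X : Ctx G p n) (C : Core z B K) (F : Frame p n z B) {b : G} (hb : b ∈ B)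
    (hb1 : b ≠ 1) : p = 3 ∧ ∃ P : Pair p z B K, b ∉ P.H₁ := by
  obtain ⟨H₁, h₁, hbH⟩ := X.exists_kernel C F hb hb1
  have hH1 : H₁ ≠ ⊥ := by
    rintro rfl
    have h2 := card_hyper h₁.le h₁.index
    rw [card_bot, one_mul, F.card] at h2
    exact absurd (Nat.pow_right_injective X.prime.two_le (h2.symm.trans (pow_one p).symm))
      (by have := X.three; omega)
  obtain ⟨h, hh, hh1⟩ := exists_ne_one hH1
  obtain ⟨H₂, h₂, hhH⟩ := X.exists_kernel C F (h₁.le hh) hh1
  have hne : H₁ ≠ H₂ := fun e => hhH (e ▸ hh)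
  obtain ⟨β₁, hβ₁, hβ₁'⟩ := h₂.exists_mem_diff X.prime h₁ hne.symm
  obtain ⟨β₂, hβ₂, hβ₂'⟩ := h₁.exists_mem_diff X.prime h₂ hne
  obtain ⟨i₁, hi₁, hs₁, ha₁⟩ := X.exists_quat C F h₁ h₂.le hβ₁ hβ₁'
    fun x hx hne' => X.no_fail C F h₁ h₂ hne (h₂.le hβ₁) hx hne'
  obtain ⟨i₂, hi₂, hs₂, ha₂⟩ := X.exists_quat C F h₂ h₁.le hβ₂ hβ₂'
    fun x hx hne' => X.no_fail C F h₂ h₁ hne.symm (h₁.le hβ₂) hx hne'
  exact ⟨X.eq_three C F h₁ h₂ hne, ⟨H₁, H₂, i₁, i₂, β₁, β₂, h₁.le, h₂.le, h₁.index, h₂.index, hne,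
    hβ₁, hβ₁', hβ₂, hβ₂', hi₁, hi₂, hs₁, hs₂, ha₁, ha₂⟩, hbH⟩

end core

end H70.KM
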