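import Cfsg.Agent.H70.KMPair
import Cfsg.Agent.H83.MaxNormalElem
import Cfsg.Agent.H77.ThompsonTwo
import Cfsg.Agent.H6.Commutator

/-!
Step III: the structure of `O = O_p(C(B₀))` for the group `B₀` attached to a pair of kernels.
-/

set_option autoImplicit false

open Subgroup

namespace H70.KM

universe u

variable {G : Type u} [Group G]

/-- An involution `z`, a subgroup `B₀` of index at most `p ^ 2` in a maximal one, and two commuting
quaternion pairs centralizing `B₀` inside a 2-group `K` normalized by `C(z)`. -/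
structure World (p n : ℕ) (z : G) (B₀ K : Subgroup G) (i₁ j₁ i₂ j₂ : G) : Prop where
  ne_one : z ≠ 1
  sq : z ^ 2 = 1
  elem : Cfsg.IsElementaryAbelian p B₀
  card : p ^ n ≤ Nat.card B₀ * p ^ 2
  z_fix : ∀ b ∈ B₀, Commute b z
  two : IsPGroup 2 K
  z_mem : z ∈ K
  z_comm : ∀ x ∈ K, Commute z x
  le_norm : centralizer ({z} : Set G) ≤ normalizer (K : Set G)
  mem_i₁ : i₁ ∈ K
  mem_j₁ : j₁ ∈ K
  mem_i₂ : i₂ ∈ K
  mem_j₂ : j₂ ∈ K
  fix_i₁ : ∀ b ∈ B₀, Commute b i₁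
  fix_j₁ : ∀ b ∈ B₀, Commute b j₁
  fix_i₂ : ∀ b ∈ B₀, Commute b i₂
  fix_j₂ : ∀ b ∈ B₀, Commute b j₂
  sq_i₁ : i₁ ^ 2 = z
  sq_j₁ : j₁ ^ 2 = z
  sq_i₂ : i₂ ^ 2 = z
  sq_j₂ : j₂ ^ 2 = z
  anti₁ : i₁ * j₁ * i₁⁻¹ = z * j₁
  anti₂ : i₂ * j₂ * i₂⁻¹ = z * j₂
  comm_ii : Commute i₁ i₂
  comm_ij : Commute i₁ j₂
  comm_ji : Commute j₁ i₂
  comm_jj : Commute j₁ j₂

/-- An involution `a` with a partner `a'` and an element `i` fixing `a` and mapping `a'` to `z a'`. -/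
structure Axis (z : G) (B₀ K : Subgroup G) (a a' i : G) : Prop where
  mem_a : a ∈ K
  mem_a' : a' ∈ K
  mem_i : i ∈ K
  fix_a : ∀ b ∈ B₀, Commute b a
  fix_a' : ∀ b ∈ B₀, Commute b a'
  fix_i : ∀ b ∈ B₀, Commute b i
  sq : a ^ 2 = 1
  sq' : a' ^ 2 = 1
  ne_one : a ≠ 1
  ne_z : a ≠ z
  comm : Commute a a'
  comm_i : Commute i a
  move : i * a' * i⁻¹ = z * a'

/-- A subgroup of `O_p(C(B₀))` of exponent `p` detecting elements of order prime to `p`. -/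
structure Hyp (p : ℕ) (B₀ D : Subgroup G) : Prop where
  le : D ≤ Cfsg.pCoreOf p (centralizer (B₀ : Set G))
  exp : ∀ d ∈ D, d ^ p = 1
  base : B₀ ≤ D
  norm : centralizer (B₀ : Set G) ≤ normalizer (D : Set G)
  det : ∀ g ∈ centralizer (B₀ : Set G), ¬ p ∣ orderOf g → (∀ d ∈ D, Commute g d) → g = 1

/-- An involution fixing `u` and inverting `v` centralizes no nontrivial commutator of them. -/
theorem auto_commute {p n : ℕ} [Finite G] (X : Ctx G p n) {B₀ : Subgroup G}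
    (hB : Cfsg.IsElementaryAbelian p B₀) {a u v : G} (ha : ∀ b ∈ B₀, Commute b a)
    (hu : a * u * a⁻¹ = u) (hv : a * v * a⁻¹ = v⁻¹) (hvB : ∀ b ∈ B₀, Commute b v)
    (hc : u * v * u⁻¹ * v⁻¹ ∈ B₀) : Commute u v := by
  set c := u * v * u⁻¹ * v⁻¹ with hcdef
  have h1 : a * c * a⁻¹ = c := H77.conj_eq_self_iff.2 (ha c hc).eq.symm
  have h2 : a * c * a⁻¹ = c⁻¹ := by
    calc a * c * a⁻¹ = (a * u * a⁻¹) * (a * v * a⁻¹) * (a * u * a⁻¹)⁻¹ * (a * v * a⁻¹)⁻¹ := by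
          rw [hcdef]; group
      _ = v⁻¹ * c⁻¹ * v := by rw [hu, hv, hcdef]; group
      _ = c⁻¹ := by rw [mul_assoc, (hvB c hc).inv_left.eq, inv_mul_cancel_left]
  exact commutatorElement_eq_one_iff_mul_comm.1 (H71.eq_self_of_inv_eq (p := p) (hp := ⟨X.prime⟩) X.odd
    (h2.symm.trans h1) (hB.2 c hc))

variable [Finite G] {p n : ℕ} {z : G} {B₀ K : Subgroup G} {i₁ j₁ i₂ j₂ : G}

theorem World.ofPair (X : Ctx G p n) {B : Subgroup G} (C : Core z B K) (F : Frame p n z B)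
    (P : Pair p z B K) :
    World p n z (P.H₁ ⊓ P.H₂) K P.i₁ (P.β₁ * P.i₁ * P.β₁⁻¹) P.i₂ (P.β₂ * P.i₂ * P.β₂⁻¹) := by
  have hβ₁ : P.β₁ ∈ B := P.le₂ P.β₁_mem
  have hβ₂ : P.β₂ ∈ B := P.le₁ P.β₂_mem
  have d₁ := C.disp_conj F P.le₁ P.le₂ P.disp₁ hβ₁
  have d₂ := C.disp_conj F P.le₂ P.le₁ P.disp₂ hβ₂
  exact
    { ne_one := F.ne_one
      sq := F.sq
      elem := elemAb_le F.elem (inf_le_left.trans P.le₁)
      card := F.card ▸ card_inf_le P.le₁ P.index₁ P.index₂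
      z_fix := fun b hb => F.comm b (P.le₁ hb.1)
      two := C.two
      z_mem := C.mem
      z_comm := fun x hx => C.z_comm hx
      le_norm := C.le_norm
      mem_i₁ := P.disp₁.mem
      mem_j₁ := d₁.mem
      mem_i₂ := P.disp₂.mem
      mem_j₂ := d₂.mem
      fix_i₁ := fun b hb => P.disp₁.fix b hb.1
      fix_j₁ := fun b hb => d₁.fix b hb.1
      fix_i₂ := fun b hb => P.disp₂.fix b hb.2
      fix_j₂ := fun b hb => d₂.fix b hb.2
      sq_i₁ := P.sq₁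
      sq_j₁ := by rw [conj_pow, P.sq₁, H77.conj_eq_self_iff.2 (F.comm _ hβ₁).eq]
      sq_i₂ := P.sq₂
      sq_j₂ := by rw [conj_pow, P.sq₂, H77.conj_eq_self_iff.2 (F.comm _ hβ₂).eq]
      anti₁ := C.conj_not P.disp₁.mem d₁.mem P.anti₁
      anti₂ := C.conj_not P.disp₂.mem d₂.mem P.anti₂
      comm_ii := P.disp₁.other _ P.disp₂.mem P.disp₂.fix
      comm_ij := P.disp₁.other _ d₂.mem d₂.fix
      comm_ji := d₁.other _ P.disp₂.mem P.disp₂.fix
      comm_jj := d₁.other _ d₂.mem d₂.fix }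

theorem World.mem_cent (W : World p n z B₀ K i₁ j₁ i₂ j₂) {x : G} (h : ∀ b ∈ B₀, Commute b x) :
    x ∈ centralizer (B₀ : Set G) :=
  mem_cent_iff.2 fun b hb => (h b hb).eq.symm

theorem World.z_conj (W : World p n z B₀ K i₁ j₁ i₂ j₂) {x : G} (hx : x ∈ K) : x * z * x⁻¹ = z :=
  H77.conj_eq_self_iff.2 (W.z_comm x hx).eq.symm

theorem World.axis (W : World p n z B₀ K i₁ j₁ i₂ j₂) : Axis z B₀ K (i₁ * i₂) (j₁ * j₂) i₁ := by
  have hzz : z * z = 1 := by rw [← pow_two]; exact W.sq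
  have hmove : i₁ * (j₁ * j₂) * i₁⁻¹ = z * (j₁ * j₂) := by
    calc i₁ * (j₁ * j₂) * i₁⁻¹ = i₁ * j₁ * i₁⁻¹ * (i₁ * j₂ * i₁⁻¹) := by group
      _ = z * (j₁ * j₂) := by rw [W.anti₁, H77.conj_eq_self_iff.2 W.comm_ij.eq, mul_assoc]
  have hne : ∀ w, Commute j₁ w → i₁ * i₂ ≠ w := by
    intro w hw h
    have h1 : Commute j₁ i₁ := by
      have := hw.mul_right W.comm_ji.inv_right
      rwa [← h, mul_inv_cancel_right] at this
    have h2 := W.anti₁
    rw [H77.conj_eq_self_iff.2 h1.eq.symm] at h2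
    exact W.ne_one (mul_eq_right.1 h2.symm)
  exact
    { mem_a := mul_mem W.mem_i₁ W.mem_i₂
      mem_a' := mul_mem W.mem_j₁ W.mem_j₂
      mem_i := W.mem_i₁
      fix_a := fun b hb => (W.fix_i₁ b hb).mul_right (W.fix_i₂ b hb)
      fix_a' := fun b hb => (W.fix_j₁ b hb).mul_right (W.fix_j₂ b hb)
      fix_i := W.fix_i₁
      sq := by rw [W.comm_ii.mul_pow, W.sq_i₁, W.sq_i₂, hzz]
      sq' := by rw [W.comm_jj.mul_pow, W.sq_j₁, W.sq_j₂, hzz]
      ne_one := hne 1 (Commute.one_right _)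
      ne_z := hne z (W.z_comm _ W.mem_j₁).symm
      comm := H77.conj_eq_self_iff.1 (by
        calc i₁ * i₂ * (j₁ * j₂) * (i₁ * i₂)⁻¹
            = i₁ * ((i₂ * j₁ * i₂⁻¹) * (i₂ * j₂ * i₂⁻¹)) * i₁⁻¹ := by group
          _ = i₁ * (j₁ * (z * j₂)) * i₁⁻¹ := by rw [H77.conj_eq_self_iff.2 W.comm_ji.eq.symm, W.anti₂]
          _ = (i₁ * z * i₁⁻¹) * (i₁ * (j₁ * j₂) * i₁⁻¹) := by
              rw [← mul_assoc j₁ z, ← (W.z_comm _ W.mem_j₁).eq]; group
          _ = j₁ * j₂ := by rw [W.z_conj W.mem_i₁, hmove, ← mul_assoc, hzz, one_mul])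
      comm_i := (Commute.refl i₁).mul_right W.comm_ii
      move := hmove }

theorem Axis.zaxis (W : World p n z B₀ K i₁ j₁ i₂ j₂) {a a' i : G} (A : Axis z B₀ K a a' i) :
    Axis z B₀ K (z * a) a' i :=
  { mem_a := mul_mem W.z_mem A.mem_a
    mem_a' := A.mem_a'
    mem_i := A.mem_i
    fix_a := fun b hb => (W.z_fix b hb).mul_right (A.fix_a b hb)
    fix_a' := A.fix_a'
    fix_i := A.fix_i
    sq := by rw [(W.z_comm _ A.mem_a).mul_pow, W.sq, A.sq, one_mul]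
    sq' := A.sq'
    ne_one := fun h => A.ne_z (by
      rw [eq_inv_of_mul_eq_one_right h, inv_eq_self W.sq])
    ne_z := fun h => A.ne_one (mul_eq_left.1 h)
    comm := (W.z_comm _ A.mem_a').mul_left A.comm
    comm_i := (W.z_comm _ A.mem_i).symm.mul_right A.comm_i
    move := A.move }

theorem World.swap (W : World p n z B₀ K i₁ j₁ i₂ j₂) : j₁ * (i₁ * i₂) * j₁⁻¹ = z * (i₁ * i₂) := by
  have h : j₁ * i₁ * j₁⁻¹ = z * i₁ := by
    have hzj : Commute z j₁ := W.z_comm _ W.mem_j₁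
    have h1 : i₁ * j₁ = z * (j₁ * i₁) := by
      calc i₁ * j₁ = i₁ * j₁ * i₁⁻¹ * i₁ := by group
        _ = z * (j₁ * i₁) := by rw [W.anti₁, mul_assoc]
    calc j₁ * i₁ * j₁⁻¹ = z⁻¹ * (z * (j₁ * i₁)) * j₁⁻¹ := by group
      _ = z * i₁ := by rw [← h1, inv_eq_self W.sq]; group
  calc j₁ * (i₁ * i₂) * j₁⁻¹ = j₁ * i₁ * j₁⁻¹ * (j₁ * i₂ * j₁⁻¹) := by group
    _ = z * (i₁ * i₂) := by rw [h, H77.conj_eq_self_iff.2 W.comm_ji.eq, mul_assoc]

/-- Elements of `O` commuting with `z` commute with the elements of `K` centralizing `B₀`. -/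
theorem World.commute_O (X : Ctx G p n) (W : World p n z B₀ K i₁ j₁ i₂ j₂) {g : G}
    (hg : g ∈ Cfsg.pCoreOf p (centralizer (B₀ : Set G))) (hgz : Commute g z) {k : G} (hk : k ∈ K)
    (hkB : ∀ b ∈ B₀, Commute b k) : Commute g k := by
  have hgN : g ∈ normalizer (K : Set G) := W.le_norm (mem_centralizer_singleton_iff.2 hgz.eq)
  have h1 : g * k * g⁻¹ * k⁻¹ ∈ K := mul_mem ((mem_normalizer_iff.1 hgN k).1 hk) (inv_mem hk)
  have h2 : g * k * g⁻¹ * k⁻¹ ∈ Cfsg.pCoreOf p (centralizer (B₀ : Set G)) := by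
    rw [show g * k * g⁻¹ * k⁻¹ = g * (k * g⁻¹ * k⁻¹) by group]
    exact mul_mem hg ((mem_normalizer_iff.1 (H77.le_normalizer_pCoreOf _ (W.mem_cent hkB)) g⁻¹).1 (inv_mem hg))
  obtain ⟨i, hi⟩ := H77.exists_pow_eq_one_of_mem W.two h1
  exact commutatorElement_eq_one_iff_mul_comm.1
    (eq_one_of_two_power_of_not_dvd hi (X.not_two_dvd (H77.isPGroup_pCoreOf _) h2))

/-- The elements of order `p` of `O` fixed by `z` lie in `B₀`. -/
theorem World.fix_z (X : Ctx G p n) (W : World p n z B₀ K i₁ j₁ i₂ j₂) {g : G}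
    (hg : g ∈ Cfsg.pCoreOf p (centralizer (B₀ : Set G))) (hgp : g ^ p = 1) (hgz : Commute g z) :
    g ∈ B₀ := by
  by_contra hgB
  haveI : Fact p.Prime := ⟨X.prime⟩
  have A := W.axis
  have hgB' : ∀ b ∈ B₀, Commute b g := fun b hb => (mem_cent_iff.1 (H77.pCoreOf_le _ hg) b hb).symm
  have hge : Commute g (i₁ * i₂) := W.commute_O X hg hgz A.mem_a A.fix_a
  have hge' : Commute g (j₁ * j₂) := W.commute_O X hg hgz A.mem_a' A.fix_a'
  have hP : Cfsg.IsElementaryAbelian p (closure (insert g (B₀ : Set G))) := by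
    refine elemAb_closure ?_ ?_
    · rintro x (rfl | hx) y (rfl | hy)
      · exact Commute.refl _
      · exact (hgB' y hy).symm
      · exact hgB' x hx
      · exact elemAb_commute W.elem hx hy
    · rintro x (rfl | hx)
      exacts [hgp, W.elem.2 x hx]
  have hc : p ^ n ≤ Nat.card (closure (insert g (B₀ : Set G))) * p := by
    have h1 := mul_card_le_insert (q := p) (s := (B₀ : Set G)) (x := g) hP (by rwa [closure_eq])
    rw [closure_eq] at h1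
    refine W.card.trans ?_
    rw [pow_two, ← mul_assoc, mul_comm (Nat.card B₀) p]
    exact Nat.mul_le_mul_right p h1
  have hP' : ∀ w : G, (∀ b ∈ B₀, Commute b w) → Commute g w →
      ∀ x ∈ closure (insert g (B₀ : Set G)), Commute x w := by
    intro w h1 h2 x hx
    have hle : closure (insert g (B₀ : Set G)) ≤ centralizer {w} := (closure_le _).2 (by
      rintro y (rfl | hy)
      · exact mem_centralizer_singleton_iff.2 h2.eq
      · exact mem_centralizer_singleton_iff.2 (h1 y hy).eq)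
    exact mem_centralizer_singleton_iff.1 (hle hx)
  have hzi : Commute i₁ z := (W.z_comm _ W.mem_i₁).symm
  refine X.three_false hP hc W.sq A.sq A.sq' (W.z_comm _ A.mem_a) (W.z_comm _ A.mem_a') A.comm
    (hP' z W.z_fix hgz) (hP' _ A.fix_a hge) (hP' _ A.fix_a' hge') W.ne_one (fun h => ?_) fun h => ?_
  · rw [← zpowers_eq_closure] at h
    obtain ⟨k, hk⟩ := h
    have h1 : Commute j₁ (i₁ * i₂) := hk ▸ (W.z_comm _ W.mem_j₁).symm.zpow_right k
    have h2 := W.swap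
    rw [H77.conj_eq_self_iff.2 h1.eq] at h2
    exact W.ne_one (mul_eq_right.1 h2.symm)
  · have hle : closure ({i₁ * i₂, z} : Set G) ≤ centralizer {i₁} := (closure_le _).2 (by
      rintro y (rfl | hy)
      · exact mem_centralizer_singleton_iff.2 A.comm_i.eq.symm
      · rw [Set.mem_singleton_iff] at hy
        subst hy
        exact mem_centralizer_singleton_iff.2 hzi.eq.symm)
    have h1 : Commute (j₁ * j₂) i₁ := mem_centralizer_singleton_iff.1 (hle h)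
    have h2 := A.move
    rw [H77.conj_eq_self_iff.2 h1.eq.symm] at h2
    exact W.ne_one (mul_eq_right.1 h2.symm)

section hyp

variable {D : Subgroup G}

theorem Hyp.cent (H : Hyp p B₀ D) {d : G} (hd : d ∈ D) : ∀ b ∈ B₀, Commute b d := fun b hb =>
  (mem_cent_iff.1 (H77.pCoreOf_le _ (H.le hd)) b hb).symm

theorem Hyp.conj_mem (H : Hyp p B₀ D) {a d : G} (ha : ∀ b ∈ B₀, Commute b a) (hd : d ∈ D) :
    a * d * a⁻¹ ∈ D :=
  (mem_normalizer_iff.1 (H.norm (mem_cent_iff.2 fun b hb => (ha b hb).eq.symm)) d).1 hd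

theorem Ctx.sq_root (X : Ctx G p n) {y : G} (hy : y ^ p = 1) : (y ^ ((p + 1) / 2)) ^ 2 = y := by
  obtain ⟨k, hk⟩ := X.prime.odd_of_ne_two X.odd
  rw [← pow_mul, show (p + 1) / 2 * 2 = p + 1 by omega, pow_succ, hy, one_mul]

/-- Each element of `D` is an element of `B₀` times one inverted by `z`. -/
theorem Hyp.decomp (X : Ctx G p n) (W : World p n z B₀ K i₁ j₁ i₂ j₂) (H : Hyp p B₀ D) {x : G}
    (hx : x ∈ D) : ∃ b ∈ B₀, ∃ t ∈ D, z * t * z⁻¹ = t⁻¹ ∧ x = b * t := by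
  set y := x⁻¹ * (z * x * z⁻¹) with hy
  have hyD : y ∈ D := mul_mem (inv_mem hx) (H.conj_mem W.z_fix hx)
  have hzy : z * y * z⁻¹ = y⁻¹ := by
    calc z * y * z⁻¹ = z * x⁻¹ * z * x * (z * z)⁻¹ := by rw [hy]; group
      _ = z * x⁻¹ * z⁻¹ * x := by rw [← pow_two, W.sq, inv_one, mul_one, inv_eq_self W.sq]
      _ = y⁻¹ := by rw [hy]; group
  set s := y ^ ((p + 1) / 2) with hs
  have hsD : s ∈ D := pow_mem hyD _
  have hzs : z * s * z⁻¹ = s⁻¹ := by rw [hs, ← conj_pow, hzy, inv_pow]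
  have hxs : z * (x * s) * z⁻¹ = x * s := by
    calc z * (x * s) * z⁻¹ = x * y * (z * s * z⁻¹) := by rw [hy]; group
      _ = x * s := by rw [hzs, ← X.sq_root (H.exp y hyD), ← hs, pow_two]; group
  refine ⟨x * s, W.fix_z X (H.le (mul_mem hx hsD)) (H.exp _ (mul_mem hx hsD))
    (H77.conj_eq_self_iff.1 hxs).symm, s⁻¹, inv_mem hsD, ?_, by group⟩
  rw [inv_inv, show z * s⁻¹ * z⁻¹ = (z * s * z⁻¹)⁻¹ by group, hzs, inv_inv]

/-- Commutators of `D` lie in `B₀`. -/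
theorem Hyp.comm_mem (X : Ctx G p n) (W : World p n z B₀ K i₁ j₁ i₂ j₂) (H : Hyp p B₀ D) {x y : G}
    (hx : x ∈ D) (hy : y ∈ D) : x * y * x⁻¹ * y⁻¹ ∈ B₀ := by
  have key : ∀ t ∈ D, z * t * z⁻¹ = t⁻¹ → ∀ u ∈ D, z * u * z⁻¹ = u⁻¹ → t⁻¹ * u⁻¹ * t * u ∈ B₀ := by
    intro t ht hzt u hu hzu
    obtain ⟨b, hb, w, hw, hzw, he⟩ := H.decomp X W (mul_mem ht hu)
    have hwe : w = b⁻¹ * (t * u) := by rw [he, inv_mul_cancel_left]
    have hbz : z * b * z⁻¹ = b := H77.conj_eq_self_iff.2 (W.z_fix b hb).eq.symm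
    have hbc : Commute b (u⁻¹ * t⁻¹) := H.cent (mul_mem (inv_mem hu) (inv_mem ht)) b hb
    have h1 : t⁻¹ * u⁻¹ = b * (u⁻¹ * t⁻¹ * b) := by
      calc t⁻¹ * u⁻¹ = (z * t * z⁻¹) * (z * u * z⁻¹) := by rw [hzt, hzu]
        _ = (z * b * z⁻¹) * (z * w * z⁻¹) := by
            rw [show z * t * z⁻¹ * (z * u * z⁻¹) = z * (t * u) * z⁻¹ by group, he]; group
        _ = b * (u⁻¹ * t⁻¹ * b) := by rw [hbz, hzw, hwe]; group
    have h2 : t⁻¹ * u⁻¹ * t * u = b * b := by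
      rw [h1, ← hbc.eq]
      group
    rw [h2]
    exact mul_mem hb hb
  obtain ⟨b, hb, t, ht, hzt, rfl⟩ := H.decomp X W hx
  obtain ⟨c, hc, u, hu, hzu, rfl⟩ := H.decomp X W hy
  have hzt' : z * t⁻¹ * z⁻¹ = t⁻¹⁻¹ := by
    rw [show z * t⁻¹ * z⁻¹ = (z * t * z⁻¹)⁻¹ by group, hzt]
  have hzu' : z * u⁻¹ * z⁻¹ = u⁻¹⁻¹ := by
    rw [show z * u⁻¹ * z⁻¹ = (z * u * z⁻¹)⁻¹ by group, hzu]
  have h := key t⁻¹ (inv_mem ht) hzt' u⁻¹ (inv_mem hu) hzu'
  rw [inv_inv, inv_inv] at h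
  have hbc : Commute b c := H.cent (H.base hc) b hb
  have hbt : Commute b t := H.cent ht b hb
  have hbu : Commute b u := H.cent hu b hb
  have hct : Commute c t := H.cent ht c hc
  have hcu : Commute c u := H.cent hu c hc
  have e : b * t * (c * u) * (b * t)⁻¹ * (c * u)⁻¹ = t * u * t⁻¹ * u⁻¹ := by
    calc b * t * (c * u) * (b * t)⁻¹ * (c * u)⁻¹
        = b * (t * c) * (u * t⁻¹) * b⁻¹ * u⁻¹ * c⁻¹ := by group
      _ = c * (b * (t * u * t⁻¹) * b⁻¹) * u⁻¹ * c⁻¹ := by rw [← hct.eq, ← mul_assoc b c, hbc.eq]; group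
      _ = c * (t * u * t⁻¹ * u⁻¹) * c⁻¹ := by
          rw [H77.conj_eq_self_iff.2 ((hbt.mul_right hbu).mul_right hbt.inv_right).eq]; group
      _ = t * u * t⁻¹ * u⁻¹ := H77.conj_eq_self_iff.2
          (((hct.mul_right hcu).mul_right hct.inv_right).mul_right hcu.inv_right).eq
  rwa [e]

/-- The product of an inverted element with its image under an involution. -/
theorem Hyp.pair_fix (X : Ctx G p n) (W : World p n z B₀ K i₁ j₁ i₂ j₂) (H : Hyp p B₀ D) {a t : G}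
    (haB : ∀ b ∈ B₀, Commute b a) (ha : a ^ 2 = 1) (haz : Commute z a) (ht : t ∈ D)
    (hzt : z * t * z⁻¹ = t⁻¹) :
    Commute t (a * t * a⁻¹) ∧ t * (a * t * a⁻¹) ∈ D ∧
      z * (t * (a * t * a⁻¹)) * z⁻¹ = (t * (a * t * a⁻¹))⁻¹ ∧
      a * (t * (a * t * a⁻¹)) * a⁻¹ = t * (a * t * a⁻¹) := by
  set t' := a * t * a⁻¹ with ht'
  have ht'D : t' ∈ D := H.conj_mem haB ht
  have haa : a * t' * a⁻¹ = t := by
    rw [ht', show a * (a * t * a⁻¹) * a⁻¹ = (a * a) * t * (a * a)⁻¹ by group, ← pow_two, ha]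
    group
  set c := t * t' * t⁻¹ * t'⁻¹ with hc
  have hcB : c ∈ B₀ := H.comm_mem X W ht ht'D
  have h1 : a * c * a⁻¹ = c := H77.conj_eq_self_iff.2 (haB c hcB).eq.symm
  have h2 : a * c * a⁻¹ = c⁻¹ := by
    calc a * c * a⁻¹ = (a * t * a⁻¹) * (a * t' * a⁻¹) * (a * t * a⁻¹)⁻¹ * (a * t' * a⁻¹)⁻¹ := by
          rw [hc]; group
      _ = c⁻¹ := by rw [haa, ← ht', hc]; group
  have hcom : Commute t t' := commutatorElement_eq_one_iff_mul_comm.1
    (H71.eq_self_of_inv_eq (p := p) (hp := ⟨X.prime⟩) X.odd (h2.symm.trans h1) (W.elem.2 c hcB))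
  refine ⟨hcom, mul_mem ht ht'D, ?_, ?_⟩
  · have hzt' : z * t' * z⁻¹ = t'⁻¹ := by
      calc z * t' * z⁻¹ = (z * a) * t * (a⁻¹ * z⁻¹) := by rw [ht']; group
        _ = (a * z) * t * (z⁻¹ * a⁻¹) := by rw [haz.eq, haz.inv_inv.symm.eq]
        _ = a * (z * t * z⁻¹) * a⁻¹ := by group
        _ = t'⁻¹ := by rw [hzt, ht']; group
    calc z * (t * t') * z⁻¹ = (z * t * z⁻¹) * (z * t' * z⁻¹) := by group
      _ = (t * t')⁻¹ := by rw [hzt, hzt']; exact hcom.inv_inv.eq.trans (mul_inv_rev t t').symm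
  · calc a * (t * t') * a⁻¹ = (a * t * a⁻¹) * (a * t' * a⁻¹) := by group
      _ = t * t' := by rw [haa, ← ht']; exact hcom.symm.eq

/-- An axis fixes some nontrivial inverted element. -/
theorem Hyp.exists_fixed (X : Ctx G p n) (W : World p n z B₀ K i₁ j₁ i₂ j₂) (H : Hyp p B₀ D) {a a' i : G}
    (A : Axis z B₀ K a a' i) :
    ∃ t ∈ D, t ≠ 1 ∧ z * t * z⁻¹ = t⁻¹ ∧ a * t * a⁻¹ = t ∧ a' * t * a'⁻¹ = t := by
  have haz := W.z_comm _ A.mem_a
  obtain ⟨t, ht, ht1, hzt, hat⟩ : ∃ t ∈ D, t ≠ 1 ∧ z * t * z⁻¹ = t⁻¹ ∧ a * t * a⁻¹ = t := by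
    by_contra hcon
    push Not at hcon
    have hall : ∀ t ∈ D, z * t * z⁻¹ = t⁻¹ → Commute (z * a) t := by
      intro t ht hzt
      obtain ⟨-, h2, h3, h4⟩ := H.pair_fix X W A.fix_a A.sq haz ht hzt
      have h5 : t * (a * t * a⁻¹) = 1 := by
        by_contra hne
        exact hcon _ h2 hne h3 h4
      refine H77.conj_eq_self_iff.1 ?_
      calc z * a * t * (z * a)⁻¹ = z * (a * t * a⁻¹) * z⁻¹ := by group
        _ = z * t⁻¹ * z⁻¹ := by rw [eq_inv_of_mul_eq_one_right h5]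
        _ = (z * t * z⁻¹)⁻¹ := by group
        _ = t := by rw [hzt, inv_inv]
    have hza2 : (z * a) ^ 2 = 1 := by rw [haz.mul_pow, W.sq, A.sq, one_mul]
    have h1 := H.det (z * a) (W.mem_cent fun b hb => (W.z_fix b hb).mul_right (A.fix_a b hb))
      (X.not_p_dvd_of_two (i := 1) (by rwa [pow_one])) fun d hd => by
        obtain ⟨b, hb, t, ht, hzt, rfl⟩ := H.decomp X W hd
        exact (((W.z_fix b hb).mul_right (A.fix_a b hb)).symm).mul_right (hall t ht hzt)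
    exact A.ne_z (by rw [eq_inv_of_mul_eq_one_right h1, inv_eq_self W.sq])
  obtain ⟨-, h2, h3, h4⟩ := H.pair_fix X W A.fix_a' A.sq' (W.z_comm _ A.mem_a') ht hzt
  by_cases h5 : t * (a' * t * a'⁻¹) = 1
  · -- `a'` inverts `t`, so it fixes the image under `i`
    refine ⟨i * t * i⁻¹, H.conj_mem A.fix_i ht, fun h => ht1 (conj_eq_one_iff.1 h), ?_, ?_, ?_⟩
    · have hzi : Commute z i := W.z_comm _ A.mem_i
      calc z * (i * t * i⁻¹) * z⁻¹ = (z * i) * t * (i⁻¹ * z⁻¹) := by group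
        _ = (i * z) * t * (z⁻¹ * i⁻¹) := by rw [hzi.eq, hzi.inv_inv.symm.eq]
        _ = i * (z * t * z⁻¹) * i⁻¹ := by group
        _ = (i * t * i⁻¹)⁻¹ := by rw [hzt]; group
    · calc a * (i * t * i⁻¹) * a⁻¹ = (a * i) * t * (i⁻¹ * a⁻¹) := by group
        _ = (i * a) * t * (a⁻¹ * i⁻¹) := by rw [A.comm_i.symm.eq, A.comm_i.inv_inv.eq]
        _ = i * (a * t * a⁻¹) * i⁻¹ := by group
        _ = i * t * i⁻¹ := by rw [hat]
    · have hzi : i * z * i⁻¹ = z := W.z_conj A.mem_i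
      have ha' : a' = i * (z * a') * i⁻¹ := by
        calc a' = z * z * a' := by rw [← pow_two, W.sq, one_mul]
          _ = (i * z * i⁻¹) * (i * a' * i⁻¹) := by rw [hzi, A.move, mul_assoc]
          _ = i * (z * a') * i⁻¹ := by group
      conv_lhs => rw [ha']
      calc i * (z * a') * i⁻¹ * (i * t * i⁻¹) * (i * (z * a') * i⁻¹)⁻¹
          = i * (z * (a' * t * a'⁻¹) * z⁻¹) * i⁻¹ := by group
        _ = i * (z * t⁻¹ * z⁻¹) * i⁻¹ := by rw [eq_inv_of_mul_eq_one_right h5]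
        _ = i * (z * t * z⁻¹)⁻¹ * i⁻¹ := by group
        _ = i * t * i⁻¹ := by rw [hzt, inv_inv]
  · refine ⟨_, h2, h5, h3, ?_, h4⟩
    have hat' : a * (a' * t * a'⁻¹) * a⁻¹ = a' * t * a'⁻¹ := by
      calc a * (a' * t * a'⁻¹) * a⁻¹ = (a * a') * t * (a'⁻¹ * a⁻¹) := by group
        _ = (a' * a) * t * (a⁻¹ * a'⁻¹) := by rw [A.comm.eq, A.comm.inv_inv.symm.eq]
        _ = a' * (a * t * a⁻¹) * a'⁻¹ := by group
        _ = a' * t * a'⁻¹ := by rw [hat]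
    calc a * (t * (a' * t * a'⁻¹)) * a⁻¹ = (a * t * a⁻¹) * (a * (a' * t * a'⁻¹) * a⁻¹) := by group
      _ = t * (a' * t * a'⁻¹) := by rw [hat, hat']

/-- A doubly fixed element and its image give a maximal elementary abelian group centralized by `a`. -/
theorem Hyp.frame_of_fixed (X : Ctx G p n) (W : World p n z B₀ K i₁ j₁ i₂ j₂) (H : Hyp p B₀ D)
    {a a' i : G} (A : Axis z B₀ K a a' i) {x : G} (hx : x ∈ D) (hx1 : x ≠ 1)
    (hzx : z * x * z⁻¹ = x⁻¹) (hax : a * x * a⁻¹ = x) (ha'x : a' * x * a'⁻¹ = x) :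
    Frame p n a (closure (insert (i * x * i⁻¹) (insert x (B₀ : Set G)))) ∧
      z * (i * x * i⁻¹) * z⁻¹ = (i * x * i⁻¹)⁻¹ ∧ a * (i * x * i⁻¹) * a⁻¹ = i * x * i⁻¹ ∧
      i * x * i⁻¹ ∉ closure (insert x (B₀ : Set G)) := by
  haveI : Fact p.Prime := ⟨X.prime⟩
  set y := i * x * i⁻¹ with hy
  have hyD : y ∈ D := H.conj_mem A.fix_i hx
  have hzy : z * y * z⁻¹ = y⁻¹ := by
    have hzi : Commute z i := W.z_comm _ A.mem_i
    calc z * y * z⁻¹ = (z * i) * x * (i⁻¹ * z⁻¹) := by rw [hy]; group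
      _ = (i * z) * x * (z⁻¹ * i⁻¹) := by rw [hzi.eq, hzi.inv_inv.symm.eq]
      _ = i * (z * x * z⁻¹) * i⁻¹ := by group
      _ = y⁻¹ := by rw [hzx, hy]; group
  have hay : a * y * a⁻¹ = y := by
    calc a * y * a⁻¹ = (a * i) * x * (i⁻¹ * a⁻¹) := by rw [hy]; group
      _ = (i * a) * x * (a⁻¹ * i⁻¹) := by rw [A.comm_i.symm.eq, A.comm_i.inv_inv.eq]
      _ = i * (a * x * a⁻¹) * i⁻¹ := by group
      _ = y := by rw [hax]
  have ha'y : a' * y * a'⁻¹ = y⁻¹ := by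
    have h1 : z * a' * y * (z * a')⁻¹ = y := by
      rw [← A.move, hy]
      calc i * a' * i⁻¹ * (i * x * i⁻¹) * (i * a' * i⁻¹)⁻¹ = i * (a' * x * a'⁻¹) * i⁻¹ := by group
        _ = i * x * i⁻¹ := by rw [ha'x]
    calc a' * y * a'⁻¹ = z⁻¹ * (z * a' * y * (z * a')⁻¹) * z := by group
      _ = z * y * z⁻¹ := by rw [h1, inv_eq_self W.sq]
      _ = y⁻¹ := hzy
  have hxy : Commute x y := auto_commute X W.elem A.fix_a' ha'x ha'y (H.cent hyD) (H.comm_mem X W hx hyD)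
  have hE : Cfsg.IsElementaryAbelian p (closure (insert y (insert x (B₀ : Set G)))) := by
    refine elemAb_closure ?_ ?_
    · rintro u (rfl | rfl | hu) v (rfl | rfl | hv)
      · exact Commute.refl _
      · exact hxy.symm
      · exact (H.cent hyD v hv).symm
      · exact hxy
      · exact Commute.refl _
      · exact (H.cent hx v hv).symm
      · exact H.cent hyD u hu
      · exact H.cent hx u hu
      · exact elemAb_commute W.elem hu hv
    · rintro u (rfl | rfl | hu)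
      exacts [H.exp _ hyD, H.exp _ hx, W.elem.2 u hu]
  have hxB : x ∉ closure (B₀ : Set G) := by
    rw [closure_eq]
    intro h
    rw [H77.conj_eq_self_iff.2 (W.z_fix x h).eq.symm] at hzx
    exact hx1 (H71.eq_self_of_inv_eq (p := p) X.odd hzx.symm (H.exp x hx))
  have hyn : y ∉ closure (insert x (B₀ : Set G)) := by
    intro h
    have hle : closure (insert x (B₀ : Set G)) ≤ centralizer {a'} := (closure_le _).2 (by
      rintro u (rfl | hu)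
      · exact mem_centralizer_singleton_iff.2 (H77.conj_eq_self_iff.1 ha'x).symm
      · exact mem_centralizer_singleton_iff.2 (A.fix_a' u hu).eq)
    have h1 : y * a' = a' * y := mem_centralizer_singleton_iff.1 (hle h)
    rw [H77.conj_eq_self_iff.2 h1.symm] at ha'y
    have := H71.eq_self_of_inv_eq (p := p) X.odd ha'y.symm (H.exp y hyD)
    rw [hy, conj_eq_one_iff] at this
    exact hx1 this
  have h1 := mul_card_le_insert (q := p) hE hyn
  have h2 := mul_card_le_insert (q := p) (elemAb_le hE (closure_mono (Set.subset_insert _ _))) hxB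
  rw [closure_eq] at h2
  have hcent : ∀ u ∈ closure (insert y (insert x (B₀ : Set G))), Commute u a := by
    intro u hu
    have hle : closure (insert y (insert x (B₀ : Set G))) ≤ centralizer {a} := (closure_le _).2 (by
      rintro v (rfl | rfl | hv)
      · exact mem_centralizer_singleton_iff.2 (H77.conj_eq_self_iff.1 hay).symm
      · exact mem_centralizer_singleton_iff.2 (H77.conj_eq_self_iff.1 hax).symm
      · exact mem_centralizer_singleton_iff.2 (A.fix_a v hv).eq)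
    exact mem_centralizer_singleton_iff.1 (hle hu)
  have hle' := X.max (zpowers a) _ (W.two.to_le (zpowers_le.2 A.mem_a))
    (by rw [Ne, zpowers_eq_bot]; exact A.ne_one) hE ((show _ ≤ centralizer (zpowers a : Set G) by
      intro u hu
      rw [zpowers_eq_closure, centralizer_closure, mem_centralizer_singleton_iff]
      exact (hcent u hu).eq).trans (centralizer_le_normalizer _))
  refine ⟨⟨A.ne_one, A.sq, hE, le_antisymm hle' ?_, hcent⟩, hzy, hay, hyn⟩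
  refine W.card.trans ?_
  calc Nat.card B₀ * p ^ 2 = p * (p * Nat.card B₀) := by ring
    _ ≤ p * Nat.card (closure (insert x (B₀ : Set G))) := Nat.mul_le_mul_left p h2
    _ ≤ _ := h1

theorem Hyp.frame_le (H : Hyp p B₀ D) {x i : G} (hx : x ∈ D) (hi : ∀ b ∈ B₀, Commute b i) :
    closure (insert (i * x * i⁻¹) (insert x (B₀ : Set G))) ≤ D :=
  (closure_le _).2 (Set.insert_subset (H.conj_mem hi hx) (Set.insert_subset hx H.base))

/-- `D` is generated by `B₀` and the inverted elements fixed or inverted by `a`. -/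
theorem Hyp.le_of_gen (X : Ctx G p n) (W : World p n z B₀ K i₁ j₁ i₂ j₂) (H : Hyp p B₀ D) {a : G}
    (haB : ∀ b ∈ B₀, Commute b a) (ha : a ^ 2 = 1) (haz : Commute z a) {S : Subgroup G} (hB : B₀ ≤ S)
    (h1 : ∀ t ∈ D, z * t * z⁻¹ = t⁻¹ → a * t * a⁻¹ = t → t ∈ S)
    (h2 : ∀ t ∈ D, z * t * z⁻¹ = t⁻¹ → a * t * a⁻¹ = t⁻¹ → t ∈ S) : D ≤ S := by
  intro d hd
  obtain ⟨b, hb, t, ht, hzt, rfl⟩ := H.decomp X W hd
  refine mul_mem (hB hb) ?_
  obtain ⟨hc, hwD, hzw, haw⟩ := H.pair_fix X W haB ha haz ht hzt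
  set t' := a * t * a⁻¹ with ht'
  have haa : a * t' * a⁻¹ = t := by
    rw [ht', show a * (a * t * a⁻¹) * a⁻¹ = (a * a) * t * (a * a)⁻¹ by group, ← pow_two, ha]
    group
  have hvD : t * t'⁻¹ ∈ D := mul_mem ht (inv_mem (H.conj_mem haB ht))
  have hzt' : z * t' * z⁻¹ = t'⁻¹ := by
    calc z * t' * z⁻¹ = (z * t * z⁻¹)⁻¹ * (z * (t * t') * z⁻¹) := by group
      _ = t'⁻¹ := by rw [hzt, hzw, inv_inv, hc.eq, mul_inv_rev, mul_inv_cancel_left]
  have hzv : z * (t * t'⁻¹) * z⁻¹ = (t * t'⁻¹)⁻¹ := by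
    calc z * (t * t'⁻¹) * z⁻¹ = (z * t * z⁻¹) * (z * t' * z⁻¹)⁻¹ := by group
      _ = (t * t'⁻¹)⁻¹ := by rw [hzt, hzt', inv_inv, mul_inv_rev, inv_inv]; exact hc.inv_left.eq
  have hav : a * (t * t'⁻¹) * a⁻¹ = (t * t'⁻¹)⁻¹ := by
    calc a * (t * t'⁻¹) * a⁻¹ = (a * t * a⁻¹) * (a * t' * a⁻¹)⁻¹ := by group
      _ = (t * t'⁻¹)⁻¹ := by rw [haa, ← ht', mul_inv_rev, inv_inv]
  have hsq : t * t' * (t * t'⁻¹) = t ^ 2 := by
    rw [hc.eq, pow_two, mul_assoc, ← mul_assoc t t t'⁻¹, ((hc.mul_left hc).inv_right).eq, mul_inv_cancel_left]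
  have hm : t ^ 2 ∈ S := hsq ▸ mul_mem (h1 _ hwD hzw haw) (h2 _ hvD hzv hav)
  rw [← X.sq_root (H.exp t ht), ← pow_mul, mul_comm, pow_mul]
  exact pow_mem hm _

/-- Inverted `p`-elements of `C(B₀)` lie in `O`. -/
theorem Hyp.inv_mem_O (X : Ctx G p n) (W : World p n z B₀ K i₁ j₁ i₂ j₂) (H : Hyp p B₀ D) {g : G}
    (hg : g ∈ centralizer (B₀ : Set G)) (hgp : ∃ i : ℕ, g ^ p ^ i = 1) (hzg : z * g * z⁻¹ = g⁻¹) :
    g ∈ Cfsg.pCoreOf p (centralizer (B₀ : Set G)) := by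
  haveI : Fact p.Prime := ⟨X.prime⟩
  set C := centralizer (B₀ : Set G)
  have hcent : ∀ x ∈ C, ∀ b ∈ B₀, Commute b x := fun x hx b hb => (mem_cent_iff.1 hx b hb).symm
  let K₁ : Subgroup G :=
    { carrier := {x | x ∈ C ∧ ∀ d ∈ D, x * d * x⁻¹ * d⁻¹ ∈ B₀}
      one_mem' := ⟨one_mem C, fun d _ => by simp⟩
      mul_mem' := fun {x y} hx hy => ⟨mul_mem hx.1 hy.1, fun d hd => by
        have hyd : y * d * y⁻¹ ∈ D := H.conj_mem (hcent y hy.1) hd
        have h1 := mul_mem (hx.2 _ hyd) (hy.2 d hd)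
        rw [show x * y * d * (x * y)⁻¹ * d⁻¹ =
          x * (y * d * y⁻¹) * x⁻¹ * (y * d * y⁻¹)⁻¹ * (y * d * y⁻¹ * d⁻¹) by group]
        exact h1⟩
      inv_mem' := fun {x} hx => ⟨inv_mem hx.1, fun d hd => by
        have hd' : x⁻¹ * d * x⁻¹⁻¹ ∈ D := H.conj_mem (hcent _ (inv_mem hx.1)) hd
        have h1 := inv_mem (hx.2 _ hd')
        simpa [mul_assoc] using h1⟩ }
  have hK₁C : K₁ ≤ C := fun x hx => hx.1
  have hK₁n : C ≤ normalizer (K₁ : Set G) := by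
    refine le_normalizer_iff.2 fun c hc x hx => ⟨mul_mem (mul_mem hc hx.1) (inv_mem hc), fun d hd => ?_⟩
    have hd' : c⁻¹ * d * c⁻¹⁻¹ ∈ D := H.conj_mem (hcent _ (inv_mem hc)) hd
    have h1 := hx.2 _ hd'
    have h2 := H77.conj_eq_self_iff.2 (hcent c hc _ h1).eq.symm
    rw [show c * x * c⁻¹ * d * (c * x * c⁻¹)⁻¹ * d⁻¹ =
      c * (x * (c⁻¹ * d * c⁻¹⁻¹) * x⁻¹ * (c⁻¹ * d * c⁻¹⁻¹)⁻¹) * c⁻¹ by group, h2]
    exact h1
  have hK₁p : IsPGroup p K₁ := by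
    refine H77.isPGroup_of_pPrime_trivial fun k hk hk' => H.det k hk.1 hk' fun d hd => ?_
    refine H77.commute_of_fix (elemAb_isPGroup W.elem) (hk.2 d hd) hk' ?_ (by group)
    exact (hcent k hk.1 _ (hk.2 d hd)).symm.eq
  have hK₁O : K₁ ≤ Cfsg.pCoreOf p C := H77.le_pCoreOf hK₁C hK₁p hK₁n
  have h2 : g ^ 2 ∈ K₁ := by
    refine ⟨pow_mem hg 2, fun d hd => ?_⟩
    have hd1 : g⁻¹ * d * g⁻¹⁻¹ ∈ D := H.conj_mem (hcent _ (inv_mem hg)) hd
    -- `z` inverts `D` modulo `B₀`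
    have hzinv : ∀ x ∈ D, ∃ b ∈ B₀, z * x * z⁻¹ = b * x⁻¹ := by
      intro x hx
      obtain ⟨b, hb, t, ht, hzt, rfl⟩ := H.decomp X W hx
      refine ⟨b * b, mul_mem hb hb, ?_⟩
      rw [show z * (b * t) * z⁻¹ = (z * b * z⁻¹) * (z * t * z⁻¹) by group,
        H77.conj_eq_self_iff.2 (W.z_fix b hb).eq.symm, hzt, mul_inv_rev,
        ← (H.cent (inv_mem ht) b⁻¹ (inv_mem hb)).eq]
      group
    have hdD : g * d * g⁻¹ ∈ D := H.conj_mem (hcent g hg) hd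
    obtain ⟨b₁, hb₁, e₁⟩ := hzinv _ hdD
    obtain ⟨b₂, hb₂, e₂⟩ := hzinv _ hd
    have hgb : g⁻¹ * b₂ * g = b₂ := by
      rw [mul_assoc, (hcent g hg b₂ hb₂).eq, inv_mul_cancel_left]
    have e3 : z * (g * d * g⁻¹) * z⁻¹ = b₂ * (g⁻¹ * d⁻¹ * g) := by
      calc z * (g * d * g⁻¹) * z⁻¹ = (z * g * z⁻¹) * (z * d * z⁻¹) * (z * g * z⁻¹)⁻¹ := by group
        _ = (g⁻¹ * b₂ * g) * (g⁻¹ * d⁻¹ * g) := by rw [hzg, e₂]; group
        _ = b₂ * (g⁻¹ * d⁻¹ * g) := by rw [hgb]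
    rw [e₁] at e3
    -- hence `g * d * g⁻¹` and `g⁻¹ * d * g` agree modulo `B₀`
    have hb : g * d * g⁻¹ * (g⁻¹ * d * g)⁻¹ ∈ B₀ := by
      have h : g * d * g⁻¹ * (g⁻¹ * d * g)⁻¹ = g * d * g⁻¹ * (g⁻¹ * d⁻¹ * g) := by group
      rw [h, show g⁻¹ * d⁻¹ * g = b₂⁻¹ * (b₁ * (g * d * g⁻¹)⁻¹) by rw [e3, inv_mul_cancel_left],
        ← mul_assoc b₂⁻¹, ← mul_assoc (g * d * g⁻¹),
        ← (H.cent hdD _ (mul_mem (inv_mem hb₂) hb₁)).eq, mul_inv_cancel_right]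
      exact mul_mem (inv_mem hb₂) hb₁
    have hc := hcent g hg _ hb
    rw [show g ^ 2 * d * (g ^ 2)⁻¹ * d⁻¹ = g * (g * d * g⁻¹ * (g⁻¹ * d * g)⁻¹) * g⁻¹ by
      rw [pow_two]; group, H77.conj_eq_self_iff.2 hc.eq.symm]
    exact hb
  obtain ⟨i, hi⟩ := hgp
  obtain ⟨k, hk⟩ := (X.prime.odd_of_ne_two X.odd).pow (n := i)
  have hgk : g = (g ^ 2) ^ (k + 1) := by
    rw [← pow_mul, show 2 * (k + 1) = p ^ i + 1 by omega, pow_succ, hi, one_mul]
  rw [hgk]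
  exact pow_mem (hK₁O h2) _

end hyp

/-- There is a subgroup satisfying `Hyp`. -/
theorem World.exists_hyp (X : Ctx G p n) (W : World p n z B₀ K i₁ j₁ i₂ j₂) :
    ∃ D, Hyp p B₀ D := by
  haveI : Fact p.Prime := ⟨X.prime⟩
  set C := centralizer (B₀ : Set G)
  set O := Cfsg.pCoreOf p C
  have hO : IsPGroup p O := H77.isPGroup_pCoreOf C
  have hOC : ∀ x ∈ O, ∀ b ∈ B₀, Commute b x := fun x hx b hb =>
    (mem_cent_iff.1 (H77.pCoreOf_le _ hx) b hb).symm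
  have hB0 : B₀ ≠ ⊥ := by
    intro h
    have := W.card
    rw [h, card_bot, one_mul, Nat.pow_le_pow_iff_right X.prime.one_lt] at this
    have := X.three
    omega
  have hBC : B₀ ≤ C := fun b hb => mem_cent_iff.2 fun a ha => (elemAb_commute W.elem hb ha).eq
  have hCN : C ≤ normalizer (B₀ : Set G) := centralizer_le_normalizer _
  have hBO : B₀ ≤ O := H77.le_pCoreOf hBC (elemAb_isPGroup W.elem) hCN
  obtain ⟨D₀, hD₀c, hD₀s, hD₀d⟩ := H89.exists_small_detecting hO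
  haveI := hD₀c
  set D₁ := D₀.map O.subtype
  have hD₁O : D₁ ≤ O := map_subtype_le _
  have hD₁n : C ≤ normalizer (D₁ : Set G) :=
    H83.le_normalizer_map_of_characteristic (H77.le_normalizer_pCoreOf C) D₀
  have hD₁e : ∀ x ∈ D₁, x ^ p = 1 := by
    rintro _ ⟨x, hx, rfl⟩
    have h := (hD₀s x hx).resolve_right fun h => X.odd h.1
    simpa using congrArg Subtype.val h
  let D : Subgroup G :=
    { carrier := {d | ∃ x ∈ D₁, ∃ b ∈ B₀, d = x * b}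
      one_mem' := ⟨1, one_mem _, 1, one_mem _, by simp⟩
      mul_mem' := by
        rintro _ _ ⟨x, hx, b, hb, rfl⟩ ⟨y, hy, c, hc, rfl⟩
        refine ⟨x * y, mul_mem hx hy, b * c, mul_mem hb hc, ?_⟩
        calc x * b * (y * c) = x * (b * y) * c := by group
          _ = x * y * (b * c) := by rw [(hOC y (hD₁O hy) b hb).eq]; group
      inv_mem' := by
        rintro _ ⟨x, hx, b, hb, rfl⟩
        exact ⟨x⁻¹, inv_mem hx, b⁻¹, inv_mem hb, by
          rw [mul_inv_rev, ((hOC x (hD₁O hx) b hb).inv_inv).eq]⟩ }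
  refine ⟨D, ⟨?_, ?_, fun b hb => ⟨1, one_mem _, b, hb, by simp⟩, ?_, fun g hg hg' hfix => ?_⟩⟩
  · rintro _ ⟨x, hx, b, hb, rfl⟩
    exact mul_mem (hD₁O hx) (hBO hb)
  · rintro _ ⟨x, hx, b, hb, rfl⟩
    rw [(hOC x (hD₁O hx) b hb).symm.mul_pow, hD₁e x hx, W.elem.2 b hb, one_mul]
  · refine le_normalizer_iff.2 fun c hc d hd => ?_
    obtain ⟨x, hx, b, hb, rfl⟩ := hd
    refine ⟨c * x * c⁻¹, (mem_normalizer_iff.1 (hD₁n hc) x).1 hx, b, hb, ?_⟩
    have h : c * b * c⁻¹ = b := H77.conj_eq_self_iff.2 (mem_cent_iff.1 hc b hb)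
    calc c * (x * b) * c⁻¹ = c * x * c⁻¹ * (c * b * c⁻¹) := by group
      _ = c * x * c⁻¹ * b := by rw [h]
  · refine X.p_core_faithful (elemAb_isPGroup W.elem) hB0 hg hg' fun q hq => ?_
    have hgN : g ∈ normalizer (O : Set G) := H77.le_normalizer_pCoreOf C hg
    let φ : MulAut O := Cfsg.Agent.H9.conjRestr O g hgN
    have hφpow : ∀ (m : ℕ) (x : O), (((φ ^ m) x : O) : G) = g ^ m * x * (g ^ m)⁻¹ := by
      intro m
      induction m with
      | zero => intro x; simp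
      | succ m ih =>
        intro x
        rw [pow_succ', MulAut.mul_apply, Cfsg.Agent.H9.coe_conjRestr, ih, pow_succ']
        group
    have hord : orderOf φ ∣ orderOf g := orderOf_dvd_of_pow_eq_one (MulEquiv.ext fun x => Subtype.ext (by
      rw [hφpow, pow_orderOf_eq_one]; simp))
    have h1 := hD₀d φ (((X.prime.coprime_iff_not_dvd.2 hg').symm).coprime_dvd_left hord) fun x hx =>
      Subtype.ext (by
        rw [Cfsg.Agent.H9.coe_conjRestr]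
        exact H77.conj_eq_self_iff.2 (hfix _ ⟨_, ⟨x, hx, rfl⟩, 1, one_mem _, by simp⟩).eq)
    have h2 := congrArg Subtype.val (DFunLike.congr_fun h1 ⟨q, hq⟩)
    exact H77.conj_eq_self_iff.1 (by simpa [φ, Cfsg.Agent.H9.coe_conjRestr] using h2)

/-- Inverted `p`-elements centralizing a frame have trivial commutator inside it. -/
theorem Ctx.trick (X : Ctx G p n) {a : G} {B : Subgroup G} (F : Frame p n a B) {g h : G}
    (hgB : ∀ b ∈ B, Commute b g) (hhB : ∀ b ∈ B, Commute b h) (hgp : ∃ i : ℕ, g ^ p ^ i = 1)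
    (hhp : ∃ i : ℕ, h ^ p ^ i = 1) (hag : a * g * a⁻¹ = g⁻¹) (hah : a * h * a⁻¹ = h⁻¹)
    (hcB : g * h * g⁻¹ * h⁻¹ ∈ B) : Commute g h := by
  set c := g * h * g⁻¹ * h⁻¹ with hc
  by_contra hne
  have hc1 : c ≠ 1 := fun e => hne (commutatorElement_eq_one_iff_mul_comm.1 e)
  obtain ⟨K', C'⟩ := X.exists_core F
  obtain ⟨-, P, hcP⟩ := X.exists_pair C' F hcB hc1
  have W := World.ofPair X C' F P
  obtain ⟨D, hD⟩ := W.exists_hyp X
  have hin : ∀ x, (∀ b ∈ B, Commute b x) → (∃ i : ℕ, x ^ p ^ i = 1) → a * x * a⁻¹ = x⁻¹ →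
      x ∈ Cfsg.pCoreOf p (centralizer ((P.H₁ ⊓ P.H₂ : Subgroup G) : Set G)) := fun x h1 h2 h3 =>
    hD.inv_mem_O X W (W.mem_cent fun b hb => h1 b (P.le₁ hb.1)) h2 h3
  have hgO := hin g hgB hgp hag
  have hhO := hin h hhB hhp hah
  have hcO : c ∈ Cfsg.pCoreOf p (centralizer ((P.H₁ ⊓ P.H₂ : Subgroup G) : Set G)) :=
    mul_mem (mul_mem (mul_mem hgO hhO) (inv_mem hgO)) (inv_mem hhO)
  have hci : Commute c P.i₁ := W.commute_O X hcO (F.comm c hcB) P.disp₁.mem W.fix_i₁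
  have hall := hyper_commute X.prime F.elem P.le₁ P.index₁ hcB hcP P.disp₁.fix hci
  have hβ : P.β₁ * P.i₁ * P.β₁⁻¹ = P.i₁ := H77.conj_eq_self_iff.2 (hall _ (P.le₂ P.β₁_mem)).eq
  exact P.anti₁ (hβ.symm ▸ Commute.refl _)

section hyp2

variable {D : Subgroup G}

/-- `D` is abelian. -/
theorem Hyp.abelian (X : Ctx G p n) (W : World p n z B₀ K i₁ j₁ i₂ j₂) (H : Hyp p B₀ D) {x y : G}
    (hx : x ∈ D) (hy : y ∈ D) : Commute x y := by
  set a := i₁ * i₂ with ha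
  have A := W.axis
  have haz : Commute z a := W.z_comm _ A.mem_a
  -- elements inverted by an axis commute
  have hinv : ∀ {a a' i : G}, Axis z B₀ K a a' i → ∀ u ∈ D, ∀ v ∈ D, a * u * a⁻¹ = u⁻¹ →
      a * v * a⁻¹ = v⁻¹ → Commute u v := by
    intro a a' i A u hu v hv hau hav
    obtain ⟨t, ht, ht1, hzt, hat, ha't⟩ := H.exists_fixed X W A
    obtain ⟨F, -⟩ := H.frame_of_fixed X W A ht ht1 hzt hat ha't
    have hle := H.frame_le ht A.fix_i
    have hcomm : ∀ w ∈ D, a * w * a⁻¹ = w⁻¹ →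
        ∀ b ∈ closure (insert (i * t * i⁻¹) (insert t (B₀ : Set G))), Commute b w :=
      fun w hw haw b hb => auto_commute X W.elem A.fix_a
        (H77.conj_eq_self_iff.2 (F.comm b hb).eq.symm) haw (H.cent hw) (H.comm_mem X W (hle hb) hw)
    refine X.trick F (hcomm u hu hau) (hcomm v hv hav) ⟨1, by rw [pow_one]; exact H.exp u hu⟩
      ⟨1, by rw [pow_one]; exact H.exp v hv⟩ hau hav ?_
    exact subset_closure (Or.inr (Or.inr (H.comm_mem X W hu hv)))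
  have hza : ∀ u, z * u * z⁻¹ = u⁻¹ → a * u * a⁻¹ = u → z * a * u * (z * a)⁻¹ = u⁻¹ := fun u h1 h2 => by
    rw [show z * a * u * (z * a)⁻¹ = z * (a * u * a⁻¹) * z⁻¹ by group, h2, h1]
  -- each type centralizes `D`
  have hfix : ∀ u ∈ D, z * u * z⁻¹ = u⁻¹ → a * u * a⁻¹ = u → u ∈ centralizer (D : Set G) := by
    intro u hu hzu hau
    rw [mem_cent_iff]
    intro d hd
    have hle : D ≤ centralizer {u} := H.le_of_gen X W A.fix_a A.sq haz
      (fun b hb => mem_centralizer_singleton_iff.2 (H.cent hu b hb).eq)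
      (fun v hv hzv hav => mem_centralizer_singleton_iff.2
        (hinv (A.zaxis W) u hu v hv (hza u hzu hau) (hza v hzv hav)).eq.symm)
      (fun v hv _ hav => mem_centralizer_singleton_iff.2
        (auto_commute X W.elem A.fix_a hau hav (H.cent hv) (H.comm_mem X W hu hv)).eq.symm)
    exact (mem_centralizer_singleton_iff.1 (hle hd)).symm
  have hneg : ∀ u ∈ D, z * u * z⁻¹ = u⁻¹ → a * u * a⁻¹ = u⁻¹ → u ∈ centralizer (D : Set G) := by
    intro u hu hzu hau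
    rw [mem_cent_iff]
    intro d hd
    have hle : D ≤ centralizer {u} := H.le_of_gen X W A.fix_a A.sq haz
      (fun b hb => mem_centralizer_singleton_iff.2 (H.cent hu b hb).eq)
      (fun v hv _ hav => mem_centralizer_singleton_iff.2
        (auto_commute X W.elem A.fix_a hav hau (H.cent hu) (H.comm_mem X W hv hu)).eq)
      (fun v hv _ hav => mem_centralizer_singleton_iff.2 (hinv A u hu v hv hau hav).eq.symm)
    exact (mem_centralizer_singleton_iff.1 (hle hd)).symm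
  have hD : D ≤ centralizer (D : Set G) := H.le_of_gen X W A.fix_a A.sq haz
    (fun b hb => mem_cent_iff.2 fun d hd => (H.cent hd b hb).eq) hfix hneg
  exact mem_cent_iff.1 (hD hx) y hy

theorem Hyp.elem (X : Ctx G p n) (W : World p n z B₀ K i₁ j₁ i₂ j₂) (H : Hyp p B₀ D) :
    Cfsg.IsElementaryAbelian p D :=
  ⟨⟨⟨fun a b => Subtype.ext (H.abelian X W a.2 b.2)⟩⟩, H.exp⟩

/-- The fixed points of an axis in `D` have order at most `p ^ n`. -/
theorem Hyp.card_fixed (X : Ctx G p n) (W : World p n z B₀ K i₁ j₁ i₂ j₂) (H : Hyp p B₀ D) {a a' i : G}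
    (A : Axis z B₀ K a a' i) : Nat.card (D ⊓ centralizer {a} : Subgroup G) ≤ p ^ n := by
  refine X.max (zpowers a) _ (W.two.to_le (zpowers_le.2 A.mem_a))
    (by rw [Ne, zpowers_eq_bot]; exact A.ne_one) (elemAb_le (H.elem X W) inf_le_left) ?_
  rw [zpowers_eq_closure]
  refine (inf_le_right.trans ?_).trans (centralizer_le_normalizer _)
  rw [centralizer_closure]

/-- A normal subgroup of `D` properly above `B₀` is `D`. -/
theorem Hyp.irreducible (X : Ctx G p n) (W : World p n z B₀ K i₁ j₁ i₂ j₂) (H : Hyp p B₀ D)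
    {S : Subgroup G} (hSD : S ≤ D) (hB : B₀ ≤ S) (hS : centralizer (B₀ : Set G) ≤ normalizer (S : Set G))
    {d : G} (hd : d ∈ S) (hdB : d ∉ B₀) : D ≤ S := by
  have A := W.axis
  have hconj : ∀ {k x : G}, (∀ b ∈ B₀, Commute b k) → x ∈ S → k * x * k⁻¹ ∈ S := fun hk hx =>
    (mem_normalizer_iff.1 (hS (W.mem_cent hk)) _).1 hx
  have hswap : ∀ u, z * (i₁ * i₂) * u * (z * (i₁ * i₂))⁻¹ = u →
      i₁ * i₂ * (j₁⁻¹ * u * j₁) * (i₁ * i₂)⁻¹ = j₁⁻¹ * u * j₁ := by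
    intro u hu
    rw [← W.swap] at hu
    calc i₁ * i₂ * (j₁⁻¹ * u * j₁) * (i₁ * i₂)⁻¹
        = j₁⁻¹ * (j₁ * (i₁ * i₂) * j₁⁻¹ * u * (j₁ * (i₁ * i₂) * j₁⁻¹)⁻¹) * j₁ := by group
      _ = j₁⁻¹ * u * j₁ := by rw [hu]
  obtain ⟨b, hb, t, ht, hzt, rfl⟩ := H.decomp X W (hSD hd)
  have htS : t ∈ S := by simpa using mul_mem (inv_mem (hB hb)) hd
  have ht1 : t ≠ 1 := fun e => hdB (by rwa [e, mul_one])
  have haz := W.z_comm _ A.mem_a
  -- a nontrivial element of `S` fixed by the first axis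
  obtain ⟨u, huS, hu1, hzu, hau⟩ : ∃ u ∈ S, u ≠ 1 ∧ z * u * z⁻¹ = u⁻¹ ∧
      i₁ * i₂ * u * (i₁ * i₂)⁻¹ = u := by
    obtain ⟨-, -, hzw, haw⟩ := H.pair_fix X W A.fix_a A.sq haz ht hzt
    by_cases h : t * (i₁ * i₂ * t * (i₁ * i₂)⁻¹) = 1
    · refine ⟨j₁⁻¹ * t * j₁, by simpa using hconj (fun b hb => (W.fix_j₁ b hb).inv_right) htS,
        fun e => ht1 ?_, ?_, hswap t ?_⟩
      · calc t = j₁ * (j₁⁻¹ * t * j₁) * j₁⁻¹ := by group
          _ = 1 := by rw [e]; group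
      · have hzj : Commute z j₁ := W.z_comm _ W.mem_j₁
        calc z * (j₁⁻¹ * t * j₁) * z⁻¹ = (z * j₁⁻¹) * t * (j₁ * z⁻¹) := by group
          _ = (j₁⁻¹ * z) * t * (z⁻¹ * j₁) := by rw [hzj.inv_right.eq, hzj.inv_left.symm.eq]
          _ = j₁⁻¹ * (z * t * z⁻¹) * j₁ := by group
          _ = (j₁⁻¹ * t * j₁)⁻¹ := by rw [hzt]; group
      · calc z * (i₁ * i₂) * t * (z * (i₁ * i₂))⁻¹
            = z * (i₁ * i₂ * t * (i₁ * i₂)⁻¹) * z⁻¹ := by group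
          _ = z * t⁻¹ * z⁻¹ := by rw [eq_inv_of_mul_eq_one_right h]
          _ = (z * t * z⁻¹)⁻¹ := by group
          _ = t := by rw [hzt, inv_inv]
    · exact ⟨_, mul_mem htS (hconj A.fix_a htS), h, hzw, haw⟩
  -- and by both involutions
  obtain ⟨v, hvS, hv1, hzv, hav, ha'v⟩ : ∃ v ∈ S, v ≠ 1 ∧ z * v * z⁻¹ = v⁻¹ ∧
      i₁ * i₂ * v * (i₁ * i₂)⁻¹ = v ∧ j₁ * j₂ * v * (j₁ * j₂)⁻¹ = v := by
    obtain ⟨-, -, hzw, haw⟩ := H.pair_fix X W A.fix_a' A.sq' (W.z_comm _ A.mem_a') (hSD huS) hzu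
    by_cases h : u * (j₁ * j₂ * u * (j₁ * j₂)⁻¹) = 1
    · refine ⟨i₁ * u * i₁⁻¹, hconj W.fix_i₁ huS, fun e => hu1 (conj_eq_one_iff.1 e), ?_, ?_, ?_⟩
      · have hzi : Commute z i₁ := W.z_comm _ W.mem_i₁
        calc z * (i₁ * u * i₁⁻¹) * z⁻¹ = (z * i₁) * u * (i₁⁻¹ * z⁻¹) := by group
          _ = (i₁ * z) * u * (z⁻¹ * i₁⁻¹) := by rw [hzi.eq, hzi.inv_inv.symm.eq]
          _ = i₁ * (z * u * z⁻¹) * i₁⁻¹ := by group
          _ = (i₁ * u * i₁⁻¹)⁻¹ := by rw [hzu]; group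
      · calc i₁ * i₂ * (i₁ * u * i₁⁻¹) * (i₁ * i₂)⁻¹
            = (i₁ * i₂ * i₁) * u * (i₁ * i₂ * i₁)⁻¹ := by group
          _ = (i₁ * (i₁ * i₂)) * u * (i₁ * (i₁ * i₂))⁻¹ := by rw [A.comm_i.eq]
          _ = i₁ * (i₁ * i₂ * u * (i₁ * i₂)⁻¹) * i₁⁻¹ := by group
          _ = i₁ * u * i₁⁻¹ := by rw [hau]
      · have ha' : j₁ * j₂ = i₁ * (z * (j₁ * j₂)) * i₁⁻¹ := by
          calc j₁ * j₂ = z * z * (j₁ * j₂) := by rw [← pow_two, W.sq, one_mul]
            _ = (i₁ * z * i₁⁻¹) * (i₁ * (j₁ * j₂) * i₁⁻¹) := by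
                rw [W.z_conj W.mem_i₁, A.move, mul_assoc]
            _ = i₁ * (z * (j₁ * j₂)) * i₁⁻¹ := by group
        rw [ha']
        calc i₁ * (z * (j₁ * j₂)) * i₁⁻¹ * (i₁ * u * i₁⁻¹) * (i₁ * (z * (j₁ * j₂)) * i₁⁻¹)⁻¹
            = i₁ * (z * (j₁ * j₂ * u * (j₁ * j₂)⁻¹) * z⁻¹) * i₁⁻¹ := by group
          _ = i₁ * (z * u⁻¹ * z⁻¹) * i₁⁻¹ := by rw [eq_inv_of_mul_eq_one_right h]
          _ = i₁ * (z * u * z⁻¹)⁻¹ * i₁⁻¹ := by group
          _ = i₁ * u * i₁⁻¹ := by rw [hzu, inv_inv]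
    · refine ⟨_, mul_mem huS (hconj A.fix_a' huS), h, hzw, ?_, haw⟩
      have h1 : i₁ * i₂ * (j₁ * j₂ * u * (j₁ * j₂)⁻¹) * (i₁ * i₂)⁻¹ = j₁ * j₂ * u * (j₁ * j₂)⁻¹ := by
        calc i₁ * i₂ * (j₁ * j₂ * u * (j₁ * j₂)⁻¹) * (i₁ * i₂)⁻¹
            = ((i₁ * i₂) * (j₁ * j₂)) * u * ((i₁ * i₂) * (j₁ * j₂))⁻¹ := by group
          _ = ((j₁ * j₂) * (i₁ * i₂)) * u * ((j₁ * j₂) * (i₁ * i₂))⁻¹ := by rw [A.comm.eq]
          _ = j₁ * j₂ * (i₁ * i₂ * u * (i₁ * i₂)⁻¹) * (j₁ * j₂)⁻¹ := by group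
          _ = j₁ * j₂ * u * (j₁ * j₂)⁻¹ := by rw [hau]
      calc i₁ * i₂ * (u * (j₁ * j₂ * u * (j₁ * j₂)⁻¹)) * (i₁ * i₂)⁻¹
          = (i₁ * i₂ * u * (i₁ * i₂)⁻¹) * (i₁ * i₂ * (j₁ * j₂ * u * (j₁ * j₂)⁻¹) * (i₁ * i₂)⁻¹) := by
            group
        _ = u * (j₁ * j₂ * u * (j₁ * j₂)⁻¹) := by rw [hau, h1]
  obtain ⟨F, -⟩ := H.frame_of_fixed X W A (hSD hvS) hv1 hzv hav ha'v
  have hFS : closure (insert (i₁ * v * i₁⁻¹) (insert v (B₀ : Set G))) ≤ S :=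
    (closure_le _).2 (Set.insert_subset (hconj W.fix_i₁ hvS) (Set.insert_subset hvS hB))
  have hfixS : D ⊓ centralizer {i₁ * i₂} ≤ S := by
    have heq : closure (insert (i₁ * v * i₁⁻¹) (insert v (B₀ : Set G))) = D ⊓ centralizer {i₁ * i₂} :=
      eq_of_le_of_card_ge (le_inf (hFS.trans hSD) fun w hw => mem_centralizer_singleton_iff.2 (F.comm w hw).eq)
        (F.card ▸ H.card_fixed X W A)
    exact heq ▸ hFS
  refine H.le_of_gen X W A.fix_a A.sq haz hB (fun w hw _ haw => hfixS ⟨hw, mem_centralizer_singleton_iff.2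
    (H77.conj_eq_self_iff.1 haw).symm⟩) fun w hw hzw haw => ?_
  have h1 : j₁⁻¹ * w * j₁ ∈ S := by
    refine hfixS ⟨by simpa using H.conj_mem (fun b hb => (W.fix_j₁ b hb).inv_right) hw,
      mem_centralizer_singleton_iff.2 (H77.conj_eq_self_iff.1 (hswap w ?_)).symm⟩
    calc z * (i₁ * i₂) * w * (z * (i₁ * i₂))⁻¹ = z * (i₁ * i₂ * w * (i₁ * i₂)⁻¹) * z⁻¹ := by group
      _ = (z * w * z⁻¹)⁻¹ := by rw [haw]; group
      _ = w := by rw [hzw, inv_inv]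
  simpa [mul_assoc] using hconj W.fix_j₁ h1

/-- `D` is central in `O`. -/
theorem Hyp.central (X : Ctx G p n) (W : World p n z B₀ K i₁ j₁ i₂ j₂) (H : Hyp p B₀ D) {g d : G}
    (hg : g ∈ Cfsg.pCoreOf p (centralizer (B₀ : Set G))) (hd : d ∈ D) : Commute g d := by
  haveI : Fact p.Prime := ⟨X.prime⟩
  set C := centralizer (B₀ : Set G)
  set O := Cfsg.pCoreOf p C
  have hO : IsPGroup p O := H77.isPGroup_pCoreOf C
  have hOC : O ≤ C := H77.pCoreOf_le C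
  have hOn : C ≤ normalizer (O : Set G) := H77.le_normalizer_pCoreOf C
  have hcent : ∀ x ∈ C, ∀ b ∈ B₀, Commute b x := fun x hx b hb => (mem_cent_iff.1 hx b hb).symm
  -- commutators with `O` lie in `B₀`
  let S : Subgroup G :=
    { carrier := {x | x ∈ D ∧ ∀ h ∈ O, h * x * h⁻¹ * x⁻¹ ∈ B₀}
      one_mem' := ⟨one_mem D, fun h _ => by simp⟩
      mul_mem' := fun {x y} hx hy => ⟨mul_mem hx.1 hy.1, fun h hh => by
        have h1 := mul_mem (hx.2 h hh) (hy.2 h hh)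
        have h2 := H.cent hx.1 _ (hy.2 h hh)
        rw [show h * (x * y) * h⁻¹ * (x * y)⁻¹ =
          (h * x * h⁻¹ * x⁻¹) * (x * (h * y * h⁻¹ * y⁻¹) * x⁻¹) by group,
          H77.conj_eq_self_iff.2 h2.eq.symm]
        exact h1⟩
      inv_mem' := fun {x} hx => ⟨inv_mem hx.1, fun h hh => by
        have h1 := inv_mem (hx.2 h hh)
        have h2 := H.cent hx.1 _ h1
        rw [show h * x⁻¹ * h⁻¹ * x⁻¹⁻¹ = x⁻¹ * (h * x * h⁻¹ * x⁻¹)⁻¹ * x by group, mul_assoc, h2.eq,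
          inv_mul_cancel_left]
        exact h1⟩ }
  have hSD : S ≤ D := fun x hx => hx.1
  have hBS : B₀ ≤ S := fun b hb => ⟨H.base hb, fun h hh => by
    rw [H77.conj_eq_self_iff.2 (hcent h (hOC hh) b hb).eq.symm, mul_inv_cancel]; exact one_mem _⟩
  have hSn : C ≤ normalizer (S : Set G) := by
    refine le_normalizer_iff.2 fun c hc x hx => ⟨H.conj_mem (hcent c hc) hx.1, fun h hh => ?_⟩
    have hh' : c⁻¹ * h * c⁻¹⁻¹ ∈ O := (mem_normalizer_iff.1 (hOn (inv_mem hc)) h).1 hh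
    have h1 := hx.2 _ hh'
    rw [show h * (c * x * c⁻¹) * h⁻¹ * (c * x * c⁻¹)⁻¹ =
      c * (c⁻¹ * h * c⁻¹⁻¹ * x * (c⁻¹ * h * c⁻¹⁻¹)⁻¹ * x⁻¹) * c⁻¹ by group,
      H77.conj_eq_self_iff.2 (hcent c hc _ h1).eq.symm]
    exact h1
  have hDS : D ≤ S := by
    obtain ⟨t, ht, ht1, hzt, -⟩ := H.exists_fixed X W W.axis
    have htB : t ∉ B₀ := fun h => by
      rw [H77.conj_eq_self_iff.2 (W.z_fix t h).eq.symm] at hzt
      exact ht1 (H71.eq_self_of_inv_eq (p := p) X.odd hzt.symm (H.exp t ht))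
    haveI hNn : (B₀.subgroupOf O).Normal := ⟨fun x hx y => by
      rw [mem_subgroupOf] at hx ⊢
      rw [coe_mul, coe_mul, coe_inv, H77.conj_eq_self_iff.2 (hcent _ (hOC y.2) _ hx).eq.symm]
      exact hx⟩
    haveI hDn : (D.subgroupOf O).Normal := normal_subgroupOf_of_le_normalizer (hOC.trans H.norm)
    set N := (D.subgroupOf O).map (QuotientGroup.mk' (B₀.subgroupOf O))
    haveI : N.Normal := hDn.map _ (QuotientGroup.mk'_surjective _)
    have hNne : N ≠ ⊥ := fun h => htB (by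
      have h1 : QuotientGroup.mk' (B₀.subgroupOf O) ⟨t, H.le ht⟩ ∈ N := mem_map_of_mem _ (mem_subgroupOf.2 ht)
      rw [h, mem_bot] at h1
      exact mem_subgroupOf.1 ((QuotientGroup.eq_one_iff _).1 h1))
    obtain ⟨q, ⟨hqN, hqc⟩, hq1⟩ :=
      exists_ne_one (H80.pgroup_normal_inf_center_ne_bot (hO.to_quotient _) N hNne)
    obtain ⟨⟨s, hsO⟩, hs, rfl⟩ := hqN
    refine H.irreducible X W hSD hBS hSn (d := s) ⟨hs, fun h hh => ?_⟩
      (fun e => hq1 ((QuotientGroup.eq_one_iff _).2 e))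
    have h1 := mem_center_iff.1 hqc (QuotientGroup.mk' _ ⟨h, hh⟩)
    rw [← commutatorElement_eq_one_iff_mul_comm, ← map_commutatorElement] at h1
    simpa [mem_subgroupOf, commutatorElement_def] using (QuotientGroup.eq_one_iff _).1 h1
  -- conjugation by `g` commutes with an axis on `D`
  have hkey : ∀ {a a' i : G}, Axis z B₀ K a a' i → ∀ d ∈ D,
      g * (a * d * a⁻¹) * g⁻¹ * (a * d * a⁻¹)⁻¹ = g * d * g⁻¹ * d⁻¹ := by
    intro a a' i A d hd
    have haC : a ∈ C := W.mem_cent A.fix_a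
    have haa : a * a = 1 := by rw [← pow_two]; exact A.sq
    set w := g⁻¹ * (a * g * a⁻¹) with hw
    have hwO : w ∈ O := mul_mem (inv_mem hg) ((mem_normalizer_iff.1 (hOn haC) g).1 hg)
    have haw : a * w * a⁻¹ = w⁻¹ := by
      calc a * w * a⁻¹ = a * g⁻¹ * a * g * (a * a)⁻¹ := by rw [hw]; group
        _ = a * g⁻¹ * a⁻¹ * g := by rw [haa, inv_one, mul_one, inv_eq_self A.sq]
        _ = w⁻¹ := by rw [hw]; group
    obtain ⟨t, ht, ht1, hzt, hat, ha't⟩ := H.exists_fixed X W A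
    obtain ⟨F, -⟩ := H.frame_of_fixed X W A ht ht1 hzt hat ha't
    have hle := H.frame_le ht A.fix_i
    have hfixed : ∀ x ∈ D, a * x * a⁻¹ = x → Commute w x := by
      intro x hx hax
      refine (auto_commute X W.elem A.fix_a hax haw (hcent w (hOC hwO)) ?_).symm
      have := inv_mem ((hDS hx).2 w hwO)
      simpa [mul_assoc] using this
    have hall : D ≤ centralizer {w} := H.le_of_gen X W A.fix_a A.sq (W.z_comm _ A.mem_a)
      (fun b hb => mem_centralizer_singleton_iff.2 (hcent w (hOC hwO) b hb).eq)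
      (fun x hx _ hax => mem_centralizer_singleton_iff.2 (hfixed x hx hax).eq.symm) fun x hx _ hax => by
        refine mem_centralizer_singleton_iff.2 (X.trick F
          (fun b hb => (hfixed b (hle hb) (H77.conj_eq_self_iff.2 (F.comm b hb).eq.symm)).symm)
          (fun b hb => H.abelian X W (hle hb) hx) (H77.exists_pow_eq_one_of_mem hO hwO)
          ⟨1, by rw [pow_one]; exact H.exp x hx⟩ haw hax
          (subset_closure (Or.inr (Or.inr ((hDS hx).2 w hwO))))).eq.symm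
    have hwd : w * d * w⁻¹ = d :=
      H77.conj_eq_self_iff.2 (mem_centralizer_singleton_iff.1 (hall hd)).symm
    have h1 : g * (a * d * a⁻¹) * g⁻¹ = a * (g * d * g⁻¹) * a⁻¹ := by
      have e : a * g * a⁻¹ = g * w := by rw [hw]; group
      calc g * (a * d * a⁻¹) * g⁻¹
          = a * ((a⁻¹ * g * a) * d * (a⁻¹ * g * a)⁻¹) * a⁻¹ := by group
        _ = a * ((g * w) * d * (g * w)⁻¹) * a⁻¹ := by
            rw [← e, inv_eq_self A.sq]
        _ = a * (g * (w * d * w⁻¹) * g⁻¹) * a⁻¹ := by group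
        _ = a * (g * d * g⁻¹) * a⁻¹ := by rw [hwd]
    have hcB := (hDS hd).2 g hg
    calc g * (a * d * a⁻¹) * g⁻¹ * (a * d * a⁻¹)⁻¹ = a * (g * d * g⁻¹ * d⁻¹) * a⁻¹ := by rw [h1]; group
      _ = g * d * g⁻¹ * d⁻¹ := H77.conj_eq_self_iff.2 (A.fix_a _ hcB).eq.symm
  obtain ⟨b, hb, t, ht, hzt, rfl⟩ := H.decomp X W hd
  refine (hcent g (hOC hg) b hb).symm.mul_right ?_
  set a := i₁ * i₂
  have e1 := hkey W.axis t ht
  have e2 := hkey (W.axis.zaxis W) t ht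
  have hat : a * t * a⁻¹ ∈ D := H.conj_mem W.axis.fix_a ht
  rw [show z * a * t * (z * a)⁻¹ = (a * t * a⁻¹)⁻¹ by
    calc z * a * t * (z * a)⁻¹ = (z * a) * t * (a⁻¹ * z⁻¹) := by group
      _ = (a * z) * t * (z⁻¹ * a⁻¹) := by
          rw [(W.z_comm _ W.axis.mem_a).eq, (W.z_comm _ W.axis.mem_a).inv_inv.symm.eq]
      _ = a * (z * t * z⁻¹) * a⁻¹ := by group
      _ = (a * t * a⁻¹)⁻¹ := by rw [hzt]; group] at e2
  have hcB := (hDS ht).2 g hg
  have h3 : g * (a * t * a⁻¹)⁻¹ * g⁻¹ * ((a * t * a⁻¹)⁻¹)⁻¹ = (g * t * g⁻¹ * t⁻¹)⁻¹ := by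
    set u := a * t * a⁻¹ with hu
    calc g * u⁻¹ * g⁻¹ * u⁻¹⁻¹ = u⁻¹ * (g * u * g⁻¹ * u⁻¹)⁻¹ * u := by group
      _ = (g * t * g⁻¹ * t⁻¹)⁻¹ := by
          rw [e1, mul_assoc, (H.cent hat _ (inv_mem hcB)).eq, inv_mul_cancel_left]
  rw [h3] at e2
  exact commutatorElement_eq_one_iff_mul_comm.1
    (H71.eq_self_of_inv_eq (p := p) X.odd e2 (W.elem.2 _ hcB))

/-- All elements of order `p` of `O` lie in `D`. -/
theorem Hyp.omega (X : Ctx G p n) (W : World p n z B₀ K i₁ j₁ i₂ j₂) (H : Hyp p B₀ D) {g : G}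
    (hg : g ∈ Cfsg.pCoreOf p (centralizer (B₀ : Set G))) (hgp : g ^ p = 1) : g ∈ D := by
  haveI : Fact p.Prime := ⟨X.prime⟩
  set C := centralizer (B₀ : Set G)
  set O := Cfsg.pCoreOf p C
  have hO : IsPGroup p O := H77.isPGroup_pCoreOf C
  have hOC : O ≤ C := H77.pCoreOf_le C
  have hOn : C ≤ normalizer (O : Set G) := H77.le_normalizer_pCoreOf C
  have hcent : ∀ x ∈ C, ∀ b ∈ B₀, Commute b x := fun x hx b hb => (mem_cent_iff.1 hx b hb).symm
  let F₁ : Subgroup G :=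
    { carrier := {x | x ∈ O ∧ x ^ p = 1 ∧ ∀ h ∈ O, h * x * h⁻¹ * x⁻¹ ∈ D}
      one_mem' := ⟨one_mem O, one_pow p, fun h _ => by simp⟩
      mul_mem' := fun {x y} hx hy => by
        refine ⟨mul_mem hx.1 hy.1, ?_, fun h hh => ?_⟩
        · have hc : y * x * y⁻¹ * x⁻¹ ∈ D := hx.2.2 y hy.1
          obtain ⟨k, hk⟩ := X.prime.dvd_choose_self (k := 2) (by norm_num)
            (lt_of_le_of_ne X.prime.two_le (Ne.symm X.odd))
          rw [H6.mul_pow_of_commute_commutator (H.central X W hx.1 hc).symm (H.central X W hy.1 hc).symm,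
            hx.2.1, hy.2.1, hk, pow_mul, commutatorElement_def, H.exp _ hc, one_pow, one_mul, one_mul]
        · have h2 := H.central X W hx.1 (hy.2.2 h hh)
          rw [show h * (x * y) * h⁻¹ * (x * y)⁻¹ =
            (h * x * h⁻¹ * x⁻¹) * (x * (h * y * h⁻¹ * y⁻¹) * x⁻¹) by group,
            H77.conj_eq_self_iff.2 h2.eq]
          exact mul_mem (hx.2.2 h hh) (hy.2.2 h hh)
      inv_mem' := fun {x} hx => by
        refine ⟨inv_mem hx.1, by rw [inv_pow, hx.2.1, inv_one], fun h hh => ?_⟩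
        have h1 := inv_mem (hx.2.2 h hh)
        have h2 := H.central X W hx.1 h1
        rw [show h * x⁻¹ * h⁻¹ * x⁻¹⁻¹ = x⁻¹ * (h * x * h⁻¹ * x⁻¹)⁻¹ * x by group, mul_assoc, ← h2.eq,
          inv_mul_cancel_left]
        exact h1 }
  have hDF : D ≤ F₁ := fun d hd => ⟨H.le hd, H.exp d hd, fun h hh => by
    rw [H77.conj_eq_self_iff.2 (H.central X W hh hd).eq, mul_inv_cancel]; exact one_mem D⟩
  have H₁ : Hyp p B₀ F₁ :=
    ⟨fun x hx => hx.1, fun x hx => hx.2.1, H.base.trans hDF, le_normalizer_iff.2 fun c hc x hx =>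
      ⟨(mem_normalizer_iff.1 (hOn hc) x).1 hx.1, by rw [conj_pow, hx.2.1, mul_one, mul_inv_cancel],
        fun h hh => by
          have hh' : c⁻¹ * h * c⁻¹⁻¹ ∈ O := (mem_normalizer_iff.1 (hOn (inv_mem hc)) h).1 hh
          rw [show h * (c * x * c⁻¹) * h⁻¹ * (c * x * c⁻¹)⁻¹ =
            c * (c⁻¹ * h * c⁻¹⁻¹ * x * (c⁻¹ * h * c⁻¹⁻¹)⁻¹ * x⁻¹) * c⁻¹ by group]
          exact H.conj_mem (hcent c hc) (hx.2.2 _ hh')⟩,
      fun k hk hk' hfix => H.det k hk hk' fun d hd => hfix d (hDF hd)⟩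
  have hfix : ∀ {a a' i : G}, Axis z B₀ K a a' i → ∀ x ∈ F₁, a * x * a⁻¹ = x → x ∈ D := by
    intro a a' i A x hx hax
    obtain ⟨t, ht, ht1, hzt, hat, ha't⟩ := H.exists_fixed X W A
    obtain ⟨F, -⟩ := H.frame_of_fixed X W A ht ht1 hzt hat ha't
    have hle := H.frame_le ht A.fix_i
    have heq : closure (insert (i * t * i⁻¹) (insert t (B₀ : Set G))) = F₁ ⊓ centralizer {a} :=
      eq_of_le_of_card_ge (le_inf (hle.trans hDF) fun w hw => mem_centralizer_singleton_iff.2 (F.comm w hw).eq)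
        (F.card ▸ H₁.card_fixed X W A)
    exact hle (heq.symm ▸ ⟨hx, mem_centralizer_singleton_iff.2 (H77.conj_eq_self_iff.1 hax).symm⟩)
  have hFD : F₁ ≤ D := H₁.le_of_gen X W W.axis.fix_a W.axis.sq (W.z_comm _ W.axis.mem_a) H.base
    (fun x hx _ hax => hfix W.axis x hx hax) fun x hx hzx hax => hfix (W.axis.zaxis W) x hx (by
      rw [show z * (i₁ * i₂) * x * (z * (i₁ * i₂))⁻¹ = z * (i₁ * i₂ * x * (i₁ * i₂)⁻¹) * z⁻¹ by group,
        hax, show z * x⁻¹ * z⁻¹ = (z * x * z⁻¹)⁻¹ by group, hzx, inv_inv])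
  -- `D` is a maximal normal elementary abelian subgroup of `O`
  set E := D.subgroupOf O
  haveI : E.Normal := normal_subgroupOf_of_le_normalizer (hOC.trans H.norm)
  have hE : Cfsg.IsElementaryAbelian p E :=
    ⟨⟨⟨fun a b => Subtype.ext (Subtype.ext (H.abelian X W (mem_subgroupOf.1 a.2) (mem_subgroupOf.1 b.2)))⟩⟩,
      fun a ha => Subtype.ext (by simpa using H.exp _ (mem_subgroupOf.1 ha))⟩
  refine mem_subgroupOf.1 (H83.mem_of_maximal_normal_elemAb (E := E) X.odd hO hE ?_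
    (x := ⟨g, hg⟩) (Subtype.ext (by simpa using hgp))
    fun e he => Subtype.ext (H.central X W hg (mem_subgroupOf.1 he)).eq)
  intro A hAn hA hEA
  by_contra hne
  haveI := hAn
  set N := A.map (QuotientGroup.mk' E)
  haveI : N.Normal := hAn.map _ (QuotientGroup.mk'_surjective _)
  have hNne : N ≠ ⊥ := by
    rw [Ne, Subgroup.map_eq_bot_iff, QuotientGroup.ker_mk']
    exact fun h => hne (le_antisymm h hEA)
  obtain ⟨q, ⟨hqN, hqc⟩, hq1⟩ :=
    exists_ne_one (H80.pgroup_normal_inf_center_ne_bot (hO.to_quotient _) N hNne)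
  obtain ⟨⟨s, hsO⟩, hs, rfl⟩ := hqN
  refine hq1 ((QuotientGroup.eq_one_iff _).2 (mem_subgroupOf.2 (hFD ⟨hsO, ?_, fun h hh => ?_⟩)))
  · simpa using congrArg Subtype.val (hA.2 _ hs)
  · have h1 := mem_center_iff.1 hqc (QuotientGroup.mk' _ ⟨h, hh⟩)
    rw [← commutatorElement_eq_one_iff_mul_comm, ← map_commutatorElement] at h1
    simpa [E, mem_subgroupOf, commutatorElement_def] using (QuotientGroup.eq_one_iff _).1 h1

/-- The part inverted by an axis has order at most `p ^ 4`. -/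
theorem Hyp.card_inverted (X : Ctx G p n) (W : World p n z B₀ K i₁ j₁ i₂ j₂) (H : Hyp p B₀ D)
    {S : Subgroup G} (hS : ∀ x ∈ S, x ∈ D ∧ z * x * z⁻¹ = x⁻¹) : Nat.card S ≤ p ^ 4 := by
  haveI : Fact p.Prime := ⟨X.prime⟩
  have A := W.axis
  set a := i₁ * i₂
  set U := D ⊓ centralizer {a}
  set V := D ⊓ centralizer {z * a}
  have hcomm : ∀ x ∈ U, ∀ y ∈ V, x * y = y * x := fun x hx y hy => (H.abelian X W hx.1 hy.1).eq
  have hDUV : D ≤ U ⊔ V := by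
    refine H.le_of_gen X W A.fix_a A.sq (W.z_comm _ A.mem_a) (fun b hb => mem_sup_left
      ⟨H.base hb, mem_centralizer_singleton_iff.2 (A.fix_a b hb).eq⟩) ?_ ?_
    · exact fun t ht _ hat => mem_sup_left
        ⟨ht, mem_centralizer_singleton_iff.2 (H77.conj_eq_self_iff.1 hat).symm⟩
    · refine fun t ht hzt hat => mem_sup_right
        ⟨ht, mem_centralizer_singleton_iff.2 (H77.conj_eq_self_iff.1 ?_).symm⟩
      rw [show z * a * t * (z * a)⁻¹ = z * (a * t * a⁻¹) * z⁻¹ by group, hat,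
        show z * t⁻¹ * z⁻¹ = (z * t * z⁻¹)⁻¹ by group, hzt, inv_inv]
  have hBUV : B₀ ≤ U ⊓ V := le_inf
    (fun b hb => ⟨H.base hb, mem_centralizer_singleton_iff.2 (A.fix_a b hb).eq⟩)
    (fun b hb => ⟨H.base hb, mem_centralizer_singleton_iff.2 ((A.zaxis W).fix_a b hb).eq⟩)
  have hUV := H77.card_sup_mul_card_inf hcomm
  have hSB : S ⊓ B₀ = ⊥ := by
    rw [eq_bot_iff]
    rintro x ⟨hxS, hxB⟩
    have h1 := (hS x hxS).2
    rw [H77.conj_eq_self_iff.2 (W.z_fix x hxB).eq.symm] at h1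
    exact mem_bot.2 (H71.eq_self_of_inv_eq (p := p) X.odd h1.symm (W.elem.2 x hxB))
  have hSD := H77.card_sup_mul_card_inf (A := S) (B := B₀)
    fun x hx y hy => ((H.cent (hS x hx).1 y hy).eq).symm
  rw [hSB, card_bot, mul_one] at hSD
  have h1 : Nat.card S * Nat.card B₀ ≤ Nat.card (U ⊔ V : Subgroup G) :=
    hSD ▸ card_le_of_le ((sup_le (fun x hx => (hS x hx).1) H.base).trans hDUV)
  have h2 : Nat.card S * Nat.card B₀ * Nat.card B₀ ≤ p ^ n * p ^ n :=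
    (Nat.mul_le_mul h1 (card_le_of_le hBUV)).trans (hUV.le.trans
      (Nat.mul_le_mul (H.card_fixed X W A) (H.card_fixed X W (A.zaxis W))))
  have h3 : p ^ n * p ^ n ≤ p ^ 4 * (Nat.card B₀ * Nat.card B₀) :=
    (Nat.mul_le_mul W.card W.card).trans_eq (by ring)
  rw [mul_assoc] at h2
  exact Nat.le_of_mul_le_mul_right (h2.trans h3) (Nat.mul_pos Nat.card_pos Nat.card_pos)

end hyp2

end H70.KM
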