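import Cfsg.Agent.H70.NoTripleCore
import Cfsg.Agent.H6.OmegaOdd

/-!
The configuration of `NoTripleCore` with an arbitrary noncyclic normal `r`-subgroup of `K`.
-/

set_option autoImplicit false
set_option linter.unusedSectionVars false
set_option linter.style.haveILetI false

namespace H70.NT

open Subgroup

variable {G : Type*} [Group G] [Finite G]

/-- The elements of exponent `q` in the centre of `P`. -/
def omZ (q : ℕ) (P : Subgroup G) : Subgroup G where
  carrier := {g | g ∈ P ∧ g ^ q = 1 ∧ ∀ y ∈ P, Commute g y}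
  one_mem' := ⟨one_mem _, one_pow _, fun y _ => Commute.one_left y⟩
  mul_mem' := fun ha hb => ⟨mul_mem ha.1 hb.1, by
      rw [(ha.2.2 _ hb.1).mul_pow, ha.2.1, hb.2.1, one_mul],
    fun y hy => (ha.2.2 y hy).mul_left (hb.2.2 y hy)⟩
  inv_mem' := fun ha => ⟨inv_mem ha.1, by rw [inv_pow, ha.2.1, inv_one],
    fun y hy => (ha.2.2 y hy).inv_left⟩

theorem mem_omZ {q : ℕ} {P : Subgroup G} {g : G} :
    g ∈ omZ q P ↔ g ∈ P ∧ g ^ q = 1 ∧ ∀ y ∈ P, Commute g y := Iff.rfl

theorem omZ_le {q : ℕ} (P : Subgroup G) : omZ q P ≤ P := fun _ h => h.1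

theorem omZ_el {q : ℕ} (P : Subgroup G) : Cfsg.IsElementaryAbelian q (omZ q P) :=
  ⟨⟨⟨fun a b => Subtype.ext (a.2.2.2 b b.2.1)⟩⟩, fun _ ha => ha.2.1⟩

theorem normalizer_le_omZ {q : ℕ} (P : Subgroup G) :
    normalizer (P : Set G) ≤ normalizer (omZ q P : Set G) := by
  have key : ∀ g ∈ normalizer (P : Set G), ∀ u ∈ omZ q P, g * u * g⁻¹ ∈ omZ q P := by
    intro g hg u hu
    refine ⟨(mem_normalizer_iff.1 hg u).1 hu.1, by rw [conj_pow, hu.2.1, mul_one, mul_inv_cancel],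
      fun y hy => ?_⟩
    have hy' := (mem_normalizer_iff.1 (inv_mem hg) y).1 hy
    rw [inv_inv] at hy'
    show g * u * g⁻¹ * y = y * (g * u * g⁻¹)
    calc g * u * g⁻¹ * y = g * (u * (g⁻¹ * y * g)) * g⁻¹ := by group
      _ = g * ((g⁻¹ * y * g) * u) * g⁻¹ := by rw [(hu.2.2 _ hy').eq]
      _ = y * (g * u * g⁻¹) := by group
  intro g hg
  rw [mem_normalizer_iff]
  intro u
  refine ⟨key g hg u, fun h => ?_⟩
  have h2 := key g⁻¹ (inv_mem hg) _ h
  rwa [show g⁻¹ * (g * u * g⁻¹) * g⁻¹⁻¹ = u by group] at h2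

theorem omZ_ne_bot {q : ℕ} [Fact q.Prime] {P : Subgroup G} (hP : IsPGroup q P) (hP1 : P ≠ ⊥) :
    omZ q P ≠ ⊥ := by
  haveI : Nontrivial P := (nontrivial_iff_ne_bot P).2 hP1
  haveI := hP.center_nontrivial
  have hdvd : q ∣ Nat.card (center P) := (hP.to_subgroup (center P)).exists_card_eq.elim
    (fun n hn => hn ▸ dvd_pow_self q (fun h0 => by
      rw [h0, pow_zero] at hn
      exact absurd hn (Finite.one_lt_card).ne'))
  obtain ⟨z, hz⟩ := exists_prime_orderOf_dvd_card' q hdvd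
  intro h
  have hz' : orderOf (((z : P) : G)) = q := by rw [Subgroup.orderOf_coe, Subgroup.orderOf_coe, hz]
  have hmem : ((z : P) : G) ∈ omZ q P :=
    ⟨(z : P).2, by rw [← hz', pow_orderOf_eq_one], fun y hy =>
      (congrArg Subtype.val (mem_center_iff.1 z.2 ⟨y, hy⟩)).symm⟩
  rw [h, mem_bot] at hmem
  rw [hmem, orderOf_one] at hz'
  exact (Fact.out : q.Prime).ne_one hz'.symm

theorem exists_zpowers_of_not_wide {q : ℕ} [Fact q.Prime] {W : Subgroup G}
    (hW : Cfsg.IsElementaryAbelian q W) (hne : W ≠ ⊥) (h : ¬ Wide q W) :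
    ∃ c : G, orderOf c = q ∧ W = zpowers c := by
  obtain ⟨c, hc, hc1⟩ := W.bot_or_exists_ne_one.resolve_left hne
  refine ⟨c, orderOf_of_mem hW hc hc1, le_antisymm (fun b hb => ?_) (zpowers_le.2 hc)⟩
  by_contra hbc
  exact h ⟨hW, c, hc, b, hb, hc1, hbc⟩

/-- The elements of exponent `q` acting trivially modulo `Ω₁(Z(P₀))`. -/
theorem exists_classTwo {q : ℕ} [Fact q.Prime] (hq2 : q ≠ 2) {P0 : Subgroup G}
    (hP : IsPGroup q P0) (hnc : ¬ IsCyclic P0) (hW : ¬ Wide q (omZ q P0)) :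
    ∃ P : Subgroup G, omZ q P0 ≤ P ∧ P ≤ P0 ∧ ¬ P ≤ omZ q P0 ∧
      normalizer (P0 : Set G) ≤ normalizer (P : Set G) ∧ (∀ g ∈ P, g ^ q = 1) ∧
      (∀ g ∈ P, ∀ w ∈ omZ q P0, Commute g w) ∧
      ∀ g ∈ P, ∀ y ∈ P0, g * y * g⁻¹ * y⁻¹ ∈ omZ q P0 := by
  classical
  set W := omZ q P0 with hWdef
  let P : Subgroup G :=
    { carrier := {g | g ∈ P0 ∧ g ^ q = 1 ∧ ∀ y ∈ P0, g * y * g⁻¹ * y⁻¹ ∈ W}
      one_mem' := ⟨one_mem _, one_pow _, fun y _ => by simp⟩
      mul_mem' := by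
        rintro g h ⟨hg, hgq, hgc⟩ ⟨hh, hhq, hhc⟩
        refine ⟨mul_mem hg hh, ?_, fun y hy => ?_⟩
        · set w := h * g * h⁻¹ * g⁻¹ with hw
          have hwW : w ∈ W := hhc g hg
          have hwc : ∀ x ∈ P0, Commute w x := hwW.2.2
          have hh' : ∀ n : ℕ, h ^ n * g = w ^ n * g * h ^ n := by
            intro n
            induction n with
            | zero => simp
            | succ n ih =>
              calc h ^ (n + 1) * g = h * (h ^ n * g) := by rw [pow_succ']; group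
                _ = h * w ^ n * g * h ^ n := by rw [ih]; group
                _ = w ^ n * h * g * h ^ n := by rw [((hwc h hh).pow_left n).eq]
                _ = w ^ n * (w * g * h) * h ^ n := by rw [hw]; group
                _ = w ^ (n + 1) * g * h ^ (n + 1) := by rw [pow_succ w, pow_succ' h]; group
          have hpow : ∀ n : ℕ, (g * h) ^ n = g ^ n * h ^ n * w ^ (Nat.choose n 2) := by
            intro n
            induction n with
            | zero => simp
            | succ n ih =>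
              have hc : Commute (w ^ Nat.choose n 2) (g * h) := ((hwc _ (mul_mem hg hh)).pow_left _)
              have hc2 : ∀ x ∈ P0, Commute (w ^ n) x := fun x hx => (hwc x hx).pow_left n
              calc (g * h) ^ (n + 1) = g ^ n * h ^ n * (w ^ Nat.choose n 2 * (g * h)) := by
                    rw [pow_succ, ih]; group
                _ = g ^ n * (h ^ n * g) * h * w ^ Nat.choose n 2 := by rw [hc.eq]; group
                _ = g ^ n * (w ^ n * (g * h ^ n * h)) * w ^ Nat.choose n 2 := by rw [hh' n]; group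
                _ = g ^ n * ((g * h ^ n * h) * w ^ n) * w ^ Nat.choose n 2 := by
                    rw [(hc2 _ (mul_mem (mul_mem hg (pow_mem hh n)) hh)).eq]
                _ = g ^ (n + 1) * h ^ (n + 1) * (w ^ n * w ^ Nat.choose n 2) := by
                    rw [pow_succ g, pow_succ h]; group
                _ = g ^ (n + 1) * h ^ (n + 1) * w ^ Nat.choose (n + 1) 2 := by
                    rw [← pow_add, Nat.choose_succ_succ', Nat.choose_one_right]
          obtain ⟨k, hk⟩ := (Fact.out : q.Prime).dvd_choose_self (k := 2) (by omega)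
            (by have := (Fact.out : q.Prime).two_le; omega)
          rw [hpow q, hgq, hhq, hk, pow_mul, hwW.2.1, one_pow, one_mul, one_mul]
        · have e : g * h * y * (g * h)⁻¹ * y⁻¹ =
              g * (h * y * h⁻¹ * y⁻¹) * g⁻¹ * (g * y * g⁻¹ * y⁻¹) := by group
          rw [e, ← ((hhc y hy).2.2 g hg).eq, mul_inv_cancel_right]
          exact mul_mem (hhc y hy) (hgc y hy)
      inv_mem' := by
        rintro g ⟨hg, hgq, hgc⟩
        refine ⟨inv_mem hg, by rw [inv_pow, hgq, inv_one], fun y hy => ?_⟩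
        set w := g * y * g⁻¹ * y⁻¹ with hw
        have e : g⁻¹ * y * g⁻¹⁻¹ * y⁻¹ = g⁻¹ * w⁻¹ * g := by rw [hw]; group
        have hcw : Commute w⁻¹ g := ((hgc y hy).2.2 g hg).inv_left
        rw [e, mul_assoc, hcw.eq, inv_mul_cancel_left]
        exact inv_mem (hgc y hy) }
  have hmemP : ∀ {g : G}, g ∈ P ↔ g ∈ P0 ∧ g ^ q = 1 ∧ ∀ y ∈ P0, g * y * g⁻¹ * y⁻¹ ∈ W :=
    fun {_} => Iff.rfl
  refine ⟨P, fun g hg => ⟨hg.1, hg.2.1, fun y hy => ?_⟩, fun g hg => hg.1, ?_, ?_,
    fun g hg => hg.2.1, fun g hg w hw => (hw.2.2 g hg.1).symm, fun g hg => hg.2.2⟩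
  · rw [(hg.2.2 y hy).eq]
    simp
  · -- `P` contains a normal elementary abelian subgroup of order `q²`
    intro hle
    have hP0 : P0 ≠ ⊥ := by
      rintro rfl
      exact hnc inferInstance
    obtain ⟨c, hc, hWc⟩ := exists_zpowers_of_not_wide (omZ_el P0) (omZ_ne_bot hP hP0) hW
    obtain ⟨A, hAn, hA, hAc⟩ := H6.exists_normal_elementary_sq hq2 hP hnc
    haveI := hAn
    have hcard : Nat.card W = q := by rw [hWdef, hWc, Nat.card_zpowers, hc]
    -- `W` inside `A`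
    set Z := W.subgroupOf P0 with hZ
    have hZc : Z ≤ center P0 := fun z hz => mem_center_iff.2 fun y =>
      Subtype.ext (show (y : G) * (z : G) = z * y from (hz.2.2 y y.2).eq.symm)
    haveI hZn : Z.Normal := ⟨fun z hz y => by
      rw [mem_center_iff.1 (hZc hz) y, mul_inv_cancel_right]; exact hz⟩
    have hZcard : Nat.card Z = q := by
      rw [hZ, Nat.card_congr (subgroupOfEquivOfLe (omZ_le P0)).toEquiv, hcard]
    have hA1 : A ≠ ⊥ := fun h0 => by
      rw [h0, card_bot] at hAc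
      exact absurd hAc.symm (Nat.one_lt_pow two_ne_zero (Fact.out : q.Prime).one_lt).ne'
    have hZA : Z ≤ A := by
      obtain ⟨z, hz, hzc, hzo⟩ := H6.exists_mem_center_orderOf hP hA1
      have hzW : z ∈ Z := ⟨z.2, by simpa using congrArg Subtype.val (hA.2 z hz),
        fun y hy => (congrArg Subtype.val (mem_center_iff.1 hzc ⟨y, hy⟩)).symm⟩
      rw [← eq_of_le_of_card_ge (zpowers_le.2 hzW) (by rw [hZcard, Nat.card_zpowers, hzo])]
      exact zpowers_le.2 hz
    have hAP : ∀ a ∈ A, (a : G) ∈ P := by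
      intro a ha
      refine hmemP.2 ⟨a.2, by simpa using congrArg Subtype.val (hA.2 a ha), fun y hy => ?_⟩
      set π := QuotientGroup.mk' Z
      have hcardA : Nat.card (A.map π) = q := by
        have h1 := H6.card_map_mk Z hZA
        rw [hZcard, hAc, sq] at h1
        exact Nat.eq_of_mul_eq_mul_left (Fact.out : q.Prime).pos h1
      haveI : (A.map π).Normal := hAn.map π (QuotientGroup.mk'_surjective Z)
      have hcen := mem_center_iff.1 (H6.le_center_of_card_eq_prime (hP.to_quotient Z) hcardA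
        (mem_map_of_mem π ha)) (π ⟨y, hy⟩)
      have : π (a * ⟨y, hy⟩ * a⁻¹ * (⟨y, hy⟩ : P0)⁻¹) = 1 := by
        rw [map_mul, map_mul, map_mul, map_inv, map_inv, ← hcen]
        group
      have h3 : a * ⟨y, hy⟩ * a⁻¹ * (⟨y, hy⟩ : P0)⁻¹ ∈ Z := (QuotientGroup.eq_one_iff _).1 this
      exact h3
    have hAW : A ≤ Z := fun a ha => hle (hAP a ha)
    have h2 := card_le_of_le hAW
    rw [hAc, hZcard, sq] at h2
    have := (Fact.out : q.Prime).two_le
    nlinarith
  · have key : ∀ g ∈ normalizer (P0 : Set G), ∀ u ∈ P, g * u * g⁻¹ ∈ P := by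
      intro g hg u hu
      refine hmemP.2 ⟨(mem_normalizer_iff.1 hg u).1 hu.1,
        by rw [conj_pow, hu.2.1, mul_one, mul_inv_cancel], fun y hy => ?_⟩
      have hy' := (mem_normalizer_iff.1 (inv_mem hg) y).1 hy
      rw [inv_inv] at hy'
      have h2 := (mem_normalizer_iff.1 (normalizer_le_omZ P0 hg) _).1 (hu.2.2 _ hy')
      convert h2 using 1
      group
    intro g hg
    rw [mem_normalizer_iff]
    intro u
    refine ⟨key g hg u, fun h => ?_⟩
    have h2 := key g⁻¹ (inv_mem hg) _ h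
    rwa [show g⁻¹ * (g * u * g⁻¹) * g⁻¹⁻¹ = u by group] at h2

theorem fix_conj {U : Subgroup G} {x y : G} (hy : y ∈ normalizer (U : Set G)) (h : Fix x U) :
    Fix (y * x * y⁻¹) U := by
  obtain ⟨u, hu, hu1, hxu⟩ := h
  refine ⟨y * u * y⁻¹, (mem_normalizer_iff.1 hy u).1 hu, fun h1 => hu1 (conj_eq_one_iff.1 h1), ?_⟩
  show y * x * y⁻¹ * (y * u * y⁻¹) = y * u * y⁻¹ * (y * x * y⁻¹)
  calc y * x * y⁻¹ * (y * u * y⁻¹) = y * (x * u) * y⁻¹ := by group
    _ = y * (u * x) * y⁻¹ := by rw [hxu.eq]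
    _ = y * u * y⁻¹ * (y * x * y⁻¹) := by group

theorem fix_pow {U : Subgroup G} {x : G} (n : ℕ) (h : Fix x U) : Fix (x ^ n) U := by
  obtain ⟨u, hu, hu1, hxu⟩ := h
  exact ⟨u, hu, hu1, hxu.pow_left n⟩

/-- If only powers of `c` in a wide group fix points of `U`, then `c` centralizes `U`. -/
theorem cent_of_fix_only {r p : ℕ} [Fact r.Prime] [Fact p.Prime] (hrp : r ≠ p) {M U : Subgroup G}
    (hM : Wide r M) (hU : Cfsg.IsElementaryAbelian p U) (hMU : M ≤ normalizer (U : Set G)) {c : G}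
    (hc : c ∈ M) (h : ∀ m ∈ M, Fix m U → m ∈ zpowers c) : Cent c U := by
  have hcU := hMU hc
  have hmem : ∀ u ∈ U, c * u * c⁻¹ * u⁻¹ ∈ U := fun u hu =>
    mul_mem ((mem_normalizer_iff.1 hcU u).1 hu) (inv_mem hu)
  let ψ : U →* G :=
    { toFun := fun u => c * (u : G) * c⁻¹ * (u : G)⁻¹
      map_one' := by simp
      map_mul' := fun u v => by
        have h1 := commute_of_mem hU (hmem _ v.2) (inv_mem u.2)
        simp only [Subgroup.coe_mul, mul_inv_rev]
        calc c * ((u : G) * v) * c⁻¹ * ((v : G)⁻¹ * (u : G)⁻¹)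
            = c * (u : G) * c⁻¹ * ((c * (v : G) * c⁻¹ * (v : G)⁻¹) * (u : G)⁻¹) := by group
          _ = c * (u : G) * c⁻¹ * ((u : G)⁻¹ * (c * (v : G) * c⁻¹ * (v : G)⁻¹)) := by rw [h1.eq]
          _ = _ := by group }
  have hle : ψ.range ≤ U := by
    rintro _ ⟨u, rfl⟩
    exact hmem u u.2
  by_cases hbot : ψ.range = ⊥
  · intro u hu
    have h1 : ψ ⟨u, hu⟩ ∈ ψ.range := ⟨_, rfl⟩
    rw [hbot, mem_bot] at h1
    exact mul_inv_eq_iff_eq_mul.1 (mul_inv_eq_one.1 h1)
  exfalso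
  have hn : M ≤ normalizer (ψ.range : Set G) := by
    have key : ∀ m ∈ M, ∀ y ∈ ψ.range, m * y * m⁻¹ ∈ ψ.range := by
      rintro m hm _ ⟨u, rfl⟩
      refine ⟨⟨m * u * m⁻¹, (mem_normalizer_iff.1 (hMU hm) _).1 u.2⟩, ?_⟩
      have h1 := commute_of_mem hM.1 hc hm
      show c * (m * (u : G) * m⁻¹) * c⁻¹ * (m * (u : G) * m⁻¹)⁻¹
        = m * (c * (u : G) * c⁻¹ * (u : G)⁻¹) * m⁻¹
      calc c * (m * (u : G) * m⁻¹) * c⁻¹ * (m * (u : G) * m⁻¹)⁻¹
          = (c * m) * (u : G) * (c * m)⁻¹ * (m * (u : G)⁻¹ * m⁻¹) := by group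
        _ = (m * c) * (u : G) * (m * c)⁻¹ * (m * (u : G)⁻¹ * m⁻¹) := by rw [h1.eq]
        _ = _ := by group
    intro m hm
    rw [mem_normalizer_iff]
    intro y
    refine ⟨key m hm y, fun hy => ?_⟩
    have h2 := key m⁻¹ (inv_mem hm) _ hy
    rwa [show m⁻¹ * (m * y * m⁻¹) * m⁻¹⁻¹ = y by group] at h2
  obtain ⟨m, hm, hm1, v, hv, hv1, hmv⟩ :=
    exists_fix hrp hM ((isPGroup_of_elementary hU).to_le hle) hbot hn
  obtain ⟨k, hk⟩ := mem_zpowers_iff.1 (h m hm ⟨v, hle hv, hv1, hmv⟩)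
  obtain ⟨u, rfl⟩ := hv
  apply hv1
  -- `c` fixes the displacement
  have hgen : c ∈ zpowers m := by
    have hc1 : c ≠ 1 := fun h0 => hm1 (by rw [← hk, h0, one_zpow])
    rw [eq_of_le_of_card_ge (show zpowers m ≤ zpowers c from zpowers_le.2 ⟨k, hk⟩) (by
      rw [Nat.card_zpowers, Nat.card_zpowers, orderOf_of_mem hM.1 hm hm1, orderOf_of_mem hM.1 hc hc1])]
    exact mem_zpowers c
  obtain ⟨l, hl⟩ := mem_zpowers_iff.1 hgen
  have hcv : Commute c (ψ u) := hl ▸ hmv.zpow_left l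
  have hpow : ∀ i : ℕ, c ^ i * (u : G) * (c ^ i)⁻¹ = ψ u ^ i * u := by
    intro i
    induction i with
    | zero => simp
    | succ i ih =>
      calc c ^ (i + 1) * (u : G) * (c ^ (i + 1))⁻¹ = c * (c ^ i * (u : G) * (c ^ i)⁻¹) * c⁻¹ := by
            rw [pow_succ']; group
        _ = (c * ψ u ^ i * c⁻¹) * (c * (u : G) * c⁻¹) := by rw [ih]; group
        _ = ψ u ^ i * (ψ u * u) := by
            rw [(hcv.pow_right i).eq, mul_inv_cancel_right]
            congr 1
            show _ = c * (u : G) * c⁻¹ * (u : G)⁻¹ * u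
            group
        _ = ψ u ^ (i + 1) * u := by rw [pow_succ]; group
  have h2 := hpow r
  rw [hM.1.2 c hc, one_mul, inv_one, mul_one] at h2
  exact orderOf_eq_one_iff.1 (Nat.eq_one_of_dvd_coprimes
    ((Nat.coprime_primes Fact.out Fact.out).2 hrp)
    (orderOf_dvd_of_pow_eq_one (mul_eq_right.1 h2.symm))
    (orderOf_dvd_of_pow_eq_one (hU.2 _ (hle ⟨u, rfl⟩))))

variable {σ : Finset ℕ} {p q r s : ℕ} [Fact p.Prime] [Fact q.Prime] [Fact r.Prime] [Fact s.Prime]
  {V W K E : Subgroup G}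

/-- In case B an element of order `r` or `s` without fixed points on `V` centralizes `W`. -/
theorem Config.cent_of_not_fix (h : Config σ p q r s V W K E)
    (hB : ∀ w ∈ W, Cent w V → w = 1) {x : G} (hx : orderOf x = r ∨ orderOf x = s) (hxK : x ∈ K)
    (hfix : ¬ Fix x V) : Cent x W := by
  intro w hw
  have hdd : x * w * x⁻¹ * w⁻¹ ∈ W :=
    mul_mem ((mem_normalizer_iff.1 (h.KW hxK) w).1 hw) (inv_mem hw)
  have key : ∀ (t : ℕ) [Fact t.Prime], q ≠ t → orderOf x = t → Cent (x * w * x⁻¹ * w⁻¹) V :=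
    fun t _ ht htx => commutator_cent ht (Ne.symm h.hpq) h.Wel.1 (isPGroup_of_elementary h.Wel)
      h.Vel.1 (isPGroup_of_elementary h.Vel) htx (h.KW hxK) (h.KV hxK) h.WV hfix w hw
  have h1 : x * w * x⁻¹ * w⁻¹ = 1 := by
    rcases hx with hx | hx
    · exact hB _ hdd (key r h.hqr hx)
    · exact hB _ hdd (key s h.hqs hx)
  exact mul_inv_eq_iff_eq_mul.1 (mul_inv_eq_one.1 h1)

theorem commute_of_conj_mem_two {c k : G} (hc : orderOf c = 2) (h : k * c * k⁻¹ ∈ zpowers c) :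
    Commute k c := by
  obtain ⟨n, hn⟩ := mem_zpowers_iff.1 h
  have h2 : c * c = 1 := by rw [← sq, ← hc, pow_orderOf_eq_one]
  have hc1 : c ≠ 1 := fun h0 => by rw [h0, orderOf_one] at hc; omega
  rcases Int.even_or_odd n with ⟨j, hj⟩ | ⟨j, hj⟩
  · rw [hj, ← two_mul, zpow_mul, zpow_two, h2, one_zpow] at hn
    exact absurd (conj_eq_one_iff.1 hn.symm) hc1
  · rw [hj, zpow_add, zpow_mul, zpow_two, h2, one_zpow, one_mul, zpow_one] at hn
    exact mul_inv_eq_iff_eq_mul.1 hn.symm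

/-- Case A with a central involution. -/
theorem Config.caseA_two (h : Config σ p q r s V W K E) (hA : ∀ w ∈ W, Cent w V) (hr2 : r = 2)
    (hcard : ∀ t : ℕ, t.Prime → t ∣ Nat.card K → t = r ∨ t = s) {c : G} (hc : orderOf c = r)
    (hcK : c ∈ K) (hcen : ∀ k ∈ K, Commute k c)
    (hpair : ∃ a ∈ K, orderOf a = r ∧ a ∉ zpowers c) : False := by
  obtain ⟨hcV, hcW⟩ := h.not_fix_E hc (fun e he => (hcen e (h.EK he)).symm)
  obtain ⟨a, haK, hao, hac⟩ := hpair
  set M := closure ({c, a} : Set G) with hMdef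
  have haM : a ∈ M := subset_closure (Or.inr rfl)
  have hcM : c ∈ M := subset_closure (Or.inl rfl)
  have hM : Wide r M := wide_closure_pair hc (by rw [← hao, pow_orderOf_eq_one]) (hcen a haK).symm hac
  have hMK : M ≤ K := by
    rw [hMdef, closure_le]
    rintro x (rfl | rfl) <;> assumption
  have hel : ∀ m ∈ M, m = 1 ∨ m = c ∨ m = a ∨ m = a * c := by
    intro m hm
    have hc2 : c * c = 1 := by rw [← sq, ← hr2, ← hc, pow_orderOf_eq_one]
    have ha2 : a * a = 1 := by rw [← sq, ← hr2, ← hao, pow_orderOf_eq_one]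
    have hca : c * a = a * c := (hcen a haK).eq.symm
    have hc' : c⁻¹ = c := inv_eq_of_mul_eq_one_right hc2
    have ha' : a⁻¹ = a := inv_eq_of_mul_eq_one_right ha2
    induction hm using Subgroup.closure_induction with
    | mem x hx => rcases hx with rfl | rfl <;> simp
    | one => simp
    | mul x y _ _ hx hy =>
      have e1 : c * (a * c) = a := by rw [← mul_assoc, hca, mul_assoc, hc2, mul_one]
      have e2 : a * (a * c) = c := by rw [← mul_assoc, ha2, one_mul]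
      have e3 : a * c * c = a := by rw [mul_assoc, hc2, mul_one]
      have e4 : a * c * a = c := by rw [mul_assoc, hca, e2]
      have e5 : a * c * (a * c) = 1 := by rw [← mul_assoc, e4, hc2]
      rcases hx with rfl | rfl | rfl | rfl <;> rcases hy with rfl | rfl | rfl | rfl <;>
        simp [hc2, ha2, hca, e1, e2, e3, e4, e5]
    | inv x _ hx =>
      rcases hx with rfl | rfl | rfl | rfl <;> simp [hc', ha', hca]
  -- an element `d` fixing `V`; then `d * c` fixes only `W`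
  obtain ⟨d, hdM, hdc, hd1, hdV⟩ : ∃ d ∈ M, d ≠ c ∧ d ≠ 1 ∧ Fix d V := by
    obtain ⟨m, hm, hm1, hmV⟩ :=
      exists_fix (Ne.symm h.hpr) hM (isPGroup_of_elementary h.Vel) h.Vne (hMK.trans h.KV)
    exact ⟨m, hm, fun h0 => hcV (h0 ▸ hmV), hm1, hmV⟩
  have hdo := orderOf_of_mem hM.1 hdM hd1
  have hdW : ¬ Fix d W := fun h0 => h.not_both hA (Or.inl hdo) hdV h0
  have hd' : d * c ∈ M := mul_mem hdM hcM
  have honly : ∀ m ∈ M, m = 1 ∨ m = c ∨ m = d ∨ m = d * c := by
    have hc2 : c * c = 1 := by rw [← sq, ← hr2, ← hc, pow_orderOf_eq_one]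
    intro m hm
    rcases hel d hdM with rfl | rfl | rfl | rfl
    · exact absurd rfl hd1
    · exact absurd rfl hdc
    · exact hel m hm
    · rcases hel m hm with rfl | rfl | rfl | rfl
      · simp
      · simp
      · exact Or.inr (Or.inr (Or.inr (by rw [mul_assoc, hc2, mul_one])))
      · simp
  have hdcW : Cent (d * c) W := by
    refine cent_of_fix_only (Ne.symm h.hqr) hM h.Wel (hMK.trans h.KW) hd' fun m hm hfix => ?_
    rcases honly m hm with rfl | rfl | rfl | rfl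
    · exact one_mem _
    · exact absurd hfix hcW
    · exact absurd hfix hdW
    · exact mem_zpowers _
  have hdcne : d * c ≠ 1 := fun h0 => by
    apply hdc
    have hc2 : c * c = 1 := by rw [← sq, ← hr2, ← hc, pow_orderOf_eq_one]
    exact (eq_inv_of_mul_eq_one_left h0).trans (inv_eq_of_mul_eq_one_right hc2)
  have hdcV : ¬ Fix (d * c) V := fun h0 =>
    h.not_both hA (Or.inl (orderOf_of_mem hM.1 hd' hdcne)) h0 (hdcW.fix h.Wne)
  have hdcent : Cent d V := by
    refine cent_of_fix_only (Ne.symm h.hpr) hM h.Vel (hMK.trans h.KV) hdM fun m hm hfix => ?_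
    rcases honly m hm with rfl | rfl | rfl | rfl
    · exact one_mem _
    · exact absurd hfix hcV
    · exact mem_zpowers _
    · exact absurd hfix hdcV
  refine (h.not_fix_E hdo (fun e he => ?_)).1 hdV
  by_contra hne
  set z := e * d * e⁻¹ * d⁻¹ with hz
  have hz1 : z ≠ 1 := fun h0 => hne (mul_inv_eq_iff_eq_mul.1 (mul_inv_eq_one.1 h0)).symm
  have hzK : z ∈ K := mul_mem (mul_mem (mul_mem (h.EK he) (hMK hdM)) (inv_mem (h.EK he)))
    (inv_mem (hMK hdM))
  have hcentN : ∀ (U : Subgroup G), e ∈ normalizer (U : Set G) → ∀ x, Cent x U →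
      Cent (e * x * e⁻¹ * x⁻¹) U := by
    intro U heU x hx
    have h1 : Cent (e * x * e⁻¹) U := by
      intro u hu
      have hu' := (mem_normalizer_iff.1 (inv_mem heU) u).1 hu
      rw [inv_inv] at hu'
      show e * x * e⁻¹ * u = u * (e * x * e⁻¹)
      calc e * x * e⁻¹ * u = e * (x * (e⁻¹ * u * e)) * e⁻¹ := by group
        _ = e * ((e⁻¹ * u * e) * x) * e⁻¹ := by rw [(hx _ hu').eq]
        _ = u * (e * x * e⁻¹) := by group
    exact fun u hu => (h1 u hu).mul_left (hx u hu).inv_left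
  have hzV : Cent z V := hcentN V (h.KV (h.EK he)) d hdcent
  have hzW : Cent z W := by
    have h1 := hcentN W (h.KW (h.EK he)) _ hdcW
    have e1 : e * (d * c) * e⁻¹ * (d * c)⁻¹ = z := by
      rw [hz]
      calc e * (d * c) * e⁻¹ * (d * c)⁻¹ = e * d * (c * e⁻¹) * c⁻¹ * d⁻¹ := by group
        _ = e * d * (e⁻¹ * c) * c⁻¹ * d⁻¹ := by rw [((hcen e (h.EK he)).inv_left).eq.symm]
        _ = e * d * e⁻¹ * d⁻¹ := by group
    rwa [e1] at h1
  obtain ⟨t, ht, htd⟩ := Nat.exists_prime_and_dvd (fun h0 => hz1 (orderOf_eq_one_iff.1 h0))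
  have hto : orderOf (z ^ (orderOf z / t)) = t := orderOf_pow_orderOf_div (orderOf_pos z).ne' htd
  refine h.not_both hA (x := z ^ (orderOf z / t)) ?_
    (fix_pow _ (hzV.fix h.Vne)) (fix_pow _ (hzW.fix h.Wne))
  rw [hto]
  exact hcard t ht (htd.trans (Subgroup.orderOf_dvd_natCard _ hzK))

/-- Case A. -/
theorem Config.caseA (h : Config σ p q r s V W K E) (hA : ∀ w ∈ W, Cent w V) {R : Subgroup G}
    (hR : IsPGroup r R) (hnc : ¬ IsCyclic R) (hRK : R ≤ K) (hKR : K ≤ normalizer (R : Set G))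
    (hcard : ∀ t : ℕ, t.Prime → t ∣ Nat.card K → t = r ∨ t = s)
    (hpair : ∀ c : G, orderOf c = r → ∃ a ∈ K, orderOf a = r ∧ a ∉ zpowers c) : False := by
  by_cases hwide : Wide r (omZ r R)
  · exact h.caseA_abelian hA hwide ((omZ_le R).trans hRK)
      ((h.EK.trans hKR).trans (normalizer_le_omZ R))
  have hR1 : R ≠ ⊥ := by
    rintro rfl
    exact hnc inferInstance
  obtain ⟨c, hc, hZ⟩ := exists_zpowers_of_not_wide (omZ_el R) (omZ_ne_bot hR hR1) hwide
  have hKc : K ≤ normalizer ((zpowers c : Subgroup G) : Set G) :=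
    hZ ▸ (hKR.trans (normalizer_le_omZ R))
  have hcZ : c ∈ omZ r R := hZ ▸ mem_zpowers c
  have hcK : c ∈ K := hRK hcZ.1
  by_cases hr2 : r = 2
  · exact h.caseA_two hA hr2 hcard hc hcK
      (fun k hk => commute_of_conj_mem_two (hr2 ▸ hc) ((mem_normalizer_iff.1 (hKc hk) c).1 (mem_zpowers c)))
      (hpair c hc)
  obtain ⟨P, -, hPR, hPW, -, hPq, hPcen, hPcomm⟩ := exists_classTwo hr2 hR hnc hwide
  obtain ⟨g, hg, hgW⟩ := SetLike.not_le_iff_exists.1 hPW
  have hgR := hPR hg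
  obtain ⟨y, hy, hgy⟩ : ∃ y ∈ R, ¬ Commute g y := by
    by_contra hcon
    push Not at hcon
    exact hgW ⟨hgR, hPq g hg, hcon⟩
  have hgc : Commute g c := hPcen g hg c hcZ
  set M := closure ({c, g} : Set G) with hMdef
  have hcM : c ∈ M := subset_closure (Or.inl rfl)
  have hM : Wide r M := wide_closure_pair hc (hPq g hg) hgc.symm (fun h0 => hgW (hZ ▸ h0))
  have hMK : M ≤ K := by
    rw [hMdef, closure_le]
    rintro x (rfl | rfl)
    · exact hcK
    · exact hRK hgR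
  -- the conjugates of `g` under `y`
  set f := y * g * y⁻¹ * g⁻¹ with hf
  have hfinv : f = (g * y * g⁻¹ * y⁻¹)⁻¹ := by rw [hf]; group
  have hfZ : f ∈ omZ r R := hfinv ▸ inv_mem (hPcomm g hg y hy)
  have hf1 : f ≠ 1 := fun h0 => hgy (mul_inv_eq_iff_eq_mul.1 (mul_inv_eq_one.1 h0) : y * g = g * y).symm
  have hfc : zpowers f = zpowers c := by
    refine eq_of_le_of_card_ge (zpowers_le.2 (hZ ▸ hfZ)) ?_
    rw [Nat.card_zpowers, Nat.card_zpowers, hc, orderOf_of_mem (omZ_el R) hfZ hf1]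
  have hconj : ∀ k : ℕ, y ^ k * g * (y ^ k)⁻¹ = f ^ k * g := by
    intro k
    induction k with
    | zero => simp
    | succ k ih =>
      calc y ^ (k + 1) * g * (y ^ (k + 1))⁻¹ = y * (y ^ k * g * (y ^ k)⁻¹) * y⁻¹ := by
            rw [pow_succ']; group
        _ = (y * f ^ k) * (g * y⁻¹) := by rw [ih]; group
        _ = (f ^ k * y) * (g * y⁻¹) := by rw [((hfZ.2.2 y hy).pow_left k).eq]
        _ = f ^ k * f * g := by rw [hf]; group
        _ = f ^ (k + 1) * g := by rw [pow_succ]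
  have hcomb : ∀ m ∈ M, ∃ a b : ℤ, m = g ^ a * c ^ b := by
    intro m hm
    induction hm using Subgroup.closure_induction with
    | mem x hx =>
      rcases hx with rfl | rfl
      · exact ⟨0, 1, by simp⟩
      · exact ⟨1, 0, by simp⟩
    | one => exact ⟨0, 0, by simp⟩
    | mul x z _ _ hx hz =>
      obtain ⟨a, b, rfl⟩ := hx
      obtain ⟨a', b', rfl⟩ := hz
      refine ⟨a + a', b + b', ?_⟩
      rw [zpow_add, zpow_add, mul_assoc, ← mul_assoc (c ^ b), ((hgc.symm.zpow_zpow b a').eq)]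
      group
    | inv x _ hx =>
      obtain ⟨a, b, rfl⟩ := hx
      refine ⟨-a, -b, ?_⟩
      rw [(hgc.zpow_zpow a b).eq, mul_inv_rev, zpow_neg, zpow_neg]
  have hgo : orderOf g = r := orderOf_eq_prime (hPq g hg) (fun h0 => hgW (h0 ▸ one_mem _))
  have key : ∀ U : Subgroup G, y ∈ normalizer (U : Set G) → ∀ m ∈ M, m ∉ zpowers c → Fix m U →
      Fix g U := by
    intro U hyU m hm hmc hfix
    obtain ⟨a, b, rfl⟩ := hcomb m hm
    have ha1 : g ^ a ≠ 1 := fun h0 => hmc (by rw [h0, one_mul]; exact zpow_mem (mem_zpowers c) b)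
    have hgen : g ∈ zpowers (g ^ a) := by
      rw [eq_of_le_of_card_ge (show zpowers (g ^ a) ≤ zpowers g from zpowers_le.2 ⟨a, rfl⟩) (by
        rw [Nat.card_zpowers, Nat.card_zpowers, hgo,
          orderOf_eq_prime (show (g ^ a) ^ r = 1 by
            rw [← zpow_natCast, ← zpow_mul, mul_comm, zpow_mul, zpow_natCast, hPq g hg, one_zpow]) ha1])]
      exact mem_zpowers g
    obtain ⟨n, hn⟩ := mem_zpowers_iff.1 hgen
    have hmn : (g ^ a * c ^ b) ^ n = g * c ^ (b * n) := by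
      rw [(hgc.zpow_zpow a b).mul_zpow, hn, zpow_mul]
    have hfix' : Fix (g * c ^ (b * n)) U := by
      obtain ⟨u, hu, hu1, hxu⟩ := hfix
      exact ⟨u, hu, hu1, hmn ▸ hxu.zpow_left n⟩
    obtain ⟨k, hk⟩ := Submonoid.mem_powers_iff _ _ |>.1
      (mem_powers_iff_mem_zpowers.2 (hfc ▸ zpow_mem (mem_zpowers c) (b * n) : c ^ (b * n) ∈ zpowers f))
    have e : g * c ^ (b * n) = y ^ k * g * (y ^ k)⁻¹ := by
      rw [hconj k, hk, (hgc.zpow_right (b * n)).eq]
    rw [e] at hfix'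
    have h2 := fix_conj (inv_mem (pow_mem hyU k)) hfix'
    rwa [show (y ^ k)⁻¹ * (y ^ k * g * (y ^ k)⁻¹) * (y ^ k)⁻¹⁻¹ = g by group] at h2
  by_cases hgV : Fix g V
  · have hgW' : ¬ Fix g W := fun h0 => h.not_both hA (Or.inl hgo) hgV h0
    obtain ⟨h', hA'⟩ := h.swap hA
    refine h'.false_of_cent_one hA' hc hcK (fun e he => hKc (h.EK he)) ?_
    refine cent_of_fix_only (Ne.symm h.hqr) hM h.Wel (hMK.trans h.KW) hcM fun m hm hfix => ?_
    by_contra hmc
    exact hgW' (key W (h.KW (hRK hy)) m hm hmc hfix)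
  · refine h.false_of_cent_one hA hc hcK (fun e he => hKc (h.EK he)) ?_
    refine cent_of_fix_only (Ne.symm h.hpr) hM h.Vel (hMK.trans h.KV) hcM fun m hm hfix => ?_
    by_contra hmc
    exact hgV (key V (h.KV (hRK hy)) m hm hmc hfix)

/-- Case B. -/
theorem Config.caseB (h : Config σ p q r s V W K E) (hB : ∀ w ∈ W, Cent w V → w = 1) {R : Subgroup G}
    (hR : IsPGroup r R) (hnc : ¬ IsCyclic R) (hRK : R ≤ K) (hKR : K ≤ normalizer (R : Set G))
    (hP : ¬ Wide q W → q ≠ 2 → ∃ P : Subgroup G, W ≤ P ∧ ¬ P ≤ W ∧ P ≤ normalizer (V : Set G) ∧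
      K ≤ normalizer (P : Set G) ∧ (∀ g ∈ P, g ^ q = 1) ∧
      (∀ g ∈ P, ∀ w ∈ W, Commute g w) ∧ ∀ g ∈ P, ∀ g' ∈ P, g * g' * g⁻¹ * g'⁻¹ ∈ W) :
    False := by
  by_cases hwide : Wide r (omZ r R)
  · exact h.caseB_abelian hB hwide ((omZ_le R).trans hRK)
      ((h.EK.trans hKR).trans (normalizer_le_omZ R)) hP
  have hR1 : R ≠ ⊥ := by
    rintro rfl
    exact hnc inferInstance
  obtain ⟨c, hc, hZ⟩ := exists_zpowers_of_not_wide (omZ_el R) (omZ_ne_bot hR hR1) hwide
  have hKc : K ≤ normalizer ((zpowers c : Subgroup G) : Set G) :=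
    hZ ▸ (hKR.trans (normalizer_le_omZ R))
  have hcZ : c ∈ omZ r R := hZ ▸ mem_zpowers c
  have hcK : c ∈ K := hRK hcZ.1
  by_cases hcE : Cent c E
  · obtain ⟨h1, h2⟩ := h.not_fix_E hc hcE
    exact h2 ((h.cent_of_not_fix hB (Or.inl hc) hcK h1).fix h.Wne)
  have hr2 : r ≠ 2 := fun hr2 => hcE fun e he =>
    (commute_of_conj_mem_two (hr2 ▸ hc)
      ((mem_normalizer_iff.1 (hKc (h.EK he)) c).1 (mem_zpowers c))).symm
  obtain ⟨P, hZP, hPR, hPW, hPn, hPq, hPcen, hPcomm⟩ := exists_classTwo hr2 hR hnc hwide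
  have hKP : K ≤ normalizer (P : Set G) := hKR.trans hPn
  have hEo : ∀ e ∈ E, e ≠ 1 → orderOf e = s := fun e => orderOf_of_mem h.Ewide.1
  -- an element of `E` fixing a coset
  obtain ⟨e, heE, he1, g, hg, hgW, heg⟩ : ∃ e ∈ E, e ≠ 1 ∧ ∃ g ∈ P, g ∉ omZ r R ∧
      e * g * e⁻¹ * g⁻¹ ∈ omZ r R := by
    obtain ⟨hel, a, ha, b, hb, ha1, hba⟩ := h.Ewide
    set N := normalizer (omZ r R : Set G) with hN
    have hPN : P ≤ N := fun x hx => centralizer_le_normalizer _
      (mem_centralizer_iff.2 fun w hw => (hPcen x hx w hw).symm)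
    have hEN : E ≤ N := (h.EK.trans hKR).trans (normalizer_le_omZ R)
    set π : N →* N ⧸ (omZ r R).subgroupOf N := QuotientGroup.mk' _ with hπ
    have hker : ∀ x : N, π x = 1 ↔ (x : G) ∈ omZ r R := fun x => by
      rw [hπ, QuotientGroup.mk'_apply, QuotientGroup.eq_one_iff, mem_subgroupOf]
    set U := (P.subgroupOf N).map π with hU
    have hUp : IsPGroup r U := ((IsPGroup.to_le hR hPR).of_equiv (subgroupOfEquivOfLe hPN).symm).map π
    have hU1 : U ≠ ⊥ := by
      obtain ⟨g, hg, hgW⟩ := SetLike.not_le_iff_exists.1 hPW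
      intro h0
      have h1 : π ⟨g, hPN hg⟩ ∈ U := ⟨_, hg, rfl⟩
      rw [h0, mem_bot, hker] at h1
      exact hgW h1
    have hnU : ∀ x (hx : x ∈ E), π ⟨x, hEN hx⟩ ∈ normalizer (U : Set (N ⧸ (omZ r R).subgroupOf N)) := by
      intro x hx
      refine Subgroup.le_normalizer_map π ⟨⟨x, hEN hx⟩, ?_, rfl⟩
      rw [SetLike.mem_coe, mem_normalizer_iff]
      intro z
      simp only [mem_subgroupOf, Subgroup.coe_mul, Subgroup.coe_inv]
      exact mem_normalizer_iff.1 (hKP (h.EK hx)) z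
    have hps : ∀ x (hx : x ∈ E), π ⟨x, hEN hx⟩ ^ s = 1 := fun x hx => by
      rw [← map_pow, show (⟨x, hEN hx⟩ : N) ^ s = 1 from
        Subtype.ext (by rw [Subgroup.coe_pow]; exact hel.2 x hx), map_one]
    obtain ⟨t, ht, v, hv, hv1, htv⟩ := H81.exists_fixed_ne_one (Ne.symm h.hrs) hUp hU1 (hps a ha)
      (hps b hb) (Commute.map (Subtype.ext (commute_of_mem hel ha hb).eq :
        Commute (⟨a, hEN ha⟩ : N) ⟨b, hEN hb⟩) π) (hnU a ha) (hnU b hb)
    obtain ⟨z, hz, rfl⟩ := hv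
    have hgood : ∀ x (hx : x ∈ E), x ≠ 1 → π ⟨x, hEN hx⟩ = t → ∃ e ∈ E, e ≠ 1 ∧ ∃ g ∈ P,
        g ∉ omZ r R ∧ e * g * e⁻¹ * g⁻¹ ∈ omZ r R := by
      intro x hx hx1 hxt
      refine ⟨x, hx, hx1, z, hz, fun h0 => hv1 ((hker z).2 h0), ?_⟩
      have h1 := (hker (⟨x, hEN hx⟩ * z * (⟨x, hEN hx⟩ : N)⁻¹ * z⁻¹)).1 (by
        rw [map_mul, map_mul, map_mul, map_inv, map_inv, hxt, htv.eq]; group)
      simpa using h1
    rcases ht with ⟨j, rfl⟩ | rfl
    · refine hgood (a * b ^ j) (mul_mem ha (pow_mem hb j)) (fun h0 => hba ?_) ?_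
      · have hbj : b ^ j = a⁻¹ := eq_inv_of_mul_eq_one_right h0
        have hj : ¬ s ∣ j := by
          intro hd
          obtain ⟨k, rfl⟩ := hd
          rw [pow_mul, hel.2 b hb, one_pow] at hbj
          exact ha1 (inv_eq_one.1 hbj.symm)
        have hcop : j.Coprime (orderOf b) := by
          rw [orderOf_of_mem hel hb (fun hb1 => hba (hb1 ▸ one_mem _))]
          exact Nat.Coprime.symm ((Nat.Prime.coprime_iff_not_dvd Fact.out).2 hj)
        obtain ⟨m, hm⟩ := exists_pow_eq_self_of_coprime hcop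
        rw [← hm, hbj]
        exact pow_mem (inv_mem (mem_zpowers a)) m
      · rw [← map_pow, ← map_mul]
        rfl
    · exact hgood b hb (fun h0 => hba (h0 ▸ one_mem _)) rfl
  have heo := hEo e heE he1
  by_cases hec : Commute e c
  · have heW : Cent e (omZ r R) := by
      rw [hZ]
      intro w hw
      obtain ⟨k, rfl⟩ := mem_zpowers_iff.1 hw
      exact hec.zpow_right k
    have heg' := commute_of_coset_fixed (Ne.symm h.hrs) (omZ_el R).2 (h.Ewide.1.2 e heE) heW heg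
    have hwd : Wide r (closure ({c, g} : Set G)) :=
      wide_closure_pair hc (hPq g hg) (hPcen g hg c hcZ).symm (fun h0 => hgW (hZ ▸ h0))
    have hle : closure ({c, g} : Set G) ≤ K := by
      rw [closure_le]
      rintro x (rfl | rfl)
      · exact hcK
      · exact hRK (hPR hg)
    have hcent : Cent e (closure ({c, g} : Set G)) := by
      intro x hx
      refine Subgroup.closure_induction (p := fun z _ => Commute e z) ?_ (Commute.one_right _)
        (fun _ _ _ _ h1 h2 => h1.mul_right h2) (fun _ _ h1 => h1.inv_right) hx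
      rintro z (rfl | rfl)
      · exact hec
      · exact heg'
    obtain ⟨h1, h2⟩ := h.not_fix_X hwd hle heo hcent
    exact h2 ((h.cent_of_not_fix hB (Or.inr heo) (h.EK heE) h1).fix h.Wne)
  -- shift `g` to a fixed point
  have hec' : ¬ Fix e (omZ r R) := by
    rintro ⟨w, hw, hw1, hew⟩
    apply hec
    obtain ⟨k, hk⟩ : ∃ k : ℤ, w ^ k = c := by
      have : zpowers w = zpowers c := eq_of_le_of_card_ge (zpowers_le.2 (hZ ▸ hw)) (by
        rw [Nat.card_zpowers, Nat.card_zpowers, hc, orderOf_of_mem (omZ_el R) hw hw1])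
      exact mem_zpowers_iff.1 (this ▸ mem_zpowers c)
    exact hk ▸ hew.zpow_right k
  obtain ⟨m, hm, hmeq⟩ := exists_displacement_preimage (omZ_el R).1
    (normalizer_le_omZ R (hKR (h.EK heE))) hec' (inv_mem heg)
  set g' := m * g with hg'
  have hg'P : g' ∈ P := mul_mem (hZP hm) hg
  have heg'' : Commute e g' := by
    refine mul_inv_eq_iff_eq_mul.1 (mul_inv_eq_one.1 ?_)
    calc e * g' * e⁻¹ * g'⁻¹ = (e * m * e⁻¹) * (e * g * e⁻¹ * g⁻¹) * m⁻¹ := by rw [hg']; group
      _ = (e * m * e⁻¹ * m⁻¹) * (m * (e * g * e⁻¹ * g⁻¹)) * m⁻¹ := by group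
      _ = (e * m * e⁻¹ * m⁻¹) * ((e * g * e⁻¹ * g⁻¹) * m) * m⁻¹ := by
          rw [(hm.2.2 _ heg.1).eq]
      _ = (e * g * e⁻¹ * g⁻¹)⁻¹ * (e * g * e⁻¹ * g⁻¹) := by rw [hmeq]; group
      _ = 1 := inv_mul_cancel _
  set Y := P ⊓ centralizer ({e} : Set G) with hY
  set X := Y ⊔ zpowers c with hX
  have hYe : ∀ x ∈ Y, Commute x e := fun x hx => mem_centralizer_singleton_iff.1 hx.2
  have hYY : Y ≤ centralizer (Y : Set G) := by
    intro x hx
    refine mem_centralizer_iff.2 fun z hz => ?_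
    have h1 := hPcomm x hx.1 z (hPR hz.1)
    by_contra hne
    refine hec' ⟨_, h1, fun h0 => hne (mul_inv_eq_iff_eq_mul.1 (mul_inv_eq_one.1 h0)).symm, ?_⟩
    have c1 : Commute e x := (hYe x hx).symm
    have c2 : Commute e z := (hYe z hz).symm
    exact ((c1.mul_right c2).mul_right c1.inv_right).mul_right c2.inv_right
  have hzz : zpowers c ≤ centralizer (zpowers c : Set G) := by
    intro x hx
    refine mem_centralizer_iff.2 fun z hz => ?_
    obtain ⟨i, rfl⟩ := mem_zpowers_iff.1 hx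
    obtain ⟨j, rfl⟩ := mem_zpowers_iff.1 hz
    exact ((Commute.refl c).zpow_zpow j i).eq
  have hYz : Y ≤ centralizer (zpowers c : Set G) := by
    intro x hx
    refine mem_centralizer_iff.2 fun z hz => ?_
    exact ((hPcen x hx.1 z (hZ ▸ hz)).symm).eq
  have hzY : zpowers c ≤ centralizer (Y : Set G) := le_centralizer_iff.1 hYz
  have hXX : X ≤ centralizer (X : Set G) := sup_le
    (le_centralizer_iff.1 (sup_le hYY hzY)) (le_centralizer_iff.1 (sup_le hYz hzz))
  have hXP : X ≤ P := sup_le inf_le_left (zpowers_le.2 (hZP hcZ))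
  have hXw : Wide r X := by
    refine ⟨⟨⟨⟨fun a b => Subtype.ext (mem_centralizer_iff.1 (hXX b.2) a a.2)⟩⟩, fun x hx => hPq x (hXP hx)⟩,
      c, mem_sup_right (mem_zpowers c), g',
      mem_sup_left (Subgroup.mem_inf.2 ⟨hg'P, mem_centralizer_singleton_iff.2 heg''.eq.symm⟩), ?_, ?_⟩
    · intro h0
      rw [h0, orderOf_one] at hc
      exact (Fact.out : r.Prime).ne_one hc.symm
    · rw [← hZ]
      intro h0
      exact hgW ((Subgroup.mul_mem_cancel_left _ hm).1 h0)
  have hEX : E ≤ normalizer (X : Set G) := fun x hx =>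
    normalizer_inf_normalizer_le_normalizer_sup Y (zpowers c) ⟨mem_normalizer_fixed (hKP (h.EK hx))
      (commute_of_mem h.Ewide.1 hx heE), hKc (h.EK hx)⟩
  exact h.caseB_abelian hB hXw (hXP.trans (hPR.trans hRK)) hEX hP

end H70.NT
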