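import Cfsg.Agent.H70.NoTripleTools

/-!
No configuration of two elementary abelian groups of orders `p^i`, `q^j` acted on by a `{r, s}`-group
with a noncyclic elementary `s`-subgroup exists without an element of order a product of three of
the primes.
-/

set_option autoImplicit false
set_option linter.unusedSectionVars false
set_option linter.style.haveILetI false

namespace H70.NT

open Subgroup

variable {G : Type*} [Group G] [Finite G]

/-- The configuration: `W` acts on `V`, `K` on both, and `K` has a wide `s`-subgroup `E`. -/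
structure Config (σ : Finset ℕ) (p q r s : ℕ) (V W K E : Subgroup G) : Prop where
  no3 : NoTriple G σ
  hp : p ∈ σ
  hq : q ∈ σ
  hr : r ∈ σ
  hs : s ∈ σ
  hpq : p ≠ q
  hpr : p ≠ r
  hps : p ≠ s
  hqr : q ≠ r
  hqs : q ≠ s
  hrs : r ≠ s
  Vel : Cfsg.IsElementaryAbelian p V
  Vne : V ≠ ⊥
  Wel : Cfsg.IsElementaryAbelian q W
  Wne : W ≠ ⊥
  WV : W ≤ normalizer (V : Set G)
  KV : K ≤ normalizer (V : Set G)
  KW : K ≤ normalizer (W : Set G)
  Ewide : Wide s E
  EK : E ≤ K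

variable {σ : Finset ℕ} {p q r s : ℕ} [Fact p.Prime] [Fact q.Prime] [Fact r.Prime] [Fact s.Prime]
  {V W K E : Subgroup G}

theorem exists_ne_one_fixed_both {x : G} (hV : Fix x V) (hW : Cent x W) (hWne : W ≠ ⊥) :
    Fix x V ∧ Fix x W := ⟨hV, hW.fix hWne⟩

/-- When `W` centralizes `V`, an element of order `r` or `s` does not fix both. -/
theorem Config.not_both (h : Config σ p q r s V W K E) (hA : ∀ w ∈ W, Cent w V) {x : G}
    (hx : orderOf x = r ∨ orderOf x = s) (h1 : Fix x V) (h2 : Fix x W) : False := by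
  obtain ⟨v, hv, hv1, hxv⟩ := h1
  obtain ⟨w, hw, hw1, hxw⟩ := h2
  rcases hx with hx | hx
  · exact h.no3 x v w r p q h.hr h.hp h.hq (Ne.symm h.hpr) h.hpq (Ne.symm h.hqr) hx
      (orderOf_of_mem h.Vel hv hv1) (orderOf_of_mem h.Wel hw hw1) hxv hxw (hA w hw v hv).symm
  · exact h.no3 x v w s p q h.hs h.hp h.hq (Ne.symm h.hps) h.hpq (Ne.symm h.hqs) hx
      (orderOf_of_mem h.Vel hv hv1) (orderOf_of_mem h.Wel hw hw1) hxv hxw (hA w hw v hv).symm

/-- An element of order `r` commuting with `E` fixes neither `V` nor `W`. -/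
theorem Config.not_fix_E (h : Config σ p q r s V W K E) {x : G} (hx : orderOf x = r)
    (hxE : Cent x E) : ¬ Fix x V ∧ ¬ Fix x W :=
  ⟨not_fix_of_wide h.no3 h.hp h.hr h.hs h.hpr h.hps h.hrs h.Vel h.Ewide (h.EK.trans h.KV) hx hxE,
    not_fix_of_wide h.no3 h.hq h.hr h.hs h.hqr h.hqs h.hrs h.Wel h.Ewide (h.EK.trans h.KW) hx hxE⟩

/-- An element of order `s` commuting with a wide `r`-group fixes neither `V` nor `W`. -/
theorem Config.not_fix_X (h : Config σ p q r s V W K E) {X : Subgroup G} (hX : Wide r X)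
    (hXK : X ≤ K) {x : G} (hx : orderOf x = s) (hxX : Cent x X) : ¬ Fix x V ∧ ¬ Fix x W :=
  ⟨not_fix_of_wide h.no3 h.hp h.hs h.hr h.hps h.hpr (Ne.symm h.hrs) h.Vel hX (hXK.trans h.KV) hx hxX,
    not_fix_of_wide h.no3 h.hq h.hs h.hr h.hqs h.hqr (Ne.symm h.hrs) h.Wel hX (hXK.trans h.KW) hx hxX⟩

/-- `E` cannot act without fixed points on `V`. -/
theorem Config.exists_fix_V (h : Config σ p q r s V W K E) :
    ∃ e ∈ E, e ≠ 1 ∧ Fix e V :=
  exists_fix (Ne.symm h.hps) h.Ewide (isPGroup_of_elementary h.Vel) h.Vne (h.EK.trans h.KV)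

/-- If an element `d` of order `r` centralizes `V` and not `W`, and `E` normalizes `⟨d⟩`, we get a
contradiction. -/
theorem Config.false_of_cent_one (h : Config σ p q r s V W K E) (hA : ∀ w ∈ W, Cent w V) {d : G}
    (hd : orderOf d = r) (hdK : d ∈ K) (hEd : ∀ e ∈ E, e ∈ normalizer ((zpowers d : Subgroup G) : Set G))
    (hdV : Cent d V) : False := by
  obtain ⟨e, heE, he1, heV⟩ := h.exists_fix_V
  have heo := orderOf_of_mem h.Ewide.1 heE he1
  have hfix : ¬ Fix e W := fun hW => h.not_both hA (Or.inr heo) heV hW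
  have hdis := commutator_cent (M := zpowers d) h.hrs (Ne.symm h.hqr) inferInstance
    (IsPGroup.of_card (n := 1) (by rw [Nat.card_zpowers, hd, pow_one])) h.Wel.1
    (isPGroup_of_elementary h.Wel) heo (hEd e heE) (h.KW (h.EK heE))
    (zpowers_le.2 (h.KW hdK)) hfix d (mem_zpowers d)
  by_cases hc : Commute e d
  · obtain ⟨v, hv, hv1, hev⟩ := heV
    exact h.no3 e d v s r p h.hs h.hr h.hp (Ne.symm h.hrs) (Ne.symm h.hpr) (Ne.symm h.hps) heo hd
      (orderOf_of_mem h.Vel hv hv1) hc hev (hdV v hv)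
  · have hmem : e * d * e⁻¹ * d⁻¹ ∈ zpowers d :=
      mul_mem ((mem_normalizer_iff.1 (hEd e heE) d).1 (mem_zpowers d)) (inv_mem (mem_zpowers d))
    have hne : e * d * e⁻¹ * d⁻¹ ≠ 1 := fun h1 => hc (mul_inv_eq_iff_eq_mul.1 (mul_inv_eq_one.1 h1))
    have hgen : d ∈ zpowers (e * d * e⁻¹ * d⁻¹) := by
      have hle := zpowers_le.2 hmem
      have ho : orderOf (e * d * e⁻¹ * d⁻¹) = r := by
        have hdd := orderOf_dvd_natCard (⟨_, hmem⟩ : zpowers d)
        rw [Nat.card_zpowers, hd, orderOf_mk] at hdd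
        exact ((Fact.out : r.Prime).eq_one_or_self_of_dvd _ hdd).resolve_left
          (fun h1 => hne (orderOf_eq_one_iff.1 h1))
      rw [eq_of_le_of_card_ge hle (by rw [Nat.card_zpowers, Nat.card_zpowers, hd, ho])]
      exact mem_zpowers d
    obtain ⟨k, hk⟩ := mem_zpowers_iff.1 hgen
    have hdW : Cent d W := fun w hw => hk ▸ (hdis w hw).zpow_left k
    exact h.not_both hA (Or.inl hd) (hdV.fix h.Vne) (hdW.fix h.Wne)

/-- Exchange `V` and `W` when they centralize each other. -/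
theorem Config.swap (h : Config σ p q r s V W K E) (hA : ∀ w ∈ W, Cent w V) :
    Config σ q p r s W V K E ∧ ∀ v ∈ V, Cent v W := by
  refine ⟨⟨h.no3, h.hq, h.hp, h.hr, h.hs, Ne.symm h.hpq, h.hqr, h.hqs, h.hpr, h.hps, h.hrs, h.Wel,
    h.Wne, h.Vel, h.Vne, ?_, h.KW, h.KV, h.Ewide, h.EK⟩, fun v hv w hw => (hA w hw v hv).symm⟩
  intro v hv
  refine centralizer_le_normalizer _ (mem_centralizer_iff.2 fun w hw => ?_)
  exact (hA w hw v hv).eq

/-- Case A with an abelian `X`. -/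
theorem Config.caseA_abelian (h : Config σ p q r s V W K E) (hA : ∀ w ∈ W, Cent w V)
    {X : Subgroup G} (hX : Wide r X) (hXK : X ≤ K) (hEX : E ≤ normalizer (X : Set G)) : False := by
  classical
  obtain ⟨h', hA'⟩ := h.swap hA
  -- every element of `E` centralizes `X`
  have hcentX : ∀ e ∈ E, ∀ x ∈ X, Commute e x := by
    intro e he x hx
    rcases eq_or_ne e 1 with rfl | he1
    · exact Commute.one_left x
    have heo := orderOf_of_mem h.Ewide.1 he he1
    by_contra hne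
    have hne' : e * x * e⁻¹ * x⁻¹ ≠ 1 := fun h1 =>
      hne (mul_inv_eq_iff_eq_mul.1 (mul_inv_eq_one.1 h1))
    have hdX : e * x * e⁻¹ * x⁻¹ ∈ X :=
      mul_mem ((mem_normalizer_iff.1 (hEX he) x).1 hx) (inv_mem hx)
    -- some nontrivial element of `X` centralizes `V` or `W`
    obtain ⟨d, hdX', hd1, hd2⟩ : ∃ d ∈ X, d ≠ 1 ∧ (Cent d V ∨ Cent d W) := by
      by_cases hfV : Fix e V
      · exact ⟨_, hdX, hne', Or.inr (commutator_cent h.hrs (Ne.symm h.hqr) hX.1.1
          (isPGroup_of_elementary hX.1) h.Wel.1 (isPGroup_of_elementary h.Wel) heo (hEX he)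
          (h.KW (h.EK he)) (hXK.trans h.KW) (fun hW => h.not_both hA (Or.inr heo) hfV hW) x hx)⟩
      · exact ⟨_, hdX, hne', Or.inl (commutator_cent h.hrs (Ne.symm h.hpr) hX.1.1
          (isPGroup_of_elementary hX.1) h.Vel.1 (isPGroup_of_elementary h.Vel) heo (hEX he)
          (h.KV (h.EK he)) (hXK.trans h.KV) hfV x hx)⟩
    -- generic argument
    have main : ∀ {p' q' : ℕ} {V' W' : Subgroup G}, Fact p'.Prime → Fact q'.Prime →
        Config σ p' q' r s V' W' K E → (∀ w ∈ W', Cent w V') → Cent d V' → False := by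
      intro p' q' V' W' _ _ hc hAc hdV
      let D : Subgroup G := X ⊓ centralizer (V' : Set G)
      have hdD : d ∈ D := Subgroup.mem_inf.2 ⟨hdX', mem_centralizer_iff.2 fun v hv => (hdV v hv).symm.eq⟩
      have hDW : ∀ y ∈ D, y ≠ 1 → ¬ Fix y W' := by
        intro y hy hy1 hW
        obtain ⟨hyX, hyV⟩ := Subgroup.mem_inf.1 hy
        exact hc.not_both hAc (Or.inl (orderOf_of_mem hX.1 hyX hy1))
          (Cent.fix (fun v hv => (mem_centralizer_iff.1 hyV v hv).symm) hc.Vne) hW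
      -- `D` is cyclic
      have hDz : ∀ y ∈ D, y ∈ zpowers d := by
        intro y hy
        by_contra hyd
        have hwide : Wide r D :=
          ⟨⟨⟨⟨fun u v => Subtype.ext (commute_of_mem hX.1 (inf_le_left (a := X) u.2)
            (inf_le_left (a := X) v.2))⟩⟩, fun u hu => hX.1.2 u (inf_le_left (a := X) hu)⟩,
            d, hdD, y, hy, hd1, hyd⟩
        obtain ⟨f, hf, hf1, hfW⟩ := exists_fix (Ne.symm hc.hqr) hwide (isPGroup_of_elementary hc.Wel)
          hc.Wne (fun u hu => hc.KW (hXK (inf_le_left (a := X) hu)))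
        exact hDW f hf hf1 hfW
      have hDeq : D = zpowers d := le_antisymm hDz (zpowers_le.2 hdD)
      refine hc.false_of_cent_one hAc (orderOf_of_mem hX.1 hdX' hd1) (hXK hdX') (fun f hf => ?_) hdV
      have hconj : ∀ f ∈ E, ∀ y ∈ D, f * y * f⁻¹ ∈ D := by
        intro f hf y hy
        obtain ⟨hyX, hyV⟩ := Subgroup.mem_inf.1 hy
        refine Subgroup.mem_inf.2 ⟨(mem_normalizer_iff.1 (hEX hf) y).1 hyX, ?_⟩
        rw [mem_centralizer_iff]
        intro v hv
        have hv' : f⁻¹ * v * f ∈ V' := by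
          have h2 := (mem_normalizer_iff.1 (inv_mem (hc.KV (hc.EK hf))) v).1 hv
          rwa [inv_inv] at h2
        have h3 := mem_centralizer_iff.1 hyV _ hv'
        calc v * (f * y * f⁻¹) = f * ((f⁻¹ * v * f) * y) * f⁻¹ := by group
          _ = f * (y * (f⁻¹ * v * f)) * f⁻¹ := by rw [h3]
          _ = f * y * f⁻¹ * v := by group
      rw [← hDeq, mem_normalizer_iff]
      intro y
      refine ⟨hconj f hf y, fun hy => ?_⟩
      have h2 := hconj f⁻¹ (inv_mem hf) _ hy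
      rwa [show f⁻¹ * (f * y * f⁻¹) * f⁻¹⁻¹ = y by group] at h2
    rcases hd2 with hd2 | hd2
    · exact main inferInstance inferInstance h hA hd2
    · exact main inferInstance inferInstance h' hA' hd2
  obtain ⟨f, hf, hf1, hfV⟩ := exists_fix (Ne.symm h.hpr) hX (isPGroup_of_elementary h.Vel) h.Vne
    (hXK.trans h.KV)
  exact (h.not_fix_E (orderOf_of_mem hX.1 hf hf1) (fun e he => (hcentX e he f hf).symm)).1 hfV

/-- Case B: `W` acts faithfully on `V`. -/
theorem Config.caseB_abelian (h : Config σ p q r s V W K E) (hB : ∀ w ∈ W, Cent w V → w = 1)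
    {X : Subgroup G} (hX : Wide r X) (hXK : X ≤ K) (hEX : E ≤ normalizer (X : Set G))
    (hP : ¬ Wide q W → q ≠ 2 → ∃ P : Subgroup G, W ≤ P ∧ ¬ P ≤ W ∧ P ≤ normalizer (V : Set G) ∧
      K ≤ normalizer (P : Set G) ∧ (∀ g ∈ P, g ^ q = 1) ∧
      (∀ g ∈ P, ∀ w ∈ W, Commute g w) ∧ ∀ g ∈ P, ∀ g' ∈ P, g * g' * g⁻¹ * g'⁻¹ ∈ W) :
    False := by
  classical
  -- an element without fixed points on `V` centralizes `W`
  have hcW : ∀ x : G, orderOf x = r ∨ orderOf x = s → x ∈ K → ¬ Fix x V → Cent x W := by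
    intro x hx hxK hfix w hw
    have hdd : x * w * x⁻¹ * w⁻¹ ∈ W :=
      mul_mem ((mem_normalizer_iff.1 (h.KW hxK) w).1 hw) (inv_mem hw)
    have key : ∀ (t : ℕ) [Fact t.Prime], q ≠ t → orderOf x = t → Cent (x * w * x⁻¹ * w⁻¹) V :=
      fun t _ ht htx => commutator_cent ht (Ne.symm h.hpq) h.Wel.1 (isPGroup_of_elementary h.Wel)
        h.Vel.1 (isPGroup_of_elementary h.Vel) htx (h.KW hxK) (h.KV hxK) h.WV hfix w hw
    have h1 : x * w * x⁻¹ * w⁻¹ = 1 := by
      rcases hx with hx | hx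
      · exact hB _ hdd (key r h.hqr hx)
      · exact hB _ hdd (key s h.hqs hx)
    exact mul_inv_eq_iff_eq_mul.1 (mul_inv_eq_one.1 h1)
  have hEo : ∀ e ∈ E, e ≠ 1 → orderOf e = s := fun e => orderOf_of_mem h.Ewide.1
  have hXo : ∀ x ∈ X, x ≠ 1 → orderOf x = r := fun x => orderOf_of_mem hX.1
  -- no common fixed points
  have hXE : ∀ x ∈ X, Cent x E → x = 1 := by
    intro x hx hxE
    by_contra hx1
    obtain ⟨h1, h2⟩ := h.not_fix_E (hXo x hx hx1) hxE
    exact h2 ((hcW x (Or.inl (hXo x hx hx1)) (hXK hx) h1).fix h.Wne)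
  have hEX' : ∀ e ∈ E, e ≠ 1 → ∃ x ∈ X, ¬ Commute e x := by
    intro e he he1
    by_contra hcon
    push Not at hcon
    obtain ⟨h1, h2⟩ := h.not_fix_X hX hXK (hEo e he he1) hcon
    exact h2 ((hcW e (Or.inr (hEo e he he1)) (h.EK he) h1).fix h.Wne)
  -- two lines with fixed points
  have hXne : X ≠ ⊥ := by
    obtain ⟨-, a, ha, b, -, ha1, -⟩ := hX
    exact fun h0 => ha1 (by rwa [h0, mem_bot] at ha)
  obtain ⟨e1, he1E, he11, x1, hx1, hx11, he1x⟩ := exists_fix (Ne.symm h.hrs) h.Ewide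
    (isPGroup_of_elementary hX.1) hXne hEX
  have hX1 : ¬ Fix e1 (⊥ : Subgroup G) := by
    rintro ⟨u, hu, hu1, -⟩; exact hu1 (mem_bot.1 hu)
  -- the commutators with `e1`
  let ψ : X →* G :=
    { toFun := fun u => e1 * (u : G) * e1⁻¹ * (u : G)⁻¹
      map_one' := by simp
      map_mul' := fun u v => by
        have hc := commute_of_mem hX.1
          (mul_mem ((mem_normalizer_iff.1 (hEX he1E) _).1 v.2) (inv_mem v.2)) (inv_mem u.2)
        simp only [Subgroup.coe_mul, mul_inv_rev]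
        calc e1 * ((u : G) * v) * e1⁻¹ * ((v : G)⁻¹ * (u : G)⁻¹)
            = e1 * (u : G) * e1⁻¹ * ((e1 * (v : G) * e1⁻¹ * (v : G)⁻¹) * (u : G)⁻¹) := by group
          _ = e1 * (u : G) * e1⁻¹ * ((u : G)⁻¹ * (e1 * (v : G) * e1⁻¹ * (v : G)⁻¹)) := by rw [hc.eq]
          _ = _ := by group }
  have hYX : ψ.range ≤ X := by
    rintro _ ⟨u, rfl⟩
    exact mul_mem ((mem_normalizer_iff.1 (hEX he1E) _).1 u.2) (inv_mem u.2)
  have hYne : ψ.range ≠ ⊥ := by
    intro h0
    obtain ⟨x, hx, hne⟩ := hEX' e1 he1E he11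
    apply hne
    have : ψ ⟨x, hx⟩ ∈ ψ.range := ⟨_, rfl⟩
    rw [h0, mem_bot] at this
    exact mul_inv_eq_iff_eq_mul.1 (mul_inv_eq_one.1 this)
  have hEY : E ≤ normalizer (ψ.range : Set G) := by
    have key : ∀ f ∈ E, ∀ y ∈ ψ.range, f * y * f⁻¹ ∈ ψ.range := by
      rintro f hf _ ⟨u, rfl⟩
      refine ⟨⟨f * u * f⁻¹, (mem_normalizer_iff.1 (hEX hf) _).1 u.2⟩, ?_⟩
      show e1 * (f * (u : G) * f⁻¹) * e1⁻¹ * (f * (u : G) * f⁻¹)⁻¹ = f * (e1 * (u : G) * e1⁻¹ * (u : G)⁻¹) * f⁻¹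
      have hc : Commute e1 f := commute_of_mem h.Ewide.1 he1E hf
      calc e1 * (f * (u : G) * f⁻¹) * e1⁻¹ * (f * (u : G) * f⁻¹)⁻¹
          = (e1 * f) * (u : G) * (e1 * f)⁻¹ * (f * (u : G)⁻¹ * f⁻¹) := by group
        _ = (f * e1) * (u : G) * (f * e1)⁻¹ * (f * (u : G)⁻¹ * f⁻¹) := by rw [hc.eq]
        _ = _ := by group
    intro f hf
    rw [mem_normalizer_iff]
    intro y
    refine ⟨key f hf y, fun hy => ?_⟩
    have h2 := key f⁻¹ (inv_mem hf) _ hy
    rwa [show f⁻¹ * (f * y * f⁻¹) * f⁻¹⁻¹ = y by group] at h2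
  obtain ⟨e2, he2E, he21, x2, hx2Y, hx21, he2x⟩ := exists_fix (Ne.symm h.hrs) h.Ewide
    ((isPGroup_of_elementary hX.1).to_le hYX) hYne hEY
  have hx2 : x2 ∈ X := hYX hx2Y
  -- `e1` fixes no commutator, hence `e1` and `e2` are independent
  have he1x2 : ¬ Commute e1 x2 := by
    intro hc
    obtain ⟨u, rfl⟩ := hx2Y
    apply hx21
    have hpow : ∀ i : ℕ, e1 ^ i * (u : G) * (e1 ^ i)⁻¹ = ψ u ^ i * u := by
      intro i
      induction i with
      | zero => simp
      | succ i ih =>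
        calc e1 ^ (i + 1) * (u : G) * (e1 ^ (i + 1))⁻¹
            = e1 * (e1 ^ i * (u : G) * (e1 ^ i)⁻¹) * e1⁻¹ := by rw [pow_succ']; group
          _ = (e1 * ψ u ^ i * e1⁻¹) * (e1 * (u : G) * e1⁻¹) := by rw [ih]; group
          _ = ψ u ^ i * (ψ u * u) := by
              rw [(hc.pow_right i).eq, mul_inv_cancel_right]
              congr 1
              show _ = e1 * (u : G) * e1⁻¹ * (u : G)⁻¹ * u
              group
          _ = ψ u ^ (i + 1) * u := by rw [pow_succ]; group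
    have h2 := hpow s
    rw [h.Ewide.1.2 e1 he1E, one_mul, inv_one, mul_one] at h2
    exact orderOf_eq_one_iff.1 (Nat.eq_one_of_dvd_coprimes
      ((Nat.coprime_primes Fact.out Fact.out).2 (Ne.symm h.hrs))
      (orderOf_dvd_of_pow_eq_one (mul_eq_right.1 h2.symm))
      (orderOf_dvd_of_pow_eq_one (hX.1.2 _ hx2)))
  have hind : e2 ∉ zpowers e1 := by
    intro hmem
    have hgen : e1 ∈ zpowers e2 := by
      rw [eq_of_le_of_card_ge (zpowers_le.2 hmem)
        (by rw [Nat.card_zpowers, Nat.card_zpowers, hEo e1 he1E he11, hEo e2 he2E he21])]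
      exact mem_zpowers e1
    obtain ⟨k, hk⟩ := mem_zpowers_iff.1 hgen
    exact he1x2 (hk ▸ he2x.zpow_left k)
  -- the pair `e1`, `e2`
  set F := closure ({e1, e2} : Set G) with hF
  have hFE : F ≤ E := by
    rw [hF, closure_le]
    rintro g (rfl | rfl) <;> assumption
  have hFwide : Wide s F := wide_closure_pair (hEo e1 he1E he11) (h.Ewide.1.2 e2 he2E)
    (commute_of_mem h.Ewide.1 he1E he2E) hind
  have hF' : Config σ p q r s V W K F :=
    { h with Ewide := hFwide, EK := hFE.trans h.EK }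
  have hnone : ∀ x ∈ X, Commute e1 x → Commute e2 x → x = 1 := by
    intro x hx hc1 hc2
    by_contra hx1
    have hxF : Cent x F := by
      intro f hf
      refine Subgroup.closure_induction (p := fun g _ => Commute x g) ?_ (Commute.one_right x)
        (fun _ _ _ _ h1 h2 => h1.mul_right h2) (fun _ _ h1 => h1.inv_right) hf
      rintro g (rfl | rfl)
      · exact hc1.symm
      · exact hc2.symm
    obtain ⟨h1, h2⟩ := hF'.not_fix_E (hXo x hx hx1) hxF
    exact h2 ((hcW x (Or.inl (hXo x hx hx1)) (hXK hx) h1).fix h.Wne)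
  -- commuting pairs
  have hdich : ∀ x ∈ X, x ≠ 1 → ∀ e ∈ E, e ≠ 1 → Commute x e → Cent e W ∨ ¬ Fix e W := by
    intro x hx hx1 e he he1 hxe
    by_cases hW : Fix e W
    · refine Or.inl (hcW e (Or.inr (hEo e he he1)) (h.EK he) fun hV => ?_)
      exact not_fix_both h.no3 h.hp h.hq h.hr h.hs h.hpq h.hpr h.hps h.hqr h.hqs h.hrs h.Vel h.Wel
        h.WV (hXo x hx hx1) (hEo e he he1) hxe (h.KV (hXK hx)) (h.KW (hXK hx)) hV hW
    · exact Or.inr hW
  obtain ⟨w0, hw0, hw01⟩ := W.bot_or_exists_ne_one.resolve_left h.Wne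
  have hboth : ∀ x ∈ X, x ≠ 1 → ∀ e ∈ E, e ≠ 1 → Commute x e → Cent x W → Cent e W → False :=
    fun x hx hx1 e he he1 hxe hxW heW => h.no3 x e w0 r s q h.hr h.hs h.hq h.hrs (Ne.symm h.hqs)
      (Ne.symm h.hqr) (hXo x hx hx1) (hEo e he he1) (orderOf_of_mem h.Wel hw0 hw01) hxe (hxW w0 hw0)
      (heW w0 hw0)
  have hcomm : ∀ e ∈ E, e ≠ 1 → ¬ Fix e W → ∀ u ∈ X, Cent (e * u * e⁻¹ * u⁻¹) W :=
    fun e he he1 hW => commutator_cent h.hrs (Ne.symm h.hqr) hX.1.1 (isPGroup_of_elementary hX.1)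
      h.Wel.1 (isPGroup_of_elementary h.Wel) (hEo e he he1) (hEX he) (h.KW (h.EK he))
      (hXK.trans h.KW) hW
  -- every fixed point of `e1` is a commutator of `e2`
  have hgen2 : ∀ u ∈ X, Commute e1 u → ∃ m ∈ X, e2 * m * e2⁻¹ * m⁻¹ = u := by
    intro u hu hc
    set C1 := X ⊓ centralizer ({e1} : Set G) with hC1
    have hC1c : IsMulCommutative C1 := ⟨⟨fun u v => Subtype.ext
      (commute_of_mem hX.1 (inf_le_left (a := X) u.2) (inf_le_left (a := X) v.2))⟩⟩
    obtain ⟨m, hm, hmu⟩ := exists_displacement_preimage hC1c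
      (mem_normalizer_fixed (hEX he2E) (commute_of_mem h.Ewide.1 he2E he1E))
      (fun ⟨v, hv, hv1, hev⟩ => hv1 (hnone v (Subgroup.mem_inf.1 hv).1
        (mem_centralizer_singleton_iff.1 (Subgroup.mem_inf.1 hv).2).symm hev))
      (y := u) (Subgroup.mem_inf.2 ⟨hu, mem_centralizer_singleton_iff.2 hc.symm.eq⟩)
    exact ⟨m, (Subgroup.mem_inf.1 hm).1, hmu⟩
  -- `X` centralizes `W`
  obtain ⟨hXW, he1W, he2W⟩ : (∀ x ∈ X, Cent x W) ∧ ¬ Fix e1 W ∧ ¬ Fix e2 W := by
    rcases hdich x1 hx1 hx11 e1 he1E he11 he1x.symm with hc1 | hf1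
    · exfalso
      have hx1W : ¬ Cent x1 W := fun hc => hboth x1 hx1 hx11 e1 he1E he11 he1x.symm hc hc1
      obtain ⟨m, hm, hmx⟩ := hgen2 x1 hx1 he1x
      rcases hdich x2 hx2 hx21 e2 he2E he21 he2x.symm with hc2 | hf2
      · refine hx1W ?_
        rw [← hmx]
        intro w hw
        have hw' : m * w * m⁻¹ ∈ W := (mem_normalizer_iff.1 (h.KW (hXK hm)) w).1 hw
        have hmw : m⁻¹ * w * m ∈ W := by
          have h2 := (mem_normalizer_iff.1 (inv_mem (h.KW (hXK hm))) w).1 hw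
          rwa [inv_inv] at h2
        show e2 * m * e2⁻¹ * m⁻¹ * w = w * (e2 * m * e2⁻¹ * m⁻¹)
        calc e2 * m * e2⁻¹ * m⁻¹ * w = e2 * m * (e2⁻¹ * (m⁻¹ * w * m)) * m⁻¹ := by group
          _ = e2 * m * ((m⁻¹ * w * m) * e2⁻¹) * m⁻¹ := by rw [((hc2 _ hmw).inv_left).eq]
          _ = e2 * w * (m * e2⁻¹ * m⁻¹) := by group
          _ = w * e2 * (m * e2⁻¹ * m⁻¹) := by rw [(hc2 w hw).eq]
          _ = w * (e2 * m * e2⁻¹ * m⁻¹) := by group
      · exact hx1W (hmx ▸ hcomm e2 he2E he21 hf2 m hm)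
    · have hY : ∀ y ∈ ψ.range, Cent y W := by
        rintro _ ⟨u, rfl⟩
        exact hcomm e1 he1E he11 hf1 u u.2
      have hf2 : ¬ Fix e2 W := (hdich x2 hx2 hx21 e2 he2E he21 he2x.symm).resolve_left
        (hboth x2 hx2 hx21 e2 he2E he21 he2x.symm (hY x2 hx2Y))
      refine ⟨fun x hx => ?_, hf1, hf2⟩
      -- `x` is a fixed point times a commutator
      have hYfix : ¬ Fix e1 ψ.range := by
        rintro ⟨y, hy, hy1, hey⟩
        obtain ⟨u, rfl⟩ := hy
        apply hy1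
        have h1 := hX.1.2 _ (hYX ⟨u, rfl⟩)
        have hc : Commute e1 (ψ u) := hey
        have hpow : ∀ i : ℕ, e1 ^ i * (u : G) * (e1 ^ i)⁻¹ = ψ u ^ i * u := by
          intro i
          induction i with
          | zero => simp
          | succ i ih =>
            calc e1 ^ (i + 1) * (u : G) * (e1 ^ (i + 1))⁻¹
                = e1 * (e1 ^ i * (u : G) * (e1 ^ i)⁻¹) * e1⁻¹ := by rw [pow_succ']; group
              _ = (e1 * ψ u ^ i * e1⁻¹) * (e1 * (u : G) * e1⁻¹) := by rw [ih]; group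
              _ = ψ u ^ i * (ψ u * u) := by
                  rw [(hc.pow_right i).eq, mul_inv_cancel_right]
                  congr 1
                  show _ = e1 * (u : G) * e1⁻¹ * (u : G)⁻¹ * u
                  group
              _ = ψ u ^ (i + 1) * u := by rw [pow_succ]; group
        have h2 := hpow s
        rw [h.Ewide.1.2 e1 he1E, one_mul, inv_one, mul_one] at h2
        exact orderOf_eq_one_iff.1 (Nat.eq_one_of_dvd_coprimes
          ((Nat.coprime_primes Fact.out Fact.out).2 (Ne.symm h.hrs))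
          (orderOf_dvd_of_pow_eq_one (mul_eq_right.1 h2.symm)) (orderOf_dvd_of_pow_eq_one h1))
      have hYc : IsMulCommutative ψ.range := ⟨⟨fun u v => Subtype.ext
        (commute_of_mem hX.1 (hYX u.2) (hYX v.2))⟩⟩
      obtain ⟨y, hy, hyx⟩ := exists_displacement_preimage hYc (hEY he1E) hYfix
        (y := e1 * x * e1⁻¹ * x⁻¹) ⟨⟨x, hx⟩, rfl⟩
      have hfix : Commute e1 (y⁻¹ * x) := by
        refine mul_inv_eq_iff_eq_mul.1 ?_
        calc e1 * (y⁻¹ * x) * e1⁻¹ = (e1 * y * e1⁻¹)⁻¹ * (e1 * x * e1⁻¹) := by group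
          _ = (e1 * y * e1⁻¹ * y⁻¹ * y)⁻¹ * (e1 * x * e1⁻¹ * x⁻¹ * x) := by group
          _ = (e1 * x * e1⁻¹ * x⁻¹ * y)⁻¹ * (e1 * x * e1⁻¹ * x⁻¹ * x) := by rw [hyx]
          _ = y⁻¹ * x := by group
      obtain ⟨m, hm, hmu⟩ := hgen2 (y⁻¹ * x) (mul_mem (inv_mem (hYX hy)) hx) hfix
      have h3 : Cent (y⁻¹ * x) W := hmu ▸ hcomm e2 he2E he21 hf2 m hm
      intro w hw
      have h4 := (hY y hy w hw).mul_left (h3 w hw)
      rwa [mul_inv_cancel_left] at h4
  -- the final contradiction from a wide `q`-group centralized by `X`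
  have hfinal : ∀ Q : Subgroup G, Wide q Q → Q ≤ normalizer (V : Set G) → (∀ x ∈ X, Cent x Q) →
      False := by
    intro Q hQ hQV hXQ
    obtain ⟨f, hf, hf1, hfV⟩ := exists_fix (Ne.symm h.hpr) hX (isPGroup_of_elementary h.Vel) h.Vne
      (hXK.trans h.KV)
    exact not_fix_of_wide h.no3 h.hp h.hr h.hq h.hpr h.hpq (Ne.symm h.hqr) h.Vel hQ hQV
      (hXo f hf hf1) (hXQ f hf) hfV
  by_cases hWw : Wide q W
  · exact hfinal W hWw h.WV hXW
  have hWz : ∀ b ∈ W, b ∈ zpowers w0 := by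
    intro b hb
    by_contra hne
    exact hWw ⟨h.Wel, w0, hw0, b, hb, hw01, hne⟩
  have hWeq : W = zpowers w0 := le_antisymm hWz (zpowers_le.2 hw0)
  have hw0o := orderOf_of_mem h.Wel hw0 hw01
  have hq2 : q ≠ 2 := by
    intro hq2
    refine he1W ⟨w0, hw0, hw01, ?_⟩
    have hmem : e1 * w0 * e1⁻¹ ∈ W := (mem_normalizer_iff.1 (h.KW (h.EK he1E)) w0).1 hw0
    obtain ⟨k, hk⟩ := mem_zpowers_iff.1 (hWz _ hmem)
    have hw2 : w0 * w0 = 1 := by rw [← sq, ← hq2, h.Wel.2 w0 hw0]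
    rcases Int.even_or_odd k with ⟨j, hj⟩ | ⟨j, hj⟩
    · rw [hj, ← two_mul, zpow_mul, zpow_two, hw2, one_zpow] at hk
      exact absurd (conj_eq_one_iff.1 hk.symm) hw01
    · rw [hj, zpow_add, zpow_mul, zpow_two, hw2, one_zpow, one_mul, zpow_one] at hk
      exact mul_inv_eq_iff_eq_mul.1 hk.symm
  -- an element of `E` centralizing `W`
  obtain ⟨e0, he0E, he01, he0W⟩ : ∃ e0 ∈ E, e0 ≠ 1 ∧ Cent e0 W := by
    haveI : IsCyclic W := by rw [hWeq]; infer_instance
    set φ : normalizer (W : Set G) →* MulAut W := W.normalizerMonoidHom with hφ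
    haveI : IsCyclic (MulAut W) := by
      have hcard : Nat.card W = q := by rw [hWeq, Nat.card_zpowers, hw0o]
      haveI : Fact (Nat.Prime q) := inferInstance
      have e := IsCyclic.mulAutMulEquiv W
      rw [hcard] at e
      exact isCyclic_of_surjective e.symm.toMonoidHom e.symm.surjective
    set f1 : normalizer (W : Set G) := ⟨e1, h.KW (h.EK he1E)⟩
    set f2 : normalizer (W : Set G) := ⟨e2, h.KW (h.EK he2E)⟩
    have hne : φ f1 ≠ 1 := by
      intro h1
      apply he1W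
      have h2 : f1 ∈ φ.ker := h1
      rw [hφ, normalizerMonoidHom_ker, mem_subgroupOf, mem_centralizer_iff] at h2
      exact ⟨w0, hw0, hw01, (h2 w0 hw0).symm⟩
    have hpow : ∀ f : normalizer (W : Set G), (f : G) ∈ E → φ f ^ s = 1 := by
      intro f hf
      rw [← map_pow, show f ^ s = 1 from Subtype.ext (by rw [Subgroup.coe_pow]; exact h.Ewide.1.2 _ hf),
        map_one]
    obtain ⟨k, hk⟩ := mem_zpowers_iff.1
      (mem_zpowers_of_cyclic (orderOf_eq_prime (hpow f1 he1E) hne) (hpow f2 he2E))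
    refine ⟨e2 * e1 ^ (-k), mul_mem he2E (zpow_mem he1E _), fun h0 => hind ?_, ?_⟩
    · rw [mul_eq_one_iff_eq_inv, ← zpow_neg, neg_neg] at h0
      rw [h0]
      exact zpow_mem (mem_zpowers e1) k
    · have h2 : f2 * f1 ^ (-k) ∈ φ.ker := by
        rw [MonoidHom.mem_ker, map_mul, map_zpow, ← hk, ← zpow_add, add_neg_cancel, zpow_zero]
      rw [hφ, normalizerMonoidHom_ker, mem_subgroupOf, mem_centralizer_iff] at h2
      exact fun w hw => (h2 w hw).symm
  have he0X : ¬ Fix e0 X := by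
    rintro ⟨x, hx, hx1', hex⟩
    exact hboth x hx hx1' e0 he0E he01 hex.symm (hXW x hx) he0W
  have he0o := hEo e0 he0E he01
  have hfixV : Fix e0 V := by
    by_contra hV
    obtain ⟨m, hm, hmx⟩ := exists_displacement_preimage hX.1.1 (hEX he0E) he0X hx1
    have h1 := commutator_cent h.hrs (Ne.symm h.hpr) hX.1.1 (isPGroup_of_elementary hX.1)
      h.Vel.1 (isPGroup_of_elementary h.Vel) he0o (hEX he0E) (h.KV (h.EK he0E))
      (hXK.trans h.KV) hV m hm
    rw [hmx] at h1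
    exact not_fix_both h.no3 h.hp h.hq h.hs h.hr h.hpq h.hps h.hpr h.hqs h.hqr (Ne.symm h.hrs) h.Vel
      h.Wel h.WV (hEo e1 he1E he11) (hXo x1 hx1 hx11) he1x (h.KV (h.EK he1E)) (h.KW (h.EK he1E))
      (h1.fix h.Vne) ((hXW x1 hx1).fix h.Wne)
  obtain ⟨P, hWP, hPW, hPV, hKP, hPq, hPcen, hPcomm⟩ := hP hWw hq2
  have hpair : ∀ g ∈ P, g ∉ W → Wide q (closure ({w0, g} : Set G)) ∧
      closure ({w0, g} : Set G) ≤ normalizer (V : Set G) := by
    intro g hg hgW
    refine ⟨wide_closure_pair hw0o (hPq g hg) (hPcen g hg w0 hw0).symm (hWeq ▸ hgW), ?_⟩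
    rw [closure_le]
    rintro a (rfl | rfl)
    · exact h.WV hw0
    · exact hPV hg
  -- `e0` fixes no element of `P / W`
  have hnofix : ∀ g ∈ P, g ∉ W → e0 * g * e0⁻¹ * g⁻¹ ∉ W := by
    intro g hg hgW hmem
    have hc := commute_of_coset_fixed (Ne.symm h.hqs) h.Wel.2 (h.Ewide.1.2 e0 he0E) he0W hmem
    obtain ⟨hwide, hle⟩ := hpair g hg hgW
    refine not_fix_of_wide h.no3 h.hp h.hs h.hq h.hps h.hpq (Ne.symm h.hqs) h.Vel hwide hle he0o ?_
      hfixV
    intro a ha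
    refine Subgroup.closure_induction (p := fun g _ => Commute e0 g) ?_ (Commute.one_right _)
      (fun _ _ _ _ h1 h2 => h1.mul_right h2) (fun _ _ h1 => h1.inv_right) ha
    rintro a (rfl | rfl)
    · exact he0W _ hw0
    · exact hc
  obtain ⟨g, hgP, hgW⟩ := SetLike.not_le_iff_exists.1 hPW
  -- work modulo `W`
  set N := normalizer (W : Set G) with hN
  have hPN : P ≤ N := fun a ha => centralizer_le_normalizer _
    (mem_centralizer_iff.2 fun w hw => (hPcen a ha w hw).symm)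
  have hXN : X ≤ N := hXK.trans h.KW
  have he0N : e0 ∈ N := h.KW (h.EK he0E)
  set π : N →* N ⧸ W.subgroupOf N := QuotientGroup.mk' _ with hπ
  have hker : ∀ a : N, π a = 1 ↔ (a : G) ∈ W := fun a => by
    rw [hπ, QuotientGroup.mk'_apply, QuotientGroup.eq_one_iff, mem_subgroupOf]
  set U := (P.subgroupOf N).map π with hU
  set M := (X.subgroupOf N).map π with hM
  have hMel : Cfsg.IsElementaryAbelian r M := by
    refine ⟨⟨⟨?_⟩⟩, ?_⟩
    · rintro ⟨_, a, ha, rfl⟩ ⟨_, b, hb, rfl⟩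
      apply Subtype.ext
      show π a * π b = π b * π a
      rw [← map_mul, ← map_mul, show a * b = b * a from Subtype.ext (commute_of_mem hX.1 ha hb).eq]
    · rintro _ ⟨a, ha, rfl⟩
      rw [← map_pow, show a ^ r = 1 from Subtype.ext (by rw [Subgroup.coe_pow]; exact hX.1.2 _ ha),
        map_one]
  have hUel : Cfsg.IsElementaryAbelian q U := by
    refine ⟨⟨⟨?_⟩⟩, ?_⟩
    · rintro ⟨_, a, ha, rfl⟩ ⟨_, b, hb, rfl⟩
      apply Subtype.ext
      show π a * π b = π b * π a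
      rw [← mul_inv_eq_one, ← map_mul, ← map_mul, ← map_inv, ← map_mul, hker]
      have := hPcomm _ ha _ hb
      simpa [mul_assoc] using this
    · rintro _ ⟨a, ha, rfl⟩
      rw [← map_pow, show a ^ q = 1 from Subtype.ext (by rw [Subgroup.coe_pow]; exact hPq _ ha),
        map_one]
  set ē := π ⟨e0, he0N⟩ with hē
  have hēo : orderOf ē = s := by
    refine orderOf_eq_prime ?_ ?_
    · rw [hē, ← map_pow, show (⟨e0, he0N⟩ : N) ^ s = 1 from
        Subtype.ext (by rw [Subgroup.coe_pow]; exact h.Ewide.1.2 e0 he0E), map_one]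
    · intro h1
      have h2 := orderOf_of_mem h.Wel ((hker _).1 h1) he01
      exact h.hqs (h2.symm.trans he0o)
  have hnormal : ∀ (A : Subgroup G), A ≤ N → ∀ a : N, (a : G) ∈ normalizer (A : Set G) →
      π a ∈ normalizer ((A.subgroupOf N).map π : Set (N ⧸ W.subgroupOf N)) := by
    intro A _ a ha
    refine Subgroup.le_normalizer_map π ⟨a, ?_, rfl⟩
    rw [SetLike.mem_coe, mem_normalizer_iff]
    intro b
    simp only [mem_subgroupOf, Subgroup.coe_mul, Subgroup.coe_inv]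
    exact mem_normalizer_iff.1 ha b
  have hMU : M ≤ normalizer (U : Set (N ⧸ W.subgroupOf N)) := by
    rintro _ ⟨a, ha, rfl⟩
    exact hnormal P hPN a (hKP (hXK ha))
  have hēfix : ¬ Fix ē U := by
    rintro ⟨_, ⟨a, ha, rfl⟩, ha1, hc⟩
    refine hnofix a ha (fun hW => ha1 ((hker a).2 hW)) ?_
    have h1 := (hker (⟨e0, he0N⟩ * a * (⟨e0, he0N⟩ : N)⁻¹ * a⁻¹)).1 (by
      rw [map_mul, map_mul, map_mul, map_inv, map_inv, ← hē, hc.eq]; group)
    simpa using h1
  have hall := commutator_cent h.hrs (Ne.symm h.hqr) hMel.1 (isPGroup_of_elementary hMel) hUel.1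
    (isPGroup_of_elementary hUel) hēo (hnormal X hXN _ (hEX he0E)) (hnormal P hPN _ (hKP (h.EK he0E)))
    hMU hēfix
  obtain ⟨hwide, hle⟩ := hpair g hgP hgW
  refine hfinal _ hwide hle fun x hx => ?_
  have hxg : Commute x g := by
    obtain ⟨m, hm, hmx⟩ := exists_displacement_preimage hX.1.1 (hEX he0E) he0X hx
    have h1 := hall (π ⟨m, hXN hm⟩) ⟨_, hm, rfl⟩ (π ⟨g, hPN hgP⟩) ⟨_, hgP, rfl⟩
    rw [hē, ← map_inv, ← map_inv, ← map_mul, ← map_mul, ← map_mul,
      show (⟨e0, he0N⟩ : N) * ⟨m, hXN hm⟩ * (⟨e0, he0N⟩ : N)⁻¹ * (⟨m, hXN hm⟩ : N)⁻¹ =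
        ⟨x, hXN hx⟩ from Subtype.ext hmx] at h1
    have h2 := (hker (⟨x, hXN hx⟩ * ⟨g, hPN hgP⟩ * (⟨x, hXN hx⟩ : N)⁻¹ * (⟨g, hPN hgP⟩ : N)⁻¹)).1
      (by rw [map_mul, map_mul, map_mul, map_inv, map_inv, h1.eq]; group)
    exact commute_of_coset_fixed (Ne.symm h.hqr) h.Wel.2 (hX.1.2 x hx) (hXW x hx) h2
  intro a ha
  refine Subgroup.closure_induction (p := fun g _ => Commute x g) ?_ (Commute.one_right _)
    (fun _ _ _ _ h1 h2 => h1.mul_right h2) (fun _ _ h1 => h1.inv_right) ha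
  rintro a (rfl | rfl)
  · exact hXW x hx _ hw0
  · exact hxg

end H70.NT
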