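import Cfsg.Agent.H70.NoTripleCases
import Cfsg.Agent.H68.Bender
import Cfsg.Agent.H77.CharP
import Cfsg.Agent.H35.Basic
import Cfsg.Agent.H34.Solv
import Cfsg.Agent.H1.Hall
import Cfsg.Agent.H1.Fitting
import Cfsg.Agent.H64.ThreePrimes

/-!
A solvable group cannot have four primes pairwise joined and no three of them joined.
-/

set_option autoImplicit false
set_option linter.unusedSectionVars false
set_option linter.style.haveILetI false

namespace H70.NT

open Subgroup

universe u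

variable {G : Type*} [Group G] [Finite G]

theorem exists_orderOf_of_dvd {g : G} {t : ℕ} (h : t ∣ orderOf g) :
    orderOf (g ^ (orderOf g / t)) = t :=
  orderOf_pow_orderOf_div (orderOf_pos g).ne' h

/-- A `t`-subgroup is conjugate into a subgroup of index prime to `t`. -/
theorem exists_conj_mem {t : ℕ} [Fact t.Prime] {A K : Subgroup G} (hA : IsPGroup t A)
    (hK : ¬ t ∣ K.index) : ∃ g : G, ∀ x ∈ A, g⁻¹ * x * g ∈ K := by
  obtain ⟨z, hz⟩ := hA.nonempty_fixed_point_of_prime_not_dvd_card (G ⧸ K) hK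
  obtain ⟨g, rfl⟩ := QuotientGroup.mk_surjective z
  refine ⟨g, fun x hx => ?_⟩
  have h1 : ((x * g : G) : G ⧸ K) = (g : G ⧸ K) := hz ⟨x, hx⟩
  rw [mul_assoc]
  exact QuotientGroup.eq.1 h1.symm

/-- Commuting independent pairs of order `t` are found in subgroups of index prime to `t`. -/
theorem exists_pair_mem {t : ℕ} [Fact t.Prime] {K : Subgroup G} (hK : ¬ t ∣ K.index) {a b : G}
    (ha : orderOf a = t) (hb : b ^ t = 1) (hab : Commute a b) (hba : b ∉ zpowers a) :
    ∃ a' ∈ K, ∃ b' ∈ K, orderOf a' = t ∧ b' ^ t = 1 ∧ Commute a' b' ∧ b' ∉ zpowers a' := by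
  obtain ⟨g, hg⟩ :=
    exists_conj_mem (isPGroup_of_elementary (wide_closure_pair ha hb hab hba).1) hK
  set φ := (MulAut.conj g⁻¹).toMonoidHom with hφ
  have hval : ∀ x, φ x = g⁻¹ * x * g := fun x => by
    rw [hφ]; show g⁻¹ * x * g⁻¹⁻¹ = _; rw [inv_inv]
  have hinj : Function.Injective φ := (MulAut.conj g⁻¹).injective
  refine ⟨φ a, hval a ▸ hg a (subset_closure (Or.inl rfl)), φ b,
    hval b ▸ hg b (subset_closure (Or.inr rfl)), (orderOf_injective φ hinj a).trans ha,
    by rw [← map_pow, hb, map_one], hab.map φ, fun h => hba ?_⟩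
  obtain ⟨k, hk⟩ := mem_zpowers_iff.1 h
  rw [← map_zpow] at hk
  exact hinj hk ▸ zpow_mem (mem_zpowers a) k

/-- Some `O_t` is noncyclic if the largest prime has a commuting independent pair. -/
theorem exists_noncyclic_pCore [Group.IsSolvable G] {v : ℕ} [Fact v.Prime]
    (hmax : ∀ t : ℕ, t.Prime → t ∣ Nat.card G → t ≤ v) {a b : G} (ha : orderOf a = v)
    (hb : b ^ v = 1) (hab : Commute a b) (hba : b ∉ zpowers a) :
    ∃ t : ℕ, t.Prime ∧ t ∣ Nat.card G ∧ ¬ IsCyclic (Cfsg.pCore t G) := by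
  classical
  by_contra hcon
  push Not at hcon
  have hdvd : ∀ t : ℕ, t.Prime → Cfsg.pCore t G ≠ ⊥ → t ∣ Nat.card G := by
    intro t ht h
    haveI := Fact.mk ht
    exact (((Cfsg.Comp.pCore_isPGroup t).card_eq_or_dvd).resolve_left
      (fun h1 => h (Subgroup.card_eq_one.1 h1))).trans (card_subgroup_dvd_card _)
  have hcyc : ∀ t : ℕ, t.Prime → IsCyclic (Cfsg.pCore t G) := by
    intro t ht
    by_cases h : Cfsg.pCore t G = ⊥
    · rw [h]; infer_instance
    · exact hcon t ht (hdvd t ht h)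
  have hn : ∀ t : ℕ, (Cfsg.pCore t G).Normal := fun t => H1.pCore_normal' t G
  -- commutators centralise every core
  have hcomm : ∀ t : ℕ, t.Prime → ∀ x y : G, ∀ z ∈ Cfsg.pCore t G,
      Commute (x * y * x⁻¹ * y⁻¹) z := by
    intro t ht x y z hz
    haveI := hn t
    haveI := hcyc t ht
    set ψ : G →* MulAut (Cfsg.pCore t G) := MulAut.conjNormal with hψ
    set eA := IsCyclic.mulAutMulEquiv (Cfsg.pCore t G)
    have h1 : ψ x * ψ y = ψ y * ψ x := eA.injective (by rw [map_mul, map_mul, mul_comm])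
    have h2 : ψ (x * y * x⁻¹ * y⁻¹) = 1 := by
      rw [map_mul, map_mul, map_mul, map_inv, map_inv, h1]; group
    have h3 := congrArg (fun f : MulAut (Cfsg.pCore t G) => ((f ⟨z, hz⟩ : Cfsg.pCore t G) : G)) h2
    simp only [hψ, MulAut.conjNormal_apply, MulAut.one_apply] at h3
    exact mul_inv_eq_iff_eq_mul.1 h3
  have hacent : ∀ x : G, x ^ v = 1 → ∀ t : ℕ, t.Prime → t ≠ v → ∀ z ∈ Cfsg.pCore t G,
      Commute x z := by
    intro x hx t ht htv z hz
    by_cases h : Cfsg.pCore t G = ⊥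
    · rw [h, mem_bot] at hz
      exact hz ▸ Commute.one_right x
    haveI := hn t
    haveI := hcyc t ht
    haveI := Fact.mk ht
    have htlt : t < v := lt_of_le_of_ne (hmax t ht (hdvd t ht h)) htv
    set ψ : G →* MulAut (Cfsg.pCore t G) := MulAut.conjNormal with hψ
    obtain ⟨k, hk⟩ := (Cfsg.Comp.pCore_isPGroup (G := G) t).exists_card_eq
    have hk0 : 0 < k := Nat.pos_of_ne_zero fun h0 => h (Subgroup.card_eq_one.1 (by rw [hk, h0, pow_zero]))
    have hcard : Nat.card (MulAut (Cfsg.pCore t G)) = t ^ (k - 1) * (t - 1) := by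
      haveI : NeZero (Nat.card (Cfsg.pCore t G)) := ⟨Nat.card_pos.ne'⟩
      rw [Nat.card_congr (IsCyclic.mulAutMulEquiv (Cfsg.pCore t G)).toEquiv, Nat.card_eq_fintype_card,
        ZMod.card_units_eq_totient, hk, Nat.totient_prime_pow ht hk0]
    have h1 : orderOf (ψ x) ∣ Nat.card (MulAut (Cfsg.pCore t G)) := orderOf_dvd_natCard _
    have h2 : orderOf (ψ x) ∣ v := orderOf_dvd_of_pow_eq_one (by rw [← map_pow, hx, map_one])
    have h3 : ψ x = 1 := by
      rcases (Fact.out : v.Prime).eq_one_or_self_of_dvd _ h2 with h4 | h4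
      · exact orderOf_eq_one_iff.1 h4
      · rw [h4, hcard] at h1
        rcases (Fact.out : v.Prime).dvd_mul.1 h1 with h5 | h5
        · have := Nat.le_of_dvd ht.pos ((Fact.out : v.Prime).dvd_of_dvd_pow h5)
          omega
        · have := Nat.le_of_dvd (by have := ht.two_le; omega) h5
          omega
    have h4 := congrArg (fun f : MulAut (Cfsg.pCore t G) => ((f ⟨z, hz⟩ : Cfsg.pCore t G) : G)) h3
    simp only [hψ, MulAut.conjNormal_apply, MulAut.one_apply] at h4
    exact mul_inv_eq_iff_eq_mul.1 h4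
  set F := Cfsg.fittingSubgroup G with hF
  -- prime power elements of `F` lie in cores
  have hFgen : ∀ S : Subgroup G, (∀ t : ℕ, t.Prime → ∀ z ∈ Cfsg.pCore t G, z ∈ S) → F ≤ S := by
    intro S hS
    have h1 := H35.eq_top_of_prime_pow_mem (S.subgroupOf F) fun t k x ht hx => by
      haveI := Fact.mk ht
      exact hS t ht _ (H68.fitting_mem_pCore x.2 (k := k) (by rw [Subgroup.coe_subtype, Subgroup.orderOf_coe, hx]))
    exact subgroupOf_eq_top.1 h1
  have hDF : ∀ x y : G, x * y * x⁻¹ * y⁻¹ ∈ F := by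
    intro x y
    refine H1.centralizer_fitting_le_of_isSolvable inferInstance (mem_centralizer_iff.2 fun z hz => ?_)
    have h1 := hFgen (centralizer {x * y * x⁻¹ * y⁻¹})
      (fun t ht w hw => mem_centralizer_singleton_iff.2 (hcomm t ht x y w hw).symm.eq) hz
    exact mem_centralizer_singleton_iff.1 h1
  set L := closure ({a, b} : Set G) with hL
  set T := Cfsg.pCore v G ⊔ L with hT
  haveI := hn v
  have hTp : IsPGroup v T := (Cfsg.Comp.pCore_isPGroup v).to_sup_of_normal_left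
    (isPGroup_of_elementary (wide_closure_pair ha hb hab hba).1)
  have hFT : F ≤ normalizer (T : Set G) := by
    refine hFgen _ fun t ht z hz => ?_
    haveI := Fact.mk ht
    by_cases htv : t = v
    · subst htv
      exact le_normalizer (mem_sup_left hz)
    · refine centralizer_le_normalizer _ (mem_centralizer_iff.2 fun w hw => ?_)
      have : T ≤ centralizer {z} := by
        refine sup_le (fun w hw => mem_centralizer_singleton_iff.2
          (H68.pCore_commute_pCore (Ne.symm htv) hw hz)) ?_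
        rw [hL, closure_le]
        rintro w (rfl | rfl)
        · exact mem_centralizer_singleton_iff.2 (hacent _ (by rw [← ha, pow_orderOf_eq_one]) t ht htv z hz).eq
        · exact mem_centralizer_singleton_iff.2 (hacent _ hb t ht htv z hz).eq
      exact mem_centralizer_singleton_iff.1 (this hw)
  set M := F ⊔ T with hM
  haveI hMn : M.Normal := ⟨fun m hm g => by
    rw [show g * m * g⁻¹ = g * m * g⁻¹ * m⁻¹ * m by group]
    exact mul_mem (mem_sup_left (hDF g m)) hm⟩
  have hTM : (T.subgroupOf M).Normal :=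
    normal_subgroupOf_of_le_normalizer (sup_le hFT le_normalizer)
  have hsn : T.IsSubnormal := Subgroup.IsSubnormal.step T M le_sup_right hMn.isSubnormal hTM
  have hTle := Cfsg.Comp.le_pCore_of_subnormal hsn hTp
  haveI := hcyc v Fact.out
  have hmem : ∀ x ∈ ({a, b} : Set G), x ∈ Cfsg.pCore v G := fun x hx =>
    hTle (mem_sup_right (subset_closure hx))
  have h1 := mem_zpowers_of_cyclic (A := Cfsg.pCore v G) (s := v)
    (a := ⟨a, hmem a (Or.inl rfl)⟩) (b := ⟨b, hmem b (Or.inr rfl)⟩)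
    (by rw [Subgroup.orderOf_mk, ha]) (Subtype.ext (by rw [Subgroup.coe_pow, hb]; rfl))
  obtain ⟨k, hk⟩ := mem_zpowers_iff.1 h1
  exact hba ⟨k, by simpa using congrArg Subtype.val hk⟩

theorem noTriple_of_orderOf {σ : Finset ℕ} (hprime : ∀ p ∈ σ, p.Prime)
    (h3 : ∀ p ∈ σ, ∀ q ∈ σ, ∀ r ∈ σ, p ≠ q → q ≠ r → p ≠ r → ∀ g : G, orderOf g ≠ p * q * r) :
    NoTriple G σ := by
  intro x y z a b c ha hb hc hab hbc hac hx hy hz hxy hxz hyz
  refine h3 a ha b hb c hc hab hbc hac (x * y * z) ?_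
  have hxy' : orderOf (x * y) = a * b := by
    rw [hxy.orderOf_mul_eq_mul_orderOf_of_coprime
      (by rw [hx, hy]; exact (Nat.coprime_primes (hprime a ha) (hprime b hb)).2 hab), hx, hy]
  rw [(hxz.mul_left hyz).orderOf_mul_eq_mul_orderOf_of_coprime (by
    rw [hxy', hz]
    exact ((Nat.coprime_primes (hprime a ha) (hprime c hc)).2 hac).mul_left
      ((Nat.coprime_primes (hprime b hb) (hprime c hc)).2 hbc)), hxy', hz]

/-- Each prime has a commuting independent pair. -/
theorem exists_pair_of_edges (hsol : Group.IsSolvable G) {σ : Finset ℕ} (hσ : 4 ≤ σ.card)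
    (hprime : ∀ p ∈ σ, p.Prime) (h2 : ∀ p ∈ σ, ∀ q ∈ σ, p ≠ q → ∃ g : G, orderOf g = p * q)
    (hno : NoTriple G σ) {t : ℕ} (ht : t ∈ σ) [Fact t.Prime] :
    ∃ a b : G, orderOf a = t ∧ b ^ t = 1 ∧ Commute a b ∧ b ∉ zpowers a := by
  classical
  by_contra hcon
  push Not at hcon
  obtain ⟨P⟩ := (inferInstance : Nonempty (Sylow t G))
  obtain ⟨t', ht', htt'⟩ : ∃ t' ∈ σ, t ≠ t' := by
    obtain ⟨t', h'⟩ : (σ.erase t).Nonempty := by
      rw [← Finset.card_pos, Finset.card_erase_of_mem ht]; omega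
    exact ⟨t', Finset.mem_of_mem_erase h', Ne.symm (Finset.ne_of_mem_erase h')⟩
  obtain ⟨g0, hg0⟩ := h2 t ht t' ht' htt'
  have hP1 : (P : Subgroup G) ≠ ⊥ :=
    P.ne_bot_of_dvd_card ((dvd_mul_right t t').trans (hg0 ▸ orderOf_dvd_natCard g0))
  obtain ⟨c, hc, hc1⟩ :=
    (omZ t (P : Subgroup G)).bot_or_exists_ne_one.resolve_left (omZ_ne_bot P.2 hP1)
  have hco := orderOf_of_mem (omZ_el _) hc hc1
  have hcent : ∀ q ∈ σ, q ≠ t → q ∣ Nat.card (centralizer ({c} : Set G)) := by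
    intro q hq hqt
    obtain ⟨g, hg⟩ := h2 t ht q hq (Ne.symm hqt)
    set x := g ^ (orderOf g / t) with hx
    set y := g ^ (orderOf g / q) with hy
    have hxo : orderOf x = t := exists_orderOf_of_dvd (hg ▸ dvd_mul_right t q)
    have hyo : orderOf y = q := exists_orderOf_of_dvd (hg ▸ dvd_mul_left q t)
    obtain ⟨h, hh⟩ := exists_conj_mem (A := zpowers x) (K := (P : Subgroup G))
      (IsPGroup.of_card (n := 1) (by rw [Nat.card_zpowers, hxo, pow_one])) P.not_dvd_index
    set φ := (MulAut.conj h⁻¹).toMonoidHom with hφ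
    have hinj : Function.Injective φ := (MulAut.conj h⁻¹).injective
    have hval : φ x = h⁻¹ * x * h := by
      rw [hφ]; show h⁻¹ * x * h⁻¹⁻¹ = _; rw [inv_inv]
    have hxP : φ x ∈ (P : Subgroup G) := hval ▸ hh x (mem_zpowers x)
    have hφo : orderOf (φ x) = t := (orderOf_injective φ hinj x).trans hxo
    have hmem := hcon c (φ x) hco (by rw [← hφo, pow_orderOf_eq_one]) (hc.2.2 _ hxP)
    have heq : zpowers (φ x) = zpowers c := eq_of_le_of_card_ge (zpowers_le.2 hmem)
      (by rw [Nat.card_zpowers, Nat.card_zpowers, hco, hφo])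
    obtain ⟨k, hk⟩ := mem_zpowers_iff.1 (heq ▸ mem_zpowers c : c ∈ zpowers (φ x))
    have hcom : Commute (φ y) c := hk ▸ (((Commute.refl g).pow_pow _ _).map φ).zpow_right k
    have h4 : (orderOf (φ y)) = q := (orderOf_injective φ hinj y).trans hyo
    exact h4 ▸ Subgroup.orderOf_dvd_natCard _ (mem_centralizer_singleton_iff.2 hcom.eq)
  obtain ⟨τ, hτσ, hτ⟩ := Finset.exists_subset_card_eq (s := σ.erase t) (n := 3)
    (by rw [Finset.card_erase_of_mem ht]; omega)
  obtain ⟨r, s, v, hrs, hrv, hsv, rfl⟩ := Finset.card_eq_three.1 hτ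
  have hm : ∀ z ∈ ({r, s, v} : Finset ℕ), z ∈ σ ∧ z ≠ t := fun z hz =>
    ⟨Finset.mem_of_mem_erase (hτσ hz), Finset.ne_of_mem_erase (hτσ hz)⟩
  obtain ⟨hr, hrt⟩ := hm r (by simp)
  obtain ⟨hs, hst⟩ := hm s (by simp)
  obtain ⟨hv, hvt⟩ := hm v (by simp)
  have fin : ∀ i j : ℕ, i ∈ σ → j ∈ σ → i ≠ t → j ≠ t → i ≠ j →
      ∀ z : centralizer ({c} : Set G), orderOf z ≠ i * j := by
    intro i j hi hj hit hjt hij z hz
    have hz' : orderOf (z : G) = i * j := by rw [Subgroup.orderOf_coe, hz]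
    have hc' : Commute (z : G) c := mem_centralizer_singleton_iff.1 z.2
    exact hno ((z : G) ^ (orderOf (z : G) / i)) ((z : G) ^ (orderOf (z : G) / j)) c i j t hi hj ht hij
      hjt hit (exists_orderOf_of_dvd (hz' ▸ dvd_mul_right i j))
      (exists_orderOf_of_dvd (hz' ▸ dvd_mul_left j i)) hco ((Commute.refl _).pow_pow _ _)
      (hc'.pow_left _) (hc'.pow_left _)
  rcases H64.three_primes_adjacent (G := centralizer ({c} : Set G)) inferInstance (hprime r hr)
    (hprime s hs) (hprime v hv) hrs hrv hsv (hcent r hr hrt) (hcent s hs hst) (hcent v hv hvt) with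
    ⟨z, hz⟩ | ⟨z, hz⟩ | ⟨z, hz⟩
  · exact fin r s hr hs hrt hst hrs z hz
  · exact fin r v hr hv hrt hvt hrv z hz
  · exact fin s v hs hv hst hvt hsv z hz

/-- The main theorem. -/
theorem not_solvable {G : Type u} [Group G] [Finite G] (σ : Finset ℕ) (hσ : 4 ≤ σ.card)
    (hprime : ∀ p ∈ σ, p.Prime) (h2 : ∀ p ∈ σ, ∀ q ∈ σ, p ≠ q → ∃ g : G, orderOf g = p * q)
    (h3 : ∀ p ∈ σ, ∀ q ∈ σ, ∀ r ∈ σ, p ≠ q → q ≠ r → p ≠ r → ∀ g : G, orderOf g ≠ p * q * r) :
    ¬ Group.IsSolvable G := by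
  classical
  intro hsol
  induction hn : Nat.card G using Nat.strong_induction_on generalizing G with
  | _ n ih =>
  subst hn
  obtain ⟨x0, hx0, y0, hy0, hxy0⟩ := Finset.one_lt_card.1 (show 1 < σ.card by omega)
  haveI : Nontrivial G := by
    obtain ⟨g, hg⟩ := h2 x0 hx0 y0 hy0 hxy0
    refine nontrivial_of_ne g 1 fun h => ?_
    rw [h, orderOf_one] at hg
    exact (hprime x0 hx0).ne_one (Nat.eq_one_of_mul_eq_one_right hg.symm)
  obtain ⟨p, V, hp, hVn, hV1, hVc, hVe, hVp⟩ := H34.exists_normal_elementary hsol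
  haveI := hVn
  haveI := hsol
  by_cases hpσ : p ∉ σ
  · -- pass to the quotient
    set π := QuotientGroup.mk' V
    refine ih (Nat.card (G ⧸ V)) ?_ (G := G ⧸ V) ?_ ?_ inferInstance rfl
    · rw [card_eq_card_quotient_mul_card_subgroup V]
      exact lt_mul_of_one_lt_right Nat.card_pos
        (Finite.one_lt_card_iff_nontrivial.2 ((nontrivial_iff_ne_bot V).2 hV1))
    · intro a ha b hb hab
      obtain ⟨g, hg⟩ := h2 a ha b hb hab
      refine ⟨π g, Nat.dvd_antisymm (hg ▸ orderOf_map_dvd π g) ?_⟩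
      have h1 : g ^ orderOf (π g) ∈ V := (QuotientGroup.eq_one_iff _).1
        (show π (g ^ orderOf (π g)) = 1 by rw [map_pow, pow_orderOf_eq_one])
      have h2' := orderOf_dvd_of_pow_eq_one (hVe _ h1)
      have hcop : (a * b).Coprime p :=
        ((Nat.coprime_primes (hprime a ha) hp).2 (fun h => hpσ (h ▸ ha))).mul_left
          ((Nat.coprime_primes (hprime b hb) hp).2 (fun h => hpσ (h ▸ hb)))
      have h4 := orderOf_eq_one_iff.1 (Nat.eq_one_of_dvd_coprimes hcop
        (hg ▸ orderOf_pow_dvd _) h2')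
      exact hg ▸ orderOf_dvd_of_pow_eq_one h4
    · intro a ha b hb c hc hab hbc hac z hz
      obtain ⟨g, rfl⟩ := QuotientGroup.mk'_surjective V z
      exact h3 a ha b hb c hc hab hbc hac _
        (exists_orderOf_of_dvd (hz ▸ orderOf_map_dvd π g))
  push Not at hpσ
  have hno := noTriple_of_orderOf hprime h3
  haveI := Fact.mk hp
  have hVel : Cfsg.IsElementaryAbelian p V := ⟨hVc, hVe⟩
  obtain ⟨τ, hτσ, hτ⟩ := Finset.exists_subset_card_eq (s := σ.erase p) (n := 3)
    (by rw [Finset.card_erase_of_mem hpσ]; omega)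
  have hτmem : ∀ t ∈ τ, t ∈ σ ∧ p ≠ t ∧ t.Prime := fun t ht =>
    ⟨Finset.mem_of_mem_erase (hτσ ht), Ne.symm (Finset.ne_of_mem_erase (hτσ ht)),
      hprime t (Finset.mem_of_mem_erase (hτσ ht))⟩
  obtain ⟨H, -, hH1, hH2⟩ := H1.hall_pi_exists_ge (fun t => t ∈ τ) (⊥ : Subgroup G)
    (fun t ht h => absurd (by simpa using h) ht.ne_one)
  have hτne : τ.Nonempty := Finset.card_pos.1 (by omega)
  -- the prime `q`
  obtain ⟨q, hqτ, hqnc⟩ : ∃ q ∈ τ, ¬ IsCyclic (Cfsg.pCore q H) := by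
    set v := τ.max' hτne
    have hvτ : v ∈ τ := τ.max'_mem hτne
    haveI := Fact.mk (hτmem v hvτ).2.2
    obtain ⟨a0, b0, k1, k2, k3, k4⟩ := exists_pair_of_edges hsol hσ hprime h2 hno (hτmem v hvτ).1
    obtain ⟨a, ha, b, hb, e1, e2, e3, e4⟩ :=
      exists_pair_mem (K := H) (fun h => hH2 v Fact.out h hvτ) k1 k2 k3 k4
    obtain ⟨t, ht, htd, hnc⟩ := exists_noncyclic_pCore (G := H) (v := v)
      (fun t ht htd => τ.le_max' t (hH1 t ht htd)) (a := ⟨a, ha⟩) (b := ⟨b, hb⟩)
      (by rw [Subgroup.orderOf_mk, e1]) (Subtype.ext (by rw [Subgroup.coe_pow, e2]; rfl))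
      (Subtype.ext e3.eq) (fun h => e4 (by
        obtain ⟨k, hk⟩ := mem_zpowers_iff.1 h
        exact ⟨k, by simpa using congrArg Subtype.val hk⟩))
    exact ⟨t, hH1 t ht htd, hnc⟩
  obtain ⟨hqσ, hpq, hq⟩ := hτmem q hqτ
  haveI := Fact.mk hq
  set P0 := Cfsg.pCoreOf q H with hP0
  have hP0p : IsPGroup q P0 := H77.isPGroup_pCoreOf H
  have hP0nc : ¬ IsCyclic P0 := fun h => hqnc (haveI : IsCyclic ((Cfsg.pCore q H).map H.subtype) := h; isCyclic_of_surjective
    (equivMapOfInjective (Cfsg.pCore q H) H.subtype Subtype.coe_injective).symm.toMonoidHom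
    (equivMapOfInjective (Cfsg.pCore q H) H.subtype Subtype.coe_injective).symm.surjective)
  have hP01 : P0 ≠ ⊥ := by
    intro h0
    apply hP0nc
    rw [h0]
    infer_instance
  have hHP : H ≤ normalizer (P0 : Set G) := H77.le_normalizer_pCoreOf H
  -- the subgroup `K`
  obtain ⟨K0, -, hK1, hK2⟩ := H1.hall_pi_exists_ge (fun t => t ∈ τ.erase q) (⊥ : Subgroup H)
    (fun t ht h => absurd (by simpa using h) ht.ne_one)
  set K := K0.map H.subtype with hK
  have hKH : K ≤ H := map_subtype_le K0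
  have hKcard : ∀ t : ℕ, t.Prime → t ∣ Nat.card K → t ∈ τ.erase q := fun t ht h =>
    hK1 t ht (by rwa [hK, card_map_of_injective Subtype.coe_injective] at h)
  have hKidx : ∀ t ∈ τ.erase q, ¬ t ∣ K.index := by
    intro t ht h
    rw [hK, index_map_subtype] at h
    rcases (hτmem t (Finset.mem_of_mem_erase ht)).2.2.dvd_mul.1 h with h | h
    · exact hK2 t (hτmem t (Finset.mem_of_mem_erase ht)).2.2 h ht
    · exact hH2 t (hτmem t (Finset.mem_of_mem_erase ht)).2.2 h (Finset.mem_of_mem_erase ht)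
  have hpairK : ∀ t ∈ τ.erase q, ∃ a ∈ K, ∃ b ∈ K,
      orderOf a = t ∧ b ^ t = 1 ∧ Commute a b ∧ b ∉ zpowers a := by
    intro t ht
    haveI := Fact.mk (hτmem t (Finset.mem_of_mem_erase ht)).2.2
    obtain ⟨a0, b0, k1, k2, k3, k4⟩ :=
      exists_pair_of_edges hsol hσ hprime h2 hno (hτmem t (Finset.mem_of_mem_erase ht)).1
    exact exists_pair_mem (hKidx t ht) k1 k2 k3 k4
  have hcard2 : (τ.erase q).card = 2 := by rw [Finset.card_erase_of_mem hqτ, hτ]
  have hne2 : (τ.erase q).Nonempty := Finset.card_pos.1 (by omega)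
  obtain ⟨r, hr, hrnc⟩ : ∃ r ∈ τ.erase q, ¬ IsCyclic (Cfsg.pCore r K) := by
    set v := (τ.erase q).max' hne2
    have hvτ : v ∈ τ.erase q := Finset.max'_mem _ hne2
    haveI := Fact.mk (hτmem v (Finset.mem_of_mem_erase hvτ)).2.2
    obtain ⟨a, ha, b, hb, e1, e2, e3, e4⟩ := hpairK v hvτ
    obtain ⟨t, ht, htd, hnc⟩ := exists_noncyclic_pCore (G := K) (v := v)
      (fun t ht htd => Finset.le_max' _ t (hKcard t ht htd)) (a := ⟨a, ha⟩) (b := ⟨b, hb⟩)
      (by rw [Subgroup.orderOf_mk, e1]) (Subtype.ext (by rw [Subgroup.coe_pow, e2]; rfl))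
      (Subtype.ext e3.eq) (fun h => e4 (by
        obtain ⟨k, hk⟩ := mem_zpowers_iff.1 h
        exact ⟨k, by simpa using congrArg Subtype.val hk⟩))
    exact ⟨t, hKcard t ht htd, hnc⟩
  obtain ⟨s, hs⟩ : ((τ.erase q).erase r).Nonempty := by
    rw [← Finset.card_pos, Finset.card_erase_of_mem hr, hcard2]; omega
  obtain ⟨hsr, hs'⟩ := Finset.mem_erase.1 hs
  have hrs_only : ∀ t ∈ τ.erase q, t = r ∨ t = s := by
    intro t ht
    by_contra hne
    push Not at hne
    have h3' : ({t, r, s} : Finset ℕ).card = 3 :=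
      Finset.card_eq_three.2 ⟨t, r, s, hne.1, hne.2, Ne.symm hsr, rfl⟩
    have := Finset.card_le_card (show ({t, r, s} : Finset ℕ) ⊆ τ.erase q by
      intro z hz
      simp only [Finset.mem_insert, Finset.mem_singleton] at hz
      rcases hz with rfl | rfl | rfl <;> assumption)
    omega
  obtain ⟨hrσ, hpr, hrp⟩ := hτmem r (Finset.mem_of_mem_erase hr)
  obtain ⟨hsσ, hps, hsp⟩ := hτmem s (Finset.mem_of_mem_erase hs')
  haveI := Fact.mk hrp
  haveI := Fact.mk hsp
  set R := Cfsg.pCoreOf r K with hR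
  have hRp : IsPGroup r R := H77.isPGroup_pCoreOf K
  have hRnc : ¬ IsCyclic R := fun h => hrnc (haveI : IsCyclic ((Cfsg.pCore r K).map K.subtype) := h; isCyclic_of_surjective
    (equivMapOfInjective (Cfsg.pCore r K) K.subtype Subtype.coe_injective).symm.toMonoidHom
    (equivMapOfInjective (Cfsg.pCore r K) K.subtype Subtype.coe_injective).symm.surjective)
  obtain ⟨a, ha, b, hb, e1, e2, e3, e4⟩ := hpairK s hs'
  have hEwide := wide_closure_pair e1 e2 e3 e4
  have hEK : closure ({a, b} : Set G) ≤ K := by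
    rw [closure_le]
    rintro z (rfl | rfl) <;> assumption
  have hqr : q ≠ r := Ne.symm (Finset.ne_of_mem_erase hr)
  have hqs : q ≠ s := Ne.symm (Finset.ne_of_mem_erase hs')
  have hKV : K ≤ normalizer (V : Set G) := le_normalizer_of_normal
  have hmk : ∀ W : Subgroup G, Cfsg.IsElementaryAbelian q W → W ≠ ⊥ → H ≤ normalizer (W : Set G) →
      Config σ p q r s V W K (closure ({a, b} : Set G)) := fun W h1 h2 h4 =>
    ⟨hno, hpσ, hqσ, hrσ, hsσ, hpq, hpr, hps, hqr, hqs, Ne.symm hsr, hVel, hV1, h1, h2,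
      le_normalizer_of_normal, hKV, hKH.trans h4, hEwide, hEK⟩
  have hW0n : H ≤ normalizer (omZ q P0 : Set G) := hHP.trans (normalizer_le_omZ P0)
  have hCVn : (centralizer (V : Set G)).Normal := normal_centralizer
  by_cases hD : omZ q P0 ⊓ centralizer (V : Set G) = ⊥
  · have hB : ∀ w ∈ omZ q P0, Cent w V → w = 1 := by
      intro w hw hcw
      have h1 : w ∈ omZ q P0 ⊓ centralizer (V : Set G) :=
        Subgroup.mem_inf.2 ⟨hw, mem_centralizer_iff.2 fun v hv => (hcw v hv).symm.eq⟩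
      rwa [hD, mem_bot] at h1
    refine (hmk _ (omZ_el P0) (omZ_ne_bot hP0p hP01) hW0n).caseB hB hRp hRnc (H77.pCoreOf_le K)
      (H77.le_normalizer_pCoreOf K) fun hW hq2 => ?_
    obtain ⟨P, hWP, hPP0, hPW, hPn, hPq, hPcen, hPcomm⟩ := exists_classTwo hq2 hP0p hP0nc hW
    exact ⟨P, hWP, hPW, le_normalizer_of_normal, hKH.trans (hHP.trans hPn), hPq, hPcen,
      fun g hg g' hg' => hPcomm g hg g' (hPP0 hg')⟩
  · set W := omZ q P0 ⊓ centralizer (V : Set G) with hW
    have hWel : Cfsg.IsElementaryAbelian q W :=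
      ⟨⟨⟨fun x y => Subtype.ext (commute_of_mem (omZ_el P0) (inf_le_left (a := omZ q P0) x.2)
        (inf_le_left (a := omZ q P0) y.2))⟩⟩, fun x hx => (omZ_el P0).2 x (inf_le_left (a := omZ q P0) hx)⟩
    have hWn : H ≤ normalizer (W : Set G) :=
      (le_inf hW0n le_normalizer_of_normal).trans inf_normalizer_le_normalizer_inf
    refine (hmk W hWel hD hWn).caseA
      (fun w hw v hv => (mem_centralizer_iff.1 hw.2 v hv).symm) hRp hRnc
      (H77.pCoreOf_le K) (H77.le_normalizer_pCoreOf K) (fun t ht h => hrs_only t (hKcard t ht h))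
      fun c hc => ?_
    obtain ⟨a', ha', b', hb', f1, f2, f3, f4⟩ := hpairK r hr
    by_cases hac : a' ∈ zpowers c
    · refine ⟨b', hb', orderOf_eq_prime f2 (fun h0 => f4 (h0 ▸ one_mem _)), fun hbc => f4 ?_⟩
      rwa [eq_of_le_of_card_ge (zpowers_le.2 hac) (by rw [Nat.card_zpowers, Nat.card_zpowers, hc, f1])]
    · exact ⟨a', ha', f1, hac⟩

end H70.NT
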