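import Cfsg.Agent.H81.FixedPoint
import Cfsg.Agent.H61.NormMap
import Cfsg.Prelude.Def_Transfer

/-!
Fixed points of commuting elements of different prime orders on elementary abelian subgroups, in a
group without an element whose order is the product of three primes of a given set.
-/

set_option autoImplicit false
set_option linter.unusedSectionVars false
set_option linter.style.haveILetI false

namespace H70.NT

open Subgroup

variable {G : Type*} [Group G] [Finite G]

/-- No three pairwise commuting elements have three different orders in `σ`. -/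
def NoTriple (G : Type*) [Group G] (σ : Finset ℕ) : Prop :=
  ∀ (x y z : G) (a b c : ℕ), a ∈ σ → b ∈ σ → c ∈ σ → a ≠ b → b ≠ c → a ≠ c →
    orderOf x = a → orderOf y = b → orderOf z = c → Commute x y → Commute x z → Commute y z → False

/-- A nontrivial fixed point of `x` in `U`. -/
def Fix (x : G) (U : Subgroup G) : Prop := ∃ u ∈ U, u ≠ 1 ∧ Commute x u

/-- `x` centralizes `U`. -/
def Cent (x : G) (U : Subgroup G) : Prop := ∀ u ∈ U, Commute x u

/-- An elementary abelian noncyclic subgroup. -/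
def Wide (s : ℕ) (E : Subgroup G) : Prop :=
  Cfsg.IsElementaryAbelian s E ∧ ∃ a ∈ E, ∃ b ∈ E, a ≠ 1 ∧ b ∉ zpowers a

theorem orderOf_of_mem {s : ℕ} [Fact s.Prime] {E : Subgroup G}
    (hE : Cfsg.IsElementaryAbelian s E) {e : G} (he : e ∈ E) (he1 : e ≠ 1) : orderOf e = s :=
  orderOf_eq_prime (hE.2 e he) he1

theorem commute_of_mem {s : ℕ} {E : Subgroup G} (hE : Cfsg.IsElementaryAbelian s E) {x y : G}
    (hx : x ∈ E) (hy : y ∈ E) : Commute x y := by
  haveI := hE.1
  exact congrArg Subtype.val (IsMulCommutative.is_comm.comm (⟨x, hx⟩ : E) ⟨y, hy⟩)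

theorem isPGroup_of_elementary {s : ℕ} {E : Subgroup G} (hE : Cfsg.IsElementaryAbelian s E) :
    IsPGroup s E := fun x => ⟨1, Subtype.ext (by rw [pow_one]; exact hE.2 x x.2)⟩

theorem cent_mono {x : G} {U U' : Subgroup G} (h : U' ≤ U) (hc : Cent x U) : Cent x U' :=
  fun u hu => hc u (h hu)

theorem Cent.fix {x : G} {U : Subgroup G} (h : Cent x U) (hU : U ≠ ⊥) : Fix x U := by
  obtain ⟨u, hu, hu1⟩ := U.bot_or_exists_ne_one.resolve_left hU
  exact ⟨u, hu, hu1, h u hu⟩

theorem mem_zpowers_of_cyclic {A : Type*} [Group A] [Finite A] [IsCyclic A] {s : ℕ} [Fact s.Prime]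
    {a b : A} (ha : orderOf a = s) (hb : b ^ s = 1) : b ∈ zpowers a := by
  classical
  by_contra hba
  have := Fintype.ofFinite A
  have h1 := IsCyclic.card_pow_eq_one_le (α := A) (Nat.pos_of_ne_zero (Fact.out : s.Prime).ne_zero)
  have h2 : (insert b ((zpowers a : Set A).toFinset)).card ≤ (Finset.univ.filter fun x : A => x ^ s = 1).card := by
    refine Finset.card_le_card fun x hx => ?_
    simp only [Finset.mem_insert, Set.mem_toFinset, SetLike.mem_coe] at hx
    refine Finset.mem_filter.2 ⟨Finset.mem_univ _, ?_⟩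
    rcases hx with rfl | hx
    · exact hb
    · exact orderOf_dvd_iff_pow_eq_one.1 (ha ▸ orderOf_dvd_of_mem_zpowers hx)
  rw [Finset.card_insert_of_notMem (by simpa using hba), Set.toFinset_card] at h2
  have h3 : Fintype.card (zpowers a : Set A) = s := by
    rw [← ha, ← Nat.card_zpowers, Nat.card_eq_fintype_card]
    rfl
  omega

/-- An element centralizing `W` and moving `g` inside the coset `g W` fixes `g`. -/
theorem commute_of_coset_fixed {s q : ℕ} [Fact s.Prime] [Fact q.Prime] (hsq : s ≠ q) {W : Subgroup G}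
    (hW : ∀ w ∈ W, w ^ q = 1) {e g : G} (he : e ^ s = 1) (heW : Cent e W)
    (h : e * g * e⁻¹ * g⁻¹ ∈ W) : Commute e g := by
  set w := e * g * e⁻¹ * g⁻¹ with hw
  have h1 : e * g * e⁻¹ = w * g := by rw [hw]; group
  have hpow : ∀ i : ℕ, e ^ i * g * (e ^ i)⁻¹ = w ^ i * g := by
    intro i
    induction i with
    | zero => simp
    | succ i ih =>
      calc e ^ (i + 1) * g * (e ^ (i + 1))⁻¹ = e * (e ^ i * g * (e ^ i)⁻¹) * e⁻¹ := by
            rw [pow_succ']; group
        _ = (e * w ^ i * e⁻¹) * (e * g * e⁻¹) := by rw [ih]; group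
        _ = w ^ i * (w * g) := by rw [((heW w h).pow_right i).eq, mul_inv_cancel_right, h1]
        _ = w ^ (i + 1) * g := by rw [pow_succ]; group
  have h2 := hpow s
  rw [he, one_mul, inv_one, mul_one] at h2
  have h3 : w = 1 := orderOf_eq_one_iff.1 (Nat.eq_one_of_dvd_coprimes
    ((Nat.coprime_primes Fact.out Fact.out).2 hsq)
    (orderOf_dvd_of_pow_eq_one (mul_eq_right.1 h2.symm)) (orderOf_dvd_of_pow_eq_one (hW w h)))
  exact mul_inv_eq_iff_eq_mul.1 (mul_inv_eq_one.1 h3)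

theorem wide_closure_pair {s : ℕ} [Fact s.Prime] {a b : G} (ha : orderOf a = s) (hb : b ^ s = 1)
    (hab : Commute a b) (hba : b ∉ zpowers a) : Wide s (closure ({a, b} : Set G)) := by
  have hc : ∀ x ∈ closure ({a, b} : Set G), Commute a x ∧ Commute b x := by
    intro x hx
    refine Subgroup.closure_induction (p := fun g _ => Commute a g ∧ Commute b g) ?_
      ⟨Commute.one_right _, Commute.one_right _⟩
      (fun _ _ _ _ h1 h2 => ⟨h1.1.mul_right h2.1, h1.2.mul_right h2.2⟩)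
      (fun _ _ h1 => ⟨h1.1.inv_right, h1.2.inv_right⟩) hx
    rintro g (rfl | rfl)
    · exact ⟨Commute.refl _, hab.symm⟩
    · exact ⟨hab, Commute.refl _⟩
  have hcc : ∀ x ∈ closure ({a, b} : Set G), ∀ y ∈ closure ({a, b} : Set G), Commute x y := by
    intro x hx y hy
    refine Subgroup.closure_induction (p := fun g _ => Commute g y) ?_
      (Commute.one_left _) (fun _ _ _ _ h1 h2 => h1.mul_left h2) (fun _ _ h1 => h1.inv_left) hx
    rintro g (rfl | rfl)
    · exact (hc y hy).1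
    · exact (hc y hy).2
  refine ⟨⟨⟨⟨fun x y => Subtype.ext (hcc _ x.2 _ y.2)⟩⟩, ?_⟩, a, subset_closure (Or.inl rfl), b,
    subset_closure (Or.inr rfl), ?_, hba⟩
  · intro x hx
    induction hx using Subgroup.closure_induction with
    | mem g hg =>
      rcases hg with rfl | rfl
      · rw [← ha, pow_orderOf_eq_one]
      · exact hb
    | one => exact one_pow _
    | mul g g' hg hg' h1 h2 => rw [(hcc g hg g' hg').mul_pow, h1, h2, one_mul]
    | inv g _ h1 => rw [inv_pow, h1, inv_one]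
  · intro h
    rw [h, orderOf_one] at ha
    exact (Fact.out : s.Prime).ne_one ha.symm

/-- The fixed points of `x` in `U` are invariant under elements commuting with `x`. -/
theorem mem_normalizer_fixed {U : Subgroup G} {x g : G} (hg : g ∈ normalizer (U : Set G))
    (hgx : Commute g x) :
    g ∈ normalizer ((U ⊓ centralizer ({x} : Set G) : Subgroup G) : Set G) := by
  have key : ∀ h : G, h ∈ normalizer (U : Set G) → Commute h x →
      ∀ u ∈ U ⊓ centralizer ({x} : Set G), h * u * h⁻¹ ∈ U ⊓ centralizer ({x} : Set G) := by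
    intro h hh hhx u hu
    obtain ⟨hu1, hu2⟩ := Subgroup.mem_inf.1 hu
    refine Subgroup.mem_inf.2 ⟨(mem_normalizer_iff.1 hh u).1 hu1, ?_⟩
    rw [mem_centralizer_singleton_iff] at hu2 ⊢
    calc h * u * h⁻¹ * x = h * u * (h⁻¹ * x) := by group
      _ = h * u * (x * h⁻¹) := by rw [hhx.inv_left.eq]
      _ = h * (u * x) * h⁻¹ := by group
      _ = h * (x * u) * h⁻¹ := by rw [hu2]
      _ = h * x * (u * h⁻¹) := by group
      _ = x * h * (u * h⁻¹) := by rw [hhx.eq]
      _ = x * (h * u * h⁻¹) := by group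
  rw [mem_normalizer_iff]
  intro u
  refine ⟨key g hg hgx u, fun h => ?_⟩
  have h2 := key g⁻¹ (inv_mem hg) hgx.inv_left _ h
  rwa [show g⁻¹ * (g * u * g⁻¹) * g⁻¹⁻¹ = u by group] at h2

/-- A wide group acting coprimely has an element with a nontrivial fixed point. -/
theorem exists_fix {s p : ℕ} [Fact s.Prime] [Fact p.Prime] (hsp : s ≠ p) {E U : Subgroup G}
    (hE : Wide s E) (hU : IsPGroup p U) (hU1 : U ≠ ⊥) (hn : E ≤ normalizer (U : Set G)) :
    ∃ e ∈ E, e ≠ 1 ∧ Fix e U := by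
  obtain ⟨hel, a, ha, b, hb, ha1, hba⟩ := hE
  obtain ⟨g, hg, v, hv, hv1, hgv⟩ := H81.exists_fixed_ne_one hsp hU hU1 (hel.2 a ha) (hel.2 b hb)
    (commute_of_mem hel ha hb) (hn ha) (hn hb)
  rcases hg with ⟨j, rfl⟩ | rfl
  · refine ⟨a * b ^ j, mul_mem ha (pow_mem hb j), fun h => hba ?_, v, hv, hv1, hgv⟩
    have hbo : orderOf b = s := orderOf_of_mem hel hb (fun hb1 => hba (hb1 ▸ one_mem _))
    have hbj : b ^ j = a⁻¹ := eq_inv_of_mul_eq_one_right h
    have hj : ¬ s ∣ j := by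
      intro hd
      obtain ⟨k, rfl⟩ := hd
      rw [pow_mul, hel.2 b hb, one_pow] at hbj
      exact ha1 (inv_eq_one.1 hbj.symm)
    have hcop : j.Coprime (orderOf b) := by
      rw [hbo]
      exact Nat.Coprime.symm ((Nat.Prime.coprime_iff_not_dvd Fact.out).2 hj)
    obtain ⟨m, hm⟩ := exists_pow_eq_self_of_coprime hcop
    rw [← hm, hbj]
    exact pow_mem (inv_mem (mem_zpowers a)) m
  · exact ⟨g, hb, fun h => hba (h ▸ one_mem _), v, hv, hv1, hgv⟩

/-- An element of prime order commuting with a wide group of another prime acts without fixed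
points. -/
theorem not_fix_of_wide {σ : Finset ℕ} (hno : NoTriple G σ) {p a b : ℕ} [Fact p.Prime]
    [Fact b.Prime] (hp : p ∈ σ) (ha : a ∈ σ) (hb : b ∈ σ) (hpa : p ≠ a) (hpb : p ≠ b) (hab : a ≠ b)
    {U F : Subgroup G} (hU : Cfsg.IsElementaryAbelian p U) (hF : Wide b F)
    (hFU : F ≤ normalizer (U : Set G)) {x : G} (hx : orderOf x = a) (hxF : Cent x F) : ¬ Fix x U := by
  rintro ⟨u, hu, hu1, hxu⟩
  set U' := U ⊓ centralizer ({x} : Set G) with hU'
  have hne : U' ≠ ⊥ := by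
    intro h
    have : u ∈ U' := Subgroup.mem_inf.2 ⟨hu, mem_centralizer_singleton_iff.2 hxu.symm.eq⟩
    rw [h, mem_bot] at this
    exact hu1 this
  obtain ⟨f, hf, hf1, v, hv, hv1, hfv⟩ := exists_fix (Ne.symm hpb) hF
    ((isPGroup_of_elementary hU).to_le inf_le_left) hne
    (fun g hg => mem_normalizer_fixed (hFU hg) (hxF g hg).symm)
  obtain ⟨hvU, hvx⟩ := Subgroup.mem_inf.1 hv
  exact hno x f v a b p ha hb hp hab (Ne.symm hpb) (Ne.symm hpa) hx (orderOf_of_mem hF.1 hf hf1)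
    (orderOf_of_mem hU hvU hv1) (hxF f hf) (mem_centralizer_singleton_iff.1 hvx).symm hfv

/-- The displacement `m ↦ [e, m]` of an element on an abelian subgroup. -/
theorem exists_displacement_preimage {M : Subgroup G} (hM : IsMulCommutative M) {e : G}
    (he : e ∈ normalizer (M : Set G)) (hfix : ¬ Fix e M) {y : G} (hy : y ∈ M) :
    ∃ m ∈ M, e * m * e⁻¹ * m⁻¹ = y := by
  let f : M → M := fun m => ⟨e * (m : G) * e⁻¹ * (m : G)⁻¹,
    mul_mem ((mem_normalizer_iff.1 he _).1 m.2) (inv_mem m.2)⟩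
  have hinj : Function.Injective f := by
    intro m n h
    by_contra hne
    apply hfix
    refine ⟨(m : G)⁻¹ * n, mul_mem (inv_mem m.2) n.2, fun h1 => hne (Subtype.ext (inv_mul_eq_one.1 h1)), ?_⟩
    have h' : e * (m : G) * e⁻¹ * (m : G)⁻¹ = e * (n : G) * e⁻¹ * (n : G)⁻¹ := congrArg Subtype.val h
    have hcomm : ∀ u v : G, u ∈ M → v ∈ M → u * v = v * u := fun u v hu hv =>
      congrArg Subtype.val (hM.is_comm.comm (⟨u, hu⟩ : M) ⟨v, hv⟩)
    have hA : e * (m : G) * e⁻¹ ∈ M := (mem_normalizer_iff.1 he _).1 m.2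
    have hB : e * (n : G) * e⁻¹ ∈ M := (mem_normalizer_iff.1 he _).1 n.2
    show e * ((m : G)⁻¹ * n) = (m : G)⁻¹ * n * e
    rw [← mul_inv_eq_iff_eq_mul]
    calc e * ((m : G)⁻¹ * n) * e⁻¹ = (e * (m : G) * e⁻¹)⁻¹ * (e * (n : G) * e⁻¹) := by group
      _ = (e * (m : G) * e⁻¹)⁻¹ * ((e * (n : G) * e⁻¹ * (n : G)⁻¹) * n) := by group
      _ = (e * (m : G) * e⁻¹)⁻¹ * ((e * (m : G) * e⁻¹ * (m : G)⁻¹) * n) := by rw [h']
      _ = (m : G)⁻¹ * n := by group
  obtain ⟨m, hm⟩ := (Finite.injective_iff_surjective.1 hinj) ⟨y, hy⟩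
  exact ⟨m, m.2, congrArg Subtype.val hm⟩

/-- Frobenius action: if `e` of prime order acts without fixed points on `U` and normalizes an
abelian subgroup `M` of coprime order, then `[e, M]` centralizes `U`. -/
theorem commutator_cent {s p r : ℕ} [Fact s.Prime] [Fact p.Prime] [Fact r.Prime] (hrs : r ≠ s)
    (hrp : r ≠ p) {M U : Subgroup G} (hMc : IsMulCommutative M) (hM : IsPGroup r M)
    (hUc : IsMulCommutative U) (hU : IsPGroup p U) {e : G} (he : orderOf e = s)
    (heM : e ∈ normalizer (M : Set G)) (heU : e ∈ normalizer (U : Set G))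
    (hMU : M ≤ normalizer (U : Set G)) (hfix : ¬ Fix e U) :
    ∀ m ∈ M, Cent (e * m * e⁻¹ * m⁻¹) U := by
  classical
  intro m hm
  have hcomm : ∀ u v : G, u ∈ M → v ∈ M → u * v = v * u := fun u v hu hv =>
    congrArg Subtype.val (hMc.is_comm.comm (⟨u, hu⟩ : M) ⟨v, hv⟩)
  have hconj : ∀ u ∈ M, e * u * e⁻¹ ∈ M := fun u hu => (mem_normalizer_iff.1 heM u).1 hu
  -- the subgroup of commutators
  let ψ : M →* G :=
    { toFun := fun u => e * (u : G) * e⁻¹ * (u : G)⁻¹
      map_one' := by simp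
      map_mul' := fun u v => by
        simp only [Subgroup.coe_mul, mul_inv_rev]
        calc e * ((u : G) * v) * e⁻¹ * ((v : G)⁻¹ * (u : G)⁻¹)
            = e * (u : G) * e⁻¹ * (e * (v : G) * e⁻¹ * (v : G)⁻¹) * (u : G)⁻¹ := by group
          _ = e * (u : G) * e⁻¹ * ((e * (v : G) * e⁻¹ * (v : G)⁻¹) * (u : G)⁻¹) := by group
          _ = e * (u : G) * e⁻¹ * ((u : G)⁻¹ * (e * (v : G) * e⁻¹ * (v : G)⁻¹)) := by
              rw [hcomm _ _ (mul_mem (hconj _ v.2) (inv_mem v.2)) (inv_mem u.2)]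
          _ = _ := by group }
  set Q := ψ.range with hQ
  have hQM : Q ≤ M := by
    rintro _ ⟨u, rfl⟩
    exact mul_mem (hconj _ u.2) (inv_mem u.2)
  have heQ : ∀ d ∈ Q, e * d * e⁻¹ ∈ Q := by
    rintro _ ⟨u, rfl⟩
    refine ⟨⟨e * u * e⁻¹, hconj _ u.2⟩, ?_⟩
    show e * (e * (u : G) * e⁻¹) * e⁻¹ * (e * (u : G) * e⁻¹)⁻¹ = e * (e * (u : G) * e⁻¹ * (u : G)⁻¹) * e⁻¹
    group
  -- `e` fixes no commutator
  have hQfix : ∀ d ∈ Q, Commute d e → d = 1 := by
    rintro d ⟨⟨u, hu⟩, rfl⟩ hde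
    set d := ψ ⟨u, hu⟩ with hd
    have h1 : e * u * e⁻¹ = d * u := by
      show _ = e * u * e⁻¹ * u⁻¹ * u
      group
    have hpow : ∀ i : ℕ, e ^ i * u * (e ^ i)⁻¹ = d ^ i * u := by
      intro i
      induction i with
      | zero => simp
      | succ i ih =>
        calc e ^ (i + 1) * u * (e ^ (i + 1))⁻¹ = e * (e ^ i * u * (e ^ i)⁻¹) * e⁻¹ := by
              rw [pow_succ']; group
          _ = (e * d ^ i * e⁻¹) * (e * u * e⁻¹) := by rw [ih]; group
          _ = d ^ i * (d * u) := by rw [h1, ← (hde.pow_left i).eq, mul_inv_cancel_right]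
          _ = d ^ (i + 1) * u := by rw [pow_succ]; group
    have h2 := hpow s
    rw [← he, pow_orderOf_eq_one, one_mul, inv_one, mul_one, he] at h2
    have h3 : d ^ s = 1 := mul_eq_right.1 h2.symm
    obtain ⟨k, hk⟩ := hM ⟨d, hQM ⟨⟨u, hu⟩, rfl⟩⟩
    have h4 : d ^ r ^ k = 1 := by simpa using congrArg Subtype.val hk
    exact orderOf_eq_one_iff.1 (Nat.eq_one_of_dvd_coprimes
      (Nat.Coprime.pow_right k ((Nat.coprime_primes Fact.out Fact.out).2 (Ne.symm hrs)))
      (orderOf_dvd_of_pow_eq_one h3) (orderOf_dvd_of_pow_eq_one h4))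
  have hQn : e ∈ normalizer (Q : Set G) := by
    rw [mem_normalizer_iff]
    intro d
    refine ⟨heQ d, fun h => ?_⟩
    have key : ∀ i : ℕ, ∀ d ∈ Q, e ^ i * d * (e ^ i)⁻¹ ∈ Q := by
      intro i
      induction i with
      | zero => intro d hd; simpa using hd
      | succ i ih =>
        intro d hd
        rw [show e ^ (i + 1) * d * (e ^ (i + 1))⁻¹ = e ^ i * (e * d * e⁻¹) * (e ^ i)⁻¹ by
          rw [pow_succ]; group]
        exact ih _ (heQ d hd)
    have hinv : e⁻¹ = e ^ (s - 1) := by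
      apply inv_eq_of_mul_eq_one_left
      rw [← pow_succ, show s - 1 + 1 = s by have := (Fact.out : s.Prime).pos; omega, ← he,
        pow_orderOf_eq_one]
    have h5 := key (s - 1) _ h
    rwa [← hinv, show e⁻¹ * (e * d * e⁻¹) * e⁻¹⁻¹ = d by group] at h5
  -- the action on `U`
  letI : CommGroup U := { (inferInstance : Group U) with
    mul_comm := fun x y => hUc.is_comm.comm x y }
  set N := normalizer (U : Set G)
  let φ : N →* MulAut U := U.normalizerMonoidHom
  have hQN : Q ≤ N := hQM.trans hMU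
  have hφ : ∀ (g : N) (v : U), ((φ g v : U) : G) = (g : G) * v * (g : G)⁻¹ := fun g v => rfl
  have hmain := H61.action_trivial_of_norm_eq_one φ (Q.subgroupOf N) ⟨e, heU⟩ s
    (Fact.out : s.Prime).pos ?_ ?_ ?_ ?_
  · intro u hu
    have h := congrArg Subtype.val
      (hmain ⟨e * m * e⁻¹ * m⁻¹, hQN ⟨⟨m, hm⟩, rfl⟩⟩ ⟨⟨m, hm⟩, rfl⟩ ⟨u, hu⟩)
    rw [hφ] at h
    exact mul_inv_eq_iff_eq_mul.1 h
  · rw [mem_normalizer_iff]
    intro d
    simp only [mem_subgroupOf, Subgroup.coe_mul, Subgroup.coe_inv]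
    exact mem_normalizer_iff.1 hQn d
  · intro i hi0 his d hd hcom
    have hc : Commute (d : G) (e ^ i) := congrArg Subtype.val hcom
    have hcop : i.Coprime (orderOf e) := by
      rw [he]
      exact Nat.Coprime.symm ((Nat.Prime.coprime_iff_not_dvd Fact.out).2
        (fun h => absurd (Nat.le_of_dvd hi0 h) (by omega)))
    obtain ⟨n, hn⟩ := exists_pow_eq_self_of_coprime hcop
    have hc' := hc.pow_right n
    rw [hn] at hc'
    exact Subtype.ext (hQfix d hd hc')
  · rw [Nat.card_congr (subgroupOfEquivOfLe hQN).toEquiv]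
    obtain ⟨i, hi⟩ := (hM.to_le hQM).exists_card_eq
    obtain ⟨j, hj⟩ := hU.exists_card_eq
    rw [hi, hj]
    exact Nat.Coprime.pow i j ((Nat.coprime_primes Fact.out Fact.out).2 hrp)
  · intro v
    set X := ∏ i ∈ Finset.range s, φ (⟨e, heU⟩ ^ i) v with hX
    have h : φ ⟨e, heU⟩ X = X := by
      rw [hX, map_prod]
      have e1 : ∏ i ∈ Finset.range s, φ ⟨e, heU⟩ (φ (⟨e, heU⟩ ^ i) v) =
          ∏ i ∈ Finset.range s, φ (⟨e, heU⟩ ^ (i + 1)) v :=
        Finset.prod_congr rfl fun i _ => by rw [pow_succ', map_mul]; rfl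
      rw [e1]
      have e2 := Finset.prod_range_succ (fun i => φ ((⟨e, heU⟩ : N) ^ i) v) s
      rw [Finset.prod_range_succ'] at e2
      have e3 : φ ((⟨e, heU⟩ : N) ^ s) v = φ ((⟨e, heU⟩ : N) ^ 0) v := by
        rw [show (⟨e, heU⟩ : N) ^ s = 1 from Subtype.ext (by
          rw [Subgroup.coe_pow, ← he, pow_orderOf_eq_one]; rfl), pow_zero]
      rw [e3] at e2
      exact mul_right_cancel e2
    by_contra hne
    refine hfix ⟨(X : G), X.2, fun h1 => hne (Subtype.ext h1), ?_⟩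
    have h' := congrArg Subtype.val h
    rw [hφ] at h'
    exact mul_inv_eq_iff_eq_mul.1 h'

/-- Two commuting elements of different prime orders do not both have a fixed point in `V`
and in `W` together. -/
theorem not_fix_both {σ : Finset ℕ} (hno : NoTriple G σ) {p q a b : ℕ} [Fact p.Prime]
    [Fact q.Prime] [Fact a.Prime] (hp : p ∈ σ) (hq : q ∈ σ) (ha : a ∈ σ) (hb : b ∈ σ) (hpq : p ≠ q)
    (hpa : p ≠ a) (hpb : p ≠ b) (hqa : q ≠ a) (hqb : q ≠ b) (hab : a ≠ b) {V W : Subgroup G}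
    (hV : Cfsg.IsElementaryAbelian p V) (hW : Cfsg.IsElementaryAbelian q W)
    (hWV : W ≤ normalizer (V : Set G)) {x y : G} (hx : orderOf x = a) (hy : orderOf y = b)
    (hxy : Commute x y) (hxV : x ∈ normalizer (V : Set G)) (hxW : x ∈ normalizer (W : Set G))
    (h1 : Fix y V) (h2 : Fix y W) : False := by
  obtain ⟨w, hw, hw1, hyw⟩ := h2
  obtain ⟨v0, hv0, hv01, hyv0⟩ := h1
  set V' := V ⊓ centralizer ({y} : Set G) with hV'def
  set W' := W ⊓ centralizer ({y} : Set G) with hW'def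
  have hV' : Cfsg.IsElementaryAbelian p V' :=
    ⟨⟨⟨fun u v => Subtype.ext (commute_of_mem hV (inf_le_left (a := V) u.2) (inf_le_left (a := V) v.2))⟩⟩,
      fun u hu => hV.2 u (inf_le_left (a := V) hu)⟩
  have hW' : Cfsg.IsElementaryAbelian q W' :=
    ⟨⟨⟨fun u v => Subtype.ext (commute_of_mem hW (inf_le_left (a := W) u.2) (inf_le_left (a := W) v.2))⟩⟩,
      fun u hu => hW.2 u (inf_le_left (a := W) hu)⟩
  have hxV' := mem_normalizer_fixed hxV hxy
  have hxW' := mem_normalizer_fixed hxW hxy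
  have hW'V' : W' ≤ normalizer (V' : Set G) := fun g hg =>
    mem_normalizer_fixed (hWV (Subgroup.mem_inf.1 hg).1)
      (mem_centralizer_singleton_iff.1 (Subgroup.mem_inf.1 hg).2)
  have hfV : ¬ Fix x V' := by
    rintro ⟨v, hv, hv1, hxv⟩
    obtain ⟨hvV, hvy⟩ := Subgroup.mem_inf.1 hv
    exact hno x y v a b p ha hb hp hab (Ne.symm hpb) (Ne.symm hpa) hx hy
      (orderOf_of_mem hV hvV hv1) hxy hxv (mem_centralizer_singleton_iff.1 hvy).symm
  have hfW : ¬ Fix x W' := by
    rintro ⟨v, hv, hv1, hxv⟩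
    obtain ⟨hvV, hvy⟩ := Subgroup.mem_inf.1 hv
    exact hno x y v a b q ha hb hq hab (Ne.symm hqb) (Ne.symm hqa) hx hy
      (orderOf_of_mem hW hvV hv1) hxy hxv (mem_centralizer_singleton_iff.1 hvy).symm
  have hwW' : w ∈ W' := Subgroup.mem_inf.2 ⟨hw, mem_centralizer_singleton_iff.2 hyw.symm.eq⟩
  obtain ⟨m, hm, hmw⟩ := exists_displacement_preimage hW'.1 hxW' hfW hwW'
  have hcent := commutator_cent (r := q) hqa (Ne.symm hpq) hW'.1 (isPGroup_of_elementary hW') hV'.1
    (isPGroup_of_elementary hV') hx hxW' hxV' hW'V' hfV m hm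
  rw [hmw] at hcent
  have hv0' : v0 ∈ V' := Subgroup.mem_inf.2 ⟨hv0, mem_centralizer_singleton_iff.2 hyv0.symm.eq⟩
  exact hno w y v0 q b p hq hb hp hqb (Ne.symm hpb) (Ne.symm hpq) (orderOf_of_mem hW hw hw1) hy
    (orderOf_of_mem hV hv0 hv01) hyw.symm (hcent v0 hv0') hyv0

end H70.NT
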