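import Mathlib

/-!
The odd-product graph on a conjugacy class of involutions: diameter two.
-/

set_option autoImplicit false
set_option linter.style.haveILetI false

namespace H70

/-- A graph with a non-adjacent pair in which any two vertices are at distance at most two. -/
theorem connected_diam_eq_two {V : Type*} (G : SimpleGraph V)
    (h : ∀ x y : V, x ≠ y → G.Adj x y ∨ ∃ z, G.Adj x z ∧ G.Adj z y)
    (hne : ∃ x y : V, x ≠ y ∧ ¬ G.Adj x y) : G.Connected ∧ G.diam = 2 := by
  classical
  obtain ⟨a, b, hab, hnadj⟩ := hne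
  haveI : Nonempty V := ⟨a⟩
  have hr : G.Preconnected := by
    intro x y
    by_cases hxy : x = y
    · exact hxy ▸ SimpleGraph.Reachable.refl x
    rcases h x y hxy with h1 | ⟨z, h1, h2⟩
    · exact h1.reachable
    · exact h1.reachable.trans h2.reachable
  refine ⟨⟨hr⟩, ?_⟩
  have hle : ∀ x y, G.edist x y ≤ 2 := by
    intro x y
    by_cases hxy : x = y
    · subst hxy; simp
    rcases h x y hxy with h1 | ⟨z, h1, h2⟩
    · exact (SimpleGraph.edist_le h1.toWalk).trans (by simp)
    · exact (SimpleGraph.edist_le (h1.toWalk.append h2.toWalk)).trans (by simp)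
  have h2 : G.ediam = 2 := by
    refine le_antisymm (SimpleGraph.ediam_le_iff.mpr hle) ?_
    refine le_trans ?_ (SimpleGraph.edist_le_ediam (u := a) (v := b))
    by_contra hlt
    rw [not_le] at hlt
    have hne2 : G.edist a b ≠ ⊤ := ne_top_of_lt hlt
    obtain ⟨k, hk⟩ := ENat.ne_top_iff_exists.mp hne2
    rw [← hk] at hlt
    have hk2 : k < 2 := by exact_mod_cast hlt
    obtain rfl | rfl : k = 0 ∨ k = 1 := by omega
    · exact hab (SimpleGraph.edist_eq_zero_iff.mp hk.symm)
    · exact hnadj (SimpleGraph.edist_eq_one_iff_adj.mp hk.symm)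
  rw [SimpleGraph.diam, h2]
  rfl

variable {G : Type*} [Group G]

/-- The product-of-odd-order graph on the class of `t`: the criterion used for diameter two. -/
theorem oddGraph_diam_two (t : G) (ht : orderOf t = 2)
    (hdist : ∀ x y : G, orderOf x = 2 → orderOf y = 2 → x ≠ y →
      Odd (orderOf (x * y)) ∨ ∃ z : G, orderOf z = 2 ∧ Odd (orderOf (x * z)) ∧ Odd (orderOf (z * y)))
    (hconj : ∀ x z : G, IsConj t x → orderOf z = 2 → Odd (orderOf (x * z)) → IsConj t z)
    (hcomm : ∃ u : G, IsConj t u ∧ u ≠ t ∧ t * u = u * t) :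
    (SimpleGraph.fromRel fun x y : {x : G // IsConj t x} =>
        Odd (orderOf (x.1 * y.1))).Connected ∧
      (SimpleGraph.fromRel fun x y : {x : G // IsConj t x} =>
        Odd (orderOf (x.1 * y.1))).diam = 2 := by
  have hord : ∀ x : {x : G // IsConj t x}, orderOf x.1 = 2 := fun x => by
    obtain ⟨g, hg⟩ := isConj_iff.mp x.2
    rw [← hg, ← ht]
    exact orderOf_injective (MulAut.conj g).toMonoidHom (MulEquiv.injective _) t
  refine connected_diam_eq_two _ (fun x y hxy => ?_) ?_
  · have hxy' : x.1 ≠ y.1 := fun h => hxy (Subtype.ext h)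
    rcases hdist x.1 y.1 (hord x) (hord y) hxy' with h | ⟨z, hz, h1, h2⟩
    · exact Or.inl ((SimpleGraph.fromRel_adj _ _ _).mpr ⟨hxy, Or.inl h⟩)
    · set Z : {x : G // IsConj t x} := ⟨z, hconj x.1 z x.2 hz h1⟩
      by_cases hZx : x = Z
      · refine Or.inl ((SimpleGraph.fromRel_adj _ _ _).mpr ⟨hxy, Or.inl ?_⟩)
        rw [hZx]; exact h2
      by_cases hZy : Z = y
      · refine Or.inl ((SimpleGraph.fromRel_adj _ _ _).mpr ⟨hxy, Or.inl ?_⟩)
        rw [← hZy]; exact h1
      exact Or.inr ⟨Z, (SimpleGraph.fromRel_adj _ _ _).mpr ⟨hZx, Or.inl h1⟩,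
        (SimpleGraph.fromRel_adj _ _ _).mpr ⟨hZy, Or.inl h2⟩⟩
  · obtain ⟨u, hu, hut, hc⟩ := hcomm
    refine ⟨⟨t, IsConj.refl t⟩, ⟨u, hu⟩, fun h => hut (congrArg Subtype.val h).symm, fun h => ?_⟩
    have h2 : orderOf (t * u) = 2 := by
      have huu : u ^ 2 = 1 := by rw [← hord ⟨u, hu⟩]; exact pow_orderOf_eq_one _
      have htt : t ^ 2 = 1 := by rw [← ht]; exact pow_orderOf_eq_one _
      refine orderOf_eq_prime (by rw [Commute.mul_pow hc, htt, huu, one_mul]) fun h1 => hut ?_
      rw [sq] at htt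
      exact (mul_left_cancel (h1.trans htt.symm))
    rcases ((SimpleGraph.fromRel_adj _ _ _).mp h).2 with h1 | h1
    · simp only at h1
      rw [h2] at h1
      exact absurd h1 (by decide)
    · simp only at h1
      rw [← hc, h2] at h1
      exact absurd h1 (by decide)

end H70
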