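import Cfsg.Agent.H70.Order5040Tools
import Cfsg.Agent.S0215

/-!
# No simple group has order `5040`

The normalizers of the Sylow `7`- and `5`-subgroups have orders `42` and `40`; then an involution
centralizing a Sylow `5`-subgroup contradicts Thompson's transfer lemma.
-/

set_option autoImplicit false
set_option linter.unusedSectionVars false
set_option linter.style.haveILetI false

namespace H70

open Subgroup

universe u

variable {G : Type u} [Group G] [Finite G] [IsSimpleGroup G]

section Order5040

variable (hn : Nat.card G = 5040)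
include hn

theorem not_comm5040 : ¬ IsMulCommutative G :=
  H62.not_comm_of_not_prime (by rw [hn]; norm_num)

theorem card_seven5040 [Fact (Nat.Prime 7)] (P : Sylow 7 G) : Nat.card (P : Subgroup G) = 7 := by
  simpa using H62.card_sylow_coe (a := 1) (m := 720) (by rw [hn]; norm_num) (by decide) P

theorem card_five5040 [Fact (Nat.Prime 5)] (P : Sylow 5 G) : Nat.card (P : Subgroup G) = 5 := by
  simpa using H62.card_sylow_coe (a := 1) (m := 1008) (by rw [hn]; norm_num) (by decide) P

theorem card_three5040 [Fact (Nat.Prime 3)] (P : Sylow 3 G) : Nat.card (P : Subgroup G) = 9 := by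
  simpa using H62.card_sylow_coe (a := 2) (m := 560) (by rw [hn]; norm_num) (by decide) P

theorem card_two5040 [Fact (Nat.Prime 2)] (P : Sylow 2 G) : Nat.card (P : Subgroup G) = 16 := by
  simpa using H62.card_sylow_coe (a := 4) (m := 315) (by rw [hn]; norm_num) (by decide) P

section Seven

variable [Fact (Nat.Prime 7)] (P : Sylow 7 G)

/-- The normalizer of a Sylow `7`-subgroup has order `42`. -/
theorem card_normalizer_seven :
    Nat.card (normalizer ((P : Subgroup G) : Set G)) = 42 := by
  classical
  have hG := not_comm5040 hn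
  have hP := card_seven5040 hn P
  have hmul := H62.card_normalizer_mul P
  rw [hn] at hmul
  have hidx : (normalizer ((P : Subgroup G) : Set G)).index = Nat.card (Sylow 7 G) :=
    P.card_eq_index_normalizer.symm
  have hne := H62.normalizer_sylow_ne_top hG (by rw [hn]; norm_num) P
  have hcand := H65.sylow_candidate (p := 7) (a := 1) (m := 720) hG hn (by norm_num) (by decide)
    one_pos
  have hmem : Nat.card (Sylow 7 G) = 8 ∨ Nat.card (Sylow 7 G) = 15 ∨ Nat.card (Sylow 7 G) = 36 ∨
      Nat.card (Sylow 7 G) = 120 := by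
    have hall : ∀ d ∈ (720 : ℕ).divisors, d % 7 = 1 → 1 < d →
        d = 8 ∨ d = 15 ∨ d = 36 ∨ d = 120 := by decide +kernel
    rw [Finset.mem_filter] at hcand
    exact hall _ hcand.1 hcand.2.1 hcand.2.2.1
  obtain ⟨c, r, hc, hrc, hrd, hr1, hpc⟩ := H65.centralizer_sylow_card P hP hG
  have hr6 : r ∈ (6 : ℕ).divisors := Nat.mem_divisors.2 ⟨hrd, by norm_num⟩
  rw [show (6 : ℕ).divisors = {1, 2, 3, 6} by decide +kernel] at hr6
  simp only [Finset.mem_insert, Finset.mem_singleton] at hr6
  rcases hmem with h | h | h | h <;> rw [h] at hmul hidx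
  · -- eight
    exfalso
    have h5 : 5 ∣ Nat.card (centralizer ((P : Subgroup G) : Set G)) := by
      rw [hc]
      rcases hr6 with rfl | rfl | rfl | rfl <;> omega
    haveI : Fact (Nat.Prime 5) := ⟨by norm_num⟩
    obtain ⟨y, hyC, hyo⟩ := exists_mem_orderOf _ 5 (by norm_num) h5
    have h1 := H65.fixedBy_modEq_one P hP hyC
    have h2 := fixedBy_modEq_index (p := 5) (normalizer ((P : Subgroup G) : Set G))
      (g := y) (by rw [← hyo, pow_orderOf_eq_one])
    obtain ⟨x, hx⟩ := H65.exists_not_fixed hne (ne_one_of_orderOf_prime (by norm_num) hyo)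
    have hlt : Nat.card (MulAction.fixedBy (G ⧸ normalizer ((P : Subgroup G) : Set G)) y) < 8 := by
      rw [← hidx, Subgroup.index]
      exact card_lt_of_not_surjective (fun a => a.1) Subtype.val_injective
        (fun hs => by obtain ⟨⟨z, hz⟩, rfl⟩ := hs x; exact hx hz)
    omega
  · -- fifteen
    exfalso
    have h2 : 2 ∣ Nat.card (centralizer ((P : Subgroup G) : Set G)) := by
      rw [hc]
      rcases hr6 with rfl | rfl | rfl | rfl <;> omega
    obtain ⟨z, hzC, hzo⟩ := exists_mem_orderOf _ 2 Nat.prime_two h2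
    have h1 := H65.fixedBy_modEq_one P hP hzC
    obtain ⟨hlt, hmod⟩ := H65.involution_fixedBy hG _ hne hzo
    omega
  · -- thirty-six
    exfalso
    haveI : Fact (Nat.Prime 2) := ⟨Nat.prime_two⟩
    set N := normalizer ((P : Subgroup G) : Set G) with hNdef
    set C := centralizer ((P : Subgroup G) : Set G) with hCdef
    have hC70 : Nat.card C = 70 := by
      rw [hc]
      rcases hr6 with rfl | rfl | rfl | rfl <;> omega
    obtain ⟨d, hdC, hdo⟩ := exists_mem_orderOf C 2 Nat.prime_two (by rw [hC70]; norm_num)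
    have h1 := H65.fixedBy_modEq_one P hP hdC
    obtain ⟨hlt, hmod⟩ := H65.involution_fixedBy hG _ hne hdo
    rw [hidx] at hlt hmod
    rw [← hNdef] at h1
    have hf : Nat.card (MulAction.fixedBy (G ⧸ N) d) = 8 := by omega
    -- the conjugates of `d` in `N` lie in `C`
    have hiff : ∀ g : G, (IsConj d g ∧ g ∈ N) ↔ (g ∈ C ∧ orderOf g = 2) := by
      intro g
      constructor
      · rintro ⟨hg, hgN⟩
        obtain ⟨b, rfl⟩ := isConj_iff.1 hg
        have hgo : orderOf (b * d * b⁻¹) = 2 := by
          rw [← hdo]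
          exact MulEquiv.orderOf_eq (MulAut.conj b) d
        refine ⟨?_, hgo⟩
        by_contra hgC
        have := (H65.fixedBy_le P hP hgN hgC).2
        rw [← card_fixedBy_isConj N hg, hf, h] at this
        omega
      · rintro ⟨hgC, hgo⟩
        refine ⟨?_, Subgroup.centralizer_le_normalizer _ hgC⟩
        have hC2 : ∀ Q : Sylow 2 C, Nat.card (Q : Subgroup C) = 2 := fun Q => by
          simpa using H62.card_sylow_coe (a := 1) (m := 35) (by rw [hC70]; norm_num) (by decide) Q
        have hsyl : ∀ x : C, orderOf x = 2 → ∃ Q : Sylow 2 C, zpowers x = (Q : Subgroup C) := by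
          intro x hx
          obtain ⟨Q, hQ⟩ := (IsPGroup.of_card (p := 2) (n := 1)
            (by rw [Nat.card_zpowers, hx, pow_one]) : IsPGroup 2 (zpowers x)).exists_le_sylow
          exact ⟨Q, eq_of_le_of_card_ge hQ (by rw [Nat.card_zpowers, hx, hC2])⟩
        have hd' : orderOf (⟨d, hdC⟩ : C) = 2 := by rw [orderOf_mk, hdo]
        have hg' : orderOf (⟨g, hgC⟩ : C) = 2 := by rw [orderOf_mk, hgo]
        obtain ⟨Q, hQ⟩ := hsyl _ hd'
        obtain ⟨R, hR⟩ := hsyl _ hg'
        obtain ⟨b, hb⟩ := MulAction.exists_smul_eq C Q R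
        have hmem : b * ⟨d, hdC⟩ * b⁻¹ ∈ zpowers (⟨g, hgC⟩ : C) := by
          rw [hR, ← hb]
          exact ⟨⟨d, hdC⟩, hQ ▸ mem_zpowers _, rfl⟩
        have ho : orderOf (b * ⟨d, hdC⟩ * b⁻¹) = 2 := by
          rw [← hd']
          exact MulEquiv.orderOf_eq (MulAut.conj b) _
        obtain ⟨i, hi⟩ := mem_zpowers_iff.1 hmem
        rcases Int.even_or_odd i with ⟨j, hj⟩ | ⟨j, hj⟩
        · have h0 : (⟨g, hgC⟩ : C) ^ i = 1 := by
            rw [hj, ← two_mul, zpow_mul, zpow_ofNat, ← hg', pow_orderOf_eq_one, one_zpow]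
          rw [h0] at hi
          rw [← hi, orderOf_one] at ho
          omega
        · have h0 : (⟨g, hgC⟩ : C) ^ i = ⟨g, hgC⟩ := by
            rw [hj, zpow_add, zpow_mul, zpow_ofNat, ← hg', pow_orderOf_eq_one, one_zpow, one_mul,
              zpow_one]
          rw [h0] at hi
          exact isConj_iff.2 ⟨b, (congrArg Subtype.val hi).symm⟩
    have hm : Nat.card {g : G // IsConj d g ∧ g ∈ N} = Nat.card (Sylow 2 C) := by
      rw [Nat.card_congr (Equiv.subtypeEquivRight hiff)]
      have h2 : Nat.card {x : C // orderOf x = 2} = Nat.card (Sylow 2 C) * (2 - 1) :=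
        H62.card_orderOf_eq_prime (default : Sylow 2 C)
          (by simpa using H62.card_sylow_coe (a := 1) (m := 35) (by rw [hC70]; norm_num) (by decide) (default : Sylow 2 C))
      rw [show (2 : ℕ) - 1 = 1 from rfl, mul_one] at h2
      rw [← h2]
      exact Nat.card_congr
        { toFun := fun g => ⟨⟨g.1, g.2.1⟩, by rw [orderOf_mk]; exact g.2.2⟩
          invFun := fun x => ⟨x.1.1, x.1.2, by rw [orderOf_coe]; exact x.2⟩
          left_inv := fun _ => rfl
          right_inv := fun _ => rfl }
    have hcount := H62.card_fixedBy_mul_card_class N d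
    rw [hf, hidx, hm] at hcount
    have hodd : Nat.card (Sylow 2 C) % 2 = 1 := H62.card_sylow_mod
    omega
  · omega

theorem centralizer_seven_data :
    (Nat.card (centralizer ((P : Subgroup G) : Set G)) = 7 ∨
      Nat.card (centralizer ((P : Subgroup G) : Set G)) = 21) := by
  classical
  have hG := not_comm5040 hn
  have hP := card_seven5040 hn P
  set N := normalizer ((P : Subgroup G) : Set G) with hNdef
  set C := centralizer ((P : Subgroup G) : Set G) with hCdef
  have hN : Nat.card N = 42 := card_normalizer_seven hn P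
  obtain ⟨c, r, hc, hrc, hrd, hr1, hpc⟩ := H65.centralizer_sylow_card P hP hG
  rw [← hNdef, hN] at hrc
  rw [← hCdef] at hc
  have hr6 : r ∈ (6 : ℕ).divisors := Nat.mem_divisors.2 ⟨hrd, by norm_num⟩
  rw [show (6 : ℕ).divisors = {1, 2, 3, 6} by decide +kernel] at hr6
  simp only [Finset.mem_insert, Finset.mem_singleton] at hr6
  rw [hc]
  rcases hr6 with rfl | rfl | rfl | rfl
  · omega
  · right; omega
  swap
  · left; omega
  -- an involution centralizes `P`
  exfalso
  have hc14 : Nat.card C = 14 := by rw [hc]; omega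
  obtain ⟨x, hxP, hx1, hxo⟩ := H65.exists_sylow_generator P hP
  haveI : Fact (Nat.Prime 2) := ⟨Nat.prime_two⟩
  obtain ⟨z, hzC, hzo⟩ := exists_mem_orderOf C 2 Nat.prime_two (by rw [hc14]; norm_num)
  have hxC : x ∈ C := mem_centralizer_of_commute P hP hxP hx1 (Commute.refl x)
  have hzx : Commute x z := commute_of_mem_centralizer hxP hzC
  have hz1 : z ≠ 1 := ne_one_of_orderOf_prime Nat.prime_two hzo
  -- `C` is generated by `x` and `z`
  have hCz : C ≤ centralizer ({z} : Set G) := by
    have hle : Subgroup.closure ({x, z} : Set G) ≤ C := by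
      rw [closure_le]
      rintro g (rfl | rfl) <;> assumption
    have heq : Subgroup.closure ({x, z} : Set G) = C := by
      refine eq_of_le_of_card_ge hle ?_
      rw [hc14]
      have d7 : 7 ∣ Nat.card (Subgroup.closure ({x, z} : Set G)) := by
        rw [← hxo]
        exact Subgroup.orderOf_dvd_natCard _ (subset_closure (Or.inl rfl))
      have d2 : 2 ∣ Nat.card (Subgroup.closure ({x, z} : Set G)) := by
        rw [← hzo]
        exact Subgroup.orderOf_dvd_natCard _ (subset_closure (Or.inr rfl))
      exact Nat.le_of_dvd Nat.card_pos (Nat.Coprime.mul_dvd_of_dvd_of_dvd (by norm_num) d7 d2)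
    rw [← heq, closure_le]
    rintro g (rfl | rfl)
    · exact mem_centralizer_singleton_iff.2 hzx.eq
    · exact mem_centralizer_singleton_iff.2 rfl
  have huniq : ∀ g ∈ C, orderOf g = 2 → g = z := by
    intro g hg hgo
    by_contra hgz
    have hg1 : g ≠ 1 := ne_one_of_orderOf_prime Nat.prime_two hgo
    have hcomm : Commute g z := (mem_centralizer_singleton_iff.1 (hCz hg))
    have hsq : g * g = 1 := by rw [← sq, ← hgo, pow_orderOf_eq_one]
    obtain ⟨Q, hzQ, -, hQc, hQmem⟩ := exists_two_coset_subgroup (zpowers z) g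
      (fun k hk => by
        obtain ⟨i, rfl⟩ := mem_zpowers_iff.1 hk
        rw [(hcomm.zpow_right i).eq, mul_inv_cancel_right]
        exact zpow_mem (mem_zpowers z) i)
      (fun k hk => by
        obtain ⟨i, rfl⟩ := mem_zpowers_iff.1 hk
        rw [mul_assoc, ← (hcomm.zpow_right i).eq, inv_mul_cancel_left]
        exact zpow_mem (mem_zpowers z) i)
      (by rw [hsq]; exact one_mem _)
      (fun hgm => by
        obtain ⟨i, hi⟩ := mem_zpowers_iff.1 hgm
        rcases Int.even_or_odd i with ⟨j, hj⟩ | ⟨j, hj⟩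
        · apply hg1
          rw [← hi, hj, ← two_mul, zpow_mul, zpow_ofNat, ← hzo, pow_orderOf_eq_one, one_zpow]
        · apply hgz
          rw [← hi, hj, zpow_add, zpow_mul, zpow_ofNat, ← hzo, pow_orderOf_eq_one, one_zpow,
            one_mul, zpow_one])
    have hQC : Q ≤ C := by
      intro a ha
      rcases hQmem a ha with h | ⟨k, hk, rfl⟩
      · exact zpowers_le.2 hzC h
      · exact mul_mem (zpowers_le.2 hzC hk) hg
    have hd := Subgroup.card_dvd_of_le hQC
    rw [hQc, Nat.card_zpowers, hzo, hc14] at hd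
    norm_num at hd
  -- the normalizer centralizes `z`
  have hNz : N ≤ centralizer ({z} : Set G) := by
    intro g hg
    rw [mem_centralizer_singleton_iff]
    have h1 : g * z * g⁻¹ ∈ C := by
      rw [hCdef, mem_centralizer_iff]
      intro v hv
      have hv' : g⁻¹ * v * g ∈ (P : Subgroup G) := by
        have h2 := (mem_normalizer_iff.1 (inv_mem hg) v).1 hv
        rwa [inv_inv] at h2
      have h3 := mem_centralizer_iff.1 hzC _ hv'
      calc v * (g * z * g⁻¹) = g * ((g⁻¹ * v * g) * z) * g⁻¹ := by group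
        _ = g * (z * (g⁻¹ * v * g)) * g⁻¹ := by rw [h3]
        _ = g * z * g⁻¹ * v := by group
    have h2 := huniq _ h1 (by rw [← hzo]; exact MulEquiv.orderOf_eq (MulAut.conj g) z)
    exact mul_inv_eq_iff_eq_mul.1 h2
  set H := centralizer ({z} : Set G) with hH
  have hPH : (P : Subgroup G) ≤ H := (le_normalizer).trans hNz
  obtain ⟨k, hk, hk7⟩ := sylow_count_in P H hPH
  rw [← hNdef, inf_eq_right.2 hNz, hN] at hk
  have hd : k * 42 ∣ 5040 := hk ▸ hn ▸ card_subgroup_dvd_card H
  have h8 := H65.eight_dvd_card_centralizer hG (default : Sylow 2 G) (card_two5040 hn _) hzo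
  rw [← hH, hk] at h8
  have hkd : k ∈ (120 : ℕ).divisors :=
    Nat.mem_divisors.2 ⟨Nat.dvd_of_mul_dvd_mul_right (k := 42) (by norm_num) (by norm_num; exact hd),
      by norm_num⟩
  have hall : ∀ d ∈ (120 : ℕ).divisors, d % 7 = 1 → 8 ∣ d * 42 → d = 8 ∨ d = 120 := by decide +kernel
  have hne : H ≠ ⊤ := by
    intro htop
    have hzc : z ∈ center G := by
      rw [mem_center_iff]
      intro g
      exact mem_centralizer_singleton_iff.1 (htop ▸ mem_top g : g ∈ H)
    rw [H62.center_eq_bot_of_simple hG] at hzc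
    exact hz1 hzc
  have hHidx := H.card_mul_index
  rw [hk, hn] at hHidx
  rcases hall k hkd hk7 h8 with rfl | rfl
  swap
  · exact hne (index_eq_one.1 (by omega))
  -- index fifteen
  have h1 := fixedBy_modEq_both (p := 7) H (g := x) (t := z) (by rw [← hxo, pow_orderOf_eq_one]) hzx
  have hone : Nat.card {c : G ⧸ H // z • c = c ∧ x • c = c} = 1 := by
    rw [Nat.card_eq_one_iff_exists]
    refine ⟨⟨((1 : G) : G ⧸ H), (H62.coe_mem_fixedBy_iff H z 1).2 (by
      simpa using mem_centralizer_singleton_iff.2 rfl), (H62.coe_mem_fixedBy_iff H x 1).2 (by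
      simpa using hPH hxP)⟩, ?_⟩
    rintro ⟨a, ha1, ha2⟩
    induction a using QuotientGroup.induction_on with
    | H g =>
      have hg := (H62.coe_mem_fixedBy_iff H x g).1 ha2
      rw [hH, mem_centralizer_singleton_iff] at hg
      have hcx : Commute x (g * z * g⁻¹) := by
        show x * (g * z * g⁻¹) = g * z * g⁻¹ * x
        calc x * (g * z * g⁻¹) = g * (g⁻¹ * x * g * z) * g⁻¹ := by group
          _ = g * (z * (g⁻¹ * x * g)) * g⁻¹ := by rw [hg]
          _ = g * z * g⁻¹ * x := by group
      have h2 := huniq _ (mem_centralizer_of_commute P hP hxP hx1 hcx)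
        (by rw [← hzo]; exact MulEquiv.orderOf_eq (MulAut.conj g) z)
      have hgH : g ∈ H := mem_centralizer_singleton_iff.2 (mul_inv_eq_iff_eq_mul.1 h2)
      exact Subtype.ext (QuotientGroup.eq.2 (by simpa using inv_mem hgH))
  rw [hone] at h1
  obtain ⟨hlt, hmod⟩ := H65.involution_fixedBy hG H hne hzo
  omega

omit P in
/-- No element of order two or five commutes with an element of order seven. -/
theorem not_dvd_centralizer_seven {g : G} (hg : orderOf g = 7) :
    ¬ 2 ∣ Nat.card (centralizer ({g} : Set G)) ∧ ¬ 5 ∣ Nat.card (centralizer ({g} : Set G)) := by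
  obtain ⟨Q, hQ⟩ := (IsPGroup.of_card (p := 7) (n := 1)
    (by rw [Nat.card_zpowers, hg, pow_one]) : IsPGroup 7 (zpowers g)).exists_le_sylow
  have hQ7 := card_seven5040 hn Q
  have e : centralizer ({g} : Set G) = centralizer ((Q : Subgroup G) : Set G) := by
    refine le_antisymm (fun y hy => ?_) (centralizer_le ?_)
    · exact mem_centralizer_of_commute Q hQ7 (hQ (mem_zpowers g))
        (ne_one_of_orderOf_prime (by norm_num) hg) (mem_centralizer_singleton_iff.1 hy).symm
    · exact Set.singleton_subset_iff.2 (hQ (mem_zpowers g))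
  rw [e]
  rcases centralizer_seven_data hn Q with h | h <;> rw [h] <;> omega

end Seven

section Five

variable [Fact (Nat.Prime 5)] (P : Sylow 5 G)

theorem seven_not_dvd_normalizer_five :
    ¬ 7 ∣ Nat.card (normalizer ((P : Subgroup G) : Set G)) := by
  intro h
  haveI : Fact (Nat.Prime 7) := ⟨by norm_num⟩
  obtain ⟨g, hg, hgo⟩ := exists_mem_orderOf _ 7 (by norm_num) h
  have hP := card_five5040 hn P
  have hgC := mem_centralizer_of_coprime P hP hg (by rw [hgo]; norm_num)
  refine (not_dvd_centralizer_seven hn hgo).2 ?_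
  rw [← hP]
  refine card_dvd_of_le fun v hv => mem_centralizer_singleton_iff.2 ?_
  exact mem_centralizer_iff.1 hgC v hv

/-- The normalizer of a Sylow `5`-subgroup does not have order `90`. -/
theorem normalizer_five_ne_ninety :
    Nat.card (normalizer ((P : Subgroup G) : Set G)) ≠ 90 := by
  intro hN
  haveI : Fact (Nat.Prime 3) := ⟨by norm_num⟩
  have hG := not_comm5040 hn
  have hP := card_five5040 hn P
  set N := normalizer ((P : Subgroup G) : Set G) with hNdef
  set C := centralizer ((P : Subgroup G) : Set G) with hCdef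
  obtain ⟨c, r, hc, hrc, hrd, hr1, hpc⟩ := H65.centralizer_sylow_card P hP hG
  rw [← hNdef, hN] at hrc
  rw [← hCdef] at hc
  have hC : Nat.card C = 45 := by
    have hr4 : r ∈ (4 : ℕ).divisors := Nat.mem_divisors.2 ⟨hrd, by norm_num⟩
    rw [show (4 : ℕ).divisors = {1, 2, 4} by decide +kernel] at hr4
    simp only [Finset.mem_insert, Finset.mem_singleton] at hr4
    rw [hc]
    rcases hr4 with rfl | rfl | rfl <;> omega
  -- the Sylow `3`-subgroup of `C` is unique
  have hcount := H62.card_sylow_dvd (p := 3) (a := 2) (m := 5) (G := C)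
    (by rw [hC]; norm_num) (by decide)
  have hmod : Nat.card (Sylow 3 C) % 3 = 1 := H62.card_sylow_mod
  have hone : Nat.card (Sylow 3 C) = 1 := by
    rcases (Nat.dvd_prime (by norm_num)).1 hcount with h | h
    · exact h
    · omega
  obtain ⟨hsub, -⟩ := Nat.card_eq_one_iff_unique.1 hone
  set R₀ := (default : Sylow 3 C)
  have hR₀ : Nat.card (R₀ : Subgroup C) = 9 := by
    simpa using H62.card_sylow_coe (a := 2) (m := 5) (by rw [hC]; norm_num) (by decide) R₀
  obtain ⟨R, hR⟩ := (R₀.isPGroup'.map C.subtype).exists_le_sylow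
  have hRC : (R : Subgroup G) ≤ C := by
    have he : (R₀ : Subgroup C).map C.subtype = (R : Subgroup G) := eq_of_le_of_card_ge hR (by
      rw [card_three5040 hn R, Subgroup.card_map_of_injective (subtype_injective C), hR₀])
    rw [← he]
    exact map_subtype_le _
  -- so `N` normalizes `R`
  have hNR : N ≤ normalizer ((R : Subgroup G) : Set G) := by
    intro g hg
    apply Sylow.smul_eq_iff_mem_normalizer.1
    have hgR : ((g • R : Sylow 3 G) : Subgroup G) ≤ C := by
      rintro _ ⟨v, hv, rfl⟩
      show g * v * g⁻¹ ∈ C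
      rw [hCdef, mem_centralizer_iff]
      intro w hw
      have hw' : g⁻¹ * w * g ∈ (P : Subgroup G) := by
        have h2 := (mem_normalizer_iff.1 (inv_mem hg) w).1 hw
        rwa [inv_inv] at h2
      have h3 := mem_centralizer_iff.1 (hRC hv) _ hw'
      calc w * (g * v * g⁻¹) = g * ((g⁻¹ * w * g) * v) * g⁻¹ := by group
        _ = g * (v * (g⁻¹ * w * g)) * g⁻¹ := by rw [h3]
        _ = g * v * g⁻¹ * w := by group
    have he : (g • R).subtype hgR = R.subtype hRC := Subsingleton.elim _ _
    exact Sylow.subtype_injective he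
  have hPle : (P : Subgroup G) ≤ normalizer ((R : Subgroup G) : Set G) := le_normalizer.trans hNR
  obtain ⟨k, hk, hk5⟩ := sylow_count_in P _ hPle
  rw [← hNdef, inf_eq_right.2 hNR, hN] at hk
  have hd : k * 90 ∣ 5040 := hk ▸ hn ▸ card_subgroup_dvd_card _
  have hkd : k ∈ (56 : ℕ).divisors :=
    Nat.mem_divisors.2 ⟨Nat.dvd_of_mul_dvd_mul_right (k := 90) (by norm_num) (by norm_num; exact hd),
      by norm_num⟩
  have hall : ∀ d ∈ (56 : ℕ).divisors, d % 5 = 1 → d = 1 ∨ d = 56 := by decide +kernel
  have hmulR := H62.card_normalizer_mul R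
  rw [hk, hn] at hmulR
  have h3 : Nat.card (Sylow 3 G) % 3 = 1 := H62.card_sylow_mod
  have h1 := H62.one_lt_card_sylow (p := 3) hG (by rw [hn]; norm_num)
  rcases hall k hkd hk5 with rfl | rfl <;> omega

/-- The normalizer of a Sylow `5`-subgroup does not have order `240`. -/
theorem normalizer_five_ne_twoforty :
    Nat.card (normalizer ((P : Subgroup G) : Set G)) ≠ 240 := by
  classical
  intro hN
  haveI : Fact (Nat.Prime 7) := ⟨by norm_num⟩
  haveI : Fact (Nat.Prime 3) := ⟨by norm_num⟩
  have hG := not_comm5040 hn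
  have hP := card_five5040 hn P
  set M := normalizer ((P : Subgroup G) : Set G) with hMdef
  have hidx : M.index = 21 := by
    have h1 := M.card_mul_index
    rw [hN, hn] at h1
    omega
  have hMtop : M ≠ ⊤ := fun h => by rw [h, index_top] at hidx; omega
  -- elements of order three
  have hthree : ∀ w : G, orderOf w = 3 →
      Nat.card (MulAction.fixedBy (G ⧸ M) w) = 0 ∨
        Nat.card (MulAction.fixedBy (G ⧸ M) w) % 5 = 1 := by
    intro w hw
    rcases Nat.eq_zero_or_pos (Nat.card (MulAction.fixedBy (G ⧸ M) w)) with h | h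
    · exact Or.inl h
    refine Or.inr ?_
    obtain ⟨⟨a, ha⟩⟩ := (Finite.card_pos_iff).1 h
    induction a using QuotientGroup.induction_on with
    | H g =>
      have hg := (H62.coe_mem_fixedBy_iff M w g).1 ha
      have hc : IsConj w (g⁻¹ * w * g) := isConj_iff.2 ⟨g⁻¹, by rw [inv_inv]⟩
      rw [card_fixedBy_isConj M hc]
      refine H65.fixedBy_modEq_one P hP (mem_centralizer_of_coprime P hP hg ?_)
      rw [show orderOf (g⁻¹ * w * g) = 3 by
        rw [← hw]; simpa using MulEquiv.orderOf_eq (MulAut.conj g⁻¹) w]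
      norm_num
  obtain ⟨Q⟩ := (inferInstance : Nonempty (Sylow 7 G))
  have hQ := card_seven5040 hn Q
  have hNQ := card_normalizer_seven hn Q
  obtain ⟨x, hxQ, hx1, hxo⟩ := H65.exists_sylow_generator Q hQ
  -- three orbits of `Q`
  have horb : Nat.card (MulAction.orbitRel.Quotient (Q : Subgroup G) (G ⧸ M)) = 3 := by
    have : Fintype (Q : Subgroup G) := Fintype.ofFinite _
    have : Fintype (G ⧸ M) := Fintype.ofFinite _
    have : Fintype (MulAction.orbitRel.Quotient (Q : Subgroup G) (G ⧸ M)) := Fintype.ofFinite _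
    have h := MulAction.sum_card_fixedBy_eq_card_orbits_mul_card_group (Q : Subgroup G) (G ⧸ M)
    simp only [← Nat.card_eq_fintype_card] at h
    rw [hQ, Finset.sum_eq_single (1 : (Q : Subgroup G))] at h
    · have h1 : Nat.card (MulAction.fixedBy (G ⧸ M) (1 : (Q : Subgroup G))) = 21 := by
        rw [← hidx]
        exact Nat.card_congr (Equiv.subtypeUnivEquiv fun z => by simp [MulAction.mem_fixedBy])
      rw [h1] at h
      show Nat.card (Quotient (MulAction.orbitRel (Q : Subgroup G) (G ⧸ M))) = 3
      omega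
    · intro u _ hu
      rw [Nat.card_eq_zero]
      refine Or.inl ⟨fun ⟨a, ha⟩ => ?_⟩
      induction a using QuotientGroup.induction_on with
      | H g =>
        have hg := (H62.coe_mem_fixedBy_iff M (u : G) g).1 ha
        have hu7 := (H65.sylow_eq_zpowers Q hQ u.2 (fun h => hu (Subtype.ext h))).2
        have hd := Subgroup.orderOf_dvd_natCard M hg
        rw [show orderOf (g⁻¹ * (u : G) * g) = 7 from
          Eq.trans (by simpa using MulEquiv.orderOf_eq (MulAut.conj g⁻¹) (u : G)) hu7] at hd
        exact seven_not_dvd_normalizer_five hn P hd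
    · simp
  have hle3 : ∀ y : G, y ∈ normalizer ((Q : Subgroup G) : Set G) →
      y ∉ centralizer ((Q : Subgroup G) : Set G) →
      Nat.card (MulAction.fixedBy (G ⧸ M) y) ≤ 3 := by
    intro y hy hyC
    rw [← horb]
    exact H62.card_fixedBy_le_card_orbits _ hQ y hy hyC
  rcases centralizer_seven_data hn Q with hC | hC
  · -- `C(Q) = Q`
    obtain ⟨g, hgN, hdvd, hgC⟩ := exists_normalizer_generator Q hQ (r := 6) (by rw [hC, hNQ])
    obtain ⟨q, hq⟩ := hdvd
    have hpos := orderOf_pos g
    have hoN : orderOf g ∣ 42 := hNQ ▸ Subgroup.orderOf_dvd_natCard _ hgN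
    have ht : orderOf (g ^ (3 * q)) = 2 := by
      rw [orderOf_pow_of_dvd (by omega) (by rw [hq]; exact ⟨2, by ring⟩), hq,
        show 6 * q = 3 * q * 2 by ring, Nat.mul_div_cancel_left _ (by omega)]
    have hw : orderOf (g ^ (2 * q)) = 3 := by
      rw [orderOf_pow_of_dvd (by omega) (by rw [hq]; exact ⟨3, by ring⟩), hq,
        show 6 * q = 2 * q * 3 by ring, Nat.mul_div_cancel_left _ (by omega)]
    have hnot : ∀ y : G, orderOf y = 2 ∨ orderOf y = 3 →
        y ∉ centralizer ((Q : Subgroup G) : Set G) := by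
      intro y hy hyC
      have hd := Subgroup.orderOf_dvd_natCard _ hyC
      rw [hC] at hd
      rcases hy with h | h <;> rw [h] at hd <;> norm_num at hd
    set t := g ^ (3 * q)
    set w := g ^ (2 * q)
    have htN : t ∈ normalizer ((Q : Subgroup G) : Set G) := pow_mem hgN _
    have hwN : w ∈ normalizer ((Q : Subgroup G) : Set G) := pow_mem hgN _
    have h1 := hle3 t htN (hnot t (Or.inl ht))
    obtain ⟨-, hmod⟩ := H65.involution_fixedBy hG M hMtop ht
    have h2 := hle3 w hwN (hnot w (Or.inr hw))
    have h3 := fixedBy_modEq_index (p := 3) M (g := w) (by rw [← hw, pow_orderOf_eq_one])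
    have h4 := hthree w hw
    rw [hidx] at hmod h3
    have hw0 : Nat.card (MulAction.fixedBy (G ⧸ M) w) = 0 := by omega
    have h5 := fixedBy_modEq_both (p := 3) M (g := w) (t := t) (by rw [← hw, pow_orderOf_eq_one])
      (Commute.pow_pow_self g _ _)
    have hboth : Nat.card {c : G ⧸ M // t • c = c ∧ w • c = c} = 0 := by
      rw [Nat.card_eq_zero]
      refine Or.inl ⟨fun c => ?_⟩
      haveI : IsEmpty (MulAction.fixedBy (G ⧸ M) w) :=
        (Nat.card_eq_zero.1 hw0).resolve_right (fun h => h.not_finite inferInstance)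
      exact IsEmpty.false (⟨c.1, c.2.2⟩ : MulAction.fixedBy (G ⧸ M) w)
    omega
  · -- `#C(Q) = 21`
    obtain ⟨w, hwC, hwo⟩ := exists_mem_orderOf _ 3 (by norm_num) (show 3 ∣ Nat.card (centralizer ((Q : Subgroup G) : Set G)) by rw [hC]; norm_num)
    have hxw : Commute x w := commute_of_mem_centralizer hxQ hwC
    have h1 := fixedBy_modEq_both (p := 7) M (g := x) (t := w) (by rw [← hxo, pow_orderOf_eq_one]) hxw
    have h0 : Nat.card {c : G ⧸ M // w • c = c ∧ x • c = c} = 0 := by
      rw [Nat.card_eq_zero]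
      refine Or.inl ⟨fun ⟨a, _, ha⟩ => ?_⟩
      induction a using QuotientGroup.induction_on with
      | H g =>
        have hg := (H62.coe_mem_fixedBy_iff M x g).1 ha
        have hd := Subgroup.orderOf_dvd_natCard M hg
        rw [show orderOf (g⁻¹ * x * g) = 7 by
          rw [← hxo]; simpa using MulEquiv.orderOf_eq (MulAut.conj g⁻¹) x] at hd
        exact seven_not_dvd_normalizer_five hn P hd
    have h3 := fixedBy_modEq_index (p := 3) M (g := w) (by rw [← hwo, pow_orderOf_eq_one])
    have h4 := hthree w hwo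
    obtain ⟨z, hz⟩ := H65.exists_not_fixed hMtop (ne_one_of_orderOf_prime (by norm_num) hwo)
    have hlt : Nat.card (MulAction.fixedBy (G ⧸ M) w) < 21 := by
      rw [← hidx, Subgroup.index]
      exact card_lt_of_not_surjective (fun a => a.1) Subtype.val_injective
        (fun hs => by obtain ⟨⟨y, hy⟩, rfl⟩ := hs z; exact hz hy)
    rw [hidx] at h3
    have hw0 : Nat.card (MulAction.fixedBy (G ⧸ M) w) = 0 := by omega
    -- the centralizer of `w`
    set W := centralizer ({w} : Set G) with hWdef
    have h5 : ¬ 5 ∣ Nat.card W := by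
      intro h5
      obtain ⟨y, hyW, hyo⟩ := exists_mem_orderOf W 5 (by norm_num) h5
      obtain ⟨R, hR⟩ := (IsPGroup.of_card (p := 5) (n := 1)
        (by rw [Nat.card_zpowers, hyo, pow_one]) : IsPGroup 5 (zpowers y)).exists_le_sylow
      obtain ⟨g, hg⟩ := MulAction.exists_smul_eq G P R
      have hwR : w ∈ centralizer ((R : Subgroup G) : Set G) :=
        mem_centralizer_of_commute R (card_five5040 hn R) (hR (mem_zpowers y))
          (ne_one_of_orderOf_prime (by norm_num) hyo) (mem_centralizer_singleton_iff.1 hyW)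
      have hmem : w ∈ normalizer (((g • P : Sylow 5 G) : Subgroup G) : Set G) := by
        rw [hg]; exact Subgroup.centralizer_le_normalizer _ hwR
      have hfix : (g : G ⧸ M) ∈ MulAction.fixedBy (G ⧸ M) w := by
        rw [H62.coe_mem_fixedBy_iff, hMdef]
        apply Sylow.smul_eq_iff_mem_normalizer.1
        rw [mul_smul, mul_smul, inv_smul_eq_iff]
        exact Sylow.smul_eq_iff_mem_normalizer.2 hmem
      haveI : Nonempty (MulAction.fixedBy (G ⧸ M) w) := ⟨⟨_, hfix⟩⟩
      exact Nat.card_pos.ne' hw0
    have h9 : 9 ∣ Nat.card W := by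
      obtain ⟨R, hR⟩ := (IsPGroup.of_card (p := 3) (n := 1)
        (by rw [Nat.card_zpowers, hwo, pow_one]) : IsPGroup 3 (zpowers w)).exists_le_sylow
      rw [← card_three5040 hn R]
      refine card_dvd_of_le fun v hv => mem_centralizer_singleton_iff.2 ?_
      have hcomm : IsMulCommutative (R : Subgroup G) :=
        IsPGroup.isMulCommutative_of_card_eq_prime_sq (p := 3) (by rw [card_three5040 hn R]; norm_num)
      exact congrArg Subtype.val (hcomm.is_comm.comm (⟨v, hv⟩ : (R : Subgroup G)) ⟨w, hR (mem_zpowers w)⟩)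
    have hQW : (Q : Subgroup G) ≤ W := fun v hv =>
      mem_centralizer_singleton_iff.2 (mem_centralizer_iff.1 hwC v hv)
    obtain ⟨k, hk, hk7⟩ := sylow_count_in Q W hQW
    set j := Nat.card (W ⊓ normalizer ((Q : Subgroup G) : Set G) : Subgroup G) with hj
    have hj42 : j ∣ 42 := hNQ ▸ card_dvd_of_le inf_le_right
    have hj21 : 21 ∣ j := by
      rw [← hC]
      refine card_dvd_of_le (le_inf (fun v hv => ?_) (Subgroup.centralizer_le_normalizer _))
      have hcC : ∀ a ∈ centralizer ((Q : Subgroup G) : Set G), Commute a w := by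
        have hle : Subgroup.closure ({x, w} : Set G) ≤ centralizer ((Q : Subgroup G) : Set G) := by
          rw [closure_le]
          rintro a (rfl | rfl)
          · exact mem_centralizer_of_commute Q hQ hxQ hx1 (Commute.refl _)
          · exact hwC
        have heq : Subgroup.closure ({x, w} : Set G) = centralizer ((Q : Subgroup G) : Set G) := by
          refine eq_of_le_of_card_ge hle ?_
          rw [hC]
          have d7 : 7 ∣ Nat.card (Subgroup.closure ({x, w} : Set G)) := by
            rw [← hxo]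
            exact Subgroup.orderOf_dvd_natCard _ (subset_closure (Or.inl rfl))
          have d3 : 3 ∣ Nat.card (Subgroup.closure ({x, w} : Set G)) := by
            rw [← hwo]
            exact Subgroup.orderOf_dvd_natCard _ (subset_closure (Or.inr rfl))
          exact Nat.le_of_dvd Nat.card_pos (Nat.Coprime.mul_dvd_of_dvd_of_dvd (by norm_num) d7 d3)
        intro a ha
        rw [← heq] at ha
        refine mem_centralizer_singleton_iff.1 ((?_ : Subgroup.closure ({x, w} : Set G) ≤ W) ha)
        rw [closure_le]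
        rintro b (rfl | rfl)
        · exact mem_centralizer_singleton_iff.2 hxw.eq
        · exact mem_centralizer_singleton_iff.2 rfl
      exact mem_centralizer_singleton_iff.2 (hcC v hv).eq
    have hkd : k * j ∣ 5040 := hk ▸ hn ▸ card_subgroup_dvd_card W
    rw [hk] at h5 h9
    have hj' : j = 21 ∨ j = 42 := by
      obtain ⟨b, hb⟩ := hj21
      have := Nat.le_of_dvd (by norm_num) hj42
      have hjpos : 0 < j := Nat.card_pos
      omega
    have hk' : k ∈ (240 : ℕ).divisors := by
      refine Nat.mem_divisors.2 ⟨?_, by norm_num⟩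
      have : k * 21 ∣ 240 * 21 := (mul_dvd_mul_left k hj21).trans (by norm_num; exact hkd)
      exact Nat.dvd_of_mul_dvd_mul_right (by norm_num) this
    have hall : ∀ d ∈ (240 : ℕ).divisors, d % 7 = 1 →
        ¬ (¬ 5 ∣ d * 21 ∧ 9 ∣ d * 21) ∧ ¬ (¬ 5 ∣ d * 42 ∧ 9 ∣ d * 42) := by decide +kernel
    rcases hj' with h | h <;> rw [h] at h5 h9
    · exact (hall k hk' hk7).1 ⟨h5, h9⟩
    · exact (hall k hk' hk7).2 ⟨h5, h9⟩

/-- The normalizer of a Sylow `5`-subgroup has order `40`. -/
theorem card_normalizer_five :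
    Nat.card (normalizer ((P : Subgroup G) : Set G)) = 40 := by
  have hG := not_comm5040 hn
  have hP := card_five5040 hn P
  have hmul := H62.card_normalizer_mul P
  rw [hn] at hmul
  have hcand := H65.sylow_candidate (p := 5) (a := 1) (m := 1008) hG hn (by norm_num) (by decide)
    one_pos
  have hall : ∀ d ∈ (1008 : ℕ).divisors, d % 5 = 1 → 1 < d →
      d = 6 ∨ d = 16 ∨ d = 21 ∨ d = 36 ∨ d = 56 ∨ d = 126 ∨ d = 336 := by decide +kernel
  rw [Finset.mem_filter] at hcand
  obtain ⟨hd, hd5, hd1, hfac⟩ := hcand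
  have h7 := seven_not_dvd_normalizer_five hn P
  rcases hall _ hd hd5 hd1 with h | h | h | h | h | h | h <;> rw [h] at hmul
  · rw [h] at hfac; norm_num [Nat.factorial] at hfac
  · omega
  · exact absurd (by omega) (normalizer_five_ne_twoforty hn P)
  · omega
  · exact absurd (by omega) (normalizer_five_ne_ninety hn P)
  · omega
  · exfalso
    obtain ⟨c, r, hc, hrc, hrd, hr1, hpc⟩ := H65.centralizer_sylow_card P hP hG
    have hr4 : r ∈ (4 : ℕ).divisors := Nat.mem_divisors.2 ⟨hrd, by norm_num⟩
    rw [show (4 : ℕ).divisors = {1, 2, 4} by decide +kernel] at hr4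
    simp only [Finset.mem_insert, Finset.mem_singleton] at hr4
    rcases hr4 with rfl | rfl | rfl <;> omega

end Five

end Order5040

end H70
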