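import Cfsg.Agent.H11.PConstrained
import Mathlib

/-!
`p`-constraint of local subgroups from the constraint of centralizers or of overgroups.
-/

set_option autoImplicit false
set_option linter.style.haveILetI false

namespace H70

variable {G : Type*} [Group G] [Finite G] {p : ℕ} [Fact p.Prime]

/-- If the centralizer of a normal `p`-subgroup is `p`-constrained, so is the group. -/
theorem isPConstrained_of_centralizer_normal (T : Subgroup G) [T.Normal] (hT : IsPGroup p T)
    (hC : Cfsg.IsPConstrained p ↥(Subgroup.centralizer (T : Set G))) :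
    Cfsg.IsPConstrained p G := by
  haveI := H1.pPrimeCore_normal' p G
  set K := Cfsg.pPrimeCore p G with hK
  set C := Subgroup.centralizer (T : Set G) with hCdef
  haveI hCn : C.Normal := Subgroup.normal_centralizer
  set f := QuotientGroup.mk' K with hf
  haveI : (C.map f).Normal := hCn.map f (QuotientGroup.mk'_surjective _)
  haveI : (T.map f).Normal := Subgroup.Normal.map ‹T.Normal› f (QuotientGroup.mk'_surjective _)
  haveI := H1.pCore_normal' p (G ⧸ K)
  have hmapK := H1.pPrimeCore_subgroup_map_eq p C
  have hker : (f.subgroupMap C).ker = Cfsg.pPrimeCore p ↥C := by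
    ext x
    rw [MonoidHom.mem_ker, Subtype.ext_iff]
    constructor
    · intro h
      have hx : (x : G) ∈ K := (QuotientGroup.eq_one_iff _).mp h
      have : (x : G) ∈ (Cfsg.pPrimeCore p ↥C).map C.subtype :=
        hmapK ▸ Subgroup.mem_inf.mpr ⟨hx, x.2⟩
      obtain ⟨y, hy, hyx⟩ := this
      rwa [← Subtype.ext hyx]
    · intro h
      have : (x : G) ∈ K ⊓ C := hmapK ▸ Subgroup.mem_map_of_mem C.subtype h
      exact (QuotientGroup.eq_one_iff _).mpr (Subgroup.mem_inf.mp this).1
  have hc : H11.CoreSelfCentralizing p ↥(C.map f) :=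
    (H11.isPConstrained_iff_of_hom (f.subgroupMap C) (f.subgroupMap_surjective C) hker).mp hC
  rw [H11.isPConstrained_iff_core]
  intro x hx
  obtain ⟨n, rfl⟩ := QuotientGroup.mk'_surjective K x
  have hdisj : K ⊓ T = ⊥ := by
    apply Subgroup.inf_eq_bot_of_coprime
    obtain ⟨m, hm⟩ := IsPGroup.iff_card.mp hT
    rw [hm]
    exact Nat.Coprime.pow_right m (H1.card_pPrimeCore_coprime p G)
  have hTf : T.map f ≤ Cfsg.pCore p (G ⧸ K) := H1.le_pCore (hT.map f)
  have hn : n ∈ C := by
    rw [hCdef, Subgroup.mem_centralizer_iff]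
    intro t ht
    have h1 : n * t * n⁻¹ * t⁻¹ ∈ K ⊓ T := by
      refine Subgroup.mem_inf.mpr ⟨(QuotientGroup.eq_one_iff _).mp ?_,
        mul_mem (‹T.Normal›.conj_mem t ht n) (inv_mem ht)⟩
      have h2 := Subgroup.mem_centralizer_iff.mp hx (f t) (hTf (Subgroup.mem_map_of_mem f ht))
      show f (n * t * n⁻¹ * t⁻¹) = 1
      simp only [map_mul, map_inv]
      rw [show f n * f t = f t * f n from h2.symm]
      group
    rw [hdisj, Subgroup.mem_bot, mul_inv_eq_one, mul_inv_eq_iff_eq_mul] at h1
    exact h1.symm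
  have hmap := H1.pCore_subgroup_map_eq p (C.map f)
  have h3 : (⟨f n, Subgroup.mem_map_of_mem f hn⟩ : ↥(C.map f)) ∈ Cfsg.pCore p ↥(C.map f) := by
    apply hc
    rw [Subgroup.mem_centralizer_iff]
    intro y hy
    have hy' : (y : G ⧸ K) ∈ Cfsg.pCore p (G ⧸ K) ⊓ C.map f :=
      hmap ▸ Subgroup.mem_map_of_mem (C.map f).subtype hy
    exact Subtype.ext (Subgroup.mem_centralizer_iff.mp hx _ (Subgroup.mem_inf.mp hy').1)
  have h4 : f n ∈ Cfsg.pCore p (G ⧸ K) ⊓ C.map f :=
    hmap ▸ Subgroup.mem_map_of_mem (C.map f).subtype h3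
  exact (Subgroup.mem_inf.mp h4).1

omit [Finite G] in
/-- The centralizer of `T` inside a subgroup, as a group. -/
theorem centralizer_subgroupOf_eq {T M : Subgroup G} (hTM : T ≤ M) :
    Subgroup.centralizer ((T.subgroupOf M : Subgroup ↥M) : Set ↥M) =
      (Subgroup.centralizer (T : Set G)).subgroupOf M := by
  ext x
  simp only [Subgroup.mem_centralizer_iff, Subgroup.mem_subgroupOf, SetLike.mem_coe]
  constructor
  · intro h t ht
    exact congrArg Subtype.val (h ⟨t, hTM ht⟩ ht)
  · intro h y hy
    exact Subtype.ext (h _ hy)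

/-- If the centralizer of a `p`-subgroup is `p`-constrained, so is its normalizer. -/
theorem isPConstrained_normalizer_of_centralizer (T : Subgroup G) (hT : IsPGroup p T)
    (hC : Cfsg.IsPConstrained p ↥(Subgroup.centralizer (T : Set G))) :
    Cfsg.IsPConstrained p ↥(Subgroup.normalizer (T : Set G)) := by
  set M := Subgroup.normalizer (T : Set G) with hM
  haveI : (T.subgroupOf M).Normal := by rw [hM]; infer_instance
  refine isPConstrained_of_centralizer_normal (T.subgroupOf M) (IsPGroup.comap_subtype hT) ?_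
  refine H11.isPConstrained_of_equiv ?_ hC
  exact (Subgroup.subgroupOfEquivOfLe (Subgroup.centralizer_le_normalizer (T : Set G))).symm.trans
    (MulEquiv.subgroupCongr (centralizer_subgroupOf_eq Subgroup.le_normalizer).symm)

/-- Constraint of a normalizer from that of an overgroup. -/
theorem isPConstrained_normalizer_of_le (T M : Subgroup G) (hT : IsPGroup p T)
    (hTM : Subgroup.normalizer (T : Set G) ≤ M) (hM : Cfsg.IsPConstrained p ↥M) :
    Cfsg.IsPConstrained p ↥(Subgroup.normalizer (T : Set G)) := by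
  have hle : T ≤ M := Subgroup.le_normalizer.trans hTM
  have h1 := H11.isPConstrained_normalizer hM (T.subgroupOf M) (IsPGroup.comap_subtype hT)
  refine H11.isPConstrained_of_equiv ?_ h1
  refine (MulEquiv.subgroupCongr ?_).trans (Subgroup.subgroupOfEquivOfLe hTM)
  ext x
  simp only [Subgroup.mem_normalizer_iff, Subgroup.mem_subgroupOf]
  constructor
  · intro h t
    constructor
    · intro ht
      simpa using (h ⟨t, hle ht⟩).mp ht
    · intro ht
      have ht' : t ∈ M := by
        have h1 : ((x : G))⁻¹ * ((x : G) * t * (x : G)⁻¹) * (x : G) ∈ M :=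
          mul_mem (mul_mem (inv_mem x.2) (hle ht)) x.2
        simpa [mul_assoc] using h1
      exact (h ⟨t, ht'⟩).mpr (by simpa using ht)
  · intro h t
    simpa using h (t : G)

/-- Constraint of a centralizer from that of an overgroup. -/
theorem isPConstrained_centralizer_of_le (T M : Subgroup G) (hT : IsPGroup p T) (hle : T ≤ M)
    (hTM : Subgroup.centralizer (T : Set G) ≤ M) (hM : Cfsg.IsPConstrained p ↥M) :
    Cfsg.IsPConstrained p ↥(Subgroup.centralizer (T : Set G)) :=
  H11.isPConstrained_of_equiv
    ((MulEquiv.subgroupCongr (centralizer_subgroupOf_eq hle)).trans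
      (Subgroup.subgroupOfEquivOfLe hTM))
    (H11.isPConstrained_centralizer hM (T.subgroupOf M) (IsPGroup.comap_subtype hT))

/-- If all centralizers of elements of order `p` are `p`-constrained, so are the `p`-locals. -/
theorem isPConstrained_normalizer_of_all_centralizers
    (h : ∀ x : G, orderOf x = p → Cfsg.IsPConstrained p ↥(Subgroup.centralizer ({x} : Set G)))
    (T : Subgroup G) (hT : IsPGroup p T) (hT1 : T ≠ ⊥) :
    Cfsg.IsPConstrained p ↥(Subgroup.normalizer (T : Set G)) := by
  haveI : Nontrivial ↥T := (Subgroup.nontrivial_iff_ne_bot T).mpr hT1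
  have hp : p.Prime := Fact.out
  have hdvd : p ∣ Nat.card (Subgroup.center ↥T) := by
    haveI : Nontrivial (Subgroup.center ↥T) := hT.center_nontrivial
    obtain ⟨n, hn, hcard⟩ := (hT.to_subgroup (Subgroup.center ↥T)).nontrivial_iff_card.mp this
    rw [hcard]
    exact dvd_pow_self p hn.ne'
  obtain ⟨x, hx⟩ := exists_prime_orderOf_dvd_card' p hdvd
  have hx' : orderOf ((x : ↥T) : G) = p := by rw [Subgroup.orderOf_coe, Subgroup.orderOf_coe, hx]
  refine isPConstrained_normalizer_of_centralizer T hT ?_
  refine isPConstrained_centralizer_of_le T (Subgroup.centralizer {((x : ↥T) : G)}) hT ?_ ?_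
    (h _ hx')
  · intro t ht
    rw [Subgroup.mem_centralizer_singleton_iff]
    have := congrArg Subtype.val (Subgroup.mem_center_iff.mp x.2 ⟨t, ht⟩)
    exact this
  · exact Subgroup.centralizer_le (Set.singleton_subset_iff.mpr (x : ↥T).2)

end H70
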