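import Cfsg.Agent.H70.SwapPair
import Cfsg.Agent.H70.SolvableQuotTwo
import Cfsg.Agent.H37.SylowTwo

/-!
Sylow 2-subgroups of `SL₂(q)`, `q` odd, satisfy `QLike`.
-/

set_option autoImplicit false
set_option linter.style.haveILetI false

namespace H70

open QuaternionGroup

theorem qLike_quaternion_range {G : Type*} [Group G] [Finite G] {k : ℕ} (hk : 1 ≤ k)
    (φ : QuaternionGroup (2 ^ k) →* G) (hφ : Function.Injective φ) {j : G} (hjj : orderOf j = 2)
    (hjr : j ∈ φ.range) : QLike φ.range j := by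
  obtain ⟨z, rfl⟩ := hjr
  have hz : z = a ((2 ^ k : ℕ) : ZMod (2 * 2 ^ k)) :=
    quaternion_involution_eq ((orderOf_injective φ hφ z).symm.trans hjj)
  have hnn : ((2 ^ k : ℕ) : ZMod (2 * 2 ^ k)) + ((2 ^ k : ℕ) : ZMod (2 * 2 ^ k)) = 0 := by
    rw [← Nat.cast_add, show 2 ^ k + 2 ^ k = 2 * 2 ^ k by omega, ZMod.natCast_self]
  have hn0 : ((2 ^ k : ℕ) : ZMod (2 * 2 ^ k)) ≠ 0 := by
    rw [Ne, ZMod.natCast_eq_zero_iff]
    intro h
    have := Nat.le_of_dvd (Nat.two_pow_pos k) h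
    have := Nat.two_pow_pos k
    omega
  obtain ⟨m, hm⟩ : ∃ m : ℕ, 2 ^ k = m + m := by
    refine ⟨2 ^ (k - 1), ?_⟩
    rw [← two_mul, ← pow_succ', show k - 1 + 1 = k by omega]
  have hm' : ((m : ℕ) : ZMod (2 * 2 ^ k)) + (m : ℕ) = ((2 ^ k : ℕ) : ZMod (2 * 2 ^ k)) := by
    rw [← Nat.cast_add, ← hm]
  refine ⟨⟨z, rfl⟩, ?_, ?_, ?_, ?_⟩
  · rintro _ ⟨x, rfl⟩ h
    by_cases hx : x = 1
    · exact Or.inl (by rw [hx, map_one])
    · refine Or.inr (congrArg φ ?_)
      rw [hz]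
      refine quaternion_involution_eq (orderOf_eq_prime ?_ hx)
      exact hφ (by rw [pow_two, map_mul, h, map_one])
  · rintro _ ⟨x, rfl⟩ h
    rw [← map_mul, hφ.eq_iff, hz] at h
    cases x with
    | a i =>
      rw [a_mul_a] at h
      have h2 : i + i = ((2 ^ k : ℕ) : ZMod (2 * 2 ^ k)) := QuaternionGroup.a.inj h
      refine ⟨φ (xa 0), ⟨_, rfl⟩, ?_, mul_inv_eq_iff_eq_mul.mpr ?_⟩
      · rw [← map_mul, hz, xa_mul_xa, add_sub_assoc, sub_zero, add_zero]
      · rw [← map_mul, ← map_mul, ← map_mul, hz, xa_mul_a, a_mul_a, a_mul_xa]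
        congr 2
        linear_combination h2 + hnn
    | xa i =>
      refine ⟨φ (a (m : ℕ)), ⟨_, rfl⟩, ?_, mul_inv_eq_iff_eq_mul.mpr ?_⟩
      · rw [← map_mul, hz, a_mul_a, hm']
      · rw [← map_mul, ← map_mul, ← map_mul, hz, a_mul_xa, xa_mul_a, xa_mul_a]
        congr 2
        linear_combination -hm' - hnn
  · rintro _ ⟨c, rfl⟩ _ ⟨d, rfl⟩ h h'
    rw [← map_mul, ← map_mul, hφ.eq_iff, hz] at h h'
    cases c with
    | xa i =>
      rw [xa_mul_xa, a_mul_a, add_sub_cancel_right, hnn] at h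
      exact absurd (QuaternionGroup.a.inj h).symm hn0
    | a i =>
      cases d with
      | xa l =>
        rw [xa_mul_xa, a_mul_a, add_sub_cancel_right, hnn] at h'
        exact absurd (QuaternionGroup.a.inj h').symm hn0
      | a l => rw [← map_mul, ← map_mul, a_mul_a, a_mul_a, add_comm]
  · exact ⟨φ (a (m : ℕ)), ⟨_, rfl⟩, by rw [← map_mul, hz, a_mul_a, hm']⟩

/-- A subgroup isomorphic to `SL₂(q)`, `q` odd, with central involution `j`, has a maximal
2-subgroup which is `QLike`. -/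
theorem exists_qLike_of_sl2 {G : Type*} [Group G] [Finite G] {F : Type*} [Field F] [Fintype F]
    (hF : Odd (Fintype.card F)) (L : Subgroup G)
    (e : ↥L ≃* Matrix.SpecialLinearGroup (Fin 2) F) {j : G} (hj : orderOf j = 2) (hjL : j ∈ L)
    (hjc : ∀ x ∈ L, x * j = j * x) :
    ∃ P : Subgroup G, P ≤ L ∧ IsPGroup 2 ↥P ∧ QLike P j ∧
      ∀ R : Subgroup G, IsPGroup 2 ↥R → P ≤ R → R ≤ L → R = P := by
  haveI : Fact (Nat.Prime 2) := ⟨Nat.prime_two⟩
  obtain ⟨p, hp⟩ := CharP.exists F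
  obtain ⟨m, hpp, hcard⟩ := FiniteField.card F p
  haveI : Fact p.Prime := ⟨hpp⟩
  have hp2 : p ≠ 2 := by
    rintro rfl
    rw [hcard, Nat.odd_pow_iff m.pos.ne'] at hF
    exact absurd hF (by decide)
  obtain ⟨P0⟩ : Nonempty (Sylow 2 (Matrix.SpecialLinearGroup (Fin 2) F)) := inferInstance
  obtain ⟨k, hk, ⟨q⟩⟩ := H37.sylow_two_quaternion p hp2 P0
  let φ : QuaternionGroup (2 ^ k) →* G :=
    (L.subtype.comp e.symm.toMonoidHom).comp ((P0 : Subgroup _).subtype.comp q.symm.toMonoidHom)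
  have hφi : Function.Injective φ :=
    (L.subtype_injective.comp e.symm.injective).comp
      (Subgroup.subtype_injective _ |>.comp q.symm.injective)
  have hφL : φ.range ≤ L := by
    rintro _ ⟨x, rfl⟩
    exact (e.symm _).2
  have hmax : ∀ R : Subgroup G, IsPGroup 2 ↥R → φ.range ≤ R → R ≤ L → R = φ.range := by
    intro R hR hle hRL
    refine le_antisymm ?_ hle
    have hR' : IsPGroup 2 ↥((R.subgroupOf L).map e.toMonoidHom) :=
      (IsPGroup.comap_subtype (H := R) (K := L) hR).map _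
    have hP0le : (P0 : Subgroup _) ≤ (R.subgroupOf L).map e.toMonoidHom := fun x hx => by
      refine ⟨e.symm x, hle ⟨q ⟨x, hx⟩, ?_⟩, e.apply_symm_apply x⟩
      simp [φ]
    intro r hr
    have h1 : e ⟨r, hRL hr⟩ ∈ (P0 : Subgroup _) := by
      rw [← P0.is_maximal' hR' hP0le]
      exact ⟨_, hr, rfl⟩
    exact ⟨q ⟨_, h1⟩, by simp [φ]⟩
  have hP2 : IsPGroup 2 ↥φ.range := by
    exact (P0.2.of_equiv q).of_surjective φ.rangeRestrict φ.rangeRestrict_surjective
  have hjP : j ∈ φ.range := by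
    have hle : φ.range ≤ φ.range ⊔ Subgroup.zpowers j := le_sup_left
    have hp' : IsPGroup 2 ↥(φ.range ⊔ Subgroup.zpowers j) := by
      refine hP2.to_sup_of_normal_right'
        (IsPGroup.of_card (n := 1) (by rw [Nat.card_zpowers, hj, pow_one])) ?_
      intro x hx
      refine Subgroup.mem_normalizer_fintype fun y hy => ?_
      obtain ⟨i, rfl⟩ := Subgroup.mem_zpowers_iff.mp hy
      rw [((show Commute x j from hjc x (hφL hx)).zpow_right i).eq, mul_inv_cancel_right]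
      exact Subgroup.zpow_mem _ (Subgroup.mem_zpowers _) i
    rw [← hmax _ hp' hle (sup_le hφL (Subgroup.zpowers_le.mpr hjL))]
    exact Subgroup.mem_sup_right (Subgroup.mem_zpowers j)
  exact ⟨φ.range, hφL, hP2, qLike_quaternion_range hk φ hφi hj hjP, hmax⟩

end H70
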