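import Mathlib.GroupTheory.SpecificGroups.Quaternion
import Mathlib.GroupTheory.PGroup
import Mathlib.GroupTheory.Commutator.Basic
import Mathlib.Tactic.LinearCombination
import Mathlib.Tactic.Group
import Mathlib.Data.Nat.ModEq
import Cfsg.Agent.H70.SolvableQuotTwo
import Cfsg.Prelude.Def_TwoFusion

/-!
The involutions of quaternion direct factors of a 2-group: two of them are equal or the second lies
in the complement of the first.
-/

set_option autoImplicit false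
set_option linter.style.haveILetI false

namespace H70

open scoped commutatorElement

variable {G : Type*} [Group G]

/-- `Q` is a direct factor of `S` behaving like a generalized quaternion group with involution `z`. -/
structure QFactor (S Q R : Subgroup G) (z : G) : Prop where
  prod : Cfsg.IsInternalDirectProduct Q R S
  mem : z ∈ Q
  ne : z ≠ 1
  sq : z * z = 1
  inv_two : ∀ x ∈ Q, x * x = 1 → x = 1 ∨ x = z
  power : ∀ x ∈ Q, x ≠ 1 → z ∈ Subgroup.zpowers x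
  noncomm : ∃ a ∈ Q, ∃ b ∈ Q, ⁅a, b⁆ ≠ 1
  cent : ∀ w ∈ Q, w * w ≠ 1 → ∀ a ∈ Q, ∀ b ∈ Q, w * a = a * w → w * b = b * w → a * b = b * a

variable {S Q R Q₁ R₁ : Subgroup G} {z z₁ : G}

theorem QFactor.exists_decomp (h : QFactor S Q R z) {x : G} (hx : x ∈ S) :
    ∃ q ∈ Q, ∃ r ∈ R, x = q * r := by
  obtain ⟨-, -, hc, -, hsup⟩ := h.prod
  have hN : Q ≤ Subgroup.normalizer (R : Set G) := fun a ha => by
    rw [Subgroup.mem_normalizer_iff]
    intro y
    constructor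
    · intro hy; rw [hc a ha y hy, mul_inv_cancel_right]; exact hy
    · intro hy
      have h1 := hc a⁻¹ (inv_mem ha) _ hy
      have h2 : y = a * y * a⁻¹ := by
        calc y = a⁻¹ * (a * y * a⁻¹) * a := by group
          _ = (a * y * a⁻¹) * a⁻¹ * a := by rw [h1]
          _ = a * y * a⁻¹ := by group
      rwa [h2]
  rw [← hsup, ← SetLike.mem_coe, Subgroup.coe_mul_of_left_le_normalizer_right _ _ hN] at hx
  obtain ⟨q, hq, r, hr, rfl⟩ := hx
  exact ⟨q, hq, r, hr, rfl⟩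

theorem QFactor.unique (h : QFactor S Q R z) {q q' r r' : G} (hq : q ∈ Q) (hq' : q' ∈ Q)
    (hr : r ∈ R) (hr' : r' ∈ R) (he : q * r = q' * r') : q = q' ∧ r = r' := by
  obtain ⟨-, -, -, hd, -⟩ := h.prod
  have h1 : q'⁻¹ * q = r' * r⁻¹ := by
    calc q'⁻¹ * q = q'⁻¹ * (q * r) * r⁻¹ := by group
      _ = r' * r⁻¹ := by rw [he]; group
  have h2 : q'⁻¹ * q ∈ Q ⊓ R :=
    Subgroup.mem_inf.mpr ⟨mul_mem (inv_mem hq') hq, h1 ▸ mul_mem hr' (inv_mem hr)⟩
  rw [hd, Subgroup.mem_bot] at h2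
  refine ⟨(inv_mul_eq_one.mp h2).symm, ?_⟩
  rw [h2] at h1
  exact (mul_inv_eq_one.mp h1.symm).symm

/-- Projection onto the first factor. -/
noncomputable def QFactor.proj (h : QFactor S Q R z) : ↥S →* G :=
  MonoidHom.mk' (fun x => Classical.choose (h.exists_decomp x.2)) fun x y => by
    obtain ⟨hq, r, hr, hx⟩ := Classical.choose_spec (h.exists_decomp x.2)
    obtain ⟨hq', r', hr', hy⟩ := Classical.choose_spec (h.exists_decomp y.2)
    obtain ⟨hq'', r'', hr'', hxy⟩ := Classical.choose_spec (h.exists_decomp (x * y).2)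
    refine (h.unique hq'' (mul_mem hq hq') hr'' (mul_mem hr hr') ?_).1
    rw [← hxy, Subgroup.coe_mul]
    set q := Classical.choose (h.exists_decomp x.2)
    set q' := Classical.choose (h.exists_decomp y.2)
    rw [hx, hy]
    calc q * r * (q' * r') = q * (r * q') * r' := by group
      _ = q * (q' * r) * r' := by rw [h.prod.2.2.1 q' hq' r hr]
      _ = _ := by group

theorem QFactor.proj_spec (h : QFactor S Q R z) (x : ↥S) :
    h.proj x ∈ Q ∧ (h.proj x)⁻¹ * (x : G) ∈ R := by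
  obtain ⟨hq, r, hr, hx⟩ := Classical.choose_spec (h.exists_decomp x.2)
  refine ⟨hq, ?_⟩
  have h1 : (h.proj x)⁻¹ * (x : G) = r := by
    show (Classical.choose (h.exists_decomp x.2))⁻¹ * (x : G) = r
    exact inv_mul_eq_iff_eq_mul.mpr hx
  rw [h1]; exact hr

theorem QFactor.z_central (h : QFactor S Q R z) : ∀ x ∈ S, x * z = z * x := by
  intro x hx
  obtain ⟨q, hq, r, hr, rfl⟩ := h.exists_decomp hx
  have h1 : q * z = z * q := by
    rcases h.inv_two (q * z * q⁻¹) (mul_mem (mul_mem hq h.mem) (inv_mem hq)) (by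
      rw [show q * z * q⁻¹ * (q * z * q⁻¹) = q * (z * z) * q⁻¹ by group, h.sq, mul_one,
        mul_inv_cancel]) with e | e
    · exact absurd (conj_eq_one_iff.mp e) h.ne
    · exact mul_inv_eq_iff_eq_mul.mp e
  rw [mul_assoc, ← h.prod.2.2.1 z h.mem r hr, ← mul_assoc, h1, mul_assoc]

/-- Two quaternion factor involutions are equal, or one lies in the other's complement. -/
theorem QFactor.dichotomy (h : QFactor S Q R z) (h₁ : QFactor S Q₁ R₁ z₁) : z₁ = z ∨ z₁ ∈ R := by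
  obtain ⟨hQS, hRS, hc, hd, -⟩ := h.prod
  obtain ⟨hQ₁S, hR₁S, hc₁, -, -⟩ := h₁.prod
  have hz1S : z₁ ∈ S := hQ₁S h₁.mem
  set p := h.proj ⟨z₁, hz1S⟩ with hp
  have hpp : p * p = 1 := by
    rw [hp, ← map_mul, show (⟨z₁, hz1S⟩ : ↥S) * ⟨z₁, hz1S⟩ = 1 from Subtype.ext h₁.sq, map_one]
  rcases h.inv_two p (h.proj_spec _).1 hpp with e | e
  · right
    have := (h.proj_spec ⟨z₁, hz1S⟩).2
    rw [← hp, e, inv_one, one_mul] at this
    exact this
  left
  -- the projection is faithful on `Q₁`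
  have hinj : ∀ x : ↥S, (x : G) ∈ Q₁ → h.proj x = 1 → x = 1 := by
    intro x hx hx1
    by_contra hne
    obtain ⟨i, hi⟩ := Subgroup.mem_zpowers_iff.mp
      (h₁.power x hx fun e' => hne (Subtype.ext e'))
    have : p = 1 := by
      rw [hp, show (⟨z₁, hz1S⟩ : ↥S) = x ^ i from Subtype.ext (by rw [Subgroup.coe_zpow, hi]),
        map_zpow, hx1, one_zpow]
    exact h.ne (e.symm.trans this)
  -- the projection of `R₁` is in `{1, z}`
  have hR1 : ∀ y : ↥S, (y : G) ∈ R₁ → h.proj y = 1 ∨ h.proj y = z := by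
    intro y hy
    refine h.inv_two _ (h.proj_spec y).1 ?_
    by_contra hne
    obtain ⟨a, ha, b, hb, hab⟩ := h₁.noncomm
    have hcomm : ∀ u : G, ∀ hu : u ∈ Q₁, h.proj y * h.proj ⟨u, hQ₁S hu⟩ =
        h.proj ⟨u, hQ₁S hu⟩ * h.proj y := fun u hu => by
      rw [← map_mul, ← map_mul]
      exact congrArg h.proj (Subtype.ext (hc₁ u hu y hy).symm)
    have h1 := h.cent _ (h.proj_spec y).1 hne _ (h.proj_spec ⟨a, hQ₁S ha⟩).1 _
      (h.proj_spec ⟨b, hQ₁S hb⟩).1 (hcomm a ha) (hcomm b hb)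
    apply hab
    rw [commutatorElement_eq_one_iff_mul_comm]
    have h2 : (⟨a, hQ₁S ha⟩ : ↥S) * ⟨b, hQ₁S hb⟩ * ((⟨b, hQ₁S hb⟩ : ↥S) * ⟨a, hQ₁S ha⟩)⁻¹ = 1 :=
      hinj _ (mul_mem (mul_mem ha hb) (inv_mem (mul_mem hb ha))) (by
        rw [map_mul, map_inv, map_mul, map_mul, h1, mul_inv_cancel])
    exact congrArg Subtype.val (mul_inv_eq_one.mp h2)
  -- the second component is abelian on `Q₁`
  let σ : ↥S → G := fun x => (h.proj x)⁻¹ * (x : G)
  have hσmul : ∀ x y : ↥S, σ (x * y) = σ x * σ y := fun x y => by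
    show (h.proj (x * y))⁻¹ * ((x : G) * y) = (h.proj x)⁻¹ * x * ((h.proj y)⁻¹ * y)
    have hcc := hc (h.proj y)⁻¹ (inv_mem (h.proj_spec y).1) _ (h.proj_spec x).2
    rw [map_mul, mul_inv_rev]
    calc (h.proj y)⁻¹ * (h.proj x)⁻¹ * ((x : G) * y)
        = ((h.proj y)⁻¹ * ((h.proj x)⁻¹ * x)) * y := by group
      _ = (h.proj x)⁻¹ * x * (h.proj y)⁻¹ * y := by rw [hcc]
      _ = _ := by group
  have hσR : ∀ r : G, ∀ hr : r ∈ R, σ ⟨r, hRS hr⟩ = r := by
    intro r hr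
    have h1 := h.proj_spec ⟨r, hRS hr⟩
    have h2 : h.proj ⟨r, hRS hr⟩ = 1 :=
      ((h.unique h1.1 (one_mem Q) h1.2 hr (by group)).1)
    show (h.proj ⟨r, hRS hr⟩)⁻¹ * r = r
    rw [h2, inv_one, one_mul]
  have hdec : ∀ r : G, ∀ hr : r ∈ R, ∃ u y : ↥S, (⟨r, hRS hr⟩ : ↥S) = u * y ∧
      ((u : G) = 1 ∨ (u : G) = z₁) ∧ (y : G) ∈ R₁ := by
    intro r hr
    obtain ⟨q, hq, y, hy, hqy⟩ := h₁.exists_decomp (hRS hr)
    refine ⟨⟨q, hQ₁S hq⟩, ⟨y, hR₁S hy⟩, Subtype.ext hqy, ?_, hy⟩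
    have h1 : h.proj ⟨r, hRS hr⟩ = 1 :=
      ((h.unique (h.proj_spec ⟨r, hRS hr⟩).1 (one_mem Q) (h.proj_spec ⟨r, hRS hr⟩).2 hr
        (by group)).1)
    rw [show (⟨r, hRS hr⟩ : ↥S) = ⟨q, hQ₁S hq⟩ * ⟨y, hR₁S hy⟩ from Subtype.ext hqy, map_mul] at h1
    have h2 : h.proj ⟨q, hQ₁S hq⟩ = (h.proj ⟨y, hR₁S hy⟩)⁻¹ := eq_inv_of_mul_eq_one_left h1
    have h3 : h.proj (⟨q, hQ₁S hq⟩ * ⟨q, hQ₁S hq⟩) = 1 := by
      rw [map_mul, h2, ← mul_inv_rev]
      rcases hR1 ⟨y, hR₁S hy⟩ hy with e' | e' <;> rw [e']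
      · group
      · rw [h.sq, inv_one]
    exact h₁.inv_two q hq (congrArg Subtype.val (hinj _ (mul_mem hq hq) h3))
  have hab : ∀ u : G, ∀ hu : u ∈ Q₁, ∀ v : G, ∀ hv : v ∈ Q₁,
      σ ⟨u, hQ₁S hu⟩ * σ ⟨v, hQ₁S hv⟩ = σ ⟨v, hQ₁S hv⟩ * σ ⟨u, hQ₁S hu⟩ := by
    intro u hu v hv
    obtain ⟨w, y, hwy, hw, hy⟩ := hdec (σ ⟨u, hQ₁S hu⟩) (h.proj_spec ⟨u, hQ₁S hu⟩).2
    have h1 := hσR (σ ⟨u, hQ₁S hu⟩) (h.proj_spec ⟨u, hQ₁S hu⟩).2
    rw [hwy, hσmul] at h1
    have hyv : σ y * σ ⟨v, hQ₁S hv⟩ = σ ⟨v, hQ₁S hv⟩ * σ y := by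
      rw [← hσmul, ← hσmul]
      exact congrArg σ (Subtype.ext (hc₁ v hv y hy).symm)
    have hwv : σ w * σ ⟨v, hQ₁S hv⟩ = σ ⟨v, hQ₁S hv⟩ * σ w := by
      rw [← hσmul, ← hσmul]
      refine congrArg σ (Subtype.ext ?_)
      show (w : G) * v = v * (w : G)
      rcases hw with e' | e' <;> rw [e']
      · group
      · exact (h₁.z_central v (hQ₁S hv)).symm
    rw [← h1, mul_assoc, hyv, ← mul_assoc, hwv, mul_assoc]
  -- so the second component kills `z₁`
  obtain ⟨a, ha, b, hb, hne⟩ := h₁.noncomm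
  set A : ↥S := ⟨a, hQ₁S ha⟩
  set B : ↥S := ⟨b, hQ₁S hb⟩
  let σh : ↥S →* G := MonoidHom.mk' σ hσmul
  have hc0 : σh ⁅A, B⁆ = 1 := by
    rw [map_commutatorElement, commutatorElement_eq_one_iff_mul_comm]
    exact hab a ha b hb
  have hcmem : ((⁅A, B⁆ : ↥S) : G) ∈ Q₁ := by
    show ⁅a, b⁆ ∈ Q₁
    rw [commutatorElement_def]
    exact mul_mem (mul_mem (mul_mem ha hb) (inv_mem ha)) (inv_mem hb)
  obtain ⟨i, hi⟩ := Subgroup.mem_zpowers_iff.mp (h₁.power ⁅a, b⁆ hcmem hne)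
  have hz0 : σh ⟨z₁, hz1S⟩ = 1 := by
    rw [show (⟨z₁, hz1S⟩ : ↥S) = ⁅A, B⁆ ^ i from Subtype.ext (by
      rw [Subgroup.coe_zpow]; exact hi.symm), map_zpow, hc0, one_zpow]
  have hz0' : (h.proj ⟨z₁, hz1S⟩)⁻¹ * z₁ = 1 := hz0
  rw [← hp, e] at hz0'
  exact (inv_mul_eq_one.mp hz0').symm

open QuaternionGroup in
/-- A quaternion factor gives a `QFactor`. -/
theorem qFactor_of_quaternion [Finite G] {n : ℕ} (hn : 1 ≤ n)
    (hprod : Cfsg.IsInternalDirectProduct Q R S) (e : ↥Q ≃* QuaternionGroup (2 ^ n)) :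
    ∃ z, QFactor S Q R z := by
  haveI : Fact (Nat.Prime 2) := ⟨Nat.prime_two⟩
  set m := ((2 ^ n : ℕ) : ZMod (2 * 2 ^ n)) with hm
  have hmm : m + m = 0 := by
    rw [hm, ← Nat.cast_add, show 2 ^ n + 2 ^ n = 2 * 2 ^ n by omega, ZMod.natCast_self]
  have hm0 : m ≠ 0 := by
    rw [hm, Ne, ZMod.natCast_eq_zero_iff]
    intro hdvd
    have := Nat.le_of_dvd (Nat.two_pow_pos n) hdvd
    have := Nat.two_pow_pos n
    omega
  have h2 : (2 : ZMod (2 * 2 ^ n)) ≠ 0 := by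
    rw [show (2 : ZMod (2 * 2 ^ n)) = ((2 : ℕ) : ZMod (2 * 2 ^ n)) by norm_num, Ne,
      ZMod.natCast_eq_zero_iff]
    intro hdvd
    have := Nat.le_of_dvd two_pos hdvd
    have : 2 ≤ 2 ^ n := le_self_pow₀ (by norm_num) (by omega)
    omega
  have hinv : ∀ x : QuaternionGroup (2 ^ n), x * x = 1 → x ≠ 1 → x = a m := fun x hx hx1 =>
    quaternion_involution_eq (orderOf_eq_prime (by rw [pow_two]; exact hx) hx1)
  set z : G := ((e.symm (a m) : ↥Q) : G) with hz
  have hcoe : ∀ u v : ↥Q, (u : G) * v = ((u * v : ↥Q) : G) := fun _ _ => rfl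
  have hze : ∀ x : ↥Q, x * x = 1 → x ≠ 1 → (x : G) = z := fun x hx hx1 => by
    have := hinv (e x) (by rw [← map_mul, hx, map_one]) (fun h => hx1 (e.map_eq_one_iff.mp h))
    rw [hz, ← this, e.symm_apply_apply]
  have hQ2 : IsPGroup 2 ↥Q := IsPGroup.of_card (n := n + 2) (by
    rw [Nat.card_congr e.toEquiv, Nat.card_eq_fintype_card, QuaternionGroup.card]; ring)
  refine ⟨z, hprod, (e.symm (a m)).2, fun h => ?_, ?_, ?_, ?_, ?_, ?_⟩
  · have h1 : e.symm (a m) = 1 := Subtype.ext h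
    rw [e.symm.map_eq_one_iff, one_def] at h1
    exact hm0 (QuaternionGroup.a.inj h1)
  · rw [hz, hcoe, ← map_mul, a_mul_a, hmm, a_zero, map_one]; rfl
  · intro x hx hxx
    by_cases h1 : x = 1
    · exact Or.inl h1
    · exact Or.inr (hze ⟨x, hx⟩ (Subtype.ext hxx) fun h => h1 (congrArg Subtype.val h))
  · intro x hx hx1
    obtain ⟨k, hk⟩ := IsPGroup.iff_orderOf.mp hQ2 ⟨x, hx⟩
    rw [Subgroup.orderOf_mk] at hk
    obtain ⟨k, rfl⟩ : ∃ j, k = j + 1 := ⟨k - 1, by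
      rcases Nat.eq_zero_or_pos k with rfl | h
      · exact absurd (orderOf_eq_one_iff.mp (by rw [hk]; rfl)) hx1
      · omega⟩
    refine ⟨(2 ^ k : ℕ), ?_⟩
    show x ^ ((2 ^ k : ℕ) : ℤ) = z
    rw [zpow_natCast]
    refine hze ⟨x ^ 2 ^ k, pow_mem hx _⟩ (Subtype.ext ?_) fun h => ?_
    · show x ^ 2 ^ k * x ^ 2 ^ k = 1
      rw [← pow_add, ← two_mul, ← pow_succ', ← hk, pow_orderOf_eq_one]
    · have h1 : x ^ 2 ^ k = 1 := congrArg Subtype.val h
      have h2 := Nat.le_of_dvd (Nat.two_pow_pos k) (orderOf_dvd_of_pow_eq_one h1)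
      have := Nat.two_pow_pos k
      rw [hk, pow_succ] at h2
      omega
  · refine ⟨_, (e.symm (a 1)).2, _, (e.symm (xa 0)).2, fun h => ?_⟩
    rw [commutatorElement_eq_one_iff_mul_comm, hcoe, hcoe] at h
    have h1 := congrArg e (Subtype.ext h : (e.symm (a 1) * e.symm (xa 0) : ↥Q) =
      e.symm (xa 0) * e.symm (a 1))
    rw [map_mul, map_mul, e.apply_symm_apply, e.apply_symm_apply, a_mul_xa, xa_mul_a] at h1
    exact h2 (by linear_combination -(QuaternionGroup.xa.inj h1))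
  · intro w hw hw2 u hu v hv hwu hwv
    have key : ∀ w u v : QuaternionGroup (2 ^ n), w * w ≠ 1 → w * u = u * w → w * v = v * w →
        u * v = v * u := by
      intro w u v hw hu hv
      cases w with
      | a i =>
        have hi : i + i ≠ 0 := fun h => hw (by rw [a_mul_a, h, a_zero])
        cases u with
        | xa p =>
          rw [a_mul_xa, xa_mul_a] at hu
          exact absurd (by linear_combination -(QuaternionGroup.xa.inj hu)) hi
        | a p =>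
          cases v with
          | xa q =>
            rw [a_mul_xa, xa_mul_a] at hv
            exact absurd (by linear_combination -(QuaternionGroup.xa.inj hv)) hi
          | a q => rw [a_mul_a, a_mul_a, add_comm]
      | xa i =>
        cases u with
        | a p =>
          rw [xa_mul_a, a_mul_xa] at hu
          have hp : p + p = 0 := by linear_combination QuaternionGroup.xa.inj hu
          cases v with
          | a q => rw [a_mul_a, a_mul_a, add_comm]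
          | xa q =>
            rw [a_mul_xa, xa_mul_a]
            congr 1
            linear_combination -hp
        | xa p =>
          rw [xa_mul_xa, xa_mul_xa] at hu
          have hp := QuaternionGroup.a.inj hu
          cases v with
          | a q =>
            rw [xa_mul_a, a_mul_xa] at hv
            have hq := QuaternionGroup.xa.inj hv
            rw [a_mul_xa, xa_mul_a]
            congr 1
            linear_combination hq
          | xa q =>
            rw [xa_mul_xa, xa_mul_xa] at hv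
            have hq := QuaternionGroup.a.inj hv
            rw [xa_mul_xa, xa_mul_xa]
            congr 1
            linear_combination hq - hp
    have := key (e ⟨w, hw⟩) (e ⟨u, hu⟩) (e ⟨v, hv⟩)
      (fun h => hw2 (congrArg Subtype.val
        (e.map_eq_one_iff.mp (show e (⟨w, hw⟩ * ⟨w, hw⟩) = 1 by rw [map_mul, h]))))
      (by rw [← map_mul, ← map_mul]; exact congrArg e (Subtype.ext hwu))
      (by rw [← map_mul, ← map_mul]; exact congrArg e (Subtype.ext hwv))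
    rw [← map_mul, ← map_mul] at this
    exact congrArg Subtype.val (e.injective this)

theorem QFactor.map (h : QFactor S Q R z) (φ : G ≃* G) (hS : S.map φ.toMonoidHom = S) :
    QFactor S (Q.map φ.toMonoidHom) (R.map φ.toMonoidHom) (φ z) := by
  obtain ⟨h1, h2, h3, h4, h5⟩ := h.prod
  refine ⟨⟨?_, ?_, ?_, ?_, ?_⟩, ⟨z, h.mem, rfl⟩, fun e => h.ne (φ.map_eq_one_iff.mp e),
    by rw [← map_mul, h.sq, map_one], ?_, ?_, ?_, ?_⟩
  · exact hS ▸ Subgroup.map_mono h1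
  · exact hS ▸ Subgroup.map_mono h2
  · rintro _ ⟨a, ha, rfl⟩ _ ⟨b, hb, rfl⟩
    show φ a * φ b = φ b * φ a
    rw [← map_mul, ← map_mul, h3 a ha b hb]
  · rw [← Subgroup.map_inf _ _ _ φ.injective, h4, Subgroup.map_bot]
  · rw [← Subgroup.map_sup, h5, hS]
  · rintro _ ⟨x, hx, rfl⟩ he
    change φ x * φ x = 1 at he
    rw [← map_mul, φ.map_eq_one_iff] at he
    rcases h.inv_two x hx he with rfl | rfl
    · exact Or.inl (map_one φ)
    · exact Or.inr rfl
  · rintro _ ⟨x, hx, rfl⟩ hx1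
    obtain ⟨i, hi⟩ := h.power x hx fun e => hx1 (by rw [e]; exact map_one φ)
    exact ⟨i, by show φ x ^ i = φ z; rw [← map_zpow]; exact congrArg φ hi⟩
  · obtain ⟨a, ha, b, hb, hne⟩ := h.noncomm
    refine ⟨φ a, ⟨a, ha, rfl⟩, φ b, ⟨b, hb, rfl⟩, fun e => hne ?_⟩
    rw [← map_commutatorElement] at e
    exact φ.map_eq_one_iff.mp e
  · rintro _ ⟨w, hw, rfl⟩ hw2 _ ⟨a, ha, rfl⟩ _ ⟨b, hb, rfl⟩ ha' hb'
    change φ w * φ a = φ a * φ w at ha'
    change φ w * φ b = φ b * φ w at hb'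
    rw [← map_mul, ← map_mul, φ.injective.eq_iff] at ha' hb'
    show φ a * φ b = φ b * φ a
    rw [← map_mul, ← map_mul, h.cent w hw (fun e => hw2 (by
      show φ w * φ w = 1
      rw [← map_mul, e, map_one])) a ha b hb ha' hb']

end H70
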