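import Mathlib
import Cfsg.Prelude.Def_CaseTheorems
import Cfsg.Agent.H85.BrauerSuzuki
import Cfsg.Agent.H66.Isolated

/-!
An isolation criterion for an involution by counting square roots in a Sylow 2-subgroup of its
centralizer, and the factorization `G = C(j) O(G)`.
-/

set_option autoImplicit false
set_option linter.style.haveILetI false

namespace H70

variable {G : Type*} [Group G] [Finite G]

/-- If `T` is a Sylow 2-subgroup of `C(j)` and every other involution `k` of `T` has fewer square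
roots in `T` than `j` has among the elements commuting with `k`, then `G = C(j) O(G)`. -/
theorem centralizer_sup_oddCore_of_root_count {j : G} (hj : orderOf j = 2) {T : Subgroup G}
    (hTC : T ≤ Subgroup.centralizer ({j} : Set G)) (hT2 : IsPGroup 2 ↥T)
    (hmax : ∀ R : Subgroup G, IsPGroup 2 ↥R → T ≤ R → R ≤ Subgroup.centralizer ({j} : Set G) →
      R = T)
    (hjT : j ∈ T)
    (hlt : ∀ k ∈ T, k * k = 1 → k ≠ 1 → k ≠ j →
      {x : G | x ∈ T ∧ x * x = k}.ncard < {x : G | x ∈ T ∧ x * x = j ∧ x * k = k * x}.ncard) :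
    Subgroup.centralizer ({j} : Set G) ⊔ Cfsg.oddCore G = ⊤ := by
  classical
  haveI : Fact (Nat.Prime 2) := ⟨Nat.prime_two⟩
  set C := Subgroup.centralizer ({j} : Set G) with hC
  have hjj : j * j = 1 := by rw [← pow_two, ← hj, pow_orderOf_eq_one]
  have hj1 : j ≠ 1 := fun e => by rw [e, orderOf_one] at hj; omega
  have hjC : ∀ c ∈ C, c * j * c⁻¹ = j := fun c hc => by
    rw [Subgroup.mem_centralizer_singleton_iff.mp hc, mul_inv_cancel_right]
  -- `T` as a Sylow subgroup of `C`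
  have hTsub : IsPGroup 2 ↥(T.subgroupOf C) :=
    IsPGroup.comap_subtype (H := T) hT2
  obtain ⟨P0, hP0⟩ := hTsub.exists_le_sylow
  have hP0T : (P0 : Subgroup ↥C).map C.subtype = T := by
    refine hmax _ (P0.2.map _) ?_ (Subgroup.map_subtype_le _)
    intro x hx
    exact ⟨⟨x, hTC hx⟩, hP0 hx, rfl⟩
  -- conjugation of a 2-subgroup of `C` into `T`
  have hinto : ∀ U : Subgroup G, IsPGroup 2 ↥U → U ≤ C →
      ∃ c ∈ C, ∀ u ∈ U, c * u * c⁻¹ ∈ T := by
    intro U hU hUC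
    obtain ⟨Q, hQ⟩ := (IsPGroup.comap_subtype (H := U) (K := C) hU).exists_le_sylow
    obtain ⟨c, hc⟩ := MulAction.exists_smul_eq ↥C Q P0
    refine ⟨c, c.2, fun u hu => ?_⟩
    rw [← hP0T]
    refine ⟨c * ⟨u, hUC hu⟩ * c⁻¹, ?_, rfl⟩
    rw [SetLike.mem_coe, ← hc, Sylow.coe_subgroup_smul]
    exact ⟨⟨u, hUC hu⟩, hQ hu, rfl⟩
  -- isolation in `T`
  have hiso : ∀ g : G, g * j * g⁻¹ ∈ T → g * j * g⁻¹ = j := by
    by_contra hno
    push Not at hno
    set K := {k : G | (∃ g : G, g * j * g⁻¹ = k) ∧ k ∈ T ∧ k ≠ j} with hK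
    have hKne : K.Nonempty := by
      obtain ⟨g, hg, hgj⟩ := hno
      exact ⟨_, ⟨g, rfl⟩, hg, hgj⟩
    obtain ⟨k, ⟨⟨g, hgk⟩, hkT, hkj⟩, hkmax⟩ := Set.exists_max_image K
      (fun k => Nat.card ↥(T ⊓ Subgroup.centralizer ({k} : Set G))) (Set.toFinite _) hKne
    set U := T ⊓ Subgroup.centralizer ({k} : Set G) with hU
    have hU' : ∀ u, u ∈ U.map (MulAut.conj g⁻¹).toMonoidHom ↔ g * u * g⁻¹ ∈ U := by
      intro u
      constructor
      · rintro ⟨v, hv, rfl⟩
        show g * (g⁻¹ * v * g⁻¹⁻¹) * g⁻¹ ∈ U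
        rwa [show g * (g⁻¹ * v * g⁻¹⁻¹) * g⁻¹ = v by group]
      · intro hu
        refine ⟨_, hu, ?_⟩
        show g⁻¹ * (g * u * g⁻¹) * g⁻¹⁻¹ = u
        group
    obtain ⟨c, hcC, hc⟩ := hinto (U.map (MulAut.conj g⁻¹).toMonoidHom)
      ((hT2.to_le inf_le_left).map _) (fun u hu => by
        have h1 := (Subgroup.mem_inf.mp ((hU' u).mp hu)).2
        rw [Subgroup.mem_centralizer_singleton_iff] at h1 ⊢
        rw [← hgk] at h1
        exact mul_right_cancel (b := g⁻¹) (mul_left_cancel (a := g) (by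
          calc g * (u * j * g⁻¹) = g * u * g⁻¹ * (g * j * g⁻¹) := by group
            _ = g * j * g⁻¹ * (g * u * g⁻¹) := h1
            _ = g * (j * u * g⁻¹) := by group)))
    set φ := MulAut.conj (c * g⁻¹) with hφ
    have hφk : φ k = j := by
      rw [hφ, MulAut.conj_apply, ← hgk]
      calc c * g⁻¹ * (g * j * g⁻¹) * (c * g⁻¹)⁻¹ = c * j * c⁻¹ := by group
        _ = j := hjC c hcC
    have hφU : ∀ u ∈ U, φ u ∈ T := fun u hu => by
      have h1 := hc (g⁻¹ * u * g) ((hU' _).mpr (by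
        rwa [show g * (g⁻¹ * u * g) * g⁻¹ = u by group]))
      rw [hφ, MulAut.conj_apply]
      rwa [show c * (g⁻¹ * u * g) * c⁻¹ = c * g⁻¹ * u * (c * g⁻¹)⁻¹ by group] at h1
    have hkk : k * k = 1 := by
      rw [← hgk, show g * j * g⁻¹ * (g * j * g⁻¹) = g * (j * j) * g⁻¹ by group, hjj, mul_one,
        mul_inv_cancel]
    have hk1 : k ≠ 1 := fun e => hj1 (by rw [e, map_one] at hφk; exact hφk.symm)
    have hjU : j ∈ U := Subgroup.mem_inf.mpr ⟨hjT, Subgroup.mem_centralizer_singleton_iff.mpr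
      (Subgroup.mem_centralizer_singleton_iff.mp (hTC hkT)).symm⟩
    set k' := φ j with hk'
    have hk'T : k' ∈ T := hφU j hjU
    have hk'j : k' ≠ j := fun e => hkj (φ.injective (hφk.trans e.symm))
    have hk'1 : k' ≠ 1 := fun e => hj1 (φ.injective (e.trans (map_one φ).symm))
    have hk'k' : k' * k' = 1 := by rw [hk', ← map_mul, hjj, map_one]
    set U' := T ⊓ Subgroup.centralizer ({k'} : Set G) with hU''
    have hsub : U.map φ.toMonoidHom ≤ U' := by
      rintro _ ⟨u, hu, rfl⟩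
      refine Subgroup.mem_inf.mpr ⟨hφU u hu, Subgroup.mem_centralizer_singleton_iff.mpr ?_⟩
      show φ u * φ j = φ j * φ u
      rw [← map_mul, ← map_mul,
        Subgroup.mem_centralizer_singleton_iff.mp (hTC (Subgroup.mem_inf.mp hu).1)]
    have hk'K : k' ∈ K := ⟨⟨c * g⁻¹, rfl⟩, hk'T, hk'j⟩
    have heq : U.map φ.toMonoidHom = U' := by
      refine Subgroup.eq_of_le_of_card_ge hsub ?_
      rw [Subgroup.card_map_of_injective φ.injective]
      exact hkmax k' hk'K
    have hmem : ∀ u, u ∈ U ↔ φ u ∈ U' := fun u => by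
      rw [← heq]
      exact ⟨fun hu => ⟨u, hu, rfl⟩, fun ⟨v, hv, hvu⟩ => φ.injective hvu ▸ hv⟩
    have hUk : ∀ x, x ∈ U ↔ x ∈ T ∧ x * k = k * x := fun x => by
      rw [hU, Subgroup.mem_inf, Subgroup.mem_centralizer_singleton_iff]
    have hU'k : ∀ x, x ∈ U' ↔ x ∈ T ∧ x * k' = k' * x := fun x => by
      rw [hU'', Subgroup.mem_inf, Subgroup.mem_centralizer_singleton_iff]
    -- transporting the roots
    have h1 : φ '' {x : G | x ∈ T ∧ x * x = k} =
        {x : G | x ∈ T ∧ x * x = j ∧ x * k' = k' * x} := by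
      ext y
      constructor
      · rintro ⟨x, ⟨hxT, hxx⟩, rfl⟩
        have hx : φ x ∈ U' := (hmem x).mp ((hUk x).mpr ⟨hxT, by rw [← hxx, mul_assoc]⟩)
        exact ⟨((hU'k _).mp hx).1, by rw [← map_mul, hxx, hφk], ((hU'k _).mp hx).2⟩
      · rintro ⟨hyT, hyy, hyk⟩
        obtain ⟨x, rfl⟩ := φ.surjective y
        exact ⟨x, ⟨((hUk x).mp ((hmem x).mpr ((hU'k _).mpr ⟨hyT, hyk⟩))).1,
          φ.injective (by rw [map_mul, hyy, hφk])⟩, rfl⟩
    have h2 : φ '' {x : G | x ∈ T ∧ x * x = j ∧ x * k = k * x} =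
        {x : G | x ∈ T ∧ x * x = k'} := by
      ext y
      constructor
      · rintro ⟨x, ⟨hxT, hxx, hxk⟩, rfl⟩
        exact ⟨((hU'k _).mp ((hmem x).mp ((hUk x).mpr ⟨hxT, hxk⟩))).1, by rw [← map_mul, hxx]⟩
      · rintro ⟨hyT, hyy⟩
        obtain ⟨x, rfl⟩ := φ.surjective y
        have hx := (hmem x).mpr ((hU'k _).mpr ⟨hyT, by rw [← hyy, mul_assoc]⟩)
        exact ⟨x, ⟨((hUk x).mp hx).1, φ.injective (by rw [map_mul, hyy]), ((hUk x).mp hx).2⟩, rfl⟩
    have e1 := congrArg Set.ncard h1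
    have e2 := congrArg Set.ncard h2
    rw [Set.ncard_image_of_injective _ φ.injective] at e1 e2
    have l1 := hlt k hkT hkk hk1 hkj
    have l2 := hlt k' hk'T hk'k' hk'1 hk'j
    omega
  -- `T` is a Sylow subgroup of `G`
  obtain ⟨S, hTS⟩ := hT2.exists_le_sylow
  have hST : (S : Subgroup G) = T := by
    by_contra hne
    haveI := S.2.isNilpotent
    have hlt : T.subgroupOf (S : Subgroup G) < ⊤ :=
      lt_top_iff_ne_top.mpr fun h => hne (le_antisymm (Subgroup.subgroupOf_eq_top.mp h) hTS)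
    obtain ⟨g, hg, hgT⟩ := SetLike.exists_of_lt
      (Group.normalizerCondition_of_isNilpotent (G := ↥(S : Subgroup G)) _ hlt)
    have hgj : (g : G) * j * (g : G)⁻¹ = j :=
      hiso _ ((Subgroup.mem_normalizer_iff.mp hg ⟨j, hTS hjT⟩).mp hjT)
    have hgC : (g : G) ∈ C :=
      Subgroup.mem_centralizer_singleton_iff.mpr (mul_inv_eq_iff_eq_mul.mp hgj)
    refine hgT ?_
    have h1 := hmax ((S : Subgroup G) ⊓ C) (S.2.to_le inf_le_left) (le_inf hTS hTC) inf_le_right
    rw [Subgroup.mem_subgroupOf, ← h1]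
    exact Subgroup.mem_inf.mpr ⟨g.2, hgC⟩
  have hisol : Cfsg.IsIsolatedInvolution j := by
    refine ⟨hj, fun g hg => ?_⟩
    set D := Subgroup.zpowers j ⊔ Subgroup.zpowers (g * j * g⁻¹) with hD
    have hcj : Commute j (g * j * g⁻¹) := hg
    have hgj2 : (g * j * g⁻¹) * (g * j * g⁻¹) = 1 := by
      rw [show g * j * g⁻¹ * (g * j * g⁻¹) = g * (j * j) * g⁻¹ by group, hjj, mul_one,
        mul_inv_cancel]
    have hDp : IsPGroup 2 ↥D := by
      refine IsPGroup.to_sup_of_normal_right' ?_ ?_ ?_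
      · exact IsPGroup.of_card (n := 1) (by rw [Nat.card_zpowers, hj, pow_one])
      · intro x
        obtain ⟨i, hi⟩ := Subgroup.mem_zpowers_iff.mp x.2
        refine ⟨1, Subtype.ext ?_⟩
        rw [Subgroup.coe_pow, pow_one, pow_two, ← hi, ← (Commute.refl (g * j * g⁻¹)).mul_zpow,
          hgj2, one_zpow]
        rfl
      · rw [Subgroup.zpowers_le]
        refine Subgroup.mem_normalizer_fintype fun x hx => ?_
        obtain ⟨i, rfl⟩ := Subgroup.mem_zpowers_iff.mp hx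
        rw [(hcj.zpow_right i).eq, mul_inv_cancel_right]
        exact Subgroup.zpow_mem _ (Subgroup.mem_zpowers _) i
    obtain ⟨Q, hQ⟩ := hDp.exists_le_sylow
    obtain ⟨h, hh⟩ := MulAction.exists_smul_eq G Q S
    have hin : ∀ x ∈ D, h * x * h⁻¹ ∈ T := fun x hx => by
      rw [← hST, ← hh, Sylow.coe_subgroup_smul]
      exact ⟨x, hQ hx, rfl⟩
    have h1 := hiso h (hin j (Subgroup.mem_sup_left (Subgroup.mem_zpowers j)))
    have h2 : h * (g * j * g⁻¹) * h⁻¹ = j := by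
      have h3 := hin _ (Subgroup.mem_sup_right (Subgroup.mem_zpowers (g * j * g⁻¹)))
      have h4 := hiso (h * g) (by
        rwa [show h * g * j * (h * g)⁻¹ = h * (g * j * g⁻¹) * h⁻¹ by group])
      exact (show h * (g * j * g⁻¹) * h⁻¹ = h * g * j * (h * g)⁻¹ by group).trans h4
    exact mul_left_cancel (a := h) (mul_right_cancel (b := h⁻¹) (h2.trans h1.symm))
  have hZ := H85.zStar hisol
  rw [eq_top_iff]
  intro g _
  obtain ⟨k, hk, -, -, hk3⟩ := H66.iso_exists_conj hisol g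
  have hkO : k ∈ Cfsg.oddCore G := by
    refine Subgroup.zpowers_le.mpr ?_ hk
    have h1 := hZ g
    rwa [inv_eq_of_mul_eq_one_right hjj, show j * g * j * g⁻¹ = j * (g * j * g⁻¹) by group] at h1
  have hkg : k⁻¹ * g ∈ C := by
    refine Subgroup.mem_centralizer_singleton_iff.mpr ?_
    calc k⁻¹ * g * j = k⁻¹ * (g * j * g⁻¹) * g := by group
      _ = j * (k⁻¹ * g) := by rw [← hk3]; group
  rw [show g = k * (k⁻¹ * g) by group]
  exact mul_mem (Subgroup.mem_sup_right hkO) (Subgroup.mem_sup_left hkg)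

end H70
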