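import Mathlib.GroupTheory.Perm.Fin
import Mathlib.GroupTheory.Perm.Sign
import Mathlib.Data.ZMod.Basic
import Mathlib.GroupTheory.Perm.Cycle.Type
import Mathlib.Algebra.Group.TypeTags.Finite

/-! The model `Z₂ × S₄` of the centralizer of a transposition in `S₆`: finite facts. -/

set_option autoImplicit false
open Equiv

namespace H70.S6

/-- `Z₂ × S₄`. -/
abbrev M := Multiplicative (ZMod 2) × Perm (Fin 4)

/-- The central involution. -/
abbrev T0 : M := (Multiplicative.ofAdd 1, 1)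
/-- A double transposition. -/
abbrev Z0 : M := (1, swap 0 1 * swap 2 3)
/-- Another double transposition. -/
abbrev B0 : M := (1, swap 0 2 * swap 1 3)
/-- A transposition. -/
abbrev A0 : M := (1, swap 0 1)
/-- The central involution times a transposition. -/
abbrev TA0 : M := (Multiplicative.ofAdd 1, swap 0 1)

theorem center_T0 : ∀ m : M, (∀ n : M, n * m = m * n) → m = 1 ∨ m = T0 := by decide +kernel

theorem T0_central : ∀ n : M, n * T0 = T0 * n := by decide +kernel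

theorem card_centralizer_Z0 : Fintype.card {m : M // m * Z0 = Z0 * m} = 16 := by decide +kernel

theorem commutator_Z0 : ∀ m n : M, m * Z0 = Z0 * m → n * Z0 = Z0 * n →
    m * n * m⁻¹ * n⁻¹ = 1 ∨ m * n * m⁻¹ * n⁻¹ = Z0 := by decide +kernel

theorem exists_commutator_Z0 : ∃ m n : M, m * Z0 = Z0 * m ∧ n * Z0 = Z0 * n ∧
    m * n * m⁻¹ * n⁻¹ = Z0 := by decide +kernel

theorem involution_cases : ∀ m : M, m * m = 1 → m = 1 ∨
    ∃ n : M, n * m * n⁻¹ = T0 ∨ n * m * n⁻¹ = Z0 ∨ n * m * n⁻¹ = T0 * Z0 ∨ n * m * n⁻¹ = A0 ∨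
      n * m * n⁻¹ = TA0 := by decide +kernel

theorem Z0_conj : (∃ n : M, n * Z0 * n⁻¹ = B0) ∧ ∃ n : M, n * Z0 * n⁻¹ = Z0 * B0 := by
  decide +kernel

theorem centralizer_pairs :
    Fintype.card {m : M // m * A0 = A0 * m ∧ m * Z0 = Z0 * m} = 8 ∧
    Fintype.card {m : M // m * TA0 = TA0 * m ∧ m * Z0 = Z0 * m} = 8 ∧
    Fintype.card {m : M // m * (T0 * Z0) = (T0 * Z0) * m} = 16 := by decide +kernel

theorem A0_noncomm : ∃ n : M, n * A0 * n⁻¹ * A0 ≠ A0 * (n * A0 * n⁻¹) := by decide +kernel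

theorem TA0_noncomm : ∃ n : M, n * TA0 * n⁻¹ * TA0 ≠ TA0 * (n * TA0 * n⁻¹) := by decide +kernel

/-- Projection to `Z₂`. -/
def chi₁ : M →* Multiplicative (ZMod 2) := MonoidHom.fst _ _

/-- Projection to `Z₂` times the sign. -/
def chi₂ : M →* Multiplicative (ZMod 2) where
  toFun m := if Perm.sign m.2 = 1 then m.1 else m.1 * Multiplicative.ofAdd 1
  map_one' := by simp
  map_mul' := by decide +kernel

theorem chi₁_facts : chi₁ T0 ≠ 1 ∧ chi₁ (T0 * Z0) ≠ 1 ∧ chi₁ TA0 ≠ 1 ∧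
    (∀ m n : M, chi₁ (n * m * n⁻¹) = chi₁ m) ∧
    Fintype.card {m : M // m * Z0 = Z0 * m ∧ chi₁ m = 1} = 8 := by decide +kernel

theorem chi₂_facts : chi₂ T0 ≠ 1 ∧ chi₂ (T0 * Z0) ≠ 1 ∧ chi₂ A0 ≠ 1 ∧
    (∀ m n : M, chi₂ (n * m * n⁻¹) = chi₂ m) ∧
    Fintype.card {m : M // m * Z0 = Z0 * m ∧ chi₂ m = 1} = 8 := by decide +kernel

/-- A four-cycle and a transposition generating the centralizer of a double transposition. -/
theorem dihedral_data :
    Fintype.card {σ : Perm (Fin 4) // σ * Z0.2 = Z0.2 * σ} = 8 ∧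
    ∃ c x : Perm (Fin 4), c * Z0.2 = Z0.2 * c ∧ x * Z0.2 = Z0.2 * x ∧ c ^ 4 = 1 ∧ c ^ 2 ≠ 1 ∧
      x * x = 1 ∧ x ≠ 1 ∧ x ≠ c ∧ x ≠ c ^ 2 ∧ x ≠ c ^ 3 ∧ x * c * x⁻¹ = c⁻¹ := by decide +kernel

theorem card_M : Fintype.card M = 48 := by decide +kernel

/-- A standard product of two 3-cycles in `S₆` and an odd permutation centralising it. -/
theorem six_facts :
    let d : Perm (Fin 6) := swap 0 2 * swap 0 1 * (swap 3 5 * swap 3 4)
    let τ : Perm (Fin 6) := swap 0 3 * swap 1 4 * swap 2 5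
    Perm.sign τ = -1 ∧ τ * d = d * τ ∧ d.cycleType = Multiset.replicate 2 3 := by decide +kernel

end H70.S6
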