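import Cfsg.Agent.H70.S6Model
import Cfsg.Agent.H70.Conj
import Cfsg.Agent.H70.TwoInvol
import Cfsg.Agent.H70.DihedralIso
import Cfsg.Agent.H78.DihedralEightCentralizer
import Cfsg.Agent.H85.BrauerSuzuki
import Cfsg.Agent.H66.Inverted
import Cfsg.Agent.H6.Transfer
import Cfsg.Agent.H32.AltAut
import Cfsg.Agent.H33.TwoPrime

/-!
Groups with a 2-central involution centralizer `Z₂ × S₄` and a self-centralizing derived Sylow
subgroup: `C(t)` or `S₆`.
-/

set_option autoImplicit false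
open Equiv

namespace H70.S6

theorem T0_ne_mul : (T0 : M) ≠ T0 * Z0 := by decide +kernel

theorem Z0_sq : Z0 * Z0 = (1 : M) := by decide +kernel

theorem T0_comm_Z0 : T0 * Z0 = (Z0 * T0 : M) := by decide +kernel

theorem orbit_A0 : 6 ≤ (Finset.univ.image fun n : M => n * A0 * n⁻¹).card := by decide +kernel

theorem orbit_TA0 : 6 ≤ (Finset.univ.image fun n : M => n * TA0 * n⁻¹).card := by decide +kernel

theorem A0_ne_T0 : (A0 : M) ≠ T0 := by decide +kernel

theorem TA0_ne_T0 : (TA0 : M) ≠ T0 := by decide +kernel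

variable {G : Type*} [Group G]

theorem card_map_eq (ι : M →* G) (hι : Function.Injective ι) (H : Subgroup M) :
    Nat.card ↥(H.map ι) = Nat.card H := Subgroup.card_map_of_injective hι

theorem card_subgroup_eq (H : Subgroup M) (P : M → Prop) [DecidablePred P] (h : ∀ m, m ∈ H ↔ P m) :
    Nat.card H = Fintype.card {m : M // P m} := by
  rw [← Nat.card_eq_fintype_card]
  exact Nat.card_congr (Equiv.subtypeEquivRight h)

/-- The hypothesis: an embedding of the model with image `C(t)`, the image of the Sylow subgroup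
being the centralizer of `z`. -/
structure Config (ι : M →* G) : Prop where
  inj : Function.Injective ι
  range_eq : ι.range = Subgroup.centralizer ({ι T0} : Set G)
  cent_z : Subgroup.centralizer ({ι Z0} : Set G) = (Subgroup.centralizer ({Z0} : Set M)).map ι
  odd_index : Odd ((Subgroup.centralizer ({Z0} : Set M)).map ι).index

variable {ι : M →* G} (hc : Config ι)
include hc

theorem orderOf_img {m : M} (h : m * m = 1) (h1 : m ≠ 1) : orderOf (ι m) = 2 := by
  rw [orderOf_injective ι hc.inj]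
  haveI : Fact (Nat.Prime 2) := ⟨Nat.prime_two⟩
  exact orderOf_eq_prime (by rw [pow_two, h]) h1

theorem orderOf_t : orderOf (ι T0) = 2 := orderOf_img hc (by decide) (by decide)
theorem orderOf_z : orderOf (ι Z0) = 2 := orderOf_img hc (by decide) (by decide)

theorem card_cent_t : Nat.card ↥(Subgroup.centralizer ({ι T0} : Set G)) = 48 := by
  rw [← hc.range_eq, MonoidHom.range_eq_map, card_map_eq ι hc.inj, Subgroup.card_top,
    Nat.card_eq_fintype_card, card_M]

theorem card_cent_z : Nat.card ↥(Subgroup.centralizer ({ι Z0} : Set G)) = 16 := by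
  rw [hc.cent_z, card_map_eq ι hc.inj,
    card_subgroup_eq _ (fun m => m * Z0 = Z0 * m) (fun m => Subgroup.mem_centralizer_singleton_iff),
    card_centralizer_Z0]

theorem img_conj {m n r : M} (h : n * m * n⁻¹ = r) : ι r = ι n * ι m * (ι n)⁻¹ := by
  rw [← h]; simp

variable [Finite G]

omit hc in
theorem card_cent_conj {x g : G} :
    Nat.card ↥(Subgroup.centralizer ({g * x * g⁻¹} : Set G)) =
      Nat.card ↥(Subgroup.centralizer ({x} : Set G)) := by
  have : Subgroup.centralizer ({g * x * g⁻¹} : Set G) = H70.cj g (Subgroup.centralizer ({x} : Set G)) := by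
    ext y
    rw [H70.mem_cj, Subgroup.mem_centralizer_singleton_iff, Subgroup.mem_centralizer_singleton_iff]
    constructor <;> intro h
    · calc g⁻¹ * y * g * x = g⁻¹ * (y * (g * x * g⁻¹)) * g := by group
        _ = _ := by rw [h]; group
    · calc y * (g * x * g⁻¹) = g * (g⁻¹ * y * g * x) * g⁻¹ := by group
        _ = _ := by rw [h]; group
  rw [this, H70.card_cj]

theorem not_conj_z_t (g : G) : g * ι Z0 * g⁻¹ ≠ ι T0 := fun h => by
  have := card_cent_conj (x := ι Z0) (g := g)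
  rw [h, card_cent_t hc, card_cent_z hc] at this
  omega

/-- `z` is fixed by the normalizer of its centralizer. -/
theorem normalizer_fix {g : G}
    (hg : g ∈ Subgroup.normalizer (Subgroup.centralizer ({ι Z0} : Set G) : Set G)) :
    g * ι Z0 * g⁻¹ = ι Z0 := by
  obtain ⟨m, n, hm, hn, hmn⟩ := exists_commutator_Z0
  have hS : ∀ k : M, k * Z0 = Z0 * k → ι k ∈ Subgroup.centralizer ({ι Z0} : Set G) := fun k hk =>
    Subgroup.mem_centralizer_singleton_iff.mpr (by rw [← map_mul, hk, map_mul])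
  have hgm := (Subgroup.mem_normalizer_iff.mp hg (ι m)).mp (hS m hm)
  have hgn := (Subgroup.mem_normalizer_iff.mp hg (ι n)).mp (hS n hn)
  rw [hc.cent_z] at hgm hgn
  obtain ⟨m', hm', hm'e⟩ := hgm
  obtain ⟨n', hn', hn'e⟩ := hgn
  have hkey : g * ι Z0 * g⁻¹ = ι (m' * n' * m'⁻¹ * n'⁻¹) := by
    rw [← hmn]
    simp only [map_mul, map_inv, hm'e, hn'e]
    group
  rcases commutator_Z0 m' n' (Subgroup.mem_centralizer_singleton_iff.mp hm')
      (Subgroup.mem_centralizer_singleton_iff.mp hn') with h | h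
  · rw [h, map_one] at hkey
    have h2 := orderOf_z hc
    rw [show ι Z0 = 1 from conj_eq_one_iff.mp hkey, orderOf_one] at h2
    omega
  · rw [h] at hkey; exact hkey

theorem cent_z_le : Subgroup.centralizer ({ι Z0} : Set G) ≤ Subgroup.centralizer ({ι T0} : Set G) := by
  rw [hc.cent_z, ← hc.range_eq]
  rintro _ ⟨m, -, rfl⟩
  exact ⟨m, rfl⟩

theorem cent_z_le_tz :
    Subgroup.centralizer ({ι Z0} : Set G) ≤ Subgroup.centralizer ({ι (T0 * Z0)} : Set G) := by
  intro y hy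
  have h1 := Subgroup.mem_centralizer_singleton_iff.mp hy
  have h2 := Subgroup.mem_centralizer_singleton_iff.mp (cent_z_le hc hy)
  rw [Subgroup.mem_centralizer_singleton_iff, map_mul, ← mul_assoc, h2, mul_assoc, h1, mul_assoc]

theorem not_conj_z_tz (g : G) : g * ι Z0 * g⁻¹ ≠ ι (T0 * Z0) := fun h => by
  have h16 := card_cent_conj (x := ι Z0) (g := g)
  rw [h, card_cent_z hc] at h16
  have heq := Subgroup.eq_of_le_of_card_ge (cent_z_le_tz hc) (by rw [h16, card_cent_z hc])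
  have hN : g ∈ Subgroup.normalizer (Subgroup.centralizer ({ι Z0} : Set G) : Set G) := by
    rw [← H70.cj_eq_self_iff]
    refine Subgroup.eq_of_le_of_card_ge ?_ (H70.card_cj _ _).ge
    rintro _ ⟨y, hy, rfl⟩
    rw [heq, Subgroup.mem_centralizer_singleton_iff, ← h]
    have := congrArg (fun v => g * v * g⁻¹) (Subgroup.mem_centralizer_singleton_iff.mp hy)
    simpa [mul_assoc] using this
  have := normalizer_fix hc hN
  rw [h] at this
  exact absurd (hc.inj this) (by decide)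

theorem not_conj_t_tz (g : G) : g * ι T0 * g⁻¹ ≠ ι (T0 * Z0) := fun h => by
  haveI : Fact (Nat.Prime 2) := ⟨Nat.prime_two⟩
  set S0 := Subgroup.centralizer ({ι Z0} : Set G) with hS0
  have hS0p : IsPGroup 2 S0 := IsPGroup.of_card (n := 4) (by rw [hS0, card_cent_z hc]; norm_num)
  set P : Sylow 2 G := Sylow.ofCard S0 (by
    have hodd := hc.odd_index
    rw [← hc.cent_z] at hodd
    obtain ⟨P, hP⟩ := hS0p.exists_le_sylow
    have h1 : S0.relIndex (P : Subgroup G) = 1 := by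
      obtain ⟨k, hk⟩ := P.2.exists_card_eq
      have hd : S0.relIndex (P : Subgroup G) ∣ 2 ^ k := hk ▸ Subgroup.relIndex_dvd_card _ _
      obtain ⟨j, -, hj⟩ := (Nat.dvd_prime_pow Nat.prime_two).mp hd
      have ho : Odd (S0.relIndex (P : Subgroup G)) :=
        hodd.of_dvd_nat (by rw [← Subgroup.relIndex_mul_index hP]; exact dvd_mul_right _ _)
      rcases j with _ | j
      · rw [hj, pow_zero]
      · rw [hj] at ho
        exact absurd ho (Nat.not_odd_iff_even.mpr (by simp [pow_succ]))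
    rw [← P.card_eq_multiplicity]
    exact (congrArg (fun K : Subgroup G => Nat.card K) (le_antisymm hP (Subgroup.relIndex_eq_one.mp h1))))
    with hPdef
  have hP : (P : Subgroup G) = S0 := rfl
  have hQle : H70.cj g S0 ≤ Subgroup.centralizer ({ι (T0 * Z0)} : Set G) := by
    rintro _ ⟨y, hy, rfl⟩
    rw [Subgroup.mem_centralizer_singleton_iff, ← h]
    have := congrArg (fun v => g * v * g⁻¹) (Subgroup.mem_centralizer_singleton_iff.mp (cent_z_le hc hy))
    simpa [mul_assoc] using this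
  obtain ⟨c, hcC, hcle⟩ := H70.exists_cj_le_sylow P (hP.le.trans (cent_z_le_tz hc))
    (hS0p.map (MulAut.conj g).toMonoidHom) hQle
  rw [hP, H70.cj_cj] at hcle
  have hN : c * g ∈ Subgroup.normalizer (S0 : Set G) :=
    H70.cj_eq_self_iff.mp (H70.eq_of_cj_le hcle)
  have hz := normalizer_fix hc hN
  have hmem : c * g ∈ Subgroup.centralizer ({ι T0} : Set G) :=
    cent_z_le hc (Subgroup.mem_centralizer_singleton_iff.mpr (mul_inv_eq_iff_eq_mul.mp hz))
  have h1 : c * g * ι T0 * (c * g)⁻¹ = ι (T0 * Z0) := by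
    rw [show c * g * ι T0 * (c * g)⁻¹ = c * (g * ι T0 * g⁻¹) * c⁻¹ by group, h,
      Subgroup.mem_centralizer_singleton_iff.mp hcC, mul_inv_cancel_right]
  rw [Subgroup.mem_centralizer_singleton_iff.mp hmem, mul_inv_cancel_right] at h1
  exact T0_ne_mul (hc.inj h1)

/-- Conjugacy of an involution of `C(t)` to a representative. -/
theorem cases_of_commute {y : G} (hy2 : orderOf y = 2) (hy : y ∈ Subgroup.centralizer ({ι T0} : Set G)) :
    ∃ k r : M, (r = T0 ∨ r = Z0 ∨ r = T0 * Z0 ∨ r = A0 ∨ r = TA0) ∧ ι k * y * (ι k)⁻¹ = ι r ∧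
      ∃ m : M, ι m = y ∧ k * m * k⁻¹ = r := by
  rw [← hc.range_eq] at hy
  obtain ⟨m, rfl⟩ := hy
  have hm2 : m * m = 1 := hc.inj (by rw [map_mul, map_one]; exact H70.mul_self_of_two hy2)
  rcases involution_cases m hm2 with rfl | ⟨k, hk⟩
  · rw [map_one, orderOf_one] at hy2; omega
  · rcases hk with h | h | h | h | h
    exacts [⟨k, _, Or.inl h, by simp, m, rfl, rfl⟩, ⟨k, _, Or.inr (Or.inl h), by simp, m, rfl, rfl⟩,
      ⟨k, _, Or.inr (Or.inr (Or.inl h)), by simp, m, rfl, rfl⟩,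
      ⟨k, _, Or.inr (Or.inr (Or.inr (Or.inl h))), by simp, m, rfl, rfl⟩,
      ⟨k, _, Or.inr (Or.inr (Or.inr (Or.inr h))), by simp, m, rfl, rfl⟩]

/-- If an element `r₁` with `|C(r₁) ∩ C(z)| = 8` is conjugate to `t`, then `z` is conjugate to `A0` or `TA0`. -/
theorem z_conj_of_conj {r₁ : M}
    (h8 : Fintype.card {m : M // m * r₁ = r₁ * m ∧ m * Z0 = Z0 * m} = 8)
    (hcomm : r₁ * Z0 = Z0 * r₁) {g : G} (hg : g * ι r₁ * g⁻¹ = ι T0) :
    (∃ h : G, h * ι Z0 * h⁻¹ = ι A0) ∨ ∃ h : G, h * ι Z0 * h⁻¹ = ι TA0 := by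
  set y := g * ι Z0 * g⁻¹ with hy
  have hy2 : orderOf y = 2 := by
    rw [hy, show g * ι Z0 * g⁻¹ = MulAut.conj g (ι Z0) from rfl, MulEquiv.orderOf_eq, orderOf_z hc]
  have hyC : y ∈ Subgroup.centralizer ({ι T0} : Set G) := by
    rw [Subgroup.mem_centralizer_singleton_iff, hy, ← hg]
    have := congrArg (fun v => g * ι v * g⁻¹) hcomm.symm
    simpa [mul_assoc] using this
  obtain ⟨k, r, hr, hkr, m, hm, hkm⟩ := cases_of_commute hc hy2 hyC
  have hconj : (ι k * g) * ι Z0 * (ι k * g)⁻¹ = ι r := by rw [← hkr, hy]; group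
  rcases hr with rfl | rfl | rfl | rfl | rfl
  · exact absurd hconj (not_conj_z_t hc _)
  · exfalso
    -- `C(y) ∩ C(t)` would have order 16, but it is conjugate to a group of order 8
    have hfix : (ι k * g) ∈ Subgroup.centralizer ({ι Z0} : Set G) :=
      Subgroup.mem_centralizer_singleton_iff.mpr (mul_inv_eq_iff_eq_mul.mp hconj)
    have ht : (ι k * g) * ι r₁ * (ι k * g)⁻¹ = ι T0 := by
      rw [show ι k * g * ι r₁ * (ι k * g)⁻¹ = ι k * (g * ι r₁ * g⁻¹) * (ι k)⁻¹ by group, hg,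
        ← map_mul, ← map_inv, ← map_mul, show k * T0 * k⁻¹ = T0 from by
          rw [T0_central k, mul_inv_cancel_right]]
    obtain ⟨n, hn, hne⟩ := (hc.cent_z ▸ hfix : ι k * g ∈ (Subgroup.centralizer ({Z0} : Set M)).map ι)
    rw [← hne, ← map_inv, ← map_mul, ← map_mul] at ht
    have h16 : ∀ a : M, a * Z0 = Z0 * a → a * r₁ = r₁ * a := by
      intro a _
      have hr1 : n * r₁ * n⁻¹ = T0 := hc.inj ht
      have : r₁ = T0 := by
        have h' : r₁ = n⁻¹ * T0 * n := by rw [← hr1]; group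
        rw [h', T0_central n⁻¹, inv_mul_cancel_right]
      rw [this]; exact T0_central a
    have hle : Fintype.card {m : M // m * Z0 = Z0 * m} ≤
        Fintype.card {m : M // m * r₁ = r₁ * m ∧ m * Z0 = Z0 * m} :=
      Fintype.card_subtype_mono _ _ fun a ha => ⟨h16 a ha, ha⟩
    rw [card_centralizer_Z0, h8] at hle
    omega
  · exact absurd hconj (not_conj_z_tz hc _)
  · exact Or.inl ⟨_, hconj⟩
  · exact Or.inr ⟨_, hconj⟩

/-- `a` and `ta` are not both conjugate to `t`. -/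
theorem not_both {g g' : G} (hg : g * ι A0 * g⁻¹ = ι T0) (hg' : g' * ι TA0 * g'⁻¹ = ι T0) : False := by
  rcases z_conj_of_conj hc centralizer_pairs.1 (by decide) hg with ⟨h, hh⟩ | ⟨h, hh⟩
  · exact not_conj_z_t hc (g * h) (by rw [← hg, ← hh]; group)
  · exact not_conj_z_t hc (g' * h) (by rw [← hg', ← hh]; group)

/-- A subgroup of index two missing `t`. -/
theorem exists_index_two : ∃ H : Subgroup G, H.Normal ∧ H.index = 2 ∧ ι T0 ∉ H := by
  haveI : Fact (Nat.Prime 2) := ⟨Nat.prime_two⟩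
  obtain ⟨χ, hχt, hχtz, hχcl, hχ8, hχr⟩ : ∃ χ : M →* Multiplicative (ZMod 2), χ T0 ≠ 1 ∧
      χ (T0 * Z0) ≠ 1 ∧ (∀ m n : M, χ (n * m * n⁻¹) = χ m) ∧
      Nat.card ↥(Subgroup.centralizer ({Z0} : Set M) ⊓ χ.ker) = 8 ∧
      ∀ r : M, (r = A0 ∨ r = TA0) → χ r = 1 → ∀ g : G, g * ι r * g⁻¹ ≠ ι T0 := by
    have hcard : ∀ χ : M →* Multiplicative (ZMod 2), ∀ [DecidablePred fun m : M => m * Z0 = Z0 * m ∧ χ m = 1],
        Fintype.card {m : M // m * Z0 = Z0 * m ∧ χ m = 1} = 8 →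
        Nat.card ↥(Subgroup.centralizer ({Z0} : Set M) ⊓ χ.ker) = 8 := fun χ _ h => by
      rw [card_subgroup_eq _ (fun m => m * Z0 = Z0 * m ∧ χ m = 1) (fun m => by
        rw [Subgroup.mem_inf, Subgroup.mem_centralizer_singleton_iff, MonoidHom.mem_ker]), h]
    by_cases ha : ∃ g : G, g * ι A0 * g⁻¹ = ι T0
    · obtain ⟨g, hg⟩ := ha
      obtain ⟨h1, h2, h3, h4, h5⟩ := chi₂_facts
      refine ⟨chi₂, h1, h2, h4, hcard _ h5, ?_⟩
      rintro r (rfl | rfl) hr g'
      · exact absurd hr h3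
      · exact fun hg' => not_both hc hg hg'
    · obtain ⟨h1, h2, h3, h4, h5⟩ := chi₁_facts
      refine ⟨chi₁, h1, h2, h4, hcard _ h5, ?_⟩
      rintro r (rfl | rfl) hr g'
      · exact fun hg' => ha ⟨g', hg'⟩
      · exact absurd hr h3
  set Q := (Subgroup.centralizer ({Z0} : Set M) ⊓ χ.ker).map ι with hQ
  set S0 := (Subgroup.centralizer ({Z0} : Set M)).map ι with hS0
  have hQS : Q ≤ S0 := Subgroup.map_mono inf_le_left
  have hQc : Nat.card Q = 8 := by rw [hQ, card_map_eq ι hc.inj, hχ8]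
  have hSc : Nat.card S0 = 16 := by rw [hS0, ← hc.cent_z, card_cent_z hc]
  have hrel : Q.relIndex S0 = 2 := by
    have h1 := (Q.subgroupOf S0).card_mul_index
    rw [Nat.card_congr (Subgroup.subgroupOfEquivOfLe hQS).toEquiv, hQc, hSc] at h1
    show (Q.subgroupOf S0).index = 2
    omega
  refine H6.exists_index_two_of_not_conj_mem Q S0.index hc.odd_index
    (by rw [← Subgroup.relIndex_mul_index hQS, hrel]) (ι T0)
    (by have h := pow_orderOf_eq_one (ι T0); rwa [orderOf_t hc] at h) fun g hg => ?_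
  obtain ⟨m, ⟨hmZ, hmK⟩, hmeq⟩ := hg
  have hy2 : orderOf (g * ι T0 * g⁻¹) = 2 := by
    rw [show g * ι T0 * g⁻¹ = MulAut.conj g (ι T0) from rfl, MulEquiv.orderOf_eq, orderOf_t hc]
  have hyC : g * ι T0 * g⁻¹ ∈ Subgroup.centralizer ({ι T0} : Set G) := by
    rw [← hc.range_eq, ← hmeq]; exact ⟨m, rfl⟩
  obtain ⟨k, r, hr, hkr, m', hm', hkm⟩ := cases_of_commute hc hy2 hyC
  have hmm : m' = m := hc.inj (hm'.trans hmeq.symm)
  have hχr1 : χ r = 1 := by
    rw [← hkm, hmm, hχcl]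
    exact hmK
  have hconj : (ι k * g) * ι T0 * (ι k * g)⁻¹ = ι r := by rw [← hkr]; group
  rcases hr with rfl | rfl | rfl | rfl | rfl
  · exact hχt hχr1
  · exact not_conj_z_t hc (ι k * g)⁻¹ (by rw [← hconj]; group)
  · exact hχtz hχr1
  · exact hχr _ (Or.inl rfl) hχr1 (ι k * g)⁻¹ (by rw [← hconj]; group)
  · exact hχr _ (Or.inr rfl) hχr1 (ι k * g)⁻¹ (by rw [← hconj]; group)

/-- `G` has no odd core. -/
theorem oddCore_eq_bot : Cfsg.oddCore G = ⊥ := by
  haveI : Fact (Nat.Prime 2) := ⟨Nat.prime_two⟩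
  have hn := H1.pPrimeCore_normal' 2 G
  have hodd : Odd (Nat.card ↥(Cfsg.oddCore G)) :=
    Nat.coprime_two_right.mp (H1.card_pPrimeCore_coprime 2 G)
  have hX := H66.odd_orderOf_of_mem_odd_card hodd
  have hz0 : ∀ a ∈ Cfsg.oddCore G, a * ι Z0 = ι Z0 * a → a = 1 := by
    intro a ha hcomm
    have hmem : a ∈ Subgroup.centralizer ({ι Z0} : Set G) :=
      Subgroup.mem_centralizer_singleton_iff.mpr hcomm
    have hd : orderOf a ∣ 2 ^ 4 := by
      rw [show 2 ^ 4 = Nat.card ↥(Subgroup.centralizer ({ι Z0} : Set G)) from (card_cent_z hc).symm,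
        ← Subgroup.orderOf_mk a hmem]
      exact orderOf_dvd_natCard _
    have hco : Nat.Coprime (orderOf a) (2 ^ 4) :=
      Nat.Coprime.pow_right 4 (Nat.coprime_two_right.mpr (hX a ha))
    exact orderOf_eq_one_iff.mp (Nat.eq_one_of_dvd_coprimes hco dvd_rfl hd)
  have hinvert : ∀ k : M, (∃ n : M, n * Z0 * n⁻¹ = k) → ∀ a ∈ Cfsg.oddCore G,
      ι k * a * (ι k)⁻¹ = a⁻¹ := by
    rintro k ⟨n, rfl⟩ a ha
    have hk2 : ι (n * Z0 * n⁻¹) * ι (n * Z0 * n⁻¹) = 1 := by
      rw [← map_mul, show n * Z0 * n⁻¹ * (n * Z0 * n⁻¹) = 1 by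
        rw [show n * Z0 * n⁻¹ * (n * Z0 * n⁻¹) = n * (Z0 * Z0) * n⁻¹ by group,
          Z0_sq, mul_one, mul_inv_cancel], map_one]
    obtain ⟨⟨y, i⟩, ⟨hy, hi, hai⟩, -⟩ :=
      H66.inverted_factor hX hk2 (fun x hx => hn.conj_mem x hx _) ha
    have h1 := hz0 ((ι n)⁻¹ * y * ι n) (by simpa using hn.conj_mem y hy.1 (ι n)⁻¹) (by
      have := congrArg (fun v => (ι n)⁻¹ * v * ι n) (Subgroup.mem_centralizer_singleton_iff.mp hy.2)
      simpa [mul_assoc] using this)
    have hy1 : y = 1 := by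
      calc y = ι n * ((ι n)⁻¹ * y * ι n) * (ι n)⁻¹ := by group
        _ = 1 := by rw [h1]; group
    have : a = i := by rw [hai]; exact (congrArg (· * i) hy1).trans (one_mul i)
    rw [this]; exact hi.2
  obtain ⟨hB, hZB⟩ := Z0_conj
  rw [eq_bot_iff]
  intro a ha
  have h1 := hinvert Z0 ⟨1, by simp⟩
  have h2 := hinvert B0 hB a ha
  have h3 := hinvert (Z0 * B0) hZB a ha
  rw [map_mul, show ι Z0 * ι B0 * a * (ι Z0 * ι B0)⁻¹ = ι Z0 * (ι B0 * a * (ι B0)⁻¹) * (ι Z0)⁻¹ by group,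
    h2, h1 _ (inv_mem ha), inv_inv] at h3
  have h4 : a ^ 2 = 1 := by rw [pow_two]; exact mul_eq_one_iff_eq_inv.mpr h3
  have hco : Nat.Coprime (orderOf a) 2 := Nat.coprime_two_right.mpr (hX a ha)
  rw [Subgroup.mem_bot]
  exact orderOf_eq_one_iff.mp (Nat.eq_one_of_dvd_coprimes hco dvd_rfl (orderOf_dvd_of_pow_eq_one h4))

/-- If `C(t) ≠ G`, then `G` has order more than 336. -/
theorem card_gt (hne : Subgroup.centralizer ({ι T0} : Set G) ≠ ⊤) : 336 < Nat.card G := by
  haveI : Fact (Nat.Prime 2) := ⟨Nat.prime_two⟩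
  classical
  set C := Subgroup.centralizer ({ι T0} : Set G) with hC
  set X := {x : G | ∃ g : G, g * ι T0 * g⁻¹ = x} with hX
  -- a noncommuting pair of conjugates
  obtain ⟨r, hr, g₀, hg₀⟩ : ∃ r : M, (r = A0 ∨ r = TA0) ∧ ∃ g : G, g * ι T0 * g⁻¹ = ι r := by
    by_contra hnot
    push Not at hnot
    apply hne
    set S0 := (Subgroup.centralizer ({Z0} : Set M)).map ι with hS0
    have hS0C : S0 ≤ C := by
      rw [hC, ← hc.range_eq]; rintro _ ⟨m, -, rfl⟩; exact ⟨m, rfl⟩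
    have hSc : Nat.card S0 = 2 ^ 4 := by rw [hS0, ← hc.cent_z, card_cent_z hc]; norm_num
    obtain ⟨P, hP⟩ := (IsPGroup.of_card hSc).exists_le_sylow
    have h1 : S0.relIndex (P : Subgroup G) = 1 := by
      obtain ⟨k, hk⟩ := P.2.exists_card_eq
      have hd : S0.relIndex (P : Subgroup G) ∣ 2 ^ k := hk ▸ Subgroup.relIndex_dvd_card _ _
      obtain ⟨j, -, hj⟩ := (Nat.dvd_prime_pow Nat.prime_two).mp hd
      have ho : Odd (S0.relIndex (P : Subgroup G)) :=
        hc.odd_index.of_dvd_nat (by rw [← Subgroup.relIndex_mul_index hP]; exact dvd_mul_right _ _)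
      rcases j with _ | j
      · rw [hj, pow_zero]
      · rw [hj] at ho
        exact absurd ho (Nat.not_odd_iff_even.mpr (by simp [pow_succ]))
    have hPC : (P : Subgroup G) ≤ C := (Subgroup.relIndex_eq_one.mp h1).trans hS0C
    have htP : ι T0 ∈ P := hP ⟨T0, Subgroup.mem_centralizer_singleton_iff.mpr T0_comm_Z0, rfl⟩
    have hiso := H85.isolated_of_sylow P (orderOf_t hc) htP (fun g hg => by
      obtain ⟨k, r, hr, hkr, -⟩ := cases_of_commute hc (y := g * ι T0 * g⁻¹)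
        (by rw [show g * ι T0 * g⁻¹ = MulAut.conj g (ι T0) from rfl, MulEquiv.orderOf_eq, orderOf_t hc])
        (hPC hg)
      have hconj : (ι k * g) * ι T0 * (ι k * g)⁻¹ = ι r := by rw [← hkr]; group
      rcases hr with rfl | rfl | rfl | rfl | rfl
      · have h' : ι k * (g * ι T0 * g⁻¹) * (ι k)⁻¹ = ι k * ι T0 * (ι k)⁻¹ := by
          rw [hkr, ← map_mul, ← map_inv, ← map_mul, T0_central k, mul_inv_cancel_right]
        exact mul_left_cancel (mul_right_cancel h')
      · exact absurd (show (ι k * g)⁻¹ * ι Z0 * (ι k * g)⁻¹⁻¹ = ι T0 by rw [← hconj]; group)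
          (not_conj_z_t hc _)
      · exact absurd hconj (not_conj_t_tz hc _)
      · exact absurd hconj (hnot _ (Or.inl rfl) _)
      · exact absurd hconj (hnot _ (Or.inr rfl) _))
    have hZ := H85.zStar hiso
    have hO := oddCore_eq_bot hc
    refine eq_top_iff.mpr fun g _ => Subgroup.mem_centralizer_singleton_iff.mpr ?_
    have h' := hZ g
    rw [show Cfsg.pPrimeCore 2 G = ⊥ from hO, Subgroup.mem_bot, mul_inv_eq_one, mul_inv_eq_iff_eq_mul] at h'
    exact h'.symm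
  -- the orbit of `r` under `C` together with `t`
  set Y := (fun n : M => ι (n * r * n⁻¹)) '' Set.univ with hY
  have hYX : Y ⊆ X := by
    rintro _ ⟨n, -, rfl⟩
    exact ⟨ι n * g₀, by simp only [map_mul, map_inv, ← hg₀]; group⟩
  have hY6 : 6 ≤ Y.ncard := by
    have h : 6 ≤ (Finset.univ.image fun n : M => n * r * n⁻¹).card := by
      rcases hr with rfl | rfl
      exacts [orbit_A0, orbit_TA0]
    have e : Y = ι '' ((Finset.univ.image fun n : M => n * r * n⁻¹ : Finset M) : Set M) := by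
      rw [hY, Finset.coe_image, Set.image_image, Finset.coe_univ]
    rw [e, Set.ncard_image_of_injective _ hc.inj, Set.ncard_coe_finset]
    exact h
  have htY : ι T0 ∉ Y := by
    rintro ⟨n, -, h⟩
    have h1 : r = T0 := by
      have h0 : n * r * n⁻¹ = T0 := hc.inj h
      calc r = n⁻¹ * (n * r * n⁻¹) * n := by group
        _ = T0 := by rw [h0, T0_central n⁻¹, inv_mul_cancel_right]
    rcases hr with rfl | rfl
    exacts [A0_ne_T0 h1, TA0_ne_T0 h1]
  obtain ⟨n₁, hn₁⟩ : ∃ n : M, n * r * n⁻¹ * r ≠ r * (n * r * n⁻¹) := by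
    rcases hr with rfl | rfl
    exacts [A0_noncomm, TA0_noncomm]
  -- a conjugate outside `C`
  obtain ⟨w, hwX, hwC⟩ : ∃ w ∈ X, w ∉ C := by
    by_contra hall
    push Not at hall
    refine hn₁ (hc.inj ?_)
    obtain ⟨h, hh⟩ := hYX (show ι (n₁ * r * n₁⁻¹) ∈ Y from ⟨n₁, trivial, rfl⟩)
    have h2 := Subgroup.mem_centralizer_singleton_iff.mp (hall (g₀⁻¹ * h * ι T0 * (g₀⁻¹ * h)⁻¹) ⟨_, rfl⟩)
    have h3 := congrArg (fun v => g₀ * v * g₀⁻¹) h2
    have e1 : g₀ * (g₀⁻¹ * h * ι T0 * (g₀⁻¹ * h)⁻¹ * ι T0) * g₀⁻¹ = ι (n₁ * r * n₁⁻¹) * ι r := by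
      rw [← hh, ← hg₀]; group
    have e2 : g₀ * (ι T0 * (g₀⁻¹ * h * ι T0 * (g₀⁻¹ * h)⁻¹)) * g₀⁻¹ = ι r * ι (n₁ * r * n₁⁻¹) := by
      rw [← hh, ← hg₀]; group
    rw [map_mul ι (n₁ * r * n₁⁻¹), map_mul ι r]
    exact e1.symm.trans (h3.trans e2)
  have hYC : Y ⊆ (C : Set G) := by
    rintro _ ⟨n, -, rfl⟩
    rw [SetLike.mem_coe, hC, ← hc.range_eq]; exact ⟨_, rfl⟩
  have h8 : 8 ≤ X.ncard := by
    have hsub : insert w (insert (ι T0) Y) ⊆ X := by
      refine Set.insert_subset hwX (Set.insert_subset ⟨1, by group⟩ hYX)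
    have hw : w ∉ insert (ι T0) Y := by
      rintro (rfl | h)
      · exact hwC (Subgroup.mem_centralizer_singleton_iff.mpr rfl)
      · exact hwC (hYC h)
    have := Set.ncard_le_ncard hsub (Set.toFinite _)
    rw [Set.ncard_insert_of_notMem hw (Set.toFinite _), Set.ncard_insert_of_notMem htY (Set.toFinite _)] at this
    omega
  have hidx : X.ncard ≤ C.index := by
    refine le_trans ?_ (le_of_eq rfl)
    rw [Subgroup.index, ← Nat.card_coe_set_eq]
    let f : G ⧸ C → X := fun q => ⟨q.out * ι T0 * q.out⁻¹, _, rfl⟩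
    refine Nat.card_le_card_of_surjective f ?_
    rintro ⟨x, g, rfl⟩
    refine ⟨(g : G ⧸ C), Subtype.ext ?_⟩
    obtain ⟨⟨c, hcm⟩, hcout⟩ := QuotientGroup.mk_out_eq_mul C g
    show Quotient.out (g : G ⧸ C) * ι T0 * (Quotient.out (g : G ⧸ C))⁻¹ = g * ι T0 * g⁻¹
    rw [hcout, mul_inv_rev, mul_assoc g c (ι T0), Subgroup.mem_centralizer_singleton_iff.mp hcm]
    group
  have := C.card_mul_index
  rw [card_cent_t hc] at this
  have := Nat.mul_le_mul_left 48 (h8.trans hidx)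
  omega

end H70.S6
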