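import Cfsg.Agent.H70.SL2Facts
import Cfsg.Agent.H70.Conj

/-! Normal subgroups of `SL₂(q)`, `q` odd. -/

set_option autoImplicit false

open Matrix

namespace H70

variable {F : Type*} [Field F]

theorem sl2_upper_sq (h2 : (2 : F) ≠ 0) (c : F) : H37.upper2 (c / 2) * H37.upper2 (c / 2) = H37.upper2 c := by
  apply Subtype.ext
  simp [add_halves, h2]
  try (field_simp; ring)

theorem sl2_lower_sq (h2 : (2 : F) ≠ 0) (c : F) : H37.lower2 (c / 2) * H37.lower2 (c / 2) = H37.lower2 c := by
  apply Subtype.ext
  simp [add_halves, h2]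
  try (field_simp; ring)

theorem sl2_index_ne_two (h2 : (2 : F) ≠ 0) [Finite F] (H : Subgroup (Matrix.SpecialLinearGroup (Fin 2) F)) :
    H.index ≠ 2 := by
  intro h
  have htop : H = ⊤ := H37.eq_top_of_upper2_lower2 H
    (fun c => by rw [← sl2_upper_sq h2, ← pow_two]; exact Subgroup.sq_mem_of_index_two h _)
    (fun c => by rw [← sl2_lower_sq h2, ← pow_two]; exact Subgroup.sq_mem_of_index_two h _)
  rw [htop, Subgroup.index_top] at h
  omega

theorem sl2_center (g : Matrix.SpecialLinearGroup (Fin 2) F) (h : ∀ a, g * a = a * g) : g = 1 ∨ g = -1 := by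
  have hu := congrArg (fun z : Matrix.SpecialLinearGroup (Fin 2) F => (z : Matrix (Fin 2) (Fin 2) F)) (h (H37.upper2 1))
  have hl := congrArg (fun z : Matrix.SpecialLinearGroup (Fin 2) F => (z : Matrix (Fin 2) (Fin 2) F)) (h (H37.lower2 1))
  have e1 := congrFun₂ hu 0 1
  have e2 := congrFun₂ hu 0 0
  have e3 := congrFun₂ hl 0 0
  simp [Matrix.mul_apply, Fin.sum_univ_two] at e1 e2 e3
  have hd := g.det_coe
  rw [det_fin_two, e2, e3, mul_zero, sub_zero] at hd
  have had : (g : Matrix (Fin 2) (Fin 2) F) 0 0 = (g : Matrix (Fin 2) (Fin 2) F) 1 1 := by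
    linear_combination e1
  rw [← had] at hd
  rcases mul_self_eq_one_iff.mp hd with h1 | h1
  · left
    apply Subtype.ext
    ext i j
    fin_cases i <;> fin_cases j <;> simp [e2, e3, ← had, h1]
  · right
    apply Subtype.ext
    ext i j
    fin_cases i <;> fin_cases j <;> simp [e2, e3, ← had, h1]

private def trPoly {R : Type*} [CommRing R] (a b c d e f k : R) : R :=
  a * (-(e * d - f * c) * e - (-e * b + f * a) * k) + b * (-(k * d + e * c) * e - (-k * b - e * a) * k) +
    c * (-(e * d - f * c) * f + (-e * b + f * a) * e) + d * (-(k * d + e * c) * f + (-k * b - e * a) * e)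

private theorem key3 : ∀ a b c d : ZMod 3, a * d - b * c = 1 → ¬(b = 0 ∧ c = 0 ∧ a = d) → a + d ≠ 0 →
    ∃ e f k : ZMod 3, -(e * e) - f * k = 1 ∧ trPoly a b c d e f k = 0 := by
  unfold trPoly; decide

theorem sl2_normal_card [Fintype F] (hF : Odd (Fintype.card F))
    (K : Subgroup (Matrix.SpecialLinearGroup (Fin 2) F)) [hKn : K.Normal]
    {g : Matrix.SpecialLinearGroup (Fin 2) F} (hg : g ∈ K) (h1 : g ≠ 1) (h2 : g ≠ -1) :
    Nat.card (Matrix.SpecialLinearGroup (Fin 2) F) ≤ 3 * Nat.card K := by
  have h2F := two_ne_zero_of_odd_card hF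
  rcases (show Fintype.card F = 3 ∨ 3 < Fintype.card F by
    have := Fintype.one_lt_card (α := F)
    obtain ⟨k, hk⟩ := hF; omega) with h3 | h3
  · -- the six square roots of `-1` lie in `K`
    have hc := H37.card_SL_fin (F := F) 2 (by omega)
    rw [Nat.card_eq_fintype_card (α := F), h3] at hc
    simp [Fin.prod_univ_two] at hc
    have hns : ¬ H40.IsScalar2 (g : Matrix (Fin 2) (Fin 2) F) := by
      rintro ⟨hb, hc', had⟩
      have hd := g.det_coe
      rw [det_fin_two, hb, hc', mul_zero, sub_zero, ← had] at hd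
      rcases mul_self_eq_one_iff.mp hd with e | e
      · apply h1
        apply Subtype.ext
        ext i j
        fin_cases i <;> fin_cases j <;> simp [hb, hc', ← had, e]
      · apply h2
        apply Subtype.ext
        ext i j
        fin_cases i <;> fin_cases j <;> simp [hb, hc', ← had, e]
    let ψ : ZMod 3 ≃+* F := ZMod.ringEquivOfPrime F Nat.prime_three h3
    obtain ⟨a, b, c, d, hgm⟩ : ∃ a b c d : ZMod 3, (g : Matrix (Fin 2) (Fin 2) F) = !![ψ a, ψ b; ψ c, ψ d] := by
      refine ⟨ψ.symm (g.1 0 0), ψ.symm (g.1 0 1), ψ.symm (g.1 1 0), ψ.symm (g.1 1 1), ?_⟩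
      ext i j; fin_cases i <;> fin_cases j <;> simp
    have hdet : a * d - b * c = 1 := by
      apply ψ.injective
      have := g.det_coe
      rw [hgm, Matrix.det_fin_two_of] at this
      simpa using this
    have hns' : ¬(b = 0 ∧ c = 0 ∧ a = d) := by
      rintro ⟨rfl, rfl, rfl⟩
      apply hns
      simp [hgm, H40.IsScalar2]
    obtain ⟨w, hwK, hwt⟩ : ∃ w ∈ K, (w : Matrix (Fin 2) (Fin 2) F).trace = 0 := by
      by_cases hq : a + d = 0
      · refine ⟨g, hg, ?_⟩
        rw [hgm, Matrix.trace_fin_two]
        simpa using congrArg ψ hq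
      obtain ⟨e, f, k, hh, htr⟩ := key3 a b c d hdet hns' hq
      let h : Matrix.SpecialLinearGroup (Fin 2) F := ⟨!![ψ e, ψ f; ψ k, -ψ e], by
        rw [Matrix.det_fin_two_of]
        have := congrArg ψ hh
        simp only [map_sub, map_neg, map_mul, map_one] at this
        linear_combination this⟩
      have hgi : ((g⁻¹ : Matrix.SpecialLinearGroup (Fin 2) F) : Matrix (Fin 2) (Fin 2) F) = !![ψ d, -ψ b; -ψ c, ψ a] := by
        rw [Matrix.SpecialLinearGroup.coe_inv, hgm, Matrix.adjugate_fin_two_of]
      have hhi : ((h⁻¹ : Matrix.SpecialLinearGroup (Fin 2) F) : Matrix (Fin 2) (Fin 2) F) = !![-ψ e, -ψ f; -ψ k, ψ e] := by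
        rw [Matrix.SpecialLinearGroup.coe_inv]
        exact Matrix.adjugate_fin_two_of _ _ _ _
      set w := g * (h * g⁻¹ * h⁻¹) with hw
      have hwK : w ∈ K := mul_mem hg (hKn.conj_mem _ (inv_mem hg) h)
      have hwt : (w : Matrix (Fin 2) (Fin 2) F).trace = 0 := by
        have hp : ψ (trPoly a b c d e f k) = 0 := by rw [htr, map_zero]
        simp only [trPoly, map_add, map_sub, map_neg, map_mul] at hp
        have hm : (h : Matrix (Fin 2) (Fin 2) F) = !![ψ e, ψ f; ψ k, -ψ e] := rfl
        rw [hw, Matrix.SpecialLinearGroup.coe_mul, Matrix.SpecialLinearGroup.coe_mul, Matrix.SpecialLinearGroup.coe_mul,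
          hgm, hgi, hhi, hm, Matrix.trace_fin_two]
        simp [Matrix.mul_apply, Fin.sum_univ_two]
        linear_combination hp
      exact ⟨w, hwK, hwt⟩
    have hww : w * w = -1 := by
      have hd := w.det_coe
      rw [det_fin_two] at hd
      rw [Matrix.trace_fin_two] at hwt
      apply Subtype.ext
      rw [Matrix.SpecialLinearGroup.coe_mul]
      ext i j
      fin_cases i <;> fin_cases j <;> simp [Matrix.mul_apply, Fin.sum_univ_two]
      · linear_combination (w.1 0 0) * hwt - hd
      · linear_combination (w.1 0 1) * hwt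
      · linear_combination (w.1 1 0) * hwt
      · linear_combination (w.1 1 1) * hwt - hd
    have hall : ∀ s, s * s = (-1 : Matrix.SpecialLinearGroup (Fin 2) F) → s ∈ K := by
      intro s hs
      obtain ⟨q, hq⟩ := isConj_iff.1 (sl2_isConj_sqrt hF hww hs)
      exact hq ▸ hKn.conj_mem w hwK q
    have h30 : (3 : F) = 0 := by
      have := FiniteField.cast_card_eq_zero F
      rwa [h3] at this
    let S : Fin 7 → Matrix (Fin 2) (Fin 2) F :=
      ![1, !![0, -1; 1, 0], !![0, 1; -1, 0], !![1, 1; 1, -1], !![1, -1; -1, -1], !![-1, 1; 1, 1], !![-1, -1; -1, 1]]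
    have hS : ∀ i, ∃ s ∈ K, (s : Matrix (Fin 2) (Fin 2) F) = S i := by
      intro i
      by_cases hi : i = 0
      · exact ⟨1, one_mem _, by simp [hi, S]⟩
      have hdS : (S i).det = 1 ∧ S i * S i = -1 := by
        fin_cases i <;> simp [S, Matrix.det_fin_two_of] at hi ⊢ <;>
          first
            | (constructor
               · linear_combination (-1 : F) * h30
               · ext u v; fin_cases u <;> fin_cases v <;> simp [Matrix.mul_apply, Fin.sum_univ_two] <;> linear_combination h30)
            | (ext u v; fin_cases u <;> fin_cases v <;> simp [Matrix.mul_apply, Fin.sum_univ_two])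
      exact ⟨⟨S i, hdS.1⟩, hall _ (Subtype.ext (hdS.2.trans (by simp))), rfl⟩
    choose s hsK hsS using hS
    have hinj : Function.Injective (fun i => (⟨s i, hsK i⟩ : K)) := by
      intro i j hij
      have he : S i = S j := by rw [← hsS, ← hsS]; exact congrArg (fun z : K => ((z.1 : Matrix.SpecialLinearGroup (Fin 2) F) : Matrix (Fin 2) (Fin 2) F)) hij
      have n1 : (1 : F) ≠ -1 := fun h => h2F (by linear_combination h)
      have a := congrFun₂ he 0 0
      have b := congrFun₂ he 0 1
      have c := congrFun₂ he 1 0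
      fin_cases i <;> fin_cases j <;> first | rfl | (exfalso; simp [S, n1, n1.symm] at a b c)
    have h7 := Nat.card_le_card_of_injective _ hinj
    rw [Nat.card_eq_fintype_card, Fintype.card_fin] at h7
    have hdvd := K.card_subgroup_dvd_card
    rw [show Nat.card (Matrix.SpecialLinearGroup (Fin 2) F) = 24 by omega] at hdvd ⊢
    by_contra hcon
    have h77 : Nat.card K = 7 := by omega
    rw [h77] at hdvd
    norm_num at hdvd
  · classical
    set π := QuotientGroup.mk' (Subgroup.center (Matrix.SpecialLinearGroup (Fin 2) F))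
    have hperf : commutator (Matrix.ProjectiveSpecialLinearGroup (Fin 2) F) = ⊤ := by
      rw [commutator_def, ← Subgroup.map_top_of_surjective π (QuotientGroup.mk'_surjective _),
        ← Subgroup.map_commutator, ← commutator_def, sl2_perfect h3]
    have hsimple := H37.isSimpleGroup_PSL_of_perfect hperf
    have hmn : (K.map π).Normal := hKn.map π (QuotientGroup.mk'_surjective _)
    rcases hmn.eq_bot_or_eq_top with hb | ht
    · exfalso
      have hgc : g ∈ Subgroup.center (Matrix.SpecialLinearGroup (Fin 2) F) := by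
        have : π g ∈ K.map π := Subgroup.mem_map_of_mem π hg
        rw [hb, Subgroup.mem_bot] at this
        exact (QuotientGroup.eq_one_iff g).mp this
      rcases sl2_center g (fun a => (Subgroup.mem_center_iff.mp hgc a).symm) with h | h
      exacts [h1 h, h2 h]
    · have : K = ⊤ := by
        rw [← Subgroup.index_eq_one]
        have hKi : K.index ≤ 2 := by
          let f : (Fin 2) → Matrix.SpecialLinearGroup (Fin 2) F ⧸ K := ![((1 : Matrix.SpecialLinearGroup (Fin 2) F) : _ ⧸ K), ((-1 : Matrix.SpecialLinearGroup (Fin 2) F) : _ ⧸ K)]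
          have hf : Function.Surjective f := by
            intro q
            obtain ⟨a, rfl⟩ := QuotientGroup.mk_surjective q
            obtain ⟨k, hk, hka⟩ : π a ∈ K.map π := ht ▸ Subgroup.mem_top _
            have hz : a⁻¹ * k ∈ Subgroup.center (Matrix.SpecialLinearGroup (Fin 2) F) := QuotientGroup.eq.mp hka.symm
            rcases sl2_center _ (fun b => (Subgroup.mem_center_iff.mp hz b).symm) with h | h
            · refine ⟨0, ?_⟩
              show ((1 : Matrix.SpecialLinearGroup (Fin 2) F) : _ ⧸ K) = _
              rw [QuotientGroup.eq]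
              rw [inv_mul_eq_one] at h
              simpa [h] using hk
            · refine ⟨1, ?_⟩
              show ((-1 : Matrix.SpecialLinearGroup (Fin 2) F) : _ ⧸ K) = _
              rw [QuotientGroup.eq]
              have : a = k * (-1)⁻¹ := by rw [← h]; group
              have hc : (-1 : Matrix.SpecialLinearGroup (Fin 2) F)⁻¹ * a = k := by
                rw [this]; simp
              rw [hc]; exact hk
          have := Nat.card_le_card_of_surjective f hf
          simpa [Subgroup.index] using this
        have := sl2_index_ne_two h2F K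
        have h0 : K.index ≠ 0 := Subgroup.FiniteIndex.index_ne_zero
        omega
      rw [this, Subgroup.card_top]
      omega

end H70
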