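import Mathlib

/-!
A central product of two generalized quaternion groups extended by a swap of order four:
square-root counts separate the central involution from its possible conjugates.
-/

set_option autoImplicit false
set_option linter.style.haveILetI false

namespace H70

variable {G : Type*} [Group G]

/-- The properties of a generalized quaternion group that are used below. -/
structure QLike (P : Subgroup G) (j : G) : Prop where
  mem : j ∈ P
  inv_two : ∀ x ∈ P, x * x = 1 → x = 1 ∨ x = j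
  inverter : ∀ a ∈ P, a * a = j → ∃ u ∈ P, u * u = j ∧ u * a * u⁻¹ = a * j
  comm_roots : ∀ c ∈ P, ∀ c' ∈ P, c * c * (c * c) = j → c' * c' * (c' * c') = j → c * c' = c' * c
  root : ∃ i ∈ P, i * i = j

theorem QLike.map {P : Subgroup G} {j : G} (h : QLike P j) (φ : G ≃* G) (hφ : φ j = j) :
    QLike (P.map φ.toMonoidHom) j := by
  refine ⟨⟨j, h.mem, hφ⟩, ?_, ?_, ?_, ?_⟩
  · rintro _ ⟨x, hx, rfl⟩ he
    change φ x * φ x = 1 at he
    rw [← map_mul, φ.map_eq_one_iff] at he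
    rcases h.inv_two x hx he with rfl | rfl
    · exact Or.inl (map_one φ)
    · exact Or.inr hφ
  · rintro _ ⟨a, ha, rfl⟩ he
    change φ a * φ a = j at he
    rw [← map_mul, ← hφ, φ.injective.eq_iff] at he
    obtain ⟨u, hu, hu2, hua⟩ := h.inverter a ha he
    refine ⟨φ u, ⟨u, hu, rfl⟩, ?_, ?_⟩
    · rw [← map_mul, hu2, hφ]
    · show φ u * φ a * (φ u)⁻¹ = φ a * j
      rw [← map_inv, ← map_mul, ← map_mul, hua, map_mul, hφ]
  · rintro _ ⟨c, hc, rfl⟩ _ ⟨d, hd, rfl⟩ he he'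
    change φ c * φ c * (φ c * φ c) = j at he
    change φ d * φ d * (φ d * φ d) = j at he'
    rw [← map_mul, ← map_mul, ← hφ, φ.injective.eq_iff] at he he'
    show φ c * φ d = φ d * φ c
    rw [← map_mul, h.comm_roots c hc d hd he he', map_mul]
  · obtain ⟨i, hi, h1⟩ := h.root
    exact ⟨φ i, ⟨i, hi, rfl⟩, by rw [← map_mul, h1, hφ]⟩

/-- A Sylow 2-subgroup `P₁ P₂ ⟨n⟩` of the centralizer of `j`, with `L₁`, `L₂` swapped by `n`. -/
structure SwapPair (j n : G) (L₁ L₂ P₁ P₂ T : Subgroup G) : Prop where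
  j_ne : j ≠ 1
  j_sq : j * j = 1
  n_mem : n ∈ T
  n_sq : n * n = j
  j_comm : ∀ x ∈ L₁ ⊔ L₂, x * j = j * x
  comm : ∀ x ∈ L₁, ∀ y ∈ L₂, x * y = y * x
  inter : ∀ x ∈ L₁, x ∈ L₂ → x = 1 ∨ x = j
  le₁ : P₁ ≤ L₁
  le₂ : P₂ ≤ L₂
  q₁ : QLike P₁ j
  q₂ : QLike P₂ j
  leT₁ : P₁ ≤ T
  leT₂ : P₂ ≤ T
  map₁ : ∀ x ∈ P₁, n * x * n⁻¹ ∈ P₂
  map₂ : ∀ x ∈ P₂, n * x * n⁻¹ ∈ P₁
  n_not : n ∉ L₁ ⊔ L₂
  inside : ∀ x ∈ T, x ∈ L₁ ⊔ L₂ → ∃ a ∈ P₁, ∃ b ∈ P₂, x = a * b
  outside : ∀ x ∈ T, x ∉ L₁ ⊔ L₂ → ∃ a ∈ P₁, ∃ b ∈ P₂, x = a * b * n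

variable {j n : G} {L₁ L₂ P₁ P₂ T : Subgroup G}

theorem SwapPair.inv_n (h : SwapPair j n L₁ L₂ P₁ P₂ T) : n⁻¹ = n * j := by
  apply inv_eq_of_mul_eq_one_right
  rw [← mul_assoc, h.n_sq, h.j_sq]

theorem SwapPair.n_n (h : SwapPair j n L₁ L₂ P₁ P₂ T) {x : G} (hx : x ∈ L₁ ⊔ L₂) :
    n * (n * x * n⁻¹) * n⁻¹ = x := by
  calc n * (n * x * n⁻¹) * n⁻¹ = (n * n) * x * (n * n)⁻¹ := by group
    _ = x := by rw [h.n_sq, ← h.j_comm x hx, mul_inv_cancel_right]

theorem SwapPair.j_left (h : SwapPair j n L₁ L₂ P₁ P₂ T) {x : G} (hx : x ∈ T) :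
    x * j = j * x := by
  have hn : n * j = j * n := by rw [← h.n_sq]; group
  by_cases hxL : x ∈ L₁ ⊔ L₂
  · exact h.j_comm x hxL
  obtain ⟨a, ha, b, hb, rfl⟩ := h.outside x hx hxL
  have hab : a * b ∈ L₁ ⊔ L₂ := mul_mem (Subgroup.mem_sup_left (h.le₁ ha))
    (Subgroup.mem_sup_right (h.le₂ hb))
  rw [mul_assoc, hn, ← mul_assoc, h.j_comm _ hab, mul_assoc]

theorem SwapPair.j_mem (h : SwapPair j n L₁ L₂ P₁ P₂ T) : j ∈ T :=
  h.n_sq ▸ mul_mem h.n_mem h.n_mem

/-- Elements outside `L₁ L₂` are no involutions. -/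
theorem SwapPair.sq_ne_one (h : SwapPair j n L₁ L₂ P₁ P₂ T) {x : G} (hx : x ∈ T)
    (hxL : x ∉ L₁ ⊔ L₂) : x * x ≠ 1 := by
  intro hxx
  obtain ⟨a, ha, b, hb, rfl⟩ := h.outside x hx hxL
  set A := a * (n * b * n⁻¹) with hA
  set B := b * (n * a * n⁻¹) with hB
  have hA1 : A ∈ P₁ := mul_mem ha (h.map₂ b hb)
  have hB2 : B ∈ P₂ := mul_mem hb (h.map₁ a ha)
  have hbψ : b * (n * b * n⁻¹) = (n * b * n⁻¹) * b :=
    (h.comm _ (h.le₁ (h.map₂ b hb)) _ (h.le₂ hb)).symm
  have hφψ : (n * b * n⁻¹) * (n * a * n⁻¹) = (n * a * n⁻¹) * (n * b * n⁻¹) :=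
    h.comm _ (h.le₁ (h.map₂ b hb)) _ (h.le₂ (h.map₁ a ha))
  have h1 : a * b * n * (a * b * n) = A * B * (n * n) := by
    calc a * b * n * (a * b * n) = a * b * ((n * a * n⁻¹) * (n * b * n⁻¹)) * (n * n) := by group
      _ = a * b * ((n * b * n⁻¹) * (n * a * n⁻¹)) * (n * n) := by rw [hφψ]
      _ = a * (b * (n * b * n⁻¹)) * (n * a * n⁻¹) * (n * n) := by group
      _ = a * ((n * b * n⁻¹) * b) * (n * a * n⁻¹) * (n * n) := by rw [hbψ]
      _ = A * B * (n * n) := by rw [hA, hB]; group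
  rw [h1, h.n_sq] at hxx
  have hAB : A * B = j := by
    calc A * B = A * B * j * j := by rw [mul_assoc (A * B) j j, h.j_sq, mul_one]
      _ = j := by rw [hxx, one_mul]
  have hA2 : A ∈ L₂ := by
    have h2 : A = j * B⁻¹ := by rw [← hAB, mul_inv_cancel_right]
    rw [h2]
    exact mul_mem (h.le₂ h.q₂.mem) (inv_mem (h.le₂ hB2))
  have hAj := h.inter A (h.le₁ hA1) hA2
  have hnA : n * A * n⁻¹ = A := by
    rcases hAj with e | e <;> rw [e]
    · group
    · rw [h.j_left h.n_mem, mul_inv_cancel_right]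
  have hbA : b * A = A * b := (h.comm A (h.le₁ hA1) b (h.le₂ hb)).symm
  have hnA' : n * A * n⁻¹ = (n * a * n⁻¹) * b := by
    calc n * A * n⁻¹ = (n * a * n⁻¹) * (n * (n * b * n⁻¹) * n⁻¹) := by rw [hA]; group
      _ = (n * a * n⁻¹) * b := by rw [h.n_n (Subgroup.mem_sup_right (h.le₂ hb))]
  have hBA : B = A := by
    calc B = b * ((n * a * n⁻¹) * b) * b⁻¹ := by rw [hB]; group
      _ = A := by rw [← hnA', hnA, hbA, mul_inv_cancel_right]
  rw [hBA] at hAB
  rcases hAj with e | e <;> rw [e] at hAB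
  · exact h.j_ne (by rw [← hAB, mul_one])
  · exact h.j_ne (by rw [← hAB, h.j_sq])

/-- Conjugation by an element outside `L₁ L₂` exchanges `P₁` and `P₂`. -/
theorem SwapPair.conj_out (h : SwapPair j n L₁ L₂ P₁ P₂ T) {y : G} (hy : y ∈ T)
    (hyL : y ∉ L₁ ⊔ L₂) :
    (∀ x ∈ P₁, y⁻¹ * x * y ∈ P₂) ∧ ∀ x ∈ P₂, y⁻¹ * x * y ∈ P₁ := by
  obtain ⟨a, ha, b, hb, rfl⟩ := h.outside y hy hyL
  have hconv : ∀ z ∈ L₁ ⊔ L₂, n⁻¹ * z * n = n * z * n⁻¹ := fun z hz => by
    conv_lhs => rw [← h.n_n hz]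
    group
  constructor
  · intro x hx
    have hz : a⁻¹ * x * a ∈ P₁ := mul_mem (mul_mem (inv_mem ha) hx) ha
    have h1 : (a * b * n)⁻¹ * x * (a * b * n) = n⁻¹ * (a⁻¹ * x * a) * n := by
      calc (a * b * n)⁻¹ * x * (a * b * n) = n⁻¹ * (b⁻¹ * ((a⁻¹ * x * a) * b)) * n := by group
        _ = n⁻¹ * (b⁻¹ * (b * (a⁻¹ * x * a))) * n := by rw [h.comm _ (h.le₁ hz) b (h.le₂ hb)]
        _ = _ := by group
    rw [h1, hconv _ (Subgroup.mem_sup_left (h.le₁ hz))]
    exact h.map₁ _ hz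
  · intro x hx
    have hz : b⁻¹ * x * b ∈ P₂ := mul_mem (mul_mem (inv_mem hb) hx) hb
    have h1 : (a * b * n)⁻¹ * x * (a * b * n) = n⁻¹ * (b⁻¹ * x * b) * n := by
      calc (a * b * n)⁻¹ * x * (a * b * n) = n⁻¹ * (b⁻¹ * (a⁻¹ * (x * a)) * b) * n := by group
        _ = n⁻¹ * (b⁻¹ * (a⁻¹ * (a * x)) * b) * n := by rw [h.comm a (h.le₁ ha) x (h.le₂ hx)]
        _ = _ := by group
    rw [h1, hconv _ (Subgroup.mem_sup_right (h.le₂ hz))]
    exact h.map₂ _ hz

/-- An involution of `T` other than `j` is `a * b` with `a`, `b` of order four. -/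
theorem SwapPair.invol (h : SwapPair j n L₁ L₂ P₁ P₂ T) {k : G} (hk : k ∈ T) (hk2 : k * k = 1)
    (hk1 : k ≠ 1) (hkj : k ≠ j) :
    ∃ a ∈ P₁, ∃ b ∈ P₂, k = a * b ∧ a * a = j ∧ b * b = j := by
  have hkL : k ∈ L₁ ⊔ L₂ := by
    by_contra hkL
    exact h.sq_ne_one hk hkL hk2
  obtain ⟨a, ha, b, hb, rfl⟩ := h.inside k hk hkL
  have hab : a * b = b * a := h.comm a (h.le₁ ha) b (h.le₂ hb)
  have hsq : a * a * (b * b) = 1 := by
    rw [← hk2]
    calc a * a * (b * b) = a * (a * b) * b := by group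
      _ = a * (b * a) * b := by rw [hab]
      _ = _ := by group
  have hbb : b * b = (a * a)⁻¹ := (inv_eq_of_mul_eq_one_right hsq).symm
  have haL : a * a ∈ L₂ := by
    rw [eq_inv_of_mul_eq_one_left hsq]
    exact inv_mem (mul_mem (h.le₂ hb) (h.le₂ hb))
  rcases h.inter _ (h.le₁ (mul_mem ha ha)) haL with e | e
  · exfalso
    rcases h.q₁.inv_two a ha e with rfl | rfl <;>
      rcases h.q₂.inv_two b hb (by rw [hbb, e, inv_one]) with rfl | rfl
    · exact hk1 (mul_one 1)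
    · exact hkj (one_mul _)
    · exact hkj (mul_one _)
    · exact hk1 h.j_sq
  · exact ⟨a, ha, b, hb, rfl, e, by rw [hbb, e, inv_eq_of_mul_eq_one_right h.j_sq]⟩

/-- Roots of `k` in `T` are fewer than roots of `j` commuting with `k`. -/
theorem SwapPair.root_lt [Finite G] (h : SwapPair j n L₁ L₂ P₁ P₂ T) {k : G} (hk : k ∈ T)
    (hk2 : k * k = 1) (hk1 : k ≠ 1) (hkj : k ≠ j) :
    {x : G | x ∈ T ∧ x * x = k}.ncard < {x : G | x ∈ T ∧ x * x = j ∧ x * k = k * x}.ncard := by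
  classical
  obtain ⟨a, ha, b, hb, hkab, haa, hbb⟩ := h.invol hk hk2 hk1 hkj
  have hab : a * b = b * a := h.comm a (h.le₁ ha) b (h.le₂ hb)
  have haT : a ∈ T := h.leT₁ ha
  have haL : a ∈ L₁ ⊔ L₂ := Subgroup.mem_sup_left (h.le₁ ha)
  have hbL : b ∈ L₁ ⊔ L₂ := Subgroup.mem_sup_right (h.le₂ hb)
  have hak : a * k = k * a := by rw [hkab, mul_assoc a b a, ← hab]
  have hjbj : ∀ z, z = 1 ∨ z = j → z * z = 1 := by
    rintro z (rfl | rfl)
    · exact mul_one 1
    · exact h.j_sq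
  -- conjugation by elements outside `L₁ L₂`
  have hconj : ∀ y ∈ T, y ∉ L₁ ⊔ L₂ → y * k = k * y →
      y⁻¹ * a * y = b ∨ y⁻¹ * a * y = b * j := by
    intro y hy hyL hyk
    set b' := y⁻¹ * a * y with hb'
    set a' := y⁻¹ * b * y with ha'
    have hb'2 : b' ∈ P₂ := (h.conj_out hy hyL).1 a ha
    have ha'1 : a' ∈ P₁ := (h.conj_out hy hyL).2 b hb
    have h1 : a' * b' = a * b := by
      rw [h.comm a' (h.le₁ ha'1) b' (h.le₂ hb'2), hb', ha']
      calc y⁻¹ * a * y * (y⁻¹ * b * y) = y⁻¹ * (a * b) * y := by group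
        _ = a * b := by rw [← hkab, mul_assoc, ← hyk, inv_mul_cancel_left]
    have h2 : a⁻¹ * a' = b * b'⁻¹ := by
      calc a⁻¹ * a' = a⁻¹ * (a' * b') * b'⁻¹ := by group
        _ = b * b'⁻¹ := by rw [h1]; group
    have h3 : b * b'⁻¹ ∈ L₂ := mul_mem (h.le₂ hb) (inv_mem (h.le₂ hb'2))
    rcases h.inter (a⁻¹ * a') (h.le₁ (mul_mem (inv_mem ha) ha'1)) (h2 ▸ h3) with e | e <;>
      rw [h2] at e
    · exact Or.inl (mul_inv_eq_one.mp e).symm
    · refine Or.inr ?_
      calc b' = (b * b'⁻¹)⁻¹ * b := by group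
        _ = b * j := by rw [e, inv_eq_of_mul_eq_one_right h.j_sq, h.j_comm b hbL]
  -- roots of `k` inside
  have hin : ∀ x ∈ T, x ∈ L₁ ⊔ L₂ → x * x = k → ∃ c ∈ P₁, ∃ d ∈ P₂, x = c * d ∧
      c * c * (c * c) = j ∧ d * d * (d * d) = j ∧ a * c = c * a ∧
      (c * c = a ∨ c * c = a * j) ∧ (d * d = b ∨ d * d = b * j) := by
    intro x hx hxL hxx
    obtain ⟨c, hc, d, hd, rfl⟩ := h.inside x hx hxL
    have hcd : c * d = d * c := h.comm c (h.le₁ hc) d (h.le₂ hd)
    have h1 : c * c * (d * d) = a * b := by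
      rw [← hkab, ← hxx]
      calc c * c * (d * d) = c * (c * d) * d := by group
        _ = c * (d * c) * d := by rw [hcd]
        _ = _ := by group
    set z := a⁻¹ * (c * c) with hz
    have hz' : z = b * (d * d)⁻¹ := by
      calc z = a⁻¹ * (c * c * (d * d)) * (d * d)⁻¹ := by rw [hz]; group
        _ = b * (d * d)⁻¹ := by rw [h1]; group
    have hzj : z = 1 ∨ z = j := h.inter z (h.le₁ (mul_mem (inv_mem ha) (mul_mem hc hc)))
      (hz' ▸ mul_mem (h.le₂ hb) (inv_mem (mul_mem (h.le₂ hd) (h.le₂ hd))))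
    have hcc : c * c = a * z := by rw [hz]; group
    have hdd : d * d = z⁻¹ * b := by rw [hz', mul_inv_rev, inv_inv, inv_mul_cancel_right]
    have hzinv : z⁻¹ = z := inv_eq_of_mul_eq_one_right (hjbj z hzj)
    have hza : ∀ g ∈ L₁ ⊔ L₂, g * z = z * g := fun g hg => by
      rcases hzj with e | e <;> rw [e]
      · group
      · exact h.j_comm g hg
    have hdd' : d * d = b * z := by rw [hdd, hzinv, hza b hbL]
    refine ⟨c, hc, d, hd, rfl, ?_, ?_, ?_, ?_, ?_⟩
    · rw [hcc]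
      calc a * z * (a * z) = a * (z * a) * z := by group
        _ = (a * a) * (z * z) := by rw [← hza a haL]; group
        _ = j := by rw [haa, hjbj z hzj, mul_one]
    · rw [hdd']
      calc b * z * (b * z) = b * (z * b) * z := by group
        _ = (b * b) * (z * z) := by rw [← hza b hbL]; group
        _ = j := by rw [hbb, hjbj z hzj, mul_one]
    · have h2 : a = c * c * z := by rw [hcc, mul_assoc, hjbj z hzj, mul_one]
      rw [h2]
      calc c * c * z * c = c * c * (z * c) := by group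
        _ = c * c * (c * z) := by rw [hza c (Subgroup.mem_sup_left (h.le₁ hc))]
        _ = _ := by group
    · rcases hzj with e | e <;> rw [e] at hcc
      · exact Or.inl (by rw [hcc, mul_one])
      · exact Or.inr hcc
    · rcases hzj with e | e <;> rw [e] at hdd'
      · exact Or.inl (by rw [hdd', mul_one])
      · exact Or.inr hdd'
  -- roots of `k` outside
  have hout : ∀ x ∈ T, x ∉ L₁ ⊔ L₂ → x * x = k → x * a ∉ L₁ ⊔ L₂ ∧ x * a * (x * a) = j ∧
      x * a * k = k * (x * a) ∧ (x * a)⁻¹ * a * (x * a) = b * j := by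
    intro x hx hxL hxx
    have hxk : x * k = k * x := by rw [← hxx, mul_assoc]
    have hxaL : x * a ∉ L₁ ⊔ L₂ := fun e => hxL ((Subgroup.mul_mem_cancel_right _ haL).mp e)
    have hsq : x * a * (x * a) = k * (x⁻¹ * a * x) * a := by rw [← hxx]; group
    have hba : b * a = k := by rw [hkab, hab]
    have h1 : x⁻¹ * a * x = b * j := by
      refine (hconj x hx hxL hxk).resolve_left fun e => h.sq_ne_one (mul_mem hx haT) hxaL ?_
      rw [hsq, e, mul_assoc, hba, hk2]
    refine ⟨hxaL, ?_, ?_, ?_⟩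
    · rw [hsq, h1]
      calc k * (b * j) * a = k * b * (j * a) := by group
        _ = k * b * (a * j) := by rw [h.j_comm a haL]
        _ = k * (b * a) * j := by group
        _ = j := by rw [hba, hk2, one_mul]
    · rw [mul_assoc, hak, ← mul_assoc, hxk, mul_assoc]
    · calc (x * a)⁻¹ * a * (x * a) = a⁻¹ * (x⁻¹ * a * x) * a := by group
        _ = a⁻¹ * ((b * j) * a) := by rw [h1, mul_assoc]
        _ = a⁻¹ * (a * b * j) := by
          rw [mul_assoc b j a, ← h.j_comm a haL, hab]; group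
        _ = b * j := by group
  set X := {x : G | x ∈ T ∧ x * x = k} with hX
  set J := {x : G | x ∈ T ∧ x * x = j ∧ x * k = k * x} with hJ
  -- a base root inside, if there is one
  obtain ⟨x₀, hx₀⟩ : ∃ x₀ : G, ∀ x ∈ X, x ∈ L₁ ⊔ L₂ → x₀ ∈ X ∧ x₀ ∈ L₁ ⊔ L₂ := by
    by_cases he : ∃ x ∈ X, x ∈ L₁ ⊔ L₂
    · obtain ⟨x, hx, hxL⟩ := he
      exact ⟨x, fun _ _ _ => ⟨hx, hxL⟩⟩
    · exact ⟨1, fun x hx hxL => absurd ⟨x, hx, hxL⟩ he⟩
  set f : G → G := fun x => if x ∈ L₁ ⊔ L₂ then a * (x₀⁻¹ * x) else x * a with hf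
  have hfin : ∀ x ∈ X, x ∈ L₁ ⊔ L₂ → f x ∈ J ∧ f x ∈ L₁ ⊔ L₂ := by
    intro x hxX hxL
    obtain ⟨hx0X, hx0L⟩ := hx₀ x hxX hxL
    obtain ⟨c, hc, d, hd, hxcd, hc4, hd4, hac, -, -⟩ := hin x hxX.1 hxL hxX.2
    obtain ⟨c₀, hc₀, d₀, hd₀, hxcd₀, hc₀4, hd₀4, hac₀, -, -⟩ := hin x₀ hx0X.1 hx0L hx0X.2
    have hcc₀ : Commute c c₀ := h.q₁.comm_roots c hc c₀ hc₀ hc4 hc₀4
    have hdd₀ : Commute d d₀ := h.q₂.comm_roots d hd d₀ hd₀ hd4 hd₀4
    have hcd : ∀ u ∈ P₁, ∀ v ∈ P₂, Commute u v := fun u hu v hv =>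
      h.comm u (h.le₁ hu) v (h.le₂ hv)
    have hxx₀ : Commute x x₀ := by
      rw [hxcd, hxcd₀]
      exact Commute.mul_left (Commute.mul_right hcc₀ (hcd c hc d₀ hd₀))
        (Commute.mul_right (hcd c₀ hc₀ d hd).symm hdd₀)
    have hax : Commute a x := by rw [hxcd]; exact Commute.mul_right hac (hcd a ha d hd)
    have hax₀ : Commute a x₀ := by rw [hxcd₀]; exact Commute.mul_right hac₀ (hcd a ha d₀ hd₀)
    have hkx : ∀ u : G, u * u = k → Commute u k := fun u hu => by
      show u * k = k * u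
      rw [← hu, mul_assoc]
    have hat : Commute a (x₀⁻¹ * x) := Commute.mul_right hax₀.inv_right hax
    have htt : (x₀⁻¹ * x) * (x₀⁻¹ * x) = 1 := by
      calc (x₀⁻¹ * x) * (x₀⁻¹ * x) = x₀⁻¹ * (x * x₀⁻¹) * x := by group
        _ = x₀⁻¹ * (x₀⁻¹ * x) * x := by rw [hxx₀.inv_right.eq]
        _ = (x₀ * x₀)⁻¹ * (x * x) := by group
        _ = 1 := by rw [hx0X.2, hxX.2, inv_mul_cancel]
    have e1 : f x = a * (x₀⁻¹ * x) := by rw [hf]; exact if_pos hxL
    rw [e1]
    refine ⟨⟨mul_mem haT (mul_mem (inv_mem hx0X.1) hxX.1), ?_, ?_⟩,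
      mul_mem haL (mul_mem (inv_mem hx0L) hxL)⟩
    · calc a * (x₀⁻¹ * x) * (a * (x₀⁻¹ * x))
          = a * ((x₀⁻¹ * x) * a) * (x₀⁻¹ * x) := by group
        _ = a * (a * (x₀⁻¹ * x)) * (x₀⁻¹ * x) := by rw [← hat.eq]
        _ = (a * a) * ((x₀⁻¹ * x) * (x₀⁻¹ * x)) := by group
        _ = j := by rw [htt, haa, mul_one]
    · exact (Commute.mul_left hak (Commute.mul_left (hkx x₀ hx0X.2).inv_left (hkx x hxX.2))).eq
  have hfout : ∀ x ∈ X, x ∉ L₁ ⊔ L₂ → f x ∈ J ∧ f x ∉ L₁ ⊔ L₂ ∧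
      (f x)⁻¹ * a * f x = b * j := by
    intro x hxX hxL
    obtain ⟨h1, h2, h3, h4⟩ := hout x hxX.1 hxL hxX.2
    have e1 : f x = x * a := by rw [hf]; exact if_neg hxL
    rw [e1]
    exact ⟨⟨mul_mem hxX.1 haT, h2, h3⟩, h1, h4⟩
  have hmaps : f '' X ⊆ J := by
    rintro _ ⟨x, hx, rfl⟩
    by_cases hxL : x ∈ L₁ ⊔ L₂
    · exact (hfin x hx hxL).1
    · exact (hfout x hx hxL).1
  have hinj : Set.InjOn f X := by
    intro x hx y hy hxy
    by_cases hxL : x ∈ L₁ ⊔ L₂ <;> by_cases hyL : y ∈ L₁ ⊔ L₂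
    · have e1 : f x = a * (x₀⁻¹ * x) := by rw [hf]; exact if_pos hxL
      have e2 : f y = a * (x₀⁻¹ * y) := by rw [hf]; exact if_pos hyL
      exact mul_left_cancel (mul_left_cancel (e1.symm.trans (hxy.trans e2)))
    · exact absurd (hxy ▸ (hfin x hx hxL).2) (hfout y hy hyL).2.1
    · exact absurd (hxy.symm ▸ (hfin y hy hyL).2) (hfout x hx hxL).2.1
    · have e1 : f x = x * a := by rw [hf]; exact if_neg hxL
      have e2 : f y = y * a := by rw [hf]; exact if_neg hyL
      exact mul_right_cancel (e1.symm.trans (hxy.trans e2))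
  -- an element of `J` outside the image
  obtain ⟨w, hwJ, hw⟩ : ∃ w ∈ J, w ∉ f '' X := by
    by_cases he : ∃ x ∈ X, x ∉ L₁ ⊔ L₂
    · obtain ⟨x, hxX, hxL⟩ := he
      obtain ⟨h1, h2, h3, h4⟩ := hout x hxX.1 hxL hxX.2
      set w := x * a with hw
      have hwT : w ∈ T := mul_mem hxX.1 haT
      obtain ⟨u, hu, huu, hua⟩ := h.q₁.inverter a ha haa
      set v := w⁻¹ * u * w with hv
      have hv2 : v ∈ P₂ := (h.conj_out hwT h1).1 u hu
      have hvv : v * v = j := by
        calc v * v = w⁻¹ * (u * u) * w := by rw [hv]; group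
          _ = j := by rw [huu, mul_assoc, ← h.j_left hwT, inv_mul_cancel_left]
      have hwv : w⁻¹ * v * w = u := by
        calc w⁻¹ * v * w = (w * w)⁻¹ * u * (w * w) := by rw [hv]; group
          _ = u := by
            rw [h2, mul_assoc, h.j_comm u (Subgroup.mem_sup_left (h.le₁ hu)), inv_mul_cancel_left]
      have huv : u * v = v * u := h.comm u (h.le₁ hu) v (h.le₂ hv2)
      have hvb : v * b * v⁻¹ = b * j := by
        have hbj : b = (w⁻¹ * a * w) * j := by rw [h4, mul_assoc, h.j_sq, mul_one]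
        have hvj : v * j = j * v := h.j_comm v (Subgroup.mem_sup_right (h.le₂ hv2))
        calc v * b * v⁻¹ = v * ((w⁻¹ * a * w) * j) * v⁻¹ := by rw [← hbj]
          _ = v * (w⁻¹ * a * w) * (j * v⁻¹) := by group
          _ = v * (w⁻¹ * a * w) * (v⁻¹ * j) := by
            rw [show j * v⁻¹ = v⁻¹ * j from ((show Commute v j from hvj).inv_left.eq).symm]
          _ = w⁻¹ * (u * a * u⁻¹) * w * j := by rw [hv]; group
          _ = w⁻¹ * a * (j * w) * j := by rw [hua]; group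
          _ = (w⁻¹ * a * w) * (j * j) := by rw [← h.j_left hwT]; group
          _ = b * j := by rw [h4, h.j_sq, mul_one]
      have huvL : u * v ∈ L₁ ⊔ L₂ :=
        mul_mem (Subgroup.mem_sup_left (h.le₁ hu)) (Subgroup.mem_sup_right (h.le₂ hv2))
      set y := w * (u * v) with hy
      have hyT : y ∈ T := mul_mem hwT (mul_mem (h.leT₁ hu) (h.leT₂ hv2))
      have hyy : y * y = j := by
        calc y * y = (w * w) * ((w⁻¹ * u * w) * (w⁻¹ * v * w)) * (u * v) := by rw [hy]; group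
          _ = j * (v * (u * u) * v) := by rw [h2, hwv, ← hv]; group
          _ = j * (j * (v * v)) := by
            rw [huu, h.j_comm v (Subgroup.mem_sup_right (h.le₂ hv2)), mul_assoc j v v]
          _ = j := by rw [hvv, h.j_sq, mul_one]
      have huvk : (u * v) * k = k * (u * v) := by
        have e : (u * v) * k * (u * v)⁻¹ = k := by
          rw [hkab]
          calc (u * v) * (a * b) * (u * v)⁻¹ = u * ((v * a) * b * v⁻¹) * u⁻¹ := by group
            _ = u * ((a * v) * b * v⁻¹) * u⁻¹ := by rw [h.comm a (h.le₁ ha) v (h.le₂ hv2)]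
            _ = u * a * (v * b * v⁻¹) * u⁻¹ := by group
            _ = u * a * (b * j) * u⁻¹ := by rw [hvb]
            _ = u * a * ((b * j) * u⁻¹) := by group
            _ = u * a * (u⁻¹ * (b * j)) := by
              rw [← h.comm u⁻¹ (h.le₁ (inv_mem hu)) (b * j)
                (h.le₂ (mul_mem hb h.q₂.mem))]
            _ = (a * j) * (b * j) := by rw [← hua]; group
            _ = a * (j * b) * j := by group
            _ = a * b * (j * j) := by rw [← h.j_comm b hbL]; group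
            _ = a * b := by rw [h.j_sq, mul_one]
        exact mul_inv_eq_iff_eq_mul.mp e
      refine ⟨y, ⟨hyT, hyy, ?_⟩, ?_⟩
      · rw [hy, mul_assoc, huvk, ← mul_assoc, h3, mul_assoc]
      · have hya : y⁻¹ * a * y = b := by
          have e : v⁻¹ * b * v = b * j := by
            calc v⁻¹ * b * v = v⁻¹ * ((v * b * v⁻¹) * j) * v := by
                  rw [hvb, mul_assoc b j j, h.j_sq, mul_one]
              _ = b * v⁻¹ * (j * v) := by group
              _ = b * j := by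
                rw [← h.j_comm v (Subgroup.mem_sup_right (h.le₂ hv2))]; group
          calc y⁻¹ * a * y = v⁻¹ * (u⁻¹ * (w⁻¹ * a * w) * u) * v := by rw [hy]; group
            _ = v⁻¹ * (u⁻¹ * ((b * j) * u)) * v := by rw [h4]; group
            _ = v⁻¹ * (u⁻¹ * (u * (b * j))) * v := by
              rw [h.comm u (h.le₁ hu) (b * j) (h.le₂ (mul_mem hb h.q₂.mem))]
            _ = v⁻¹ * b * (j * v) := by group
            _ = (v⁻¹ * b * v) * j := by
              rw [← h.j_comm v (Subgroup.mem_sup_right (h.le₂ hv2))]; group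
            _ = b := by rw [e, mul_assoc, h.j_sq, mul_one]
        have hyL : y ∉ L₁ ⊔ L₂ := fun e => h1 ((Subgroup.mul_mem_cancel_right _ huvL).mp e)
        rintro ⟨x', hx', hfx⟩
        by_cases hx'L : x' ∈ L₁ ⊔ L₂
        · exact hyL (hfx ▸ (hfin x' hx' hx'L).2)
        · have h5 := (hfout x' hx' hx'L).2.2
          rw [hfx, hya] at h5
          exact h.j_ne (mul_left_cancel (a := b) (by rw [← h5, mul_one]))
    · push Not at he
      by_cases he' : X.Nonempty
      · obtain ⟨x, hxX⟩ := he'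
        obtain ⟨c, hc, d, hd, -, hc4, hd4, -, hcc, hdd⟩ := hin x hxX.1 (he x hxX) hxX.2
        set c' := n * c * n⁻¹ with hc'
        have hc'2 : c' ∈ P₂ := h.map₁ c hc
        have hjn : n * j * n⁻¹ = j := by rw [h.j_left h.n_mem, mul_inv_cancel_right]
        have hcom : Commute c' d := h.q₂.comm_roots c' hc'2 d hd (by
          calc c' * c' * (c' * c') = n * (c * c * (c * c)) * n⁻¹ := by rw [hc']; group
            _ = j := by rw [hc4, hjn]) hd4
        set p := n * a * n⁻¹ with hp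
        have hp2 : p ∈ P₂ := h.map₁ a ha
        have hz : ∀ (u : G) (m : G), m * m = u ∨ m * m = u * j → u = m * m ∨ u = m * m * j := by
          rintro u m (e | e)
          · exact Or.inl e.symm
          · exact Or.inr (by rw [e, mul_assoc, h.j_sq, mul_one])
        have hjc : ∀ u ∈ P₂, Commute u j := fun u hu =>
          h.j_comm u (Subgroup.mem_sup_right (h.le₂ hu))
        have hpc : p = c' * c' ∨ p = c' * c' * j := by
          rcases hz a c hcc with e | e <;> [left; right]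
          · rw [hp, e, hc']; group
          · calc p = (n * (c * c) * n⁻¹) * (n * j * n⁻¹) := by rw [hp, e]; group
              _ = c' * c' * j := by rw [hjn, hc']; group
        have hsqc : Commute (c' * c') (d * d) :=
          Commute.mul_left (hcom.mul_right hcom) (hcom.mul_right hcom)
        have hpb : Commute p b := by
          rcases hpc with e | e <;> rcases hz b d hdd with e' | e' <;> rw [e, e']
          · exact hsqc
          · exact hsqc.mul_right ((hjc _ (mul_mem hc'2 hc'2)))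
          · exact hsqc.mul_left (hjc _ (mul_mem hd hd)).symm
          · exact Commute.mul_left (hsqc.mul_right (hjc _ (mul_mem hc'2 hc'2)))
              ((hjc _ (mul_mem hd hd)).symm.mul_right (Commute.refl j))
        have hpp : p * p = j := by
          calc p * p = n * (a * a) * n⁻¹ := by rw [hp]; group
            _ = j := by rw [haa, hjn]
        have hpb1 : (p * b) * (p * b) = 1 := by
          calc (p * b) * (p * b) = p * (b * p) * b := by group
            _ = (p * p) * (b * b) := by rw [← hpb.eq]; group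
            _ = 1 := by rw [hpp, hbb, h.j_sq]
        have hbinv : b⁻¹ = b * j := inv_eq_of_mul_eq_one_right (by rw [← mul_assoc, hbb, h.j_sq])
        have hpv : p = b ∨ p = b * j := by
          rcases h.q₂.inv_two _ (mul_mem hp2 hb) hpb1 with e | e
          · right
            rw [eq_inv_of_mul_eq_one_left e, hbinv]
          · left
            calc p = (p * b) * b⁻¹ := by group
              _ = b := by rw [e, hbinv, ← mul_assoc, ← h.j_comm b hbL, mul_assoc, h.j_sq, mul_one]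
        have hnk : n * k * n⁻¹ = k := by
          have hq : n * b * n⁻¹ = a ∨ n * b * n⁻¹ = a * j := by
            have e0 := h.n_n haL
            rcases hpv with e | e
            · left
              rw [← hp, e] at e0
              exact e0
            · right
              rw [← hp, e] at e0
              calc n * b * n⁻¹ = (n * (b * j) * n⁻¹) * (n * j * n⁻¹)⁻¹ := by group
                _ = a * j := by rw [e0, hjn, inv_eq_of_mul_eq_one_right h.j_sq]
          have e0 : n * k * n⁻¹ = p * (n * b * n⁻¹) := by rw [hkab, hp]; group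
          rcases hpv with e | e
          · have e1 := h.n_n haL
            rw [← hp, e] at e1
            rw [e0, e, e1, hkab, hab]
          · have e1 := h.n_n haL
            rw [← hp, e] at e1
            have e2 : n * b * n⁻¹ = a * j := by
              calc n * b * n⁻¹ = (n * (b * j) * n⁻¹) * (n * j * n⁻¹)⁻¹ := by group
                _ = a * j := by rw [e1, hjn, inv_eq_of_mul_eq_one_right h.j_sq]
            rw [e0, e, e2]
            calc b * j * (a * j) = b * (j * a) * j := by group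
              _ = b * a * (j * j) := by rw [← h.j_comm a haL]; group
              _ = k := by rw [h.j_sq, mul_one, ← hab, hkab]
        refine ⟨n, ⟨h.n_mem, h.n_sq, mul_inv_eq_iff_eq_mul.mp hnk⟩, ?_⟩
        rintro ⟨x', hx', hfx⟩
        exact h.n_not (hfx ▸ (hfin x' hx' (he x' hx')).2)
      · refine ⟨a, ⟨haT, haa, hak⟩, ?_⟩
        rintro ⟨x', hx', -⟩
        exact he' ⟨x', hx'⟩
  calc X.ncard = (f '' X).ncard := (Set.ncard_image_of_injOn hinj).symm
    _ < J.ncard := Set.ncard_lt_ncard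
        (Set.ssubset_iff_exists.mpr ⟨hmaps, w, hwJ, hw⟩) (Set.toFinite _)

end H70
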