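import Cfsg.Agent.H50.SuzukiU3

/-! An automorphism of a Sylow 2-subgroup of `SU_3(q)`, `q` even, whose square is inner
fixes the centre pointwise. -/

set_option autoImplicit false

namespace H70.U3Two

open Finset H50

variable {F : Type*} [Field F] [Fintype F] {q : ℕ}

/-- Character sum lemma: an additive involution fixed set `W` of size at least `q` cannot
have all norms killed by a character that is non-trivial on the fixed field. -/
theorem norm_char_absurd (hF : Fintype.card F = q ^ 2) (hq : 2 ≤ q) (χ : F → ℤ)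
    (hχ0 : χ 0 = 1) (hχadd : ∀ x y, χ (x + y) = χ x * χ y)
    (b₀ : F) (hb₀ : b₀ ^ q = b₀) (hb₀χ : χ b₀ = -1)
    (W : AddSubgroup F) (hW : q ≤ Nat.card W)
    (hWN : ∀ w ∈ W, χ (w ^ q * w) = 1) : False := by
  classical
  have hq0 : q ≠ 0 := by omega
  let N : F → F := fun v => v ^ q * v
  let β : F → F → F := fun v w => v ^ q * w + w ^ q * v
  have hN : ∀ v w, N (v + w) = N v + N w + β v w := fun v w => by
    simp only [N, β, add_pow_q hF]; ring
  have hβl : ∀ u v w, β (u + v) w = β u w + β v w := fun u v w => by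
    simp only [β, add_pow_q hF]; ring
  have hβr : ∀ u v w, β u (v + w) = β u v + β u w := fun u v w => by
    simp only [β, add_pow_q hF]; ring
  -- a non-trivial value
  have hne : ∀ w : F, w ≠ 0 → ∃ v, χ (β v w) = -1 := by
    intro w hw
    obtain ⟨d, hd⟩ := exists_trace_eq hF hb₀
    refine ⟨d / w ^ q, ?_⟩
    have hwq : w ^ q ≠ 0 := pow_ne_zero _ hw
    have : β (d / w ^ q) w = b₀ := by
      simp only [β, div_pow, pow_q_pow_q hF]
      field_simp
      linear_combination hd
    rw [this, hb₀χ]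
  have hsum : ∀ w : F, ∑ v : F, χ (β v w) = if w = 0 then (q : ℤ) ^ 2 else 0 := by
    intro w
    split
    · next h =>
      subst h
      have : ∀ v : F, χ (β v 0) = 1 := fun v => by
        simp [β, zero_pow hq0, hχ0]
      rw [sum_congr rfl (fun v _ => this v)]
      simp [hF]
    · next h =>
      obtain ⟨v₀, hv₀⟩ := hne w h
      have key : ∑ v : F, χ (β (v + v₀) w) = ∑ v : F, χ (β v w) :=
        Fintype.sum_equiv (Equiv.addRight v₀) _ _ (fun v => rfl)
      rw [sum_congr rfl (fun v _ => show χ (β (v + v₀) w) = -χ (β v w) by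
        rw [hβl, hχadd, hv₀, mul_neg, mul_one]), sum_neg_distrib] at key
      omega
  let WS : Finset F := univ.filter (· ∈ W)
  have hWS : WS.card = Nat.card W := by
    rw [Nat.card_eq_fintype_card, Fintype.card_subtype]
  have hmemWS : ∀ {w : F}, w ∈ WS ↔ w ∈ W := by simp [WS]
  -- the orthogonal of W
  let W' : Finset F := univ.filter (fun v => ∀ w ∈ W, χ (β v w) = 1)
  have hWW' : WS ⊆ W' := by
    intro v hv
    rw [hmemWS] at hv
    refine mem_filter.2 ⟨mem_univ _, fun w hw => ?_⟩
    have h1 := hWN _ (add_mem hv hw)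
    have e : χ (N (v + w)) = χ (N v) * χ (N w) * χ (β v w) := by rw [hN, hχadd, hχadd]
    simp only [N] at e
    rw [h1, hWN v hv, hWN w hw, one_mul, one_mul] at e
    exact e.symm
  have hrow : ∀ v : F, ∑ w ∈ WS, χ (β v w) = if v ∈ W' then (WS.card : ℤ) else 0 := by
    intro v
    split
    · next h =>
      rw [sum_congr rfl (fun w hw => (mem_filter.1 h).2 w (hmemWS.1 hw))]
      simp
    · next h =>
      simp only [W', mem_filter, mem_univ, true_and, not_forall] at h
      obtain ⟨w₀, hw₀, hχw⟩ := h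
      have key : ∑ w ∈ WS, χ (β v (w + w₀)) = ∑ w ∈ WS, χ (β v w) := by
        refine sum_equiv (Equiv.addRight w₀) (fun w => ?_) (fun w _ => rfl)
        simp only [hmemWS, Equiv.coe_addRight]
        exact (W.add_mem_cancel_right hw₀).symm
      rw [sum_congr rfl (fun w _ => show χ (β v (w + w₀)) = χ (β v w₀) * χ (β v w) by
        rw [hβr, hχadd, mul_comm]), ← mul_sum] at key
      by_contra h0
      exact hχw ((mul_eq_right₀ h0).1 key)
  have hcount : (W'.card : ℤ) * WS.card = (q : ℤ) ^ 2 := by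
    have h1 : ∑ v : F, ∑ w ∈ WS, χ (β v w) = (W'.card : ℤ) * WS.card := by
      rw [sum_congr rfl (fun v _ => hrow v), sum_ite_mem, univ_inter, sum_const, nsmul_eq_mul]
    have h2 : ∑ w ∈ WS, ∑ v : F, χ (β v w) = (q : ℤ) ^ 2 := by
      rw [sum_congr rfl (fun w _ => hsum w), sum_ite_eq' WS 0 (fun _ => (q : ℤ) ^ 2),
        if_pos (hmemWS.2 W.zero_mem)]
    rw [← h1, sum_comm, h2]
  have hcardle := card_le_card hWW'
  have hqW : q ≤ WS.card := hWS ▸ hW
  have hcount' : W'.card * WS.card = q ^ 2 := by exact_mod_cast hcount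
  have hWq : WS.card = q := by nlinarith
  have hW'q : W'.card = q := by nlinarith
  have hEq : WS = W' := eq_of_subset_of_card_le hWW' (by omega)
  -- the total sum equals q
  have hS : ∑ v : F, χ (N v) = (q : ℤ) := by
    have h1 : ∑ v : F, ∑ w ∈ WS, χ (N (v + w)) = (WS.card : ℤ) * ∑ v : F, χ (N v) := by
      rw [sum_comm, sum_congr rfl (fun w _ => Fintype.sum_equiv (Equiv.addRight w)
        (fun v => χ (N (v + w))) (fun v => χ (N v)) (fun v => rfl)), sum_const, nsmul_eq_mul]
    have h2 : ∀ v : F, ∑ w ∈ WS, χ (N (v + w)) =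
        if v ∈ W' then (WS.card : ℤ) else 0 := by
      intro v
      rw [sum_congr rfl (fun w hw => show χ (N (v + w)) = χ (N v) * χ (β v w) by
        rw [hN, hχadd, hχadd, show χ (N w) = 1 from hWN w (hmemWS.1 hw), mul_one]), ← mul_sum, hrow]
      split
      · next h =>
        rw [show χ (N v) = 1 from hWN v (hmemWS.1 (hEq ▸ h)), one_mul]
      · rw [mul_zero]
    rw [sum_congr rfl (fun v _ => h2 v), sum_ite_mem, univ_inter, sum_const, nsmul_eq_mul] at h1
    rw [hW'q, hWq] at h1
    have hq' : (q : ℤ) ≠ 0 := by exact_mod_cast hq0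
    exact (mul_left_cancel₀ hq' h1).symm
  -- but it is 1 modulo q + 1
  let φ : Fˣ →* Fˣ := powMonoidHom (q + 1)
  have hker : Nat.card φ.ker = q + 1 := by
    have := IsCyclic.card_powMonoidHom_ker Fˣ (q + 1)
    rw [this, Nat.card_units, Nat.card_eq_fintype_card, hF]
    apply Nat.gcd_eq_right
    exact ⟨q - 1, by rw [← Nat.sq_sub_sq, one_pow]⟩
  have hdvd : ((q : ℤ) + 1) ∣ ∑ u : Fˣ, χ (N u) := by
    rw [← sum_fiberwise_of_maps_to (t := univ.image φ) (g := φ) (fun u _ => mem_image_of_mem φ (mem_univ u))]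
    refine dvd_sum fun c hc => ?_
    obtain ⟨u₀, -, rfl⟩ := mem_image.1 hc
    rw [sum_congr rfl (g := fun _ => χ (N (u₀ : F))) (fun u hu => by
      have h := congrArg (fun x : Fˣ => (x : F)) (mem_filter.1 hu).2
      simp only [φ, powMonoidHom_apply, Units.val_pow_eq_pow_val, Units.val_mul, pow_succ] at h
      simp only [N]; rw [h]), sum_const, nsmul_eq_mul]
    have hfib : (univ.filter (fun u => φ u = φ u₀)).card = q + 1 := by
      rw [← hker, Nat.card_eq_fintype_card, ← Fintype.card_subtype]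
      refine Fintype.card_congr ((Equiv.mulRight u₀⁻¹).subtypeEquiv fun u => ?_)
      rw [MonoidHom.mem_ker, Equiv.coe_mulRight, map_mul, map_inv, mul_inv_eq_one]
    rw [hfib]
    push_cast
    exact dvd_mul_right _ _
  have hsplit : ∑ v : F, χ (N v) = 1 + ∑ u : Fˣ, χ (N u) := by
    rw [← add_sum_erase univ _ (mem_univ (0 : F))]
    simp only [N, mul_zero, hχ0]
    congr 1
    refine sum_bij' (fun v hv => Units.mk0 v (mem_erase.1 hv).1) (fun u _ => (u : F))
      (fun v _ => mem_univ _) (fun u _ => mem_erase.2 ⟨u.ne_zero, mem_univ _⟩) ?_ ?_ ?_ <;>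
      intros <;> simp
  obtain ⟨k, hk⟩ := hdvd
  rw [hsplit, hk] at hS
  have : ((q : ℤ) + 1) ∣ 2 := ⟨1 - k, by linear_combination hS⟩
  have := Int.le_of_dvd (by norm_num) this
  omega

open Cfsg in
/-- An automorphism of the coordinate group whose square is inner fixes the centre. -/
theorem aut_fixes_center (hF : Fintype.card F = q ^ 2) (h2 : (2 : F) = 0) (hq : 2 ≤ q)
    (θ : SuzU3.UPt hF ≃* SuzU3.UPt hF) (c : SuzU3.UPt hF)
    (hθ : ∀ x, θ (θ x) = c * x * c⁻¹) {z : SuzU3.UPt hF}
    (hz : z ∈ Subgroup.center (SuzU3.UPt hF)) : θ z = z := by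
  classical
  haveI : CharP F 2 := CharTwo.of_one_ne_zero_of_two_eq_zero one_ne_zero h2
  by_contra hne
  have hcen : ∀ {x : SuzU3.UPt hF}, x.a = 0 → (θ x).a = 0 := fun {x} hx =>
    (SuzU3.UPt.mem_center hF h2).1 (by
      have := (SuzU3.UPt.mem_center hF h2).2 hx
      exact (MulEquivClass.apply_mem_center θ this))
  have hwd : ∀ x y : SuzU3.UPt hF, x.a = y.a → (θ x).a = (θ y).a := by
    intro x y h
    have := hcen (x := x * y⁻¹) (by simp [h])
    rw [map_mul, map_inv, SuzU3.UPt.mul_a, SuzU3.UPt.inv_a, ← sub_eq_add_neg, sub_eq_zero] at this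
    exact this
  have hlift : ∀ a : F, ∃ x : SuzU3.UPt hF, x.a = a := fun a => by
    obtain ⟨b, hb⟩ := exists_trace_eq hF (c := a * a ^ q)
      (by rw [mul_pow, pow_q_pow_q hF, mul_comm])
    exact ⟨⟨a, b, hb⟩, rfl⟩
  choose lift hlift using hlift
  let A : F → F := fun a => (θ (lift a)).a
  have hA : ∀ x, (θ x).a = A x.a := fun x => hwd _ _ (hlift _).symm
  have hAadd : ∀ a b, A (a + b) = A a + A b := fun a b => by
    have h := hA (lift a * lift b)
    rw [map_mul, SuzU3.UPt.mul_a, SuzU3.UPt.mul_a, hlift, hlift] at h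
    exact h.symm
  have hAA : ∀ a, A (A a) = a := fun a => by
    have h : (θ (θ (lift a))).a = A (A a) := hA _
    rw [hθ] at h
    simp only [SuzU3.UPt.mul_a, SuzU3.UPt.inv_a, hlift] at h
    linear_combination -h
  -- the action on the centre
  have hfix : ∀ {b : F}, b ^ q = b → b + b ^ q = (0 : F) * 0 ^ q := fun {b} hb => by
    rw [hb, zero_mul]; linear_combination b * h2
  let zc : {b : F // b ^ q = b} → SuzU3.UPt hF := fun b => ⟨0, b.1, hfix b.2⟩
  have hzc : ∀ x : SuzU3.UPt hF, x.a = 0 → x.b ^ q = x.b := fun x hx => by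
    have := x.eqn
    rw [hx, zero_mul] at this
    linear_combination this - x.b * h2
  let B : {b : F // b ^ q = b} → F := fun b => (θ (zc b)).b
  let U : AddSubgroup F :=
    { carrier := {b | ∃ h : b ^ q = b, B ⟨b, h⟩ = b}
      zero_mem' := ⟨zero_pow (q_ne_zero hF), by
        have : zc ⟨0, zero_pow (q_ne_zero hF)⟩ = 1 := rfl
        simp only [B, this, map_one, SuzU3.UPt.one_b]⟩
      add_mem' := by
        rintro a b ⟨ha, hBa⟩ ⟨hb, hBb⟩
        refine ⟨by rw [add_pow_q hF, ha, hb], ?_⟩
        have e : zc ⟨a + b, by rw [add_pow_q hF, ha, hb]⟩ = zc ⟨a, ha⟩ * zc ⟨b, hb⟩ := by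
          ext <;> simp [zc, zero_pow (q_ne_zero hF)]
        simp only [B, e, map_mul, SuzU3.UPt.mul_b]
        rw [hcen (x := zc ⟨a, ha⟩) rfl]
        simp only [B] at hBa hBb
        rw [hBa, hBb, zero_pow (q_ne_zero hF)]
        ring
      neg_mem' := by
        rintro a ⟨ha, hBa⟩
        have : -a = a := CharTwo.neg_eq a
        rw [Set.mem_setOf_eq]
        simp only [this]
        exact ⟨ha, hBa⟩ }
  have hza := (SuzU3.UPt.mem_center hF h2).1 hz
  have hb₀ := hzc z hza
  have hb₀U : z.b ∉ U := by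
    rintro ⟨h, hB⟩
    apply hne
    have e : zc ⟨z.b, h⟩ = z := SuzU3.UPt.ext hza.symm rfl
    simp only [B, e] at hB
    exact SuzU3.UPt.ext (by rw [hcen hza, hza]) hB
  letI : Algebra (ZMod 2) F := ZMod.algebra F 2
  obtain ⟨l, hlne, hlU⟩ := Submodule.exists_dual_map_eq_bot_of_notMem
    (p := AddSubgroup.toZModSubmodule 2 U) (x := z.b) hb₀U inferInstance
  let χ : F → ℤ := fun v => if l v = 0 then 1 else -1
  have htwo : ∀ a : ZMod 2, a = 0 ∨ a = 1 := by decide
  have hχadd : ∀ x y, χ (x + y) = χ x * χ y := fun x y => by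
    simp only [χ, map_add]
    rcases htwo (l x) with h | h <;> rcases htwo (l y) with h' | h' <;> rw [h, h'] <;> decide
  have hlU' : ∀ u ∈ U, l u = 0 := fun u hu => by
    have : l u ∈ (AddSubgroup.toZModSubmodule 2 U).map l := ⟨u, hu, rfl⟩
    rw [hlU, Submodule.mem_bot] at this
    exact this
  let W : AddSubgroup F :=
    { carrier := {a | A a = a}
      zero_mem' := by
        have h := hAadd 0 0
        rw [add_zero] at h
        exact add_left_cancel (a := A 0) (by rw [add_zero]; exact h.symm)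
      add_mem' := fun {a b} ha hb => by
        show A (a + b) = a + b
        rw [hAadd, ha, hb]
      neg_mem' := fun {a} ha => by
        show A (-a) = -a
        rw [CharTwo.neg_eq, ha] }
  let hh : F →+ F := AddMonoidHom.mk' (fun v => v + A v) fun a b => by rw [hAadd]; ring
  have hker : hh.ker = W := by
    ext a
    rw [AddMonoidHom.mem_ker]
    show a + A a = 0 ↔ A a = a
    rw [CharTwo.add_eq_zero, eq_comm]
  have hrange : hh.range ≤ W := by
    rintro _ ⟨v, rfl⟩
    show A (v + A v) = v + A v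
    rw [hAadd, hAA, add_comm]
  have hWcard : q ≤ Nat.card W := by
    have h1 : Nat.card hh.ker * Nat.card hh.range = q * q := by
      rw [← AddSubgroup.index_ker, AddSubgroup.card_mul_index, Nat.card_eq_fintype_card, hF,
        pow_two]
    have h3 : Nat.card hh.range ≤ Nat.card W :=
      Nat.card_le_card_of_injective _ (AddSubgroup.inclusion_injective hrange)
    rw [hker] at h1
    by_contra hlt
    push Not at hlt
    nlinarith [Nat.mul_lt_mul'' hlt (lt_of_le_of_lt h3 hlt)]
  refine norm_char_absurd hF hq χ (by simp [χ]) hχadd z.b hb₀ (by simp [χ, hlne]) W hWcard ?_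
  intro w hw
  have hNU : w ^ q * w ∈ U := by
    refine ⟨by rw [mul_pow, pow_q_pow_q hF, mul_comm], ?_⟩
    have e : zc ⟨w ^ q * w, by rw [mul_pow, pow_q_pow_q hF, mul_comm]⟩ = lift w * lift w :=
      SuzU3.UPt.ext (by rw [(SuzU3.UPt.mul_self hF h2 _).1])
        (by rw [(SuzU3.UPt.mul_self hF h2 _).2, hlift])
    simp only [B, e, map_mul]
    rw [(SuzU3.UPt.mul_self hF h2 _).2, hA, hlift, show A w = w from hw]
  simp only [χ, hlU' _ hNU, if_true]

end H70.U3Two
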